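import Groth.Agent.EulerLib.Additive
import Groth.Agent.SerreDual.PushEquiv

/-!
# The long exact cohomology sequence of a short exact sequence of modules, additively
-/

set_option autoImplicit false
set_option linter.style.haveILetI false
set_option backward.isDefEq.respectTransparency.types false

universe u

open CategoryTheory CategoryTheory.Abelian CategoryTheory.Limits AlgebraicGeometry Opposite TopologicalSpace
open Groth.Agent.Coherent Groth.Agent.EulerLib

namespace Groth.Agent.Lef23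

variable {X : Scheme.{u}}

/-- `H^q(f)` on abelian groups. -/
noncomputable abbrev hm {M N : X.Modules} (f : M ⟶ N) (q : ℕ) : Coh.HH X M q → Coh.HH X N q :=
  Sheaf.H.map ((SheafOfModules.toSheaf X.ringCatSheaf).map f) q

theorem hm_top {M N : X.Modules} (f : M ⟶ N) (q : ℕ) (x : Coh.HH X M q) :
    HHTopEquiv N q (hm f q x) = postA (RingHom.id Γ(X, ⊤)) f ⊤ q (HHTopEquiv M q x) :=
  SerreDual.hhTopEquiv_natural ((toAbFunctor X).map f) q x

theorem subsingleton_HA {M : X.Modules} {q : ℕ} (h : Subsingleton (Coh.HH X M q)) :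
    Subsingleton (HA (RingHom.id Γ(X, ⊤)) M (⊤ : X.Opens) q) :=
  (HHTopEquiv M q).symm.toEquiv.subsingleton

variable {S : ShortComplex X.Modules} (hS : S.ShortExact)
include hS

theorem hm_injective (q : ℕ) (h : Subsingleton (Coh.HH X S.X₁ q)) : Function.Injective (hm S.g q) := by
  intro a b hab
  apply (HHTopEquiv S.X₂ q).injective
  let φ := RingHom.id Γ(X, ⊤)
  let u : HA φ S.X₂ (⊤ : X.Opens) q := HHTopEquiv S.X₂ q a
  let v : HA φ S.X₂ (⊤ : X.Opens) q := HHTopEquiv S.X₂ q b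
  have h' : postA φ S.g ⊤ q u = postA φ S.g ⊤ q v :=
    (hm_top S.g q a).symm.trans ((congrArg (HHTopEquiv S.X₃ q) hab).trans (hm_top S.g q b))
  obtain ⟨y, hy⟩ := (exact_postA φ hS ⊤ q (u - v)).1 (by rw [map_sub, h', sub_self])
  rw [(subsingleton_HA h).elim y 0, map_zero] at hy
  exact sub_eq_zero.1 hy.symm

theorem hm_surjective (q : ℕ) (h : Subsingleton (Coh.HH X S.X₁ (q + 1))) : Function.Surjective (hm S.g q) := by
  intro z
  obtain ⟨y, hy⟩ := (exact_postA_deltaA (RingHom.id Γ(X, ⊤)) hS ⊤ q (HHTopEquiv S.X₃ q z)).1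
    ((subsingleton_HA h).elim _ _)
  refine ⟨(HHTopEquiv S.X₂ q).symm y, (HHTopEquiv S.X₃ q).injective ?_⟩
  rw [hm_top, AddEquiv.apply_symm_apply, hy]

theorem subsingleton_left_zero (h : Subsingleton (Coh.HH X S.X₂ 0)) : Subsingleton (Coh.HH X S.X₁ 0) := by
  refine ⟨fun a b => (HHTopEquiv S.X₁ 0).injective ?_⟩
  exact postA_zero_injective (RingHom.id Γ(X, ⊤)) hS ⊤ ((subsingleton_HA h).elim _ _)

theorem subsingleton_left_succ (q : ℕ) (h3 : Subsingleton (Coh.HH X S.X₃ q))
    (h2 : Subsingleton (Coh.HH X S.X₂ (q + 1))) : Subsingleton (Coh.HH X S.X₁ (q + 1)) := by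
  refine subsingleton_of_forall_eq 0 fun x => (HHTopEquiv S.X₁ (q + 1)).injective ?_
  rw [map_zero]
  obtain ⟨y, hy⟩ := (exact_deltaA_postA (RingHom.id Γ(X, ⊤)) hS ⊤ q (HHTopEquiv S.X₁ (q + 1) x)).1
    ((subsingleton_HA h2).elim _ _)
  rw [← hy, (subsingleton_HA h3).elim y 0, map_zero]
  rfl

theorem subsingleton_right (q : ℕ) (h2 : Subsingleton (Coh.HH X S.X₂ q))
    (h1 : Subsingleton (Coh.HH X S.X₁ (q + 1))) : Subsingleton (Coh.HH X S.X₃ q) :=
  (hm_surjective hS q h1).subsingleton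

end Groth.Agent.Lef23
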