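import Groth.Agent.S4272
import Groth.Agent.S4270
import Groth.Agent.CAlgH3.Factorial
import Groth.Agent.CAlgH3.RegularLocal
import Groth.Agent.Coherent.Vanishing
import Groth.Agent.Coherent.CohOps
import Groth.Agent.Lef23.LongExact

/-!
# Descending induction along resolutions by locally free modules
-/

set_option autoImplicit false
set_option linter.style.haveILetI false
set_option backward.isDefEq.respectTransparency.types false

universe u

open CategoryTheory CategoryTheory.Limits AlgebraicGeometry Opposite TopologicalSpace
open Groth.Agent.Coherent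

namespace Groth.Agent.Lef23

/-- Regular separated Noetherian schemes have the resolution property. -/
theorem hasResolutionProperty_of_regular (S : Scheme.{u}) [IsNoetherian S] [S.IsSeparated]
    (hreg : ∀ x : S, IsRegularLocalRing (S.presheaf.stalk x)) : PerfAux.HasResolutionProperty S :=
  Groth.Agent.S4270.result S (Groth.Agent.S4272.result S fun x => by
    haveI := hreg x
    exact ⟨CAlgH3.isDomain_of_isRegularLocalRing _, @CAlgH3.ufm_of_regular _ _ _ (CAlgH3.isDomain_of_isRegularLocalRing _)⟩)

/-- A property of `(module, degree)` holding for locally free modules in degrees above `r`, for everything in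
large degrees, and passing to quotients along short exact sequences, holds for all coherent modules. -/
theorem of_locFree {S : Scheme.{u}} [IsNoetherian S] (hres : PerfAux.HasResolutionProperty S)
    (P : S.Modules → ℕ → Prop) (r d : ℕ)
    (hbig : ∀ G : S.Modules, Coh.IsCoh G → ∀ j, d ≤ j → P G j)
    (hlf : ∀ E : S.Modules, FlatMod.IsFinLocFree E → ∀ j, r < j → P E j)
    (hstep : ∀ T : ShortComplex S.Modules, T.ShortExact → ∀ j, P T.X₂ j → P T.X₁ (j + 1) → P T.X₃ j)
    (F : S.Modules) (hF : Coh.IsCoh F) (i : ℕ) (hi : r < i) : P F i := by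
  have main : ∀ (t : ℕ) (G : S.Modules), Coh.IsCoh G → ∀ j : ℕ, r < j → d ≤ j + t → P G j := by
    intro t
    induction t with
    | zero => exact fun G hG j _ hj => hbig G hG j (by omega)
    | succ t ih =>
      intro G hG j hj hjt
      obtain ⟨E, π, hE, hπ⟩ := hres G hG.1 hG.2
      haveI := hπ
      haveI := hG.1
      let T : ShortComplex S.Modules := ShortComplex.mk (kernel.ι π) π (kernel.condition π)
      have hT : T.ShortExact :=
        { exact := ShortComplex.exact_of_f_is_kernel _ (kernelIsKernel π), mono_f := inferInstance, epi_g := hπ }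
      exact hstep T hT j (hlf E hE j hj)
        (ih _ (Coherent.isCoh_kernel π (CohBC.isCoh_of_isFinLocFree hE) hG.1) (j + 1) (by omega) (by omega))
  exact main d F hF i hi (by omega)

/-- Finiteness passes to the third term. -/
theorem finite_right {S : Scheme.{u}} (k : Type u) [CommRing k] [IsNoetherianRing k]
    [S.Over (Spec (CommRingCat.of k))] {T : ShortComplex S.Modules} (hT : T.ShortExact) (j : ℕ)
    (h2 : Module.Finite k (Coh.HH S T.X₂ j)) (h1 : Module.Finite k (Coh.HH S T.X₁ (j + 1))) :
    Module.Finite k (Coh.HH S T.X₃ j) := by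
  haveI := (finite_HH_iff k T.X₂ j).1 h2
  haveI := (finite_HH_iff k T.X₁ (j + 1)).1 h1
  refine (finite_HH_iff k T.X₃ j).2 ?_
  haveI := isNoetherian_of_range_eq_ker (postA (baseHom k S) T.g ⊤ j) (deltaA (baseHom k S) hT ⊤ j)
    (LinearMap.exact_iff.1 (exact_postA_deltaA (baseHom k S) hT ⊤ j)).symm
  infer_instance

end Groth.Agent.Lef23
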