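import Groth.Agent.Lef23.Neg
import Groth.Agent.S8914
import Groth.Agent.Inters29.Class
import Groth.Agent.FlatMor12.IdealModGen
import Groth.Agent.CurveRR24.Sky
import Groth.Agent.Coherent.DevissageIdeal
import Groth.Prelude.Def_Lef

/-!
# Cohomology of thickenings of an ample divisor
-/

set_option autoImplicit false
set_option linter.style.haveILetI false
set_option backward.isDefEq.respectTransparency.types false

universe u

open CategoryTheory CategoryTheory.Limits AlgebraicGeometry Opposite TopologicalSpace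
open Groth.Agent.Coherent Groth.Agent.PicLib Groth.Agent.AmpleLib Groth.Agent.SerreDual Groth.Agent.EulerLib

namespace Groth.Agent.Lef23

variable {X : Scheme.{u}}

/-- The exchange of the factors, between the values of the two functors. -/
noncomputable def swapIso (M F : X.Modules) : (DCoh.tensorBi.obj M).obj F ≅ (tensE F).obj M :=
  AmpleLib.tensorComm M F

/-- Tensoring on the right is tensoring on the left. -/
theorem tensorBi_map_app {M N : X.Modules} (f : M ⟶ N) (F : X.Modules) :
    (DCoh.tensorBi.map f).app F = (swapIso M F).hom ≫ (tensE F).map f ≫ (swapIso N F).inv :=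
  AmpleLib.hom_ext fun U a b => by
    refine (DCat.PullTensor.tensorBi_map_tmul _ U a b).trans ?_
    show _ = (AmpleLib.tensorSwap F N).app U ((tE F f).app U ((AmpleLib.tensorSwap M F).app U (tmul a b)))
    rw [show (AmpleLib.tensorSwap M F).app U (tmul a b) = tmul b a from Bilin.desc_tmul _ U a b, tensE_map_tmul]
    refine Eq.symm ?_
    exact Bilin.desc_tmul _ U b (f.app U a)

theorem swap_comp {M N : X.Modules} (f : M ⟶ N) (F : X.Modules) :
    (swapIso M F).inv ≫ (DCoh.tensorBi.map f).app F = (tensE F).map f ≫ (swapIso N F).inv := by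
  rw [tensorBi_map_app, Iso.inv_hom_id_assoc]

theorem mono_tE_iff {M N : X.Modules} (f : M ⟶ N) (F : X.Modules) :
    Mono ((DCoh.tensorBi.map f).app F) ↔ Mono ((tensE F).map f) := by
  rw [tensorBi_map_app]
  constructor
  · intro h
    have e : (tensE F).map f = (swapIso M F).inv ≫ ((swapIso M F).hom ≫ (tensE F).map f ≫
        (swapIso N F).inv) ≫ (swapIso N F).hom := by
      simp only [Category.assoc, Iso.inv_hom_id, Category.comp_id, Iso.inv_hom_id_assoc]
    rw [e]
    infer_instance
  · intro h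
    infer_instance

/-- `F ⊗ O → F`, on a tensor. -/
theorem unit_app_tmul (F : X.Modules) (U : X.Opens) (b : Γ(F, U)) (r : Γ(Coh.structureModule X, U)) :
    ((AmpleLib.tensorComm F (Coh.structureModule X)).hom ≫ (unitTensorIso F).hom).app U (tmul b r) =
      (show Γ(X, U) from r) • b := by
  show (unitBilin F).desc.app U ((AmpleLib.tensorSwap F (Coh.structureModule X)).app U (tmul b r)) = _
  rw [show (AmpleLib.tensorSwap F (Coh.structureModule X)).app U (tmul b r) = tmul r b from
    Bilin.desc_tmul _ U b r]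
  exact Bilin.desc_tmul _ U r b

/-- The action of `J ⊗ F → F` on the tensor of a section with a generator of `J`. -/
theorem app_ideal_tmul (J : X.IdealSheafData) (F : X.Modules) {V : X.Opens} {g : Γ(ClSub.idealMod J, V)}
    {r : Γ(X, V)} (hr : (show Γ(X, V) from (ClSub.idealModι J).app V g) = r) (c : Γ(F, V)) :
    ((AmpleLib.tensorComm F (Coh.structureModule X)).hom ≫ (unitTensorIso F).hom).app V
      ((tE F (ClSub.idealModι J)).app V (tmul c g)) = r • c := by
  rw [tensE_map_tmul]
  refine (unit_app_tmul F V c _).trans ?_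
  exact congrArg (fun t : Γ(X, V) => t • c) hr

/-- If `J ⊗ F → F` is a monomorphism, generators of `J` act injectively on `F`. -/
theorem injective_smul_of_mono (J : X.IdealSheafData) (F : X.Modules) [Mono (tE F (ClSub.idealModι J))]
    {V : X.Opens} {g : Γ(ClSub.idealMod J, V)} (hg : IsGen (ClSub.idealMod J) V g) {r : Γ(X, V)}
    (hr : (show Γ(X, V) from (ClSub.idealModι J).app V g) = r) :
    Function.Injective (fun b : Γ(F, V) => r • b) := by
  intro b b' hb
  let u := (AmpleLib.tensorComm F (Coh.structureModule X)).hom ≫ (unitTensorIso F).hom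
  have h1 : (tE F (ClSub.idealModι J)).app V (tmul b g) = (tE F (ClSub.idealModι J)).app V (tmul b' g) := by
    refine app_injective_of_mono u V ?_
    exact (app_ideal_tmul J F hr b).trans (hb.trans (app_ideal_tmul J F hr b').symm)
  have h2 : tmul b g = tmul b' g := app_injective_of_mono (tE F (ClSub.idealModι J)) V h1
  have h3 : tmul b (resM _ le_rfl g) = tmul b' (resM _ le_rfl g) := by rwa [PicLib.resM_self]
  exact (bijective_tmul_gen (M := F) hg V le_rfl).1 h3

/-- If a generator of `J` acts injectively on `F` then `J ⊗ F → F` is injective on sections. -/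
theorem injective_app_of_smul (J : X.IdealSheafData) (F : X.Modules) {V : X.Opens}
    {g : Γ(ClSub.idealMod J, V)} (hg : IsGen (ClSub.idealMod J) V g) {r : Γ(X, V)}
    (hr : (show Γ(X, V) from (ClSub.idealModι J).app V g) = r)
    (hinj : Function.Injective (fun b : Γ(F, V) => r • b)) :
    Function.Injective ((tE F (ClSub.idealModι J)).app V) := by
  intro z z' h
  let u := (AmpleLib.tensorComm F (Coh.structureModule X)).hom ≫ (unitTensorIso F).hom
  obtain ⟨b, hb⟩ := (bijective_tmul_gen (M := F) hg V le_rfl).2 z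
  obtain ⟨b', hb'⟩ := (bijective_tmul_gen (M := F) hg V le_rfl).2 z'
  simp only [PicLib.resM_self] at hb hb'
  subst hb hb'
  have h5 : b = b' :=
    hinj ((app_ideal_tmul J F hr b).symm.trans ((congrArg (u.app V) h).trans (app_ideal_tmul J F hr b')))
  rw [h5]

/-- Generators of the powers of an invertible ideal. -/
theorem exists_gen_pow (I : X.IdealSheafData) {W : X.affineOpens} {a : Γ(X, W.1)}
    (ha : IsLeftRegular a) (hIa : I.ideal W = Ideal.span {a}) (m : ℕ) (V : X.Opens) (hV : V ≤ W.1) :
    ∃ g : Γ(ClSub.idealMod (I ^ m), V), IsGen (ClSub.idealMod (I ^ m)) V g ∧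
      (show Γ(X, V) from (ClSub.idealModι (I ^ m)).app V g) =
        (show Γ(X, V) from X.presheaf.map (homOfLE hV).op a) ^ m := by
  have hJ : (I ^ m).ideal W = Ideal.span {a ^ m} := by
    rw [Scheme.IdealSheafData.ideal_pow, Pi.pow_apply, hIa, Ideal.span_singleton_pow]
  obtain ⟨k, hk⟩ := (mem_range_idealModι (I ^ m) W.1 (a ^ m)).2 (RingHom.mem_ker.1
    (((I ^ m).ker_subschemeι_app W).symm ▸ hJ.ge (Ideal.mem_span_singleton_self (a ^ m))))
  have hg : IsGen (ClSub.idealMod (I ^ m)) W.1 k :=
    FlatMor12.IdealModGen.bijective_smul_of_affine_gen (I ^ m) W.2 hk (ha.pow m) hJ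
  refine ⟨resM _ hV k, hg.restrict hV, ?_⟩
  rw [app_resM, hk]
  exact map_pow (X.presheaf.map (homOfLE hV).op).hom a m

theorem injective_pow_smul {R M : Type*} [CommRing R] [AddCommGroup M] [Module R M] {r : R}
    (h : Function.Injective (fun b : M => r • b)) : ∀ m : ℕ, Function.Injective (fun b : M => r ^ m • b)
  | 0 => fun b b' hb => by simpa using hb
  | m + 1 => fun b b' hb => by
    refine injective_pow_smul h m (h ?_)
    show r • r ^ m • b = r • r ^ m • b'
    rw [smul_smul, smul_smul, ← pow_succ']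
    exact hb

/-- **Powers of a regular ideal are regular**: if `I ⊗ F → F` is a monomorphism, so is `I^n ⊗ F → F`. -/
theorem mono_pow (I : X.IdealSheafData) (hI : BlowUp.IsEffCartierIdeal I) (F : X.Modules)
    (h : Mono ((DCoh.tensorBi.map (ClSub.idealModι I)).app F)) (n : ℕ) :
    Mono ((DCoh.tensorBi.map (ClSub.idealModι (I ^ n))).app F) := by
  rw [mono_tE_iff] at h ⊢
  haveI : Mono (tE F (ClSub.idealModι (I ^ 1))) := by rw [pow_one]; exact h
  refine mono_of_sections_injective _ fun U z z' hzz => AmpleLib.sec_ext _ z z' fun y hy => ?_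
  obtain ⟨W, hyW, a, ha, hIa⟩ := hI y
  have hreg : IsLeftRegular a := fun b c (h : a * b = a * c) => sub_eq_zero.1
    ((mem_nonZeroDivisors_iff.1 ha).2 _ (by rw [sub_mul, mul_comm b, mul_comm c, h, sub_self]))
  refine ⟨U ⊓ W.1, inf_le_left, ⟨hy, hyW⟩, ?_⟩
  obtain ⟨g, hg, hga⟩ := exists_gen_pow I hreg hIa 1 (U ⊓ W.1) inf_le_right
  have h1 := injective_smul_of_mono (I ^ 1) F hg (hga.trans (pow_one _))
  obtain ⟨g', hg', hga'⟩ := exists_gen_pow I hreg hIa n (U ⊓ W.1) inf_le_right
  refine injective_app_of_smul (I ^ n) F hg' hga' ?_ ?_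
  · exact injective_pow_smul h1 n
  · refine (app_resM _ inf_le_left z).trans (Eq.trans ?_ (app_resM _ inf_le_left z').symm)
    exact congrArg _ hzz

/-- The short exact sequence `0 → I ⊗ F → O ⊗ F → O/I ⊗ F → 0`. -/
theorem shortExact_tensor (I : X.IdealSheafData) (F : X.Modules)
    (h : Mono ((DCoh.tensorBi.map (ClSub.idealModι I)).app F)) :
    (ShortComplex.mk ((DCoh.tensorBi.map (ClSub.idealModι I)).app F)
      ((DCoh.tensorBi.map (ClSub.toSubscheme I)).app F) (by
        rw [← NatTrans.comp_app, ← Functor.map_comp, show ClSub.idealModι I ≫ ClSub.toSubscheme I = 0 from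
          kernel.condition _, Functor.map_zero]; rfl)).ShortExact := by
  let S := ShortComplex.mk (ClSub.idealModι I) (ClSub.toSubscheme I) (kernel.condition (ClSub.toSubscheme I))
  have hS : S.ShortExact := CurveRR24.shortExact_ideal I
  haveI : PreservesColimitsOfSize.{0, 0} (tensE F) := (tensorHomAdj F).leftAdjoint_preservesColimits
  haveI : (tensE F).Additive := DCoh.additive_tensorBi_obj F
  haveI := (mono_tE_iff _ _).1 h
  haveI : Epi S.g := hS.epi_g
  have hT : (S.map (tensE F)).ShortExact :=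
    { exact := ShortComplex.exact_of_g_is_cokernel _
        (CokernelCofork.mapIsColimit _ hS.gIsCokernel (tensE F))
      mono_f := ‹Mono (tE F (ClSub.idealModι I))›
      epi_g := (inferInstance : Epi ((tensE F).map S.g)) }
  refine ShortComplex.shortExact_of_iso (ShortComplex.isoMk (swapIso _ F).symm
    (swapIso _ F).symm (swapIso _ F).symm ?_ ?_) hT
  · exact swap_comp (ClSub.idealModι I) F
  · exact swap_comp (ClSub.toSubscheme I) F

/-- The ideal of a power is the power of the ideal module. -/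
theorem nonempty_idealMod_pow (I : X.IdealSheafData) (hI : BlowUp.IsEffCartierIdeal I) (n : ℕ) :
    Nonempty (ClSub.idealMod (I ^ n) ≅ CohB1.tensorPow (ClSub.idealMod I) n) := by
  have h := Inters29.idealCl_pow hI n
  rw [Inters29.idealCl, Inters29.idealCl, ← PicLib.PicM.of_tensorPow, PicLib.PicM.of_eq_iff] at h
  exact h

/-- The reduction maps commute with the projections from `O`. -/
theorem toSubscheme_quotMap {J K : X.IdealSheafData} (h : J ≤ K) :
    ClSub.toSubscheme J ≫ Lef.quotMap h = ClSub.toSubscheme K := by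
  refine Scheme.Modules.hom_ext _ _ fun U => ConcreteCategory.hom_ext _ _ fun s => ?_
  have e := Scheme.IdealSheafData.inclusion_subschemeι h
  rw [Scheme.Modules.Hom.comp_app, ConcreteCategory.comp_apply]
  show (Lef.quotMap h).app U ((ClSub.toSubscheme J).app U s) = K.subschemeι.app U s
  rw [Scheme.Hom.congr_app e.symm U]
  rfl

variable {A : Type u} [CommRing A] [IsNoetherianRing A] [X.Over (Spec (CommRingCat.of A))]
  [IsProper (X ↘ Spec (CommRingCat.of A))]

/-- The map on cohomology to the `m`-th thickening. -/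
noncomputable abbrev toThick (𝓘 : X.IdealSheafData) (F : X.Modules) (m i : ℕ) :=
  hm ((DCoh.tensorBi.map (ClSub.toSubscheme (𝓘 ^ (m + 1)))).app F) i

/-- The map on cohomology between two thickenings. -/
noncomputable abbrev thickStep (𝓘 : X.IdealSheafData) (F : X.Modules) (m i : ℕ) :=
  hm ((DCoh.tensorBi.map (Lef.quotMap (Lef.pow_succ_le 𝓘 m))).app F) i

omit [IsNoetherianRing A] [X.Over (Spec (CommRingCat.of A))] [IsProper (X ↘ Spec (CommRingCat.of A))] in
theorem thickStep_toThick (𝓘 : X.IdealSheafData) (F : X.Modules) (m i : ℕ)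
    (x : Coh.HH X ((DCoh.tensorBi.obj (Coh.structureModule X)).obj F) i) :
    thickStep 𝓘 F m i (toThick 𝓘 F (m + 1) i x) = toThick 𝓘 F m i x := by
  show Sheaf.H.map _ i (Sheaf.H.map _ i x) = Sheaf.H.map _ i x
  rw [← Sheaf.H.map_comp_apply, ← Functor.map_comp]
  refine congrArg (fun f => Sheaf.H.map ((SheafOfModules.toSheaf X.ringCatSheaf).map f) i x) ?_
  rw [← toSubscheme_quotMap (Lef.pow_succ_le 𝓘 m), Functor.map_comp]
  rfl

/-- **Comparison with thickenings**: for large `m` the map to the `m`-th thickening is bijective in degrees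
`i < b - 1` and injective for `i < b`. -/
theorem exists_thick (𝓘 : X.IdealSheafData) {L : X.Modules} (hL : ClSub.IsInverseOf L (ClSub.idealMod 𝓘))
    (hamp : CohB1.IsAmple L) (F : X.Modules) (hF : Coh.IsCoh F)
    (hflat : FlatMod.IsFlatOver (X ↘ Spec (CommRingCat.of A)) F)
    (hreg : Mono ((DCoh.tensorBi.map (ClSub.idealModι 𝓘)).app F)) (b : ℕ)
    (hdepth : ∀ x : X, IsClosed ({((X ↘ Spec (CommRingCat.of A))).asFiber x} :
        Set ↥(((X ↘ Spec (CommRingCat.of A))).fiber (((X ↘ Spec (CommRingCat.of A))).base x))) →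
      (b : ℕ∞) ≤ LocCoh.depth (CInt.fiberStalk (X ↘ Spec (CommRingCat.of A)) x)
        ((CohIII.fiberMod (X ↘ Spec (CommRingCat.of A)) F (((X ↘ Spec (CommRingCat.of A))).base x)).presheaf.stalk
          (((X ↘ Spec (CommRingCat.of A))).asFiber x))) :
    ∃ m₀ : ℕ, ∀ m : ℕ, m₀ ≤ m → (∀ i : ℕ, i + 1 < b → Function.Bijective (toThick 𝓘 F m i)) ∧
      ∀ i : ℕ, i < b → Function.Injective (toThick 𝓘 F m i) := by
  have hM := isInvertible_inverse hamp.1 hL
  have hI : BlowUp.IsEffCartierIdeal 𝓘 := (Groth.Agent.S8914.result 𝓘).1 hM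
  obtain ⟨m₀, hm₀⟩ := exists_vanishing (A := A) hL hamp F hF hflat b hdepth
  refine ⟨m₀, fun m hm' => ?_⟩
  have hS := shortExact_tensor (𝓘 ^ (m + 1)) F (mono_pow 𝓘 hI F hreg (m + 1))
  obtain ⟨e⟩ := nonempty_idealMod_pow 𝓘 hI (m + 1)
  have hz : ∀ j, j < b → Subsingleton (Coh.HH X ((DCoh.tensorBi.obj (ClSub.idealMod (𝓘 ^ (m + 1)))).obj F) j) :=
    fun j hj => subsingleton_HH_iso (AmpleLib.tensorIso (Iso.refl F) e.symm ≪≫ AmpleLib.tensorComm _ _) j
      (hm₀ (m + 1) (by omega) j hj)
  exact ⟨fun i hi => ⟨hm_injective hS i (hz i (by omega)), hm_surjective hS i (hz (i + 1) hi)⟩,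
    fun i hi => hm_injective hS i (hz i hi)⟩

omit [IsNoetherianRing A] [X.Over (Spec (CommRingCat.of A))] [IsProper (X ↘ Spec (CommRingCat.of A))] in
/-- From bijectivity at large levels to the inverse limit. -/
theorem exists_limit (𝓘 : X.IdealSheafData) (F : X.Modules) (i m₀ : ℕ)
    (h : ∀ m, m₀ ≤ m → Function.Bijective (toThick 𝓘 F m i))
    (y : ∀ m : ℕ, Coh.HH X ((DCoh.tensorBi.obj (ClSub.quotMod (𝓘 ^ (m + 1)))).obj F) i)
    (hy : ∀ m : ℕ, thickStep 𝓘 F m i (y (m + 1)) = y m) : ∃ x, ∀ m : ℕ, toThick 𝓘 F m i x = y m := by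
  obtain ⟨x, hx⟩ := (h m₀ le_rfl).2 (y m₀)
  have hdown : ∀ (d m : ℕ) x, toThick 𝓘 F (m + d) i x = y (m + d) → toThick 𝓘 F m i x = y m := by
    intro d
    induction d with
    | zero => exact fun m x hx => hx
    | succ d ih =>
      intro m x hx
      refine ih m x ?_
      rw [← hy (m + d), ← thickStep_toThick 𝓘 F (m + d) i x]
      exact congrArg _ hx
  refine ⟨x, fun m => ?_⟩
  obtain ⟨x', hx'⟩ := (h (m + m₀) (Nat.le_add_left _ _)).2 (y (m + m₀))
  have he : x' = x := (h m₀ le_rfl).1 ((hdown m m₀ x' (by rwa [Nat.add_comm m₀ m])).trans hx.symm)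
  exact hdown m₀ m x (he ▸ hx')

end Groth.Agent.Lef23
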