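import Groth.Agent.PnEmb.Ample
import Groth.Agent.Lef23.Formal

/-!
# Projective embeddings with a prescribed section among the coordinates
-/

set_option autoImplicit false
set_option linter.unusedSectionVars false
set_option backward.isDefEq.respectTransparency.types false
set_option maxHeartbeats 1000000

universe u

open AlgebraicGeometry CategoryTheory CategoryTheory.Limits TopologicalSpace Opposite
open Groth.Agent.Coherent Groth.Agent.PicLib Groth.Agent.AmpleLib Groth.Agent.PnEmb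

namespace Groth.Agent.Lef23

variable {X : Scheme.{u}} {R : Type u} [CommRing R]

/-- Sections containing local generators of the functions embed a proper scheme. -/
theorem exists_closedImmersion_of_sections (q : X ⟶ Spec (CommRingCat.of R)) [IsProper q] {L : X.Modules}
    (hL : PicF.IsInvertible L) {n : ℕ} (σ : Fin (n + 1) → Γ(L, ⊤)) (J : Set (Fin (n + 1)))
    (hcov : ∀ x : X, ∃ j ∈ J, x ∈ glocus L (σ j)) (haff : ∀ j ∈ J, IsAffineOpen (glocus L (σ j)))
    (hring : ∀ j ∈ J, Subring.closure (Set.range (q.appLE ⊤ (glocus L (σ j)) le_top) ∪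
      Set.range fun k => (isGen_glocus (σ j)).coef le_rfl (resM L le_top (σ k))) = ⊤) :
    ∃ (r : X ⟶ CohB1.ProjSpace n R) (τ : (Scheme.Modules.pullback r).obj (Twist.twistProjSpace n R 1) ≅ L),
      IsClosedImmersion r ∧ r ≫ CohB1.ProjSpace.toSpec n R = q ∧
      ∀ i, τ.hom.app ⊤ (ProjUP.pullSec r (Twist.twistProjSpace n R 1) (ProjUP.coord n R i)) = σ i := by
  obtain ⟨r, hr, τ, hτ⟩ := UPLib.exists_hom_projSpace n q hL σ fun x => by
    obtain ⟨j, -, hj⟩ := hcov x
    exact ⟨j, hj⟩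
  have hpre := fun j => preimage_chartOpen r τ hτ j
  have himm : IsImmersion r := by
    refine isImmersion_of_charts r (fun j : J => chartOpen n R j)
      (fun j => isAffineOpen_chartOpen (j.1)) (fun j => hpre j.1 ▸ haff j j.2) ?_ ?_
    · rintro ⟨j, hj⟩
      have key : ∀ W : X.Opens, W = glocus L (σ j) → ∀ hW : W ≤ r ⁻¹ᵁ chartOpen n R j,
          (⊤ : Subring Γ(X, W)) ≤ (r.appLE (chartOpen n R j) W hW).hom.range := by
        rintro W rfl hW
        rw [← hring j hj, Subring.closure_le]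
        rintro c (⟨a, rfl⟩ | ⟨k, rfl⟩)
        · refine ⟨(CohB1.ProjSpace.toSpec n R).appLE ⊤ (chartOpen n R j) le_top a, ?_⟩
          show ((CohB1.ProjSpace.toSpec n R).appLE ⊤ (chartOpen n R j) le_top ≫
            r.appLE (chartOpen n R j) _ hW) a = q.appLE ⊤ _ le_top a
          rw [Scheme.Hom.appLE_comp_appLE]
          simp only [hr]
        · obtain ⟨c, hc⟩ := exists_app_eq_coef r τ hτ j k _ (preimage_chartOpen r τ hτ j).ge
          refine ⟨c, ((isGen_glocus (σ j)).coef_eq le_rfl ?_).symm⟩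
          rw [resM_self]
          exact hc
      intro c
      obtain ⟨d, hd⟩ := key _ (hpre j) le_rfl (Subring.mem_top c)
      refine ⟨d, ?_⟩
      rw [← hd, Scheme.Hom.app_eq_appLE]
    · intro x
      obtain ⟨j, hj, hx⟩ := hcov x
      exact ⟨⟨j, hj⟩, (hpre j).ge hx⟩
  haveI := himm
  haveI : IsSeparated (CohB1.ProjSpace.toSpec n R) :=
    MorphismProperty.comp_mem @IsSeparated (Proj.toSpecZero (CohB1.polyGrading n R)) _ inferInstance inferInstance
  haveI : IsProper (r ≫ CohB1.ProjSpace.toSpec n R) := hr.symm ▸ ‹IsProper q›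
  haveI : IsProper r := IsProper.of_comp r (CohB1.ProjSpace.toSpec n R)
  exact ⟨r, τ, IsClosedImmersion.of_isPreimmersion r r.isClosedMap.isClosed_range, hr, hτ⟩

/-- **Embedding with a prescribed section**: a power of a section of an ample module is a coordinate of a closed
immersion into projective space. -/
theorem exists_embedding_sec (q : X ⟶ Spec (CommRingCat.of R)) [IsProper q] {L : X.Modules}
    (hL : CohB1.IsAmple L) (z₀ : Γ(L, ⊤)) :
    ∃ (N e : ℕ) (r : X ⟶ CohB1.ProjSpace N R) (j : Fin (N + 1))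
      (τ : (Scheme.Modules.pullback r).obj (Twist.twistProjSpace N R 1) ≅ CohB1.tensorPow L e),
      0 < e ∧ IsClosedImmersion r ∧ r ≫ CohB1.ProjSpace.toSpec N R = q ∧
      τ.hom.app ⊤ (ProjUP.pullSec r (Twist.twistProjSpace N R 1) (ProjUP.coord N R j)) = powSec z₀ e := by
  let M : X.Modules := Coh.structureModule X
  have hM : PicF.IsInvertible M := isInvertible_structureModule
  classical
  obtain ⟨hLi, hc, haff⟩ := isAmple_iff_affGlocus.1 hL
  have := quasiSeparatedSpace_of_affGlocus hLi haff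
  have := hc
  have key : ∀ x : X, ∃ (W : X.Opens) (ν : ℕ) (f : Fin ν → Γ(X, W)) (N : ℕ), x ∈ W ∧ IsAffineOpen W ∧
      Subring.closure (Set.range (q.appLE ⊤ W le_top) ∪ Set.range f) = ⊤ ∧
      ∀ n, N ≤ n → ∃ (v : Γ(CohB1.tensorMod (CohB1.tensorPow L n) M, ⊤))
        (u : Fin ν → Γ(CohB1.tensorMod (CohB1.tensorPow L n) M, ⊤)),
        glocus _ v = W ∧ ∀ i, resM _ (le_top : W ≤ ⊤) (u i) = f i • resM _ (le_top : W ≤ ⊤) v := by
    intro x
    obtain ⟨V₁, hxV₁, g, hg⟩ := exists_isGen hLi x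
    obtain ⟨V₂, hxV₂, g', hg'⟩ := exists_isGen hM x
    obtain ⟨m, hm, b, hxb, hbV, hb⟩ := affGlocus_of_mem (x := x) (U := V₁ ⊓ V₂) hL ⟨hxV₁, hxV₂⟩
    let A := glocus _ b
    obtain ⟨ν, f, hf⟩ := exists_ring_gens q hb
    have hP : ∀ j, PicF.IsInvertible (CohB1.tensorMod (CohB1.tensorPow L j) M) := fun j =>
      isInvertible_tensorMod (isInvertible_tensorPow hLi j) hM
    have hLm := isInvertible_tensorPow hLi m
    let w : ∀ j, Γ(CohB1.tensorMod (CohB1.tensorPow L j) M, A) := fun j =>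
      tmul (powSec (resM L (hbV.trans inf_le_left) g) j) (resM M (hbV.trans inf_le_right) g')
    have hw : ∀ j, IsGen _ A (w j) := fun j => isGen_tmul (isGen_powSec (hg.restrict _) j) (hg'.restrict _)
    let a : Option (Fin ν) → Γ(X, A) := fun o => o.elim 1 f
    have hext : ∀ (j : Fin m) (o : Option (Fin ν)), ∃ (k : ℕ)
        (t : Γ(CohB1.tensorMod (CohB1.tensorMod (CohB1.tensorPow L j) M) (CohB1.tensorPow (CohB1.tensorPow L m) k), ⊤)),
        resM _ (le_top : A ≤ ⊤) t = tmul (a o • w j) (powSec (resM (CohB1.tensorPow L m) le_top b) k) := fun j o => by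
      have := isQCoh_of_isInvertible (hP j)
      exact exists_extend (CohB1.tensorMod (CohB1.tensorPow L j) M) b hLm (a o • w j)
    choose k₀ t₀ ht₀ using hext
    let K := Finset.univ.sup fun p : Fin m × Option (Fin ν) => k₀ p.1 p.2
    refine ⟨A, ν, f, m * (K + 2), hxb, hb, hf, fun n hn => ?_⟩
    let j : Fin m := ⟨n % m, Nat.mod_lt _ hm⟩
    obtain ⟨k, hk⟩ : ∃ k, n / m = k + 1 := Nat.exists_eq_add_one.2 ((Nat.le_div_iff_mul_le hm).2 (by nlinarith))
    have hKk : K ≤ k := by
      have : K + 2 ≤ n / m := (Nat.le_div_iff_mul_le hm).2 (by rw [mul_comm]; exact hn)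
      omega
    have hlift : ∀ (k' : ℕ), K ≤ k' → ∀ o, ∃ t, resM _ (le_top : A ≤ ⊤) t =
        tmul (a o • w j) (powSec (resM (CohB1.tensorPow L m) le_top b) k') := fun k' hk' o =>
      exists_lift_pow hLm (hP j) b _ ((Finset.le_sup (f := fun p : Fin m × Option (Fin ν) => k₀ p.1 p.2)
        (Finset.mem_univ (j, o))).trans hk') (t₀ j o) (ht₀ j o)
    obtain ⟨φ⟩ := nonempty_twist_iso hLi hM (n % m) m (k + 1) n (by rw [← hk]; exact Nat.mod_add_div n m)
    obtain ⟨α, hα⟩ := exists_assocIso (hP j) (isInvertible_tensorPow hLm k) hLm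
    obtain ⟨t', ht'⟩ := hlift k hKk none
    choose t ht using fun i => hlift (k + 1) (by omega) (some i)
    let h := φ.hom.app A (tmul (w j) (powSec (resM (CohB1.tensorPow L m) le_top b) (k + 1)))
    have h1 : resM _ (le_top : A ≤ ⊤) (α.hom.app ⊤ (tmul t' b)) =
        tmul (w j) (powSec (resM (CohB1.tensorPow L m) le_top b) (k + 1)) := by
      rw [← app_resM, resM_tmul, ht']
      simp only [a, Option.elim, one_smul]
      exact hα _ _ _ _
    have hv : resM _ (le_top : A ≤ ⊤) (φ.hom.app ⊤ (α.hom.app ⊤ (tmul t' b))) = h :=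
      (app_resM φ.hom _ _).symm.trans (congrArg (φ.hom.app A) h1)
    refine ⟨φ.hom.app ⊤ (α.hom.app ⊤ (tmul t' b)), fun i => φ.hom.app ⊤ (t i), ?_, fun i => ?_⟩
    · refine (glocus_map_iso φ _).trans ((glocus_map_iso α _).trans ?_)
      rw [glocus_tmul (isInvertible_tensorMod (hP j) (isInvertible_tensorPow hLm k)) hLm, inf_eq_right,
        le_glocus_iff, ht']
      simp only [a, Option.elim, one_smul]
      exact isGen_tmul (hw j) (isGen_powSec (isGen_glocus b) k)
    · rw [hv, ← app_resM, ht i]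
      simp only [a, Option.elim]
      rw [tmul_smul_left]
      exact Scheme.Modules.Hom.app_smul _ _ _
  choose W ν f N hxW hW hgen hN using key
  obtain ⟨T, hT⟩ := isCompact_univ.elim_finite_subcover (fun x : X => (W x : Set X)) (fun x => (W x).2)
    fun x _ => Set.mem_iUnion.2 ⟨x, hxW x⟩
  obtain ⟨n, hn, hn1⟩ : ∃ n, T.sup N ≤ n ∧ 0 < n := ⟨T.sup N + 1, Nat.le_succ _, Nat.succ_pos _⟩
  choose v u hv hu using fun x : {x // x ∈ T} => hN x.1 n ((Finset.le_sup x.2).trans hn)
  let z : Γ(CohB1.tensorMod (CohB1.tensorPow L n) M, ⊤) := tmul (powSec z₀ n) (oneSec ⊤)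
  let I := Option ((x : {x // x ∈ T}) × Option (Fin (ν x.1)))
  obtain ⟨N', hN'⟩ : ∃ N', Fintype.card I = N' + 1 := Nat.exists_eq_add_one.2 Fintype.card_pos
  let e : I ≃ Fin (N' + 1) := (Fintype.equivFin I).trans (finCongr hN')
  let sec : I → Γ(CohB1.tensorMod (CohB1.tensorPow L n) M, ⊤) := fun o => o.elim z fun p => p.2.elim (v p.1) (u p.1)
  have hQ := isInvertible_tensorMod (isInvertible_tensorPow hLi n) hM
  obtain ⟨r, τ, hr, hrq, hτ⟩ := exists_closedImmersion_of_sections q hQ (fun i => sec (e.symm i))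
    (Set.range fun x : {x // x ∈ T} => e (some ⟨x, none⟩)) (fun y => by
      obtain ⟨x, hxT, hyx⟩ := Set.mem_iUnion₂.1 (hT (Set.mem_univ y))
      exact ⟨_, ⟨⟨x, hxT⟩, rfl⟩, by simpa [sec, hv] using hyx⟩)
    (by
      rintro _ ⟨x, rfl⟩
      simpa [sec, hv] using hW x.1) (by
    rintro _ ⟨x, rfl⟩
    have hs : sec (e.symm (e (some ⟨x, none⟩))) = v x := by simp [sec]
    have key : ∀ (z : Γ(CohB1.tensorMod (CohB1.tensorPow L n) M, ⊤)) (U : X.Opens), z = v x → U = W x.1 →
        ∀ hz : IsGen _ U (resM _ le_top z), Subring.closure (Set.range (q.appLE ⊤ U le_top) ∪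
          Set.range fun i => hz.coef le_rfl (resM _ le_top (sec (e.symm i)))) = ⊤ := by
      rintro z U rfl rfl hz
      rw [eq_top_iff, ← hgen x.1]
      refine Subring.closure_mono (Set.union_subset_union_right _ ?_)
      rintro _ ⟨i, rfl⟩
      refine ⟨e (some ⟨x, some i⟩), hz.coef_eq _ ?_⟩
      rw [resM_self]
      simpa [sec] using (hu x i).symm
    exact key _ _ hs ((congrArg (glocus _) hs).trans (hv x)) _)
  let u' : CohB1.tensorMod (CohB1.tensorPow L n) M ≅ CohB1.tensorPow L n :=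
    AmpleLib.tensorComm _ _ ≪≫ unitTensorIso _
  refine ⟨N', n, r, e none, τ ≪≫ u', hn1, hr, hrq, ?_⟩
  show u'.hom.app ⊤ (τ.hom.app ⊤ _) = _
  rw [hτ, show sec (e.symm (e none)) = z by simp [sec]]
  exact (unit_app_tmul (CohB1.tensorPow L n) ⊤ (powSec z₀ n) _).trans (one_smul Γ(X, ⊤) _)

end Groth.Agent.Lef23
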