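import Groth.Agent.Lef23.Structure
import Groth.Agent.AbCubeLib.MulBy
import Groth.Agent.CommAlg6.FibreLocal

/-!
# Closed sets missing an ample divisor are finite over the base
-/

set_option autoImplicit false
set_option linter.style.haveILetI false
set_option backward.isDefEq.respectTransparency.types false

universe u

open CategoryTheory CategoryTheory.Limits AlgebraicGeometry Opposite TopologicalSpace IsLocalRing
open Groth.Agent.Coherent Groth.Agent.PicLib Groth.Agent.AmpleLib

namespace Groth.Agent.Lef23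

variable {X : Scheme.{u}}

/-- Away from its zero locus an ideal is trivial. -/
theorem exists_gen_compl (I : X.IdealSheafData) {U : X.Opens} (hU : Disjoint (U : Set X) (I.support : Set X)) :
    ∃ k : Γ(ClSub.idealMod I, U), IsGen (ClSub.idealMod I) U k := by
  haveI := AmpleLib.mono_idealModι I
  have hbot : I.subschemeι ⁻¹ᵁ U = ⊥ := Opens.ext (Set.eq_empty_of_forall_notMem fun w hw =>
    Set.disjoint_left.1 hU hw (I.range_subschemeι.subset ⟨w, rfl⟩))
  haveI : Subsingleton Γ(I.subscheme, I.subschemeι ⁻¹ᵁ U) := by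
    rw [hbot]
    exact CommRingCat.subsingleton_of_isTerminal I.subscheme.sheaf.isTerminalOfEmpty
  obtain ⟨k, hk⟩ := (mem_range_idealModι I U (1 : Γ(X, U))).2 (Subsingleton.elim _ _)
  refine ⟨k, fun V hV => ?_⟩
  have key : ∀ r : Γ(X, V), (ClSub.idealModι I).app V (r • resM _ hV k) = r := fun r => by
    rw [Scheme.Modules.Hom.app_smul, app_resM, hk]
    show r * X.presheaf.map (homOfLE hV).op 1 = r
    rw [map_one, mul_one]
  refine ⟨fun r r' h => (key r).symm.trans ((congrArg _ h).trans (key r')), fun x => ?_⟩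
  exact ⟨(show Γ(X, V) from (ClSub.idealModι I).app V x), app_injective_of_mono (ClSub.idealModι I) V (key _)⟩

variable {A : Type u} [CommRing A] [X.Over (Spec (CommRingCat.of A))] [IsProper (X ↘ Spec (CommRingCat.of A))]

/-- A closed set missing an ample divisor is finite over the base. -/
theorem isFinite_of_disjoint (𝓘 : X.IdealSheafData) {L : X.Modules} (hL : ClSub.IsInverseOf L (ClSub.idealMod 𝓘))
    (hamp : CohB1.IsAmple L) {W : Scheme.{u}} (j : W ⟶ X) [IsClosedImmersion j]
    (hd : Disjoint (Set.range j.base) (𝓘.support : Set X)) :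
    IsFinite (j ≫ X ↘ Spec (CommRingCat.of A)) := by
  have hM := isInvertible_inverse hamp.1 hL
  let U : X.Opens := ⟨(𝓘.support : Set X)ᶜ, 𝓘.support.2.isOpen_compl⟩
  obtain ⟨k, hk⟩ := exists_gen_compl 𝓘 (U := U) disjoint_compl_left
  have hU : j ⁻¹ᵁ U = ⊤ := top_le_iff.1 fun w _ => Set.disjoint_left.1 hd ⟨w, rfl⟩
  have hg : IsGen ((Scheme.Modules.pullback j).obj (ClSub.idealMod 𝓘)) ⊤ (resM _ hU.ge (pullSec j k)) :=
    (isGen_pullSec j hk hM).restrict _
  obtain ⟨u⟩ := TwistLib.nonempty_iso_of_isGen_top hg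
  obtain ⟨e⟩ := hL
  obtain ⟨e₁⟩ := exists_pullTensorIso j hamp.1 hM
  obtain ⟨e₂⟩ := exists_pullStructureIso j
  let t : (Scheme.Modules.pullback j).obj L ≅ Coh.structureModule W :=
    (AmpleLib.tensorComm _ _ ≪≫ unitTensorIso _).symm ≪≫ AmpleLib.tensorIso (Iso.refl _) u.symm ≪≫ e₁.symm ≪≫
      (Scheme.Modules.pullback j).mapIso e ≪≫ e₂
  have h1 : CohB1.IsAmple (Coh.structureModule W) := isAmple_of_iso t (isAmple_pullback_of_isAffineHom j hamp)
  obtain ⟨e₃⟩ := exists_pullStructureIso (j ≫ X ↘ Spec (CommRingCat.of A))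
  exact AbCubeLib.isFinite_of_isAmple_pullback _ isInvertible_structureModule (isAmple_of_iso e₃.symm h1)

/-- Points of a closed set missing an ample divisor are closed in their fibres. -/
theorem isClosed_fibre_of_disjoint (𝓘 : X.IdealSheafData) {L : X.Modules}
    (hL : ClSub.IsInverseOf L (ClSub.idealMod 𝓘)) (hamp : CohB1.IsAmple L) {Z : Set X} (hZ : IsClosed Z)
    (hd : Disjoint Z (𝓘.support : Set X)) {z : X} (hz : z ∈ Z) :
    IsClosed ({((X ↘ Spec (CommRingCat.of A))).asFiber z} :
      Set ↥(((X ↘ Spec (CommRingCat.of A))).fiber (((X ↘ Spec (CommRingCat.of A))).base z))) := by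
  let f := X ↘ Spec (CommRingCat.of A)
  let J := Scheme.IdealSheafData.vanishingIdeal (⟨Z, hZ⟩ : Closeds X)
  have hr : Set.range J.subschemeι.base = Z := by
    rw [J.range_subschemeι, Scheme.IdealSheafData.coe_support_vanishingIdeal]
    try rfl
  haveI := isFinite_of_disjoint (A := A) 𝓘 hL hamp J.subschemeι (hr.symm ▸ hd)
  have hfin := (J.subschemeι ≫ f).finite_preimage_singleton (f.base z)
  haveI : LocallyOfFiniteType (f.fiberToSpecResidueField (f.base z)) :=
    MorphismProperty.pullback_snd (P := @LocallyOfFiniteType) _ _ inferInstance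
  haveI : JacobsonSpace ↥(f.fiber (f.base z)) :=
    LocallyOfFiniteType.jacobsonSpace (f.fiberToSpecResidueField (f.base z))
  let T := (f.fiberι (f.base z)).base ⁻¹' Z
  have hT : IsClosed T := hZ.preimage (f.fiberι (f.base z)).continuous
  have hTf : T.Finite := by
    refine Set.Finite.of_finite_image (f := (f.fiberι (f.base z)).base) ?_
      (f.fiberι (f.base z)).isEmbedding.injective.injOn
    refine (hfin.image J.subschemeι.base).subset ?_
    rintro _ ⟨t, ht, rfl⟩
    obtain ⟨w, hw⟩ := hr.ge ht
    refine ⟨w, ?_, hw⟩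
    show f.base (J.subschemeι.base w) = f.base z
    rw [hw]
    exact (f.range_fiberι (f.base z)).le ⟨t, rfl⟩
  have hmem : f.asFiber z ∈ T := by
    show (f.fiberι (f.base z)).base (f.asFiber z) ∈ Z
    rw [f.fiberι_asFiber z]
    exact hz
  have hsub : T ⊆ closedPoints ↥(f.fiber (f.base z)) := by
    have h1 := closure_inter_closedPoints hT
    have hc : IsClosed (T ∩ closedPoints ↥(f.fiber (f.base z))) := by
      rw [← Set.biUnion_of_singleton (T ∩ closedPoints ↥(f.fiber (f.base z)))]
      exact (hTf.inter_of_left _).isClosed_biUnion fun t ht => ht.2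
    rw [hc.closure_eq] at h1
    exact h1.ge.trans Set.inter_subset_right
  exact hsub hmem

/-- The depth of a flat family is at least the depth of the fibre. -/
theorem depth_fiberStalk_le [IsNoetherianRing A] [Flat (X ↘ Spec (CommRingCat.of A))] (z : X) :
    LocCoh.depth (CInt.fiberStalk (X ↘ Spec (CommRingCat.of A)) z)
        (CInt.fiberStalk (X ↘ Spec (CommRingCat.of A)) z) ≤
      LocCoh.depth (X.presheaf.stalk z) (X.presheaf.stalk z) := by
  let f := X ↘ Spec (CommRingCat.of A)
  haveI : IsLocallyNoetherian X := LocallyOfFiniteType.isLocallyNoetherian f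
  let B := (Spec (CommRingCat.of A)).presheaf.stalk (f.base z)
  let O := X.presheaf.stalk z
  letI : Algebra B O := (f.stalkMap z).hom.toAlgebra
  haveI : IsLocalHom (algebraMap B O) := inferInstanceAs (IsLocalHom (f.stalkMap z).hom)
  haveI : Module.Flat B O := Flat.stalkMap f z
  let J := (maximalIdeal B).map (algebraMap B O)
  haveI : Nontrivial (O ⧸ J) := Ideal.Quotient.nontrivial_iff.2 fun h =>
    (maximalIdeal.isMaximal O).ne_top (top_le_iff.1 (h ▸ IsLocalRing.map_maximalIdeal_le _))
  haveI : IsLocalRing (O ⧸ J) := .of_surjective' _ Ideal.Quotient.mk_surjective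
  rw [← depth_fibre_structure f (f.base z) (f.asFiber z),
    depth_fibre_stalk f (Coh.structureModule X) (f.base z) (f.asFiber z) z (f.fiberι_asFiber z)]
  rw [CommAlg6.depth_eq_add_fibre (A := B) (B := O), CAlgH3.depth_quotient_ring]
  refine le_of_eq_of_le (CAlgH3.depth_congr ?_) le_add_self
  refine (Submodule.Quotient.equiv _ _ (EGA43.FibDepth.unitStalkEquiv z).symm ?_)
  rw [Submodule.map_smul'', Submodule.map_top, LinearEquiv.range, smul_eq_mul, Ideal.mul_top]
  rfl

end Groth.Agent.Lef23
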