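import Groth.Agent.Lef23.Formal
import Groth.Agent.EGA43.FibDepth.Unit

/-!
# Cohomology of thickenings of an ample divisor: the structure sheaf
-/

set_option autoImplicit false
set_option linter.style.haveILetI false
set_option backward.isDefEq.respectTransparency.types false

universe u

open CategoryTheory CategoryTheory.Limits AlgebraicGeometry Opposite TopologicalSpace IsLocalRing
open Groth.Agent.Coherent Groth.Agent.PicLib Groth.Agent.AmpleLib Groth.Agent.SerreDual Groth.Agent.EulerLib

namespace Groth.Agent.Lef23

variable {X : Scheme.{u}}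

/-- Tensoring with `O` does nothing. -/
noncomputable def rightUnit (M : X.Modules) : (DCoh.tensorBi.obj M).obj (Coh.structureModule X) ≅ M :=
  swapIso M (Coh.structureModule X) ≪≫ unitTensorIso M

theorem rightUnit_natural {M N : X.Modules} (f : M ⟶ N) :
    (rightUnit M).hom ≫ f = (DCoh.tensorBi.map f).app (Coh.structureModule X) ≫ (rightUnit N).hom :=
  AmpleLib.hom_ext fun U a r => by
    show f.app U ((unitBilin M).desc.app U ((AmpleLib.tensorSwap M (Coh.structureModule X)).app U (tmul a r))) =
      (unitBilin N).desc.app U ((AmpleLib.tensorSwap N (Coh.structureModule X)).app U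
        (((DCoh.tensorBi.map f).app (Coh.structureModule X)).app U (tmul a r)))
    have e1 : (AmpleLib.tensorSwap M (Coh.structureModule X)).app U (tmul a r) = tmul r a := Bilin.desc_tmul _ U a r
    have e2 : ((DCoh.tensorBi.map f).app (Coh.structureModule X)).app U (tmul a r) = tmul (f.app U a) r :=
      DCat.PullTensor.tensorBi_map_tmul _ U a r
    have e3 : (AmpleLib.tensorSwap N (Coh.structureModule X)).app U (tmul (f.app U a) r) = tmul r (f.app U a) :=
      Bilin.desc_tmul _ U _ r
    rw [e1, e2, e3, Bilin.desc_tmul, Bilin.desc_tmul]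
    exact Scheme.Modules.Hom.app_smul f (show Γ(X, U) from r) a

theorem mono_structure (I : X.IdealSheafData) :
    Mono ((DCoh.tensorBi.map (ClSub.idealModι I)).app (Coh.structureModule X)) := by
  haveI := AmpleLib.mono_idealModι I
  haveI : Mono ((DCoh.tensorBi.map (ClSub.idealModι I)).app (Coh.structureModule X) ≫
      (rightUnit (Coh.structureModule X)).hom) := by
    rw [← rightUnit_natural]
    infer_instance
  exact mono_of_mono _ (rightUnit (Coh.structureModule X)).hom

/-- Isomorphisms give bijections on cohomology. -/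
noncomputable def hmEquiv {M N : X.Modules} (e : M ≅ N) (i : ℕ) : Coh.HH X M i ≃+ Coh.HH X N i :=
  ((Sheaf.functorH (Opens.grothendieckTopology X) i).mapIso
    ((SheafOfModules.toSheaf.{u} X.ringCatSheaf).mapIso e)).addCommGroupIsoToAddEquiv

theorem hm_rightUnit {M N : X.Modules} (f : M ⟶ N) (i : ℕ)
    (x : Coh.HH X ((DCoh.tensorBi.obj M).obj (Coh.structureModule X)) i) :
    hm f i (hmEquiv (rightUnit M) i x) =
      hmEquiv (rightUnit N) i (hm ((DCoh.tensorBi.map f).app (Coh.structureModule X)) i x) := by
  show Sheaf.H.map _ i (Sheaf.H.map ((SheafOfModules.toSheaf X.ringCatSheaf).map (rightUnit M).hom) i x) =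
    Sheaf.H.map ((SheafOfModules.toSheaf X.ringCatSheaf).map (rightUnit N).hom) i (Sheaf.H.map _ i x)
  rw [← Sheaf.H.map_comp_apply, ← Sheaf.H.map_comp_apply, ← Functor.map_comp, ← Functor.map_comp]
  exact congrArg (fun g => Sheaf.H.map ((SheafOfModules.toSheaf X.ringCatSheaf).map g) i x) (rightUnit_natural f)

/-- The depth of the fibre of the structure sheaf. -/
theorem depth_fibre_structure {S : Scheme.{u}} (f : X ⟶ S) (s : S) (z : ↥(f.fiber s)) :
    LocCoh.depth ((f.fiber s).presheaf.stalk z) ((CohIII.fiberMod f (Coh.structureModule X) s).presheaf.stalk z) =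
      LocCoh.depth ((f.fiber s).presheaf.stalk z) ((f.fiber s).presheaf.stalk z) := by
  letI : Algebra (X.presheaf.stalk ((f.fiberι s).base z)) ((f.fiber s).presheaf.stalk z) :=
    ((f.fiberι s).stalkMap z).hom.toAlgebra
  exact CAlgH3.depth_congr (EGA43.FibDepth.tensorUnitEquiv
    (((ModStalk.pullbackStalkIso (f.fiberι s) z).app (Coh.structureModule X)).toLinearEquiv)
    (EGA43.FibDepth.unitStalkEquiv ((f.fiberι s).base z)))

theorem isFlatOver_structureModule {S : Scheme.{u}} (f : X ⟶ S) [Flat f] :
    FlatMod.IsFlatOver f (Coh.structureModule X) := fun x =>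
  (EGA43.FibDepth.isFlatOverAt_structureModule f x).2 (Flat.stalkMap f x)

/-- Over a field the fibre is the whole scheme. -/
theorem depth_fiberStalk_of_field {k : Type u} [Field k] (f : X ⟶ Spec (CommRingCat.of k)) (x : X) :
    LocCoh.depth (CInt.fiberStalk f x) (CInt.fiberStalk f x) =
      LocCoh.depth (X.presheaf.stalk x) (X.presheaf.stalk x) := by
  rw [← depth_fibre_structure f (f.base x) (f.asFiber x),
    depth_fibre_stalk f (Coh.structureModule X) (f.base x) (f.asFiber x) x (f.fiberι_asFiber x)]
  let p : PrimeSpectrum k := f.base x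
  let B := (Spec.structureSheaf k).presheaf.stalk p
  haveI hloc : IsLocalization.AtPrime B p.asIdeal := inferInstance
  haveI : IsLocalRing B := IsLocalization.AtPrime.isLocalRing B p.asIdeal
  have hB : maximalIdeal B = ⊥ := by
    rw [← IsLocalization.AtPrime.map_eq_maximalIdeal p.asIdeal B,
      (Ideal.eq_bot_or_top p.asIdeal).resolve_right p.isPrime.ne_top, Ideal.map_bot]
  have hJ : fibIdeal f x = ⊥ := by
    show Ideal.map _ (maximalIdeal B) = ⊥
    rw [hB]
    exact Ideal.map_bot
  exact CAlgH3.depth_congr ((Submodule.quotEquivOfEqBot _ (by rw [hJ, Submodule.bot_smul])) ≪≫ₗ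
    (EGA43.FibDepth.unitStalkEquiv x).symm)

theorem isClosed_singleton_of_fibre {k : Type u} [Field k] (f : X ⟶ Spec (CommRingCat.of k)) (x : X)
    (h : IsClosed ({f.asFiber x} : Set ↥(f.fiber (f.base x)))) : IsClosed ({x} : Set X) := by
  haveI : Subsingleton ↥(Spec (CommRingCat.of k)) := inferInstanceAs (Subsingleton (PrimeSpectrum k))
  have hc : IsClosed (Set.range (f.fiberι (f.base x)).base) := by
    rw [f.range_fiberι]
    exact (isClosed_discrete _).preimage f.continuous
  have := (Topology.IsClosedEmbedding.mk (f.fiberι (f.base x)).isEmbedding hc).isClosedMap _ h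
  rwa [Set.image_singleton, f.fiberι_asFiber x] at this

end Groth.Agent.Lef23
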