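import Groth.Agent.Lef23.Restrict
import Groth.Agent.Lef23.Structure
import Groth.Agent.Lef23.Disjoint
import Groth.Agent.EGA43.DvrCrit.Main
import Groth.Agent.Desc19b.AmpleQuot
import Groth.Agent.Coherent.CohBC.HomCorep
import Groth.Agent.Coherent.Existence.FullFaithful
import Groth.Prelude.Def_Lef

/-!
# The Lefschetz condition for an ample divisor
-/

set_option autoImplicit false
set_option linter.style.haveILetI false
set_option backward.isDefEq.respectTransparency.types false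

universe u

open CategoryTheory CategoryTheory.Limits AlgebraicGeometry Opposite TopologicalSpace
open Groth.Agent.Coherent Groth.Agent.PicLib Groth.Agent.AmpleLib Groth.Agent.SerreDual Groth.Agent.EulerLib

namespace Groth.Agent.Lef23

variable {X : Scheme.{u}}

attribute [local instance] hasFiniteBiproducts

theorem resHom_comp {U : X.Opens} {P M N : X.Modules} (a : P ⟶ M) (b : M ⟶ N) :
    resHom U (a ≫ b) = resHom U a ≫ resHom U b :=
  Functor.map_comp _ _ _

/-- Homomorphisms out of a locally free module, as degree zero cohomology. -/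
noncomputable def homH (Q N : X.Modules) (hQ : FlatMod.IsFinLocFree Q) :
    (Q ⟶ N) ≃+ Coh.HH X ((DCoh.tensorBi.obj N).obj (internalHom Q (Coh.structureModule X))) 0 :=
  ((CohBC.homEquivSec Q hQ N).trans (CohBC.secEquiv
    (show CohB1.tensorMod (internalHom Q (Coh.structureModule X)) N ≅ _ from
      (swapIso N (internalHom Q (Coh.structureModule X))).symm))).trans
    (Existence.hSec _).symm

theorem homH_natural (Q : X.Modules) (hQ : FlatMod.IsFinLocFree Q) {N N' : X.Modules} (f : N ⟶ N') (φ : Q ⟶ N) :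
    homH Q N' hQ (φ ≫ f) =
      hm ((DCoh.tensorBi.map f).app (internalHom Q (Coh.structureModule X))) 0 (homH Q N hQ φ) := by
  let F := internalHom Q (Coh.structureModule X)
  apply (Existence.hSec ((DCoh.tensorBi.obj N').obj F)).injective
  refine Eq.trans ((Existence.hSec _).apply_symm_apply _) (Eq.trans ?_ (Existence.hSec_map _ _).symm)
  refine Eq.trans ?_ (congrArg (((DCoh.tensorBi.map f).app F).app ⊤) ((Existence.hSec _).apply_symm_apply _)).symm
  refine (congrArg ((swapIso N' F).inv.app ⊤) (CohBC.homEquivSec_natural Q hQ f φ)).trans ?_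
  exact (ConcreteCategory.congr_hom (congrArg (fun g => Scheme.Modules.Hom.app g ⊤) (swap_comp f F))
    (CohBC.homEquivSec Q hQ N φ)).symm

variable {A : Type u} [CommRing A] [IsNoetherianRing A] [X.Over (Spec (CommRingCat.of A))]
  [IsProper (X ↘ Spec (CommRingCat.of A))] [Flat (X ↘ Spec (CommRingCat.of A))]

variable (A) in
/-- Every fibre has depth at least two at its closed points. -/
def FibreDepthTwo (X : Scheme.{u}) [X.Over (Spec (CommRingCat.of A))] : Prop :=
  ∀ x : X, IsClosed ({((X ↘ Spec (CommRingCat.of A))).asFiber x} :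
      Set ↥(((X ↘ Spec (CommRingCat.of A))).fiber (((X ↘ Spec (CommRingCat.of A))).base x))) →
    (2 : ℕ∞) ≤ LocCoh.depth ↑(CInt.fiberStalk (X ↘ Spec (CommRingCat.of A)) x)
      ↑(CInt.fiberStalk (X ↘ Spec (CommRingCat.of A)) x)

/-- Homomorphisms from an invertible module to `O` are those to the formal completion along an ample divisor. -/
theorem bijective_formal (𝓘 : X.IdealSheafData) {L : X.Modules} (hL : ClSub.IsInverseOf L (ClSub.idealMod 𝓘))
    (hamp : CohB1.IsAmple L) (hdepth : FibreDepthTwo A X) {Q : X.Modules} (hQ : PicF.IsInvertible Q) :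
    (∀ β : Q ⟶ Coh.structureModule X, (∀ n, β ≫ ClSub.toSubscheme (𝓘 ^ (n + 1)) = 0) → β = 0) ∧
    ∀ z : ∀ n, Q ⟶ ClSub.quotMod (𝓘 ^ (n + 1)), Lef.IsFormalHom 𝓘 Q z →
      ∃ β : Q ⟶ Coh.structureModule X, ∀ n, β ≫ ClSub.toSubscheme (𝓘 ^ (n + 1)) = z n := by
  let f := X ↘ Spec (CommRingCat.of A)
  have hQl := isFinLocFree_of_invertible hQ
  obtain ⟨R, ⟨eR⟩⟩ := VarietyLib.exists_isInverseOf hQ
  have hR : PicF.IsInvertible R := MorProj.isInvertible_of_tensor_iso (AmpleLib.tensorComm _ _ ≪≫ eR)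
  obtain ⟨ed⟩ := nonempty_dual_invertible hQ hR eR
  let F := internalHom Q (Coh.structureModule X)
  have hF : PicF.IsInvertible F := KLLib.isInvertible_of_iso ed.symm hR
  haveI : IsLocallyNoetherian X := LocallyOfFiniteType.isLocallyNoetherian f
  let e₁ : CohB1.tensorMod (Coh.structureModule X) F ≅ F := unitTensorIso F
  have hflat : FlatMod.IsFlatOver f F :=
    fun x => EGA43.DvrCrit.isFlatOverAt_of_iso f e₁ x (isFlatOver_twist f hF (isFlatOver_structureModule f) x)
  have hd : ∀ x : X, IsClosed ({f.asFiber x} : Set ↥(f.fiber (f.base x))) →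
      (2 : ℕ∞) ≤ LocCoh.depth (CInt.fiberStalk f x)
        ((CohIII.fiberMod f F (f.base x)).presheaf.stalk (f.asFiber x)) := fun x hx => by
    have h1 : (2 : ℕ∞) ≤ _ := hdepth x hx
    rw [← depth_fibre_structure f (f.base x) (f.asFiber x),
      depth_fibre_stalk f _ (f.base x) (f.asFiber x) x (f.fiberι_asFiber x),
      ← depth_quotient_twist f hF, ← depth_fibre_stalk f _ (f.base x) (f.asFiber x) x (f.fiberι_asFiber x)] at h1
    refine h1.trans_eq (CAlgH3.depth_congr ?_)
    exact ((DerSch.stalkFunctor _ _).mapIso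
      ((Scheme.Modules.pullback (f.fiberι (f.base x))).mapIso e₁)).toLinearEquiv
  have hreg : Mono ((DCoh.tensorBi.map (ClSub.idealModι 𝓘)).app F) := by
    haveI := AmpleLib.mono_idealModι 𝓘
    exact (mono_tE_iff _ F).2 (mono_tensE_map (isFinLocFree_of_invertible hF) (ClSub.idealModι 𝓘))
  obtain ⟨m₀, hm₀⟩ := exists_thick (A := A) 𝓘 hL hamp F (CohBC.isCoh_of_isFinLocFree (isFinLocFree_of_invertible hF))
    hflat hreg 2 hd
  refine ⟨fun β hβ => (homH Q _ hQl).injective ?_, fun z hz => ?_⟩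
  · refine (hm₀ m₀ le_rfl).2 0 two_pos ?_
    show hm _ 0 _ = hm _ 0 _
    rw [← homH_natural, ← homH_natural, hβ, zero_comp]
  · obtain ⟨x, hx⟩ := exists_limit 𝓘 F 0 m₀ (fun m hm => (hm₀ m hm).1 0 one_lt_two)
      (fun m => homH Q _ hQl (z m)) fun m => by
        show hm _ 0 _ = _
        rw [← homH_natural, hz m]
    obtain ⟨β, rfl⟩ := (homH Q _ hQl).surjective x
    refine ⟨β, fun n => (homH Q _ hQl).injective ?_⟩
    rw [homH_natural]
    exact hx n

/-- **The Lefschetz condition** for an ample divisor of a flat family with fibres of depth at least two. -/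
theorem lefCond_of_ample (𝓘 : X.IdealSheafData) {L : X.Modules} (hL : ClSub.IsInverseOf L (ClSub.idealMod 𝓘))
    (hamp : CohB1.IsAmple L) (hdepth : FibreDepthTwo A X) : Lef.LefCond X 𝓘 := by
  intro U hU D hD
  let f := X ↘ Spec (CommRingCat.of A)
  let j := U.ι
  haveI : IsLocallyNoetherian X := LocallyOfFiniteType.isLocallyNoetherian f
  haveI : CompactSpace X := QuasiCompact.compactSpace_of_compactSpace f
  haveI : AlgebraicGeometry.IsNoetherian X := ⟨⟩
  haveI : IsLocallyNoetherian (U : Scheme.{u}) := LocallyOfFiniteType.isLocallyNoetherian U.ι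
  haveI : CompactSpace (U : Scheme.{u}) :=
    isCompact_iff_compactSpace.mp (NoetherianSpace.isCompact (U : Set X))
  have hout : ∀ x : X, x ∉ U → (2 : ℕ∞) ≤ LocCoh.depth (X.presheaf.stalk x) (X.presheaf.stalk x) := fun x hx =>
    (hdepth x (isClosed_fibre_of_disjoint 𝓘 hL hamp (Z := (U : Set X)ᶜ) U.2.isClosed_compl
      (Set.disjoint_left.2 fun z hz hz' => hz (hU hz')) hx)).trans (depth_fiberStalk_le x)
  haveI := isIso_unit_structure U hout
  have hsupp : ∀ n, ((𝓘 ^ (n + 1)).support : Set X) ⊆ (U : Set X) := fun n => by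
    rw [Scheme.IdealSheafData.support_pow_succ]
    exact hU
  haveI := fun n => isIso_unit_quot U (𝓘 ^ (n + 1)) (hsupp n)
  choose θ hθ using fun n => exists_quotIso U (𝓘 ^ (n + 1)) (hsupp n) (𝓘.comap U.ι ^ (n + 1))
    (FSchLib.comap_pow U.ι 𝓘 (n + 1))
  have hq : ∀ n, (θ (n + 1)).hom ≫ Lef.quotMap (Lef.pow_succ_le (𝓘.comap U.ι) n) =
      resHom U (Lef.quotMap (Lef.pow_succ_le 𝓘 n)) ≫ (θ n).hom := fun n => by
    haveI := CurveRR24.epi_toSubscheme (𝓘 ^ (n + 1 + 1))
    haveI : Epi (resHom U (ClSub.toSubscheme (𝓘 ^ (n + 1 + 1)))) :=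
      (Scheme.Modules.restrictFunctor U.ι).map_epi _
    rw [← cancel_epi (resHom U (ClSub.toSubscheme (𝓘 ^ (n + 1 + 1)))), ← Category.assoc, hθ (n + 1),
      Category.assoc, toSubscheme_quotMap, ← hθ n, ← Category.assoc]
    refine congrArg (· ≫ (θ n).hom) ?_
    rw [← toSubscheme_quotMap (Lef.pow_succ_le 𝓘 n)]
    exact Functor.map_comp _ _ _
  -- restrictions of invertible modules
  have inj : ∀ Q : X.Modules, PicF.IsInvertible Q → ∀ α : Q.restrict U.ι ⟶ Coh.structureModule (U : Scheme.{u}),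
      (∀ n, α ≫ ClSub.toSubscheme (𝓘.comap U.ι ^ (n + 1)) = 0) → α = 0 := fun Q hQ α hα => by
    obtain ⟨β, hβ⟩ := (bijective_resHom U Q (Coh.structureModule X)).2 (α ≫ (unitIso U).inv)
    have hβ' : resHom U β = α ≫ (unitIso U).inv := hβ
    have h0 : β = 0 := (bijective_formal (A := A) 𝓘 hL hamp hdepth hQ).1 β fun n =>
      (bijective_resHom U Q _).1 ((cancel_mono (θ n).hom).1 (by
        show resHom U (β ≫ _) ≫ _ = resHom U 0 ≫ _
        rw [resHom_comp, Category.assoc, hθ n, hβ', Category.assoc, Iso.inv_hom_id_assoc, hα n,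
          show resHom U (0 : Q ⟶ ClSub.quotMod (𝓘 ^ (n + 1))) = 0 from Functor.map_zero _ _ _, zero_comp]))
    rw [h0, show resHom U (0 : Q ⟶ Coh.structureModule X) = 0 from Functor.map_zero _ _ _] at hβ'
    rw [← cancel_mono (unitIso U).inv, zero_comp, ← hβ']
  have surj : ∀ Q : X.Modules, PicF.IsInvertible Q →
      ∀ y : ∀ n, Q.restrict U.ι ⟶ ClSub.quotMod (𝓘.comap U.ι ^ (n + 1)), Lef.IsFormalHom (𝓘.comap U.ι) _ y →
      ∃ α, ∀ n, α ≫ ClSub.toSubscheme (𝓘.comap U.ι ^ (n + 1)) = y n := fun Q hQ y hy => by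
    choose z hz using fun n => (bijective_resHom U Q _).2 (y n ≫ (θ n).inv)
    have hz' : ∀ n, resHom U (z n) = y n ≫ (θ n).inv := hz
    obtain ⟨β, hβ⟩ := (bijective_formal (A := A) 𝓘 hL hamp hdepth hQ).2 z fun n => by
      refine (bijective_resHom U Q _).1 ((cancel_mono (θ n).hom).1 ?_)
      show resHom U (z (n + 1) ≫ _) ≫ _ = resHom U (z n) ≫ _
      rw [resHom_comp, Category.assoc, ← hq n, hz', hz', Category.assoc, Iso.inv_hom_id_assoc, hy n,
        Category.assoc, Iso.inv_hom_id, Category.comp_id]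
    refine ⟨resHom U β ≫ (unitIso U).hom, fun n => ?_⟩
    rw [Category.assoc, ← hθ n, ← Category.assoc,
      show resHom U β ≫ resHom U (ClSub.toSubscheme (𝓘 ^ (n + 1))) = resHom U (z n) from
        (Functor.map_comp _ _ _).symm.trans (congrArg (resHom U) (hβ n)),
      hz', Category.assoc, Iso.inv_hom_id, Category.comp_id]
  -- resolutions on `U`
  let C : (U : Scheme.{u}).Modules → Prop := fun P => ∃ m, P = (Scheme.Modules.pullback U.ι).obj (CohB1.tensorPow L m)
  have hC : ∀ x : (U : Scheme.{u}), ∃ (P : (U : Scheme.{u}).Modules) (a : Γ(P, ⊤)),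
      C P ∧ PicF.IsInvertible P ∧ x ∈ glocus P a ∧ IsAffineOpen (glocus P a) := fun x => by
    obtain ⟨m, -, b, hx, hbU, ha⟩ := affGlocus_of_mem (x := U.ι x) (U := U.ι.opensRange) hamp ⟨x, rfl⟩
    have hP := isInvertible_tensorPow hamp.1 m
    refine ⟨_, pullSec U.ι b, ⟨m, rfl⟩, PicLoc.isInvertible_pullback U.ι hP, ?_⟩
    rw [glocus_pullSec U.ι hP]
    exact ⟨hx, ha.preimage_of_isOpenImmersion U.ι hbU⟩
  have res : ∀ G : (U : Scheme.{u}).Modules, Coh.IsCoh G →
      ∃ (r : ℕ) (N : Fin r → (U : Scheme.{u}).Modules) (π : ⨁ N ⟶ G), Epi π ∧ Coh.IsCoh (⨁ N) ∧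
        ∀ i, ∃ Q : X.Modules, PicF.IsInvertible Q ∧ Nonempty (Q.restrict U.ι ≅ N i) := fun G hG => by
    obtain ⟨r, N, π, hπ, hN⟩ := Desc19b.exists_epi_negPow C hC G hG
    refine ⟨r, N, π, hπ, isCoh_biproduct _ fun i => CohBC.isCoh_of_isFinLocFree
      (isFinLocFree_of_invertible (hN i).1), fun i => ?_⟩
    obtain ⟨hNi, -, k, ⟨m, rfl⟩, -, ⟨e⟩⟩ := hN i
    have hP := isInvertible_tensorPow hamp.1 m
    have hT := isInvertible_tensorPow hP k
    obtain ⟨Q, ⟨eQ⟩⟩ := VarietyLib.exists_isInverseOf hT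
    have hQ : PicF.IsInvertible Q := MorProj.isInvertible_of_tensor_iso (AmpleLib.tensorComm _ _ ≪≫ eQ)
    obtain ⟨e₁⟩ := exists_pullTensorIso U.ι hT hQ
    obtain ⟨e₂⟩ := exists_pullStructureIso U.ι
    obtain ⟨e₃, -⟩ := exists_pullPowIso U.ι hP k
    let T := CohB1.tensorPow ((Scheme.Modules.pullback U.ι).obj (CohB1.tensorPow L m)) k
    have hTU : PicF.IsInvertible T := isInvertible_tensorPow (PicLoc.isInvertible_pullback U.ι hP) k
    have hQU := PicLoc.isInvertible_pullback U.ι hQ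
    have ha : InvCl.mk _ hQU * InvCl.mk T hTU = 1 := by
      rw [mul_comm, InvCl.mk_mul]
      exact InvCl.mk_eq _ isInvertible_structureModule (AmpleLib.tensorIso e₃.symm (Iso.refl _) ≪≫ e₁.symm ≪≫
        (Scheme.Modules.pullback U.ι).mapIso eQ ≪≫ e₂)
    have hb : InvCl.mk _ hNi * InvCl.mk T hTU = 1 := by
      rw [InvCl.mk_mul]
      exact InvCl.mk_eq _ isInvertible_structureModule e
    have hab := left_inv_eq_right_inv ha (by rwa [mul_comm] at hb)
    exact ⟨Q, hQ, ⟨(Scheme.Modules.restrictFunctorIsoPullback U.ι).app Q ≪≫ (H0Growth23.nonempty_iso_of_mk_eq hab).some⟩⟩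
  obtain ⟨r, N, π, hπ, hNc, hN⟩ := res D (CohBC.isCoh_of_isFinLocFree hD)
  have injN : ∀ {r : ℕ} (N : Fin r → (U : Scheme.{u}).Modules),
      (∀ i, ∃ Q : X.Modules, PicF.IsInvertible Q ∧ Nonempty (Q.restrict U.ι ≅ N i)) →
      ∀ α : ⨁ N ⟶ Coh.structureModule (U : Scheme.{u}),
        (∀ n, α ≫ ClSub.toSubscheme (𝓘.comap U.ι ^ (n + 1)) = 0) → α = 0 := fun N hN α hα =>
    biproduct.hom_ext' _ _ fun i => by
      obtain ⟨Q, hQ, ⟨e⟩⟩ := hN i
      rw [← cancel_epi e.hom, comp_zero, comp_zero]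
      exact inj Q hQ _ fun n => by rw [Category.assoc, Category.assoc, hα n, comp_zero, comp_zero]
  haveI := hπ
  refine ⟨fun φ ψ h => ?_, fun y hy => ?_⟩
  · rw [← sub_eq_zero, ← cancel_epi π, comp_zero]
    exact injN N hN _ fun n => by rw [Category.assoc, Preadditive.sub_comp, h n, sub_self, comp_zero]
  · have hα : ∀ i, ∃ α : N i ⟶ Coh.structureModule (U : Scheme.{u}),
        ∀ n, α ≫ ClSub.toSubscheme (𝓘.comap U.ι ^ (n + 1)) = biproduct.ι N i ≫ π ≫ y n := fun i => by
      obtain ⟨Q, hQ, ⟨e⟩⟩ := hN i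
      obtain ⟨α, hα⟩ := surj Q hQ (fun n => e.hom ≫ biproduct.ι N i ≫ π ≫ y n) fun n => by
        simp only [Category.assoc, hy n]
      exact ⟨e.inv ≫ α, fun n => by rw [Category.assoc, hα n, Iso.inv_hom_id_assoc]⟩
    choose α hα using hα
    let a := biproduct.desc α
    have ha : ∀ n, a ≫ ClSub.toSubscheme (𝓘.comap U.ι ^ (n + 1)) = π ≫ y n := fun n =>
      biproduct.hom_ext' _ _ fun i => by rw [biproduct.ι_desc_assoc, hα i n]
    obtain ⟨r', N', π', hπ', -, hN'⟩ := res (kernel π) (isCoh_kernel π hNc (CohBC.isCoh_of_isFinLocFree hD).1)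
    haveI := hπ'
    have hk : kernel.ι π ≫ a = 0 := by
      rw [← cancel_epi π', comp_zero]
      exact injN N' hN' _ fun n => by
        rw [Category.assoc, Category.assoc, ha n, kernel.condition_assoc, zero_comp, comp_zero]
    refine ⟨Abelian.epiDesc π a hk, fun n => ?_⟩
    rw [← cancel_epi π, ← Category.assoc, Abelian.comp_epiDesc, ha n]

end Groth.Agent.Lef23
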