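import Groth.Agent.Lef23.Formal
import Groth.Agent.AmpleLib.Twist2
import Groth.Agent.Coherent.Existence.EssSurj
import Groth.Agent.VarietyLib.NegTwist
import Groth.Agent.MorProj.InvTensor
import Groth.Agent.CurveRR24.Sky

/-!
# Powers of the ideal of zeros of a section, through powers of the dual invertible module
-/

set_option autoImplicit false
set_option linter.style.haveILetI false
set_option linter.unusedSectionVars false
set_option backward.isDefEq.respectTransparency.types false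

universe u

open CategoryTheory CategoryTheory.Limits AlgebraicGeometry Opposite TopologicalSpace
open Groth.Agent.Coherent Groth.Agent.PicLib Groth.Agent.AmpleLib Groth.Agent.EulerLib

namespace Groth.Agent.Lef23

variable {X : Scheme.{u}} {M : X.Modules}

/-- `M^(q+1) → M^q` by a form on `M`. -/
noncomputable def powStep (π₁ : M ⟶ Coh.structureModule X) (q : ℕ) :
    CohB1.tensorPow M (q + 1) ⟶ CohB1.tensorPow M q :=
  tensorMap (𝟙 _) π₁ ≫ (AmpleLib.tensorComm _ _ ≪≫ unitTensorIso (CohB1.tensorPow M q)).hom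

/-- `M^q → O`. -/
noncomputable def powMap (π₁ : M ⟶ Coh.structureModule X) : ∀ q : ℕ, CohB1.tensorPow M q ⟶ Coh.structureModule X
  | 0 => 𝟙 _
  | q + 1 => powStep π₁ q ≫ powMap π₁ q

/-- `M^(q+d) → M^q`. -/
noncomputable def theta (π₁ : M ⟶ Coh.structureModule X) (q : ℕ) :
    ∀ d : ℕ, CohB1.tensorPow M (q + d) ⟶ CohB1.tensorPow M q
  | 0 => 𝟙 _
  | d + 1 => powStep π₁ (q + d) ≫ theta π₁ q d

theorem powMap_add (π₁ : M ⟶ Coh.structureModule X) (q : ℕ) :
    ∀ d : ℕ, powMap π₁ (q + d) = theta π₁ q d ≫ powMap π₁ q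
  | 0 => (Category.id_comp _).symm
  | d + 1 => by
    show powStep π₁ (q + d) ≫ powMap π₁ (q + d) = (powStep π₁ (q + d) ≫ theta π₁ q d) ≫ powMap π₁ q
    rw [powMap_add π₁ q d, Category.assoc]

variable {π₁ : M ⟶ Coh.structureModule X} {V : X.Opens} {g' : Γ(M, V)} {c : Γ(X, V)}

theorem powStep_val (h : π₁.app V g' = c) (q : ℕ) :
    (powStep π₁ q).app V (powSec g' (q + 1)) = c • powSec g' q := by
  show (AmpleLib.tensorComm _ _ ≪≫ unitTensorIso (CohB1.tensorPow M q)).hom.app V
    ((tensorMap (𝟙 _) π₁).app V (tmul (powSec g' q) g')) = _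
  rw [tensorMap_tmul, h]
  exact unit_app_tmul _ V _ _

theorem powMap_val (h : π₁.app V g' = c) :
    ∀ q : ℕ, (show Γ(X, V) from (powMap π₁ q).app V (powSec g' q)) = c ^ q
  | 0 => by rw [pow_zero]; rfl
  | q + 1 => by
    show (show Γ(X, V) from (powMap π₁ q).app V ((powStep π₁ q).app V (powSec g' (q + 1)))) = _
    rw [powStep_val h, Scheme.Modules.Hom.app_smul, pow_succ']
    exact congrArg (c * ·) (powMap_val h q)

theorem theta_val (h : π₁.app V g' = c) (q : ℕ) :
    ∀ d : ℕ, (theta π₁ q d).app V (powSec g' (q + d)) = c ^ d • powSec g' q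
  | 0 => by rw [pow_zero, one_smul]; rfl
  | d + 1 => by
    show (theta π₁ q d).app V ((powStep π₁ (q + d)).app V (powSec g' (q + d + 1))) = _
    rw [powStep_val h, Scheme.Modules.Hom.app_smul, theta_val h q d, smul_smul, ← pow_succ']

/-- A local description of a section and of the dual module. -/
structure SecChart {B : X.Modules} (w : Γ(B, ⊤)) (e : CohB1.tensorMod M B ≅ Coh.structureModule X) where
  /-- The open. -/
  W : X.Opens
  /-- The generator of `B`. -/
  g : Γ(B, W)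
  /-- The generator of `M`. -/
  g' : Γ(M, W)
  /-- The coordinate of the section. -/
  c : Γ(X, W)
  hW : IsAffineOpen W
  hg : IsGen B W g
  hg' : IsGen M W g'
  hc : c • g = resM B le_top w
  hpair : (show Γ(X, W) from e.hom.app W (tmul g' g)) = 1

/-- Charts exist. -/
theorem exists_secChart {B : X.Modules} (hB : PicF.IsInvertible B) (hM : PicF.IsInvertible M) (w : Γ(B, ⊤))
    (e : CohB1.tensorMod M B ≅ Coh.structureModule X) (x : X) : ∃ D : SecChart w e, x ∈ D.W := by
  obtain ⟨U, hxU, g, hg⟩ := exists_isGen hB x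
  obtain ⟨U', hxU', g₀, hg₀⟩ := exists_isGen hM x
  obtain ⟨W, hW, hxW, hWU⟩ := exists_isAffineOpen_mem_and_subset (x := x) (U := U ⊓ U') ⟨hxU, hxU'⟩
  have hgW := hg.restrict (show W ≤ U from hWU.trans inf_le_left)
  have hgW' := hg₀.restrict (show W ≤ U' from hWU.trans inf_le_right)
  let a := resM B (show W ≤ U from hWU.trans inf_le_left) g
  let a' := resM M (show W ≤ U' from hWU.trans inf_le_right) g₀
  let v : Γ(X, W) := e.hom.app W (tmul a' a)
  have hv : IsUnit v := by
    have h1 := (isGen_oneSec W).isUnit_coef (isGen_map_iso e (isGen_tmul hgW' hgW))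
    rwa [(isGen_oneSec W).coef_eq le_rfl (r := v) (by rw [resM_self]; exact mul_one v)] at h1
  obtain ⟨v', hv'⟩ := hv
  refine ⟨⟨W, a, ((v'⁻¹ : Γ(X, W)ˣ) : Γ(X, W)) • a', hgW.coef le_rfl (resM B le_top w), hW, hgW,
    hgW'.smul_unit v'⁻¹, ?_, ?_⟩, hxW⟩
  · have := hgW.coef_spec le_rfl (resM B le_top w)
    rwa [resM_self] at this
  · show (show Γ(X, W) from e.hom.app W (tmul (((v'⁻¹ : Γ(X, W)ˣ) : Γ(X, W)) • a') a)) = 1
    rw [tmul_smul_left, Scheme.Modules.Hom.app_smul]
    show ((v'⁻¹ : Γ(X, W)ˣ) : Γ(X, W)) * v = 1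
    rw [← hv', Units.inv_mul]

/-- The form on `M` given by the section. -/
noncomputable def secForm {B : X.Modules} (w : Γ(B, ⊤)) (e : CohB1.tensorMod M B ≅ Coh.structureModule X) :
    M ⟶ Coh.structureModule X :=
  Coherent.Serre.rightMul M w ≫ e.hom

theorem SecChart.secForm_val {B : X.Modules} {w : Γ(B, ⊤)} {e : CohB1.tensorMod M B ≅ Coh.structureModule X}
    (D : SecChart w e) : (secForm w e).app D.W D.g' = D.c := by
  show e.hom.app D.W (tmul D.g' (resM B le_top w)) = _
  rw [← D.hc, tmul_smul_right, Scheme.Modules.Hom.app_smul]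
  show D.c * (show Γ(X, D.W) from e.hom.app D.W (tmul D.g' D.g)) = D.c
  rw [D.hpair, mul_one]

/-- Annihilators of powers stabilise, uniformly on the opens inside an affine. -/
theorem exists_ann_bound [IsLocallyNoetherian X] {W : X.Opens} (hW : IsAffineOpen W) (c : Γ(X, W)) :
    ∃ a : ℕ, ∀ (V : X.Opens) (h : V ≤ W) (t : Γ(X, V)) (p : ℕ),
      t * PicLib.res h (c ^ p) = 0 → t * PicLib.res h (c ^ a) = 0 := by
  haveI : IsNoetherianRing Γ(X, W) := IsLocallyNoetherian.component_noetherian ⟨W, hW⟩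
  let I : ℕ →o Submodule Γ(X, W) Γ(X, W) :=
    ⟨fun p => LinearMap.ker (LinearMap.mulRight Γ(X, W) (c ^ p)), fun p p' hp b hb => by
      rw [LinearMap.mem_ker, LinearMap.mulRight_apply] at hb ⊢
      obtain ⟨d, rfl⟩ := Nat.exists_eq_add_of_le hp
      rw [pow_add, ← mul_assoc, hb, zero_mul]⟩
  obtain ⟨a, ha⟩ := monotone_stabilizes_iff_noetherian.2 (inferInstance : IsNoetherian Γ(X, W) Γ(X, W)) I
  have hall : ∀ (b : Γ(X, W)) (p : ℕ), b * c ^ p = 0 → b * c ^ a = 0 := fun b p hb => by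
    rcases le_total p a with hp | hp
    · obtain ⟨d, hd⟩ := Nat.exists_eq_add_of_le hp
      rw [hd, pow_add, ← mul_assoc, hb, zero_mul]
    · exact LinearMap.mem_ker.1 ((ha p hp).symm.le (LinearMap.mem_ker.2 hb))
  refine ⟨a, fun V h t p ht => ?_⟩
  refine sec_ext (Coh.structureModule X) (U := V) _ _ fun y hy => ?_
  obtain ⟨f, hfV, hyf⟩ := hW.exists_basicOpen_le ⟨y, hy⟩ (h hy)
  refine ⟨X.basicOpen f, hfV, hyf, ?_⟩
  show PicLib.res hfV (t * PicLib.res h (c ^ a)) = PicLib.res hfV 0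
  haveI : Coh.IsQCoh (Coh.structureModule X) := isQCoh_structureModule (X := X)
  obtain ⟨j, b, hb⟩ : ∃ (j : ℕ) (b : Γ(X, W)), PicLib.res (X.basicOpen_le f) b =
      PicLib.res (X.basicOpen_le f) (f ^ j) * PicLib.res hfV t :=
    qcoh_exists_pow_smul hW (Coh.structureModule X) f (PicLib.res hfV t)
  have h0 : PicLib.res (X.basicOpen_le f) (b * c ^ p) = 0 := by
    rw [map_mul, hb, mul_assoc, ← PicLib.res_res h hfV (c ^ p), ← map_mul (PicLib.res hfV), ht, map_zero, mul_zero]
  obtain ⟨l, hl⟩ : ∃ l : ℕ, f ^ l * (b * c ^ p) = 0 :=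
    qcoh_exists_pow_smul_eq_zero hW (Coh.structureModule X) f _ h0
  have h1 := congrArg (PicLib.res (X.basicOpen_le f)) (hall (f ^ l * b) p (by rw [mul_assoc]; exact hl))
  rw [map_mul, map_mul, map_zero, hb, ← PicLib.res_res h hfV (c ^ a), mul_assoc, mul_assoc, ← map_mul (PicLib.res hfV)] at h1
  have hf : ∀ n : ℕ, IsUnit (PicLib.res (X.basicOpen_le f) (f ^ n)) := fun n => by
    rw [map_pow]
    exact (RingedSpace.isUnit_res_basicOpen X.toLocallyRingedSpace.toRingedSpace f).pow n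
  rw [map_zero]
  exact (hf j).mul_right_eq_zero.1 ((hf l).mul_right_eq_zero.1 h1)

end Groth.Agent.Lef23
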