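import Groth.Agent.Lef23.ProZero
import Groth.Agent.Lef23.SectionPowers
import Groth.Agent.Lef23.EmbedSec
import Groth.Agent.Lef23.LefCondition
import Groth.Agent.FlatMor12.IdealModGen
import Groth.Agent.ZeroSchLib.Basic
import Groth.Agent.S3852

/-!
# The powers of the ideal of zeros of a section of an ample module are pro-acyclic in low degrees
-/

set_option autoImplicit false
set_option linter.style.haveILetI false
set_option linter.unusedSectionVars false
set_option backward.isDefEq.respectTransparency.types false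

universe u

open CategoryTheory CategoryTheory.Limits AlgebraicGeometry Opposite TopologicalSpace
open Groth.Agent.Coherent Groth.Agent.PicLib Groth.Agent.AmpleLib Groth.Agent.EulerLib Groth.Agent.SerreDual
open Groth.Agent.Coherent.Serre

namespace Groth.Agent.Lef23

variable {X : Scheme.{u}}

/-- The inclusion of ideal modules. -/
noncomputable def idealIncl {I J : X.IdealSheafData} (h : I ≤ J) : ClSub.idealMod I ⟶ ClSub.idealMod J :=
  kernel.lift _ (ClSub.idealModι I) (by
    rw [← toSubscheme_quotMap h, ← Category.assoc,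
      show ClSub.idealModι I ≫ ClSub.toSubscheme I = 0 from kernel.condition _, zero_comp])

theorem idealIncl_ι {I J : X.IdealSheafData} (h : I ≤ J) :
    idealIncl h ≫ ClSub.idealModι J = ClSub.idealModι I :=
  kernel.lift_ι _ _ _

theorem hm_comp {L M N : X.Modules} (f : L ⟶ M) (g : M ⟶ N) (i : ℕ) (x : Coh.HH X L i) :
    hm (f ≫ g) i x = hm g i (hm f i x) := by
  refine (HHTopEquiv N i).injective ?_
  rw [hm_top, hm_top, hm_top]
  exact postA_comp (RingHom.id _) f g i _

theorem hm_zero {L M : X.Modules} (g : L ⟶ M) (i : ℕ) : hm g i 0 = 0 := map_zero _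

theorem idealIncl_comp {I J K : X.IdealSheafData} (h : I ≤ J) (h' : J ≤ K) :
    idealIncl h ≫ idealIncl h' = idealIncl (h.trans h') := by
  haveI := AmpleLib.mono_idealModι K
  rw [← cancel_mono (ClSub.idealModι K), Category.assoc, idealIncl_ι, idealIncl_ι, idealIncl_ι]

variable [IsLocallyNoetherian X] [CompactSpace X] [X.IsSeparated] {B M : X.Modules}

/-- **From twists to ideals**: if multiplication by a power of `w` kills `H^i` of large negative twists, the
powers of the ideal of its zeros form a pro-zero system in `H^i`. -/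
theorem exists_incl_zero (hB : PicF.IsInvertible B) (hM : PicF.IsInvertible M)
    (e : CohB1.tensorMod M B ≅ Coh.structureModule X) (w : Γ(B, ⊤)) (J : X.IdealSheafData)
    (hJ : J = PicF2.zeroScheme B (unitDesc B w)) (i q m₀ : ℕ)
    (hkill : ∀ m : ℕ, m₀ ≤ m → ∀ x : Coh.HH X (CohB1.tensorPow M (m + q)) i,
      hm (theta (secForm w e) m q) i x = 0) (m : ℕ) :
    ∃ (Q : ℕ) (h : J ^ (Q + 1) ≤ J ^ (m + 1)),
      ∀ x : Coh.HH X (ClSub.idealMod (J ^ (Q + 1))) i, hm (idealIncl h) i x = 0 := by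
  classical
  let π₁ := secForm w e
  choose D hD using exists_secChart hB hM w e
  have hval := fun x => (D x).secForm_val
  obtain ⟨T, hT⟩ := CompactSpace.elim_nhds_subcover (fun x => ((D x).W : Set X))
    (fun x => (D x).W.2.mem_nhds (hD x))
  have hcov : ∀ y : X, ∃ x : {x // x ∈ T}, y ∈ (D x.1).W := fun y => by
    obtain ⟨x, hxT, hy⟩ := Set.mem_iUnion₂.1 (hT.ge (Set.mem_univ y))
    exact ⟨⟨x, hxT⟩, hy⟩
  -- the ideal on charts
  have hideal : ∀ (x : X) (p : ℕ), (J ^ p).ideal ⟨(D x).W, (D x).hW⟩ = Ideal.span {(D x).c ^ p} := by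
    intro x p
    have hco : (D x).hg.coef le_rfl (unitVal (unitDesc B w) (D x).W) = (D x).c :=
      (D x).hg.coef_eq le_rfl (by rw [resM_self, unitVal_unitDesc]; exact (D x).hc)
    rw [Scheme.IdealSheafData.ideal_pow, Pi.pow_apply, hJ,
      ZeroSchLib.zeroScheme_ideal_eq_span (unitDesc B w) hB ⟨(D x).W, (D x).hW⟩ (D x).hg, hco,
      Ideal.span_singleton_pow]
  have hMp := fun p => isInvertible_tensorPow hM p
  have hgen : ∀ (x : X) (p : ℕ), IsGen (CohB1.tensorPow M p) (D x).W (powSec (D x).g' p) :=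
    fun x p => isGen_powSec (D x).hg' p
  -- the maps onto the powers
  have hlift : ∀ p, powMap π₁ p ≫ ClSub.toSubscheme (J ^ p) = 0 := fun p => by
    refine hom_ext_gen (fun y : X => (D y).W) (top_le_iff.1 fun y _ => Opens.mem_iSup.2 ⟨y, hD y⟩)
      (fun y => powSec (D y).g' p) (fun y => hgen y p) _ _ fun y => ?_
    show (J ^ p).subschemeι.app (D y).W (show Γ(X, (D y).W) from (powMap π₁ p).app _ (powSec (D y).g' p)) = 0
    rw [powMap_val (hval y)]
    have : (D y).c ^ p ∈ (J ^ p).ideal ⟨(D y).W, (D y).hW⟩ := by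
      rw [hideal]; exact Ideal.mem_span_singleton_self _
    rwa [← Scheme.IdealSheafData.ker_subschemeι_app] at this
  let πb : ∀ p, CohB1.tensorPow M p ⟶ ClSub.idealMod (J ^ p) := fun p => kernel.lift _ (powMap π₁ p) (hlift p)
  have hπb : ∀ p, πb p ≫ ClSub.idealModι (J ^ p) = powMap π₁ p := fun p => kernel.lift_ι _ _ _
  have hepi : ∀ p, Epi (πb p) := fun p => by
    haveI := MorProj.isQCoh_idealMod (J ^ p)
    haveI := isQCoh_of_isInvertible (hMp p)
    refine Existence.epi_of_cover_surjective (fun y : X => (D y).W) (fun y => (D y).hW) (fun y => ⟨y, hD y⟩)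
      (πb p) fun y z => ?_
    let r : Γ(X, (D y).W) := (ClSub.idealModι (J ^ p)).app (D y).W z
    have hr : r ∈ (J ^ p).ideal ⟨(D y).W, (D y).hW⟩ := by
      rw [← Scheme.IdealSheafData.ker_subschemeι_app]
      show (ClSub.toSubscheme (J ^ p)).app (D y).W r = 0
      exact kernel_ι_app_zero _ _ z
    rw [hideal, Ideal.mem_span_singleton'] at hr
    obtain ⟨t, ht⟩ := hr
    refine ⟨t • powSec (D y).g' p, ?_⟩
    haveI := AmpleLib.mono_idealModι (J ^ p)
    refine app_injective_of_mono (ClSub.idealModι (J ^ p)) _ ?_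
    show (πb p ≫ ClSub.idealModι (J ^ p)).app (D y).W _ = r
    rw [hπb, Scheme.Modules.Hom.app_smul, ← ht]
    exact congrArg (t * ·) (powMap_val (hval y) p)
  -- the bound on the torsion
  choose a₀ ha₀ using fun x : {x // x ∈ T} => exists_ann_bound (D x.1).hW (D x.1).c
  obtain ⟨a', ha'⟩ : ∃ a, ∀ x, a₀ x ≤ a := ⟨Finset.univ.sup a₀, fun x => Finset.le_sup (Finset.mem_univ x)⟩
  let a := a' + 1
  have ha : ∀ x, a₀ x ≤ a := fun x => (ha' x).trans (Nat.le_succ _)
  let m' := max (m + 1) m₀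
  let Q₁ := m' + q + a
  have hker : kernel.ι (πb Q₁) ≫ theta π₁ (m' + q) a = 0 := by
    refine Groth.Agent.VarietyLib.NegTwist.hom_ext_local fun y => ?_
    obtain ⟨x, hy⟩ := hcov y
    refine ⟨(D x.1).W, hy, fun V hV z => ?_⟩
    have hzero : (πb Q₁).app V ((kernel.ι (πb Q₁)).app V z) = 0 := kernel_ι_app_zero _ _ z
    show (theta π₁ (m' + q) a).app V ((kernel.ι (πb Q₁)).app V z) = 0
    generalize (kernel.ι (πb Q₁)).app V z = v at hzero
    obtain ⟨t, ht⟩ := ((hgen x.1 Q₁) V hV).2 v
    dsimp only at ht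
    subst ht
    have h1 : (powMap π₁ Q₁).app V (t • resM _ hV (powSec (D x.1).g' Q₁)) = 0 := by
      rw [← hπb Q₁]
      show (ClSub.idealModι _).app V ((πb Q₁).app V _) = 0
      rw [hzero, map_zero]
    rw [Scheme.Modules.Hom.app_smul, app_resM] at h1
    have h2 : t * PicLib.res hV ((D x.1).c ^ Q₁) = 0 := by
      rw [← powMap_val (hval x.1) Q₁]
      exact h1
    have h3 := ha₀ x V hV t Q₁ h2
    obtain ⟨d, hd⟩ := Nat.exists_eq_add_of_le (ha x)
    have h4 : t * PicLib.res hV ((D x.1).c ^ a) = 0 := by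
      rw [hd, pow_add, map_mul, ← mul_assoc, h3, zero_mul]
    rw [Scheme.Modules.Hom.app_smul, app_resM, theta_val (hval x.1), resM_smul]
    exact (smul_smul _ _ _).trans ((congrArg (· • _) h4).trans (zero_smul _ _))
  haveI := hepi Q₁
  let u := Abelian.epiDesc (πb Q₁) (theta π₁ (m' + q) a) hker
  have hu : πb Q₁ ≫ u = theta π₁ (m' + q) a := Abelian.comp_epiDesc _ _ _
  have h₁ : J ^ Q₁ ≤ J ^ m' := pow_le_pow_right_of_le_one' le_top (by omega)
  have h₂ : J ^ m' ≤ J ^ (m + 1) := pow_le_pow_right_of_le_one' le_top (le_max_left _ _)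
  refine ⟨m' + q + a', h₁.trans h₂, fun x => ?_⟩
  have hincl : idealIncl h₁ = u ≫ theta π₁ m' q ≫ πb m' := by
    haveI := AmpleLib.mono_idealModι (J ^ m')
    rw [← cancel_mono (ClSub.idealModι (J ^ m')), idealIncl_ι, ← cancel_epi (πb Q₁)]
    rw [hπb, Category.assoc, Category.assoc, hπb, ← Category.assoc (πb Q₁), hu,
      ← powMap_add, ← powMap_add]
  show hm (idealIncl (h₁.trans h₂)) i x = 0
  rw [← idealIncl_comp h₁ h₂, hincl]
  show hm ((u ≫ theta π₁ m' q ≫ πb m') ≫ idealIncl h₂) i x = 0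
  rw [hm_comp, hm_comp, hm_comp]
  erw [hkill m' (le_max_right _ _) (hm u i x)]
  rw [hm_zero, hm_zero]

end Groth.Agent.Lef23
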