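import Groth.Agent.Lef23.NegPn
import Groth.Agent.CAlgH.FibrePd
import Groth.Agent.CAlgH.CIScheme
import Groth.Agent.Synt15.KoszulCI
import Groth.Agent.Dual22Lib.ProjSmooth
import Groth.Agent.Coherent.ProjSpaceBase
import Groth.Agent.Props12.Stalks
import Groth.Agent.ModStalk.Pullback
import Groth.Agent.SerreDual.LocFreeCriterion
import Groth.Agent.SerreDual.ExtShGeneric
import Groth.Agent.DimLib.ProjDim
import Groth.Agent.DCat.ClosedPush

/-!
# Projective dimension on `P^n_A` of modules flat over the base with fibres of large depth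
-/

set_option autoImplicit false
set_option linter.style.haveILetI false
set_option backward.isDefEq.respectTransparency.types false

universe u

open CategoryTheory CategoryTheory.Limits AlgebraicGeometry Opposite TopologicalSpace TensorProduct IsLocalRing
open Groth.Agent.Coherent Groth.Agent.SerreDual

namespace Groth.Agent.Lef23

/-- Depth of the base change to a quotient ring. -/
theorem depth_baseChange_of_surjective {O D : Type u} [CommRing O] [CommRing D] [IsLocalRing O] [IsLocalRing D]
    [Algebra O D] (hs : Function.Surjective (algebraMap O D)) (J : Ideal O) (hJ : RingHom.ker (algebraMap O D) = J)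
    (M : Type u) [AddCommGroup M] [Module O M] :
    LocCoh.depth D (D ⊗[O] M) = LocCoh.depth O (M ⧸ (J • (⊤ : Submodule O M))) := by
  subst hJ
  rw [CAlgH3.depth_of_surjective hs]
  let e : (O ⧸ RingHom.ker (algebraMap O D)) ≃ₐ[O] D :=
    Ideal.quotientKerAlgEquivOfSurjective (f := Algebra.ofId O D) hs
  exact CAlgH3.depth_congr ((TensorProduct.congr e.toLinearEquiv.symm (LinearEquiv.refl O M)) ≪≫ₗ
    TensorProduct.quotTensorEquivQuotSMul M (RingHom.ker (algebraMap O D)))

attribute [local instance] Algebra.TensorProduct.rightAlgebra in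
/-- A flat module over a smooth local algebra whose fibre has large depth has small projective dimension. -/
theorem pd_of_fibre_depth {B T : Type u} [CommRing B] [IsLocalRing B] [CommRing T] [IsLocalRing T]
    [IsNoetherianRing T] [Algebra B T] [IsLocalHom (algebraMap B T)] [Module.Flat B T]
    [IsRegularLocalRing (T ⧸ (maximalIdeal B).map (algebraMap B T))]
    (M : Type u) [AddCommGroup M] [Module T M] [Module B M] [IsScalarTower B T M] [Module.Finite T M]
    [Module.Flat B M] {n k : ℕ} (hn : ringKrullDim (T ⧸ (maximalIdeal B).map (algebraMap B T)) ≤ n)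
    (hd : (n : ℕ∞) ≤ LocCoh.depth T (M ⧸ ((maximalIdeal B).map (algebraMap B T)) • (⊤ : Submodule T M)) + k) :
    CAlgH3.PD T (k + 1) M := by
  let κ := B ⧸ maximalIdeal B
  let D := T ⊗[B] κ
  let e : (T ⧸ (maximalIdeal B).map (algebraMap B T)) ≃ₐ[T] D :=
    Algebra.TensorProduct.quotIdealMapEquivTensorQuot T (maximalIdeal B)
  haveI : IsRegularLocalRing D := IsRegularLocalRing.of_ringEquiv e.toRingEquiv
  have hTD : Function.Surjective (algebraMap T D) := fun x => by
    obtain ⟨y, rfl⟩ := e.surjective x
    obtain ⟨t, rfl⟩ := Ideal.Quotient.mk_surjective y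
    exact ⟨t, (e.commutes t).symm⟩
  have hker : RingHom.ker (algebraMap T D) = (maximalIdeal B).map (algebraMap B T) := by
    ext t
    rw [RingHom.mem_ker, ← e.commutes t, map_eq_zero_iff e e.injective]
    exact Ideal.Quotient.eq_zero_iff_mem
  haveI : Algebra.IsPushout B κ T D := Algebra.IsPushout.symm inferInstance
  refine CAlgH.FibrePd.pd_of_fibre (A := B) (k := κ) hTD k M (CAlgH3.pd_of_depth k _ ?_)
  rw [depth_baseChange_of_surjective hTD _ hker]
  refine le_trans ?_ hd
  have h : ((maximalIdeal D).spanFinrank : WithBot ℕ∞) ≤ n := by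
    rw [IsRegularLocalRing.spanFinrank_maximalIdeal, ← ringKrullDim_eq_of_ringEquiv e.toRingEquiv]
    exact hn
  exact_mod_cast h

/-- A finite module whose fibre has depth exceeding the dimension of the fibre is zero. -/
theorem subsingleton_of_fibre_depth {B T : Type u} [CommRing B] [IsLocalRing B] [CommRing T] [IsLocalRing T]
    [IsNoetherianRing T] [Algebra B T] [IsLocalHom (algebraMap B T)]
    (M : Type u) [AddCommGroup M] [Module T M] [Module.Finite T M] {n : ℕ}
    (hn : ringKrullDim (T ⧸ (maximalIdeal B).map (algebraMap B T)) ≤ n)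
    (hd : (n : ℕ∞) < LocCoh.depth T (M ⧸ ((maximalIdeal B).map (algebraMap B T)) • (⊤ : Submodule T M))) :
    Subsingleton M := by
  let I := (maximalIdeal B).map (algebraMap B T)
  have hI : I ≤ maximalIdeal T := IsLocalRing.map_maximalIdeal_le _
  haveI : Nontrivial (T ⧸ I) := Ideal.Quotient.nontrivial_iff.2 fun h =>
    (maximalIdeal.isMaximal T).ne_top (top_le_iff.1 (h ▸ hI))
  haveI : IsLocalRing (T ⧸ I) := .of_surjective' _ Ideal.Quotient.mk_surjective
  by_contra hM
  rw [not_subsingleton_iff_nontrivial] at hM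
  haveI : Nontrivial (M ⧸ I • (⊤ : Submodule T M)) := Submodule.Quotient.nontrivial_iff.2 fun h =>
    not_subsingleton M (subsingleton_of_forall_eq 0 fun m => by
        have hb : (⊤ : Submodule T M) = ⊥ := Submodule.eq_bot_of_le_smul_of_le_jacobson_bot I _
          (Module.finite_def.1 inferInstance) h.ge (hI.trans (maximalIdeal_le_jacobson _))
        exact (Submodule.mem_bot T).1 (hb ▸ Submodule.mem_top))

  have h1 : ((LocCoh.depth T (M ⧸ I • (⊤ : Submodule T M)) : ℕ∞) : WithBot ℕ∞) ≤ ringKrullDim (T ⧸ I) := by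
    refine le_trans CAlgH3.depth_le_supportDim ?_
    rw [Module.supportDim_eq_ringKrullDim_quotient_annihilator]
    exact ringKrullDim_le_of_surjective (Ideal.Quotient.factor (fun t ht => Module.mem_annihilator.2 fun m => by
      obtain ⟨m, rfl⟩ := Submodule.Quotient.mk_surjective _ m
      rw [← Submodule.Quotient.mk_smul, Submodule.Quotient.mk_eq_zero]
      exact Submodule.smul_mem_smul ht Submodule.mem_top)) (Ideal.Quotient.factor_surjective _)
  exact absurd (WithBot.coe_le_coe.1 (h1.trans hn)) (not_le.2 hd)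

variable {X S : Scheme.{u}}

/-- The ideal of the fibre in the local ring. -/
noncomputable abbrev fibIdeal (f : X ⟶ S) (x : X) : Ideal (X.presheaf.stalk x) :=
  (maximalIdeal (S.presheaf.stalk (f.base x))).map (f.stalkMap x).hom

/-- The depth of the fibre of a module, on the total space. -/
theorem depth_fibre_stalk (f : X ⟶ S) (F : X.Modules) (s : S) (z : ↥(f.fiber s)) (x : X)
    (hx : (f.fiberι s).base z = x) :
    LocCoh.depth ((f.fiber s).presheaf.stalk z) ((CohIII.fiberMod f F s).presheaf.stalk z) =
      LocCoh.depth (X.presheaf.stalk x) (F.presheaf.stalk x ⧸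
        (fibIdeal f x • (⊤ : Submodule (X.presheaf.stalk x) (F.presheaf.stalk x)))) := by
  subst hx
  let φ := ((f.fiberι s).stalkMap z).hom
  letI : Algebra (X.presheaf.stalk ((f.fiberι s).base z)) ((f.fiber s).presheaf.stalk z) := φ.toAlgebra
  obtain ⟨hs, hker⟩ := Props12.stalkMap_fiberι f s z
  let e : ((CohIII.fiberMod f F s).presheaf.stalk z) ≃ₗ[(f.fiber s).presheaf.stalk z]
      ((f.fiber s).presheaf.stalk z) ⊗[X.presheaf.stalk ((f.fiberι s).base z)]
        (F.presheaf.stalk ((f.fiberι s).base z)) :=
    ((ModStalk.pullbackStalkIso (f.fiberι s) z).app F).toLinearEquiv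
  rw [CAlgH3.depth_congr e]
  exact depth_baseChange_of_surjective hs _ hker _

/-- Flatness and depth pass to the ambient stalk along a closed immersion. -/
theorem exists_ambient_stalk {P : Scheme.{u}} (ι : X ⟶ P) [IsClosedImmersion ι] (g : P ⟶ S) (F : X.Modules)
    (hflat : FlatMod.IsFlatOver (ι ≫ g) F) (x : X) :
    letI := FlatMod.moduleStalkOver g ((Scheme.Modules.pushforward ι).obj F) (ι.base x)
    Module.Flat (S.presheaf.stalk (g.base (ι.base x)))
        (((Scheme.Modules.pushforward ι).obj F).presheaf.stalk (ι.base x)) ∧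
      LocCoh.depth (X.presheaf.stalk x) (F.presheaf.stalk x ⧸
          (fibIdeal (ι ≫ g) x • (⊤ : Submodule (X.presheaf.stalk x) (F.presheaf.stalk x)))) =
        LocCoh.depth (P.presheaf.stalk (ι.base x)) (((Scheme.Modules.pushforward ι).obj F).presheaf.stalk (ι.base x) ⧸
          (fibIdeal g (ι.base x) • (⊤ : Submodule (P.presheaf.stalk (ι.base x))
            (((Scheme.Modules.pushforward ι).obj F).presheaf.stalk (ι.base x))))) := by
  obtain ⟨e, he⟩ := exists_push_stalk ι F x
  let T := P.presheaf.stalk (ι.base x)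
  let O := X.presheaf.stalk x
  let B := S.presheaf.stalk (g.base (ι.base x))
  let π := (ι.stalkMap x).hom
  letI : Algebra T O := π.toAlgebra
  letI : Module T (F.presheaf.stalk x) := Module.compHom (F.presheaf.stalk x) π
  haveI : IsScalarTower T O (F.presheaf.stalk x) := IsScalarTower.of_algebraMap_smul fun _ _ => rfl
  have hπ : Function.Surjective (algebraMap T O) := ι.stalkMap_surjective x
  let e' : ((Scheme.Modules.pushforward ι).obj F).presheaf.stalk (ι.base x) ≃ₗ[T] F.presheaf.stalk x :=
    { e with map_smul' := he }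
  have hcomp : ((ι ≫ g).stalkMap x).hom = π.comp (g.stalkMap (ι.base x)).hom := by
    rw [Scheme.Hom.stalkMap_comp]
    rfl
  constructor
  · letI := FlatMod.moduleStalkOver g ((Scheme.Modules.pushforward ι).obj F) (ι.base x)
    letI mF : Module B (F.presheaf.stalk x) := FlatMod.moduleStalkOver (ι ≫ g) F x
    have hF : Module.Flat B (F.presheaf.stalk x) := hflat x
    exact Module.Flat.of_linearEquiv
      ({ e'.toAddEquiv with
          map_smul' := fun b m => by
            show e' ((g.stalkMap (ι.base x)).hom b • m) = ((ι ≫ g).stalkMap x).hom b • e' m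
            rw [hcomp, map_smul]
            rfl } : ((Scheme.Modules.pushforward ι).obj F).presheaf.stalk (ι.base x) ≃ₗ[B] F.presheaf.stalk x)
  · have hJ : fibIdeal (ι ≫ g) x = (fibIdeal g (ι.base x)).map (algebraMap T O) := by
      show Ideal.map ((ι ≫ g).stalkMap x).hom _ = _
      rw [hcomp]
      exact (Ideal.map_map _ _).symm
    rw [hJ, CAlgH3.depth_of_surjective hπ]
    let Q : Submodule T (F.presheaf.stalk x) := fibIdeal g (ι.base x) • ⊤
    have h1 : ((fibIdeal g (ι.base x)).map (algebraMap T O) •
        (⊤ : Submodule O (F.presheaf.stalk x))).restrictScalars T = Q := by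
      rw [Ideal.smul_restrictScalars, Submodule.restrictScalars_top]
    have h2 : Submodule.map e'.toLinearMap (fibIdeal g (ι.base x) • ⊤) = Q := by
      rw [Submodule.map_smul'', Submodule.map_top, LinearEquiv.range]
    exact CAlgH3.depth_congr ((Submodule.Quotient.restrictScalarsEquiv T _).symm ≪≫ₗ
      Submodule.quotEquivOfEq _ Q h1 ≪≫ₗ (Submodule.Quotient.equiv _ Q e' h2).symm)

section ProjSpace

variable {R : Type u} [CommRing R] {n : ℕ}

/-- Fibres of `P^n_R` have dimension at most `n`. -/
theorem topologicalKrullDim_fiber_projSpace (s : ↥(Spec (CommRingCat.of R))) :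
    topologicalKrullDim ↥((CohB1.ProjSpace.toSpec n R).fiber s) ≤ n := by
  let K := (Spec (CommRingCat.of R)).residueField s
  let φ : CommRingCat.of R ⟶ CommRingCat.of K := Spec.preimage ((Spec (CommRingCat.of R)).fromSpecResidueField s)
  have hφ : Spec.map φ = (Spec (CommRingCat.of R)).fromSpecResidueField s := Spec.map_preimage _
  letI : Algebra R K := φ.hom.toAlgebra
  have h := isPullback_projSpace n R K
  have h' : IsPullback (Proj.map (polyGradedMap n R K) (polyGradedMap_irrelevant n R K))
      (CohB1.ProjSpace.toSpec n K) (CohB1.ProjSpace.toSpec n R)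
      ((Spec (CommRingCat.of R)).fromSpecResidueField s) := by
    rw [← hφ]
    exact h
  let e := h'.isoIsPullback _ _ (IsPullback.of_hasPullback _ _)
  exact (e.hom.homeomorph.isHomeomorph.topologicalKrullDim_eq.symm.trans
    (DimLib.PN.topologicalKrullDim_projSpace n K)).le

variable [IsNoetherianRing R]

/-- **Projective dimension of the direct image**: a module flat over the base whose fibres have depth at least
`b` at their closed points has projective dimension at most `n - b` on `P^n` at closed points. -/
theorem pd_stalk_push (ι : X ⟶ CohB1.ProjSpace n R) [IsClosedImmersion ι] (F : X.Modules) (hF : Coh.IsCoh F)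
    (hflat : FlatMod.IsFlatOver (ι ≫ CohB1.ProjSpace.toSpec n R) F) (b : ℕ)
    (hdepth : ∀ x : X, IsClosed ({x} : Set X) →
      (b : ℕ∞) ≤ LocCoh.depth (X.presheaf.stalk x) (F.presheaf.stalk x ⧸
        (fibIdeal (ι ≫ CohB1.ProjSpace.toSpec n R) x • (⊤ : Submodule (X.presheaf.stalk x) (F.presheaf.stalk x)))))
    (y : CohB1.ProjSpace n R) (hy : IsClosed ({y} : Set (CohB1.ProjSpace n R))) :
    (n < b → CAlgH3.PD ((CohB1.ProjSpace n R).presheaf.stalk y) 0
      (((Scheme.Modules.pushforward ι).obj F).presheaf.stalk y)) ∧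
    CAlgH3.PD ((CohB1.ProjSpace n R).presheaf.stalk y) (n - b + 1)
      (((Scheme.Modules.pushforward ι).obj F).presheaf.stalk y) := by
  let g := CohB1.ProjSpace.toSpec n R
  let G := (Scheme.Modules.pushforward ι).obj F
  by_cases hyr : y ∈ Set.range ι.base
  swap
  · haveI : Subsingleton (G.presheaf.stalk y) := DCat.ClosedPush.subsingleton_stalk_push ι F y hyr
    exact ⟨fun _ => CAlgH3.pd_zero_iff.2 inferInstance,
      CAlgH3.pd_mono (Nat.zero_le _) (CAlgH3.pd_zero_iff.2 inferInstance)⟩
  obtain ⟨x, rfl⟩ := hyr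
  have hx : IsClosed ({x} : Set X) := by
    have h := hy.preimage ι.continuous
    rwa [← Set.image_singleton, Set.preimage_image_eq _ ι.isClosedEmbedding.injective] at h
  obtain ⟨hfl, hdep⟩ := exists_ambient_stalk ι g F hflat x
  haveI : Smooth g := Dual22Lib.ProjSmooth.smooth_toSpec n R
  haveI : IsProper g := isProper_projSpace_toSpec n R
  haveI := isLocallyNoetherian_projSpace (n := n) (R := R)
  let B := (Spec (CommRingCat.of R)).presheaf.stalk (g.base (ι.base x))
  let T := (CohB1.ProjSpace n R).presheaf.stalk (ι.base x)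
  letI : Algebra B T := (g.stalkMap (ι.base x)).hom.toAlgebra
  haveI : IsLocalHom (algebraMap B T) := inferInstanceAs (IsLocalHom (g.stalkMap (ι.base x)).hom)
  haveI : Module.Flat B T := Flat.stalkMap g (ι.base x)
  letI : Module B (G.presheaf.stalk (ι.base x)) := FlatMod.moduleStalkOver g G (ι.base x)
  haveI : IsScalarTower B T (G.presheaf.stalk (ι.base x)) := IsScalarTower.of_algebraMap_smul fun _ _ => rfl
  haveI : Module.Flat B (G.presheaf.stalk (ι.base x)) := hfl
  obtain ⟨eD⟩ := CAlgH.CIScheme.fiberStalk_equiv g (ι.base x)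
  haveI := Synt15.isRegularLocalRing_fiberStalk_of_smooth g (ι.base x)
  haveI : IsRegularLocalRing (T ⧸ (maximalIdeal B).map (algebraMap B T)) :=
    IsRegularLocalRing.of_ringEquiv eD.symm
  have hG : Coh.IsCoh ((Coh.push ι).obj F) := isCoh_push_finite ι hF
  haveI : Coh.IsQCoh G := hG.1
  haveI : Module.Finite T (G.presheaf.stalk (ι.base x)) := Props12.finite_stalk_of_isFT G hG.2 _
  have h := hdepth x hx
  rw [hdep] at h
  have hdim : ringKrullDim (T ⧸ (maximalIdeal B).map (algebraMap B T)) ≤ n := by
    refine le_of_eq_of_le (ringKrullDim_eq_of_ringEquiv eD) ?_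
    rw [ringKrullDim_stalk_eq_coheight]
    refine (Order.coheight_le_krullDim _).trans ?_
    rw [← DimLib.topologicalKrullDim_eq_krullDim]
    exact topologicalKrullDim_fiber_projSpace _
  refine ⟨fun hnb => CAlgH3.pd_zero_iff.2 (subsingleton_of_fibre_depth (B := B) (T := T)
      (G.presheaf.stalk (ι.base x)) hdim (lt_of_lt_of_le (by exact_mod_cast hnb) h)),
    pd_of_fibre_depth (B := B) (T := T) (G.presheaf.stalk (ι.base x)) hdim ?_⟩
  · refine le_trans ?_ (add_le_add h le_rfl)
    norm_cast
    omega

end ProjSpace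

end Groth.Agent.Lef23
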