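import Groth.Agent.Lef23.ProZeroX
import Groth.Agent.CAlgH.RegImmStalk
import Groth.Agent.CAlgH.PicPunctHyp
import Groth.Agent.CycLib28.PB.ChernLine
import Groth.Agent.VarietyLib.Dual
import Groth.Agent.S8914

/-!
# Zero schemes of regular sections
-/

set_option autoImplicit false
set_option linter.style.haveILetI false
set_option backward.isDefEq.respectTransparency.types false

universe u

open CategoryTheory CategoryTheory.Limits AlgebraicGeometry Opposite TopologicalSpace IsLocalRing
open Groth.Agent.Coherent Groth.Agent.PicLib Groth.Agent.AmpleLib Groth.Agent.EulerLib Groth.Agent.SerreDual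

namespace Groth.Agent.Lef23

variable {X : Scheme.{u}} {L : X.Modules}

/-- Local equations of the zero scheme of a regular section are nonzerodivisors. -/
theorem exists_regular_chart (hL : PicF.IsInvertible L) (s : Coh.structureModule X ⟶ L) [Mono s] (x : X) :
    ∃ (V : X.affineOpens) (c : Γ(X, V.1)), x ∈ V.1 ∧ c ∈ nonZeroDivisors Γ(X, V.1) ∧
      (PicF2.zeroScheme L s).ideal V = Ideal.span {c} := by
  obtain ⟨W, hx, g, hg⟩ := exists_isGen hL x
  obtain ⟨V, hV, hxV, hVW⟩ := exists_isAffineOpen_mem_and_subset (x := x) (U := W) hx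
  have he := hg.restrict (show V ≤ W from hVW)
  refine ⟨⟨V, hV⟩, he.coef le_rfl (unitVal s V), hxV, ?_, ZeroSchLib.zeroScheme_ideal_eq_span s hL ⟨V, hV⟩ he⟩
  have hc := he.coef_spec le_rfl (unitVal s V)
  rw [resM_self] at hc
  have key : ∀ r : Γ(X, V), r * he.coef le_rfl (unitVal s V) = 0 → r = 0 := fun r hr => by
    refine app_injective_of_mono s V ?_
    have h1 := app_unit s r
    refine Eq.trans ?_ (map_zero (ConcreteCategory.hom (s.app V))).symm
    refine h1.trans ?_
    rw [← hc, smul_smul, hr, zero_smul]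
  exact mem_nonZeroDivisors_iff.2 ⟨fun r hr => key r (by rwa [mul_comm]), key⟩

theorem isEffCartierIdeal_zeroScheme (hL : PicF.IsInvertible L) (s : Coh.structureModule X ⟶ L) [Mono s] :
    BlowUp.IsEffCartierIdeal (PicF2.zeroScheme L s) := fun x => by
  obtain ⟨V, c, hx, hc, hi⟩ := exists_regular_chart hL s x
  exact ⟨V, hx, c, hc, hi⟩

/-- The ideal of the zero scheme of a regular section of `L` is inverse to `L`. -/
theorem isInverseOf_zeroScheme (hL : PicF.IsInvertible L) (s : Coh.structureModule X ⟶ L) [Mono s] :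
    ClSub.IsInverseOf L (ClSub.idealMod (PicF2.zeroScheme L s)) := by
  obtain ⟨M, ⟨eLM⟩⟩ := VarietyLib.exists_isInverseOf hL
  have hM : PicF.IsInvertible M := isInvertible_inverse hL ⟨eLM⟩
  let e : CohB1.tensorMod M L ≅ Coh.structureModule X := AmpleLib.tensorComm _ _ ≪≫ eLM
  let w : Γ(L, ⊤) := unitVal s ⊤
  let J := PicF2.zeroScheme L s
  choose D hD using exists_secChart hL hM w e
  have hideal : ∀ x : X, J.ideal ⟨(D x).W, (D x).hW⟩ = Ideal.span {(D x).c} := fun x => by
    have hco : (D x).hg.coef le_rfl (unitVal s (D x).W) = (D x).c :=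
      (D x).hg.coef_eq le_rfl (by rw [resM_self, ← resM_unitVal s le_top]; exact (D x).hc)
    rw [ZeroSchLib.zeroScheme_ideal_eq_span s hL ⟨(D x).W, (D x).hW⟩ (D x).hg, hco]
  have hlift : secForm w e ≫ ClSub.toSubscheme J = 0 := by
    refine hom_ext_gen (fun y : X => (D y).W) (top_le_iff.1 fun y _ => Opens.mem_iSup.2 ⟨y, hD y⟩)
      (fun y => (D y).g') (fun y => (D y).hg') _ _ fun y => ?_
    show J.subschemeι.app (D y).W (show Γ(X, (D y).W) from (secForm w e).app _ (D y).g') = 0
    rw [(D y).secForm_val]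
    have : (D y).c ∈ J.ideal ⟨(D y).W, (D y).hW⟩ := by
      rw [hideal]; exact Ideal.mem_span_singleton_self _
    rwa [← Scheme.IdealSheafData.ker_subschemeι_app] at this
  let π : M ⟶ ClSub.idealMod J := kernel.lift _ (secForm w e) hlift
  have hπ : π ≫ ClSub.idealModι J = secForm w e := kernel.lift_ι _ _ _
  haveI : Epi π := by
    haveI := MorProj.isQCoh_idealMod J
    haveI := isQCoh_of_isInvertible hM
    refine Existence.epi_of_cover_surjective (fun y : X => (D y).W) (fun y => (D y).hW) (fun y => ⟨y, hD y⟩)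
      π fun y z => ?_
    let r : Γ(X, (D y).W) := (ClSub.idealModι J).app (D y).W z
    have hr : r ∈ J.ideal ⟨(D y).W, (D y).hW⟩ := by
      rw [← Scheme.IdealSheafData.ker_subschemeι_app]
      show (ClSub.toSubscheme J).app (D y).W r = 0
      exact kernel_ι_app_zero _ _ z
    rw [hideal, Ideal.mem_span_singleton'] at hr
    obtain ⟨t, ht⟩ := hr
    refine ⟨t • (D y).g', ?_⟩
    haveI := AmpleLib.mono_idealModι J
    refine app_injective_of_mono (ClSub.idealModι J) _ ?_
    show (π ≫ ClSub.idealModι J).app (D y).W _ = r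
    rw [hπ, Scheme.Modules.Hom.app_smul, ← ht]
    exact congrArg (t * ·) (D y).secForm_val
  haveI : IsIso π := CycLib28.PB.isIso_of_epi_invertible hM
    ((Groth.Agent.S8914.result J).2 (isEffCartierIdeal_zeroScheme hL s)) π
  exact ⟨AmpleLib.tensorIso (Iso.refl L) (asIso π).symm ≪≫ eLM⟩

/-- Depth drops by one on the zero scheme of a regular section. -/
theorem depth_zeroScheme_add_one [IsLocallyNoetherian X] (hL : PicF.IsInvertible L)
    (s : Coh.structureModule X ⟶ L) [Mono s] (y : ↥(PicF2.zeroScheme L s).subscheme) :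
    LocCoh.depth ((PicF2.zeroScheme L s).subscheme.presheaf.stalk y) ((PicF2.zeroScheme L s).subscheme.presheaf.stalk y) + 1 =
      LocCoh.depth (X.presheaf.stalk ((PicF2.zeroScheme L s).subschemeι y))
        (X.presheaf.stalk ((PicF2.zeroScheme L s).subschemeι y)) := by
  let J := PicF2.zeroScheme L s
  let ι := J.subschemeι
  obtain ⟨V, c, hy, hc, hi⟩ := exists_regular_chart hL s (ι y)
  let O := X.presheaf.stalk (ι y)
  let t : O := X.presheaf.germ V.1 (ι y) hy c
  have hreg : IsSMulRegular O t := by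
    letI := X.presheaf.algebra_section_stalk ⟨ι y, hy⟩
    haveI := V.2.isLocalization_stalk ⟨ι y, hy⟩
    haveI : Module.Flat Γ(X, V.1) O := IsLocalization.flat O (V.2.primeIdealOf ⟨ι y, hy⟩).asIdeal.primeCompl
    have h0 : IsSMulRegular Γ(X, V.1) c := isSMulRegular_iff_right_eq_zero_of_smul.2 fun r hr => (mem_nonZeroDivisors_iff.1 hc).1 r hr
    exact h0.of_flat (S := O)
  have hker : RingHom.ker (ι.stalkMap y).hom = Ideal.span {t} := by
    rw [CAlgH.RegImmStalk.ker_stalkMap_eq ι y V.2 hy, Scheme.IdealSheafData.ker_subschemeι_app, hi,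
      Ideal.map_span, Set.image_singleton]
  have ht : t ∈ maximalIdeal O := by
    by_contra h
    have : Ideal.span {t} = ⊤ := Ideal.span_singleton_eq_top.2 (by simpa using h)
    exact (RingHom.ker_ne_top _) (hker.trans this)
  let e : O ⧸ Ideal.span {t} ≃+* J.subscheme.presheaf.stalk y :=
    (Ideal.quotEquivOfEq hker.symm).trans (RingHom.quotientKerEquivOfSurjective (ι.stalkMap_surjective y))
  haveI : IsLocalRing (O ⧸ Ideal.span {t}) := e.symm.isLocalRing
  rw [← CAlgH3.depth_ringEquiv e]
  exact CAlgH.PicPunct.depth_quotient_span_add_one ht hreg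

end Groth.Agent.Lef23
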