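import Groth.Agent.SerreDual.VanishingDepth
import Groth.Agent.SerreDual.ExtShStalk
import Groth.Agent.Coherent.CohBC.HomUnit
import Groth.Agent.CycLib28.PB.Ops.DualSeq
import Groth.Agent.Lef23.LongExact

/-!
# Large negative twists on projective space over a Noetherian ring

A coherent module on `P^n_A` whose stalks at closed points have projective dimension `< c` has no cohomology
of degree `j` in large negative twists, for `j + c ≤ n`.
-/

set_option autoImplicit false
set_option linter.style.haveILetI false
set_option backward.isDefEq.respectTransparency.types false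

universe u

open CategoryTheory CategoryTheory.Limits AlgebraicGeometry Opposite TopologicalSpace
open Groth.Agent.Coherent Groth.Agent.PicLib Groth.Agent.AmpleLib Groth.Agent.SerreDual
open Groth.Agent.Coherent.CohBC

namespace Groth.Agent.Lef23

attribute [local instance] hasFiniteBiproducts

variable {X : Scheme.{u}}

/-- Cohomological vanishing transports along isomorphisms. -/
theorem subsingleton_HH_iso {M N : X.Modules} (e : M ≅ N) (q : ℕ)
    (h : Subsingleton (Coh.HH X M q)) : Subsingleton (Coh.HH X N q) :=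
  (((Sheaf.functorH (Opens.grothendieckTopology X) q).mapIso
    ((SheafOfModules.toSheaf.{u} X.ringCatSheaf).mapIso e)).addCommGroupIsoToAddEquiv.toEquiv.subsingleton_congr).mp h

/-- Cohomology vanishes on a summand of a finite family of acyclic modules. -/
theorem subsingleton_HH_of_total {r : ℕ} {M : X.Modules} (G : Fin r → X.Modules) (p : ∀ i, M ⟶ G i)
    (s : ∀ i, G i ⟶ M) (htot : ∑ i, p i ≫ s i = 𝟙 M) (q : ℕ) (h : ∀ i, Subsingleton (Coh.HH X (G i) q)) :
    Subsingleton (Coh.HH X M q) := by
  refine subsingleton_of_forall_eq 0 fun x => ?_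
  let Φ : (M ⟶ M) →+ Coh.HH X M q := AddMonoidHom.mk'
    (fun f => Sheaf.H.map ((toAbFunctor X).map f) q x) fun f f' => by
      rw [Functor.map_add, Sheaf.H.map_add_apply]
  have h1 : Φ (𝟙 _) = x := by
    show Sheaf.H.map _ q x = x
    rw [CategoryTheory.Functor.map_id, Sheaf.H.map_id_apply]
  rw [← h1, ← htot, map_sum]
  refine Finset.sum_eq_zero fun i _ => ?_
  show Sheaf.H.map _ q x = 0
  rw [Functor.map_comp, Sheaf.H.map_comp_apply]
  haveI := h i
  rw [Subsingleton.elim (Sheaf.H.map ((toAbFunctor X).map (p i)) q x) 0, map_zero]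

/-- The dual of an invertible module is its inverse. -/
theorem nonempty_dual_invertible {A B : X.Modules} (hA : PicF.IsInvertible A) (hB : PicF.IsInvertible B)
    (e : CohB1.tensorMod A B ≅ Coh.structureModule X) :
    Nonempty (internalHom A (Coh.structureModule X) ≅ B) := by
  haveI := isIso_dualBilin A (isFinLocFree_of_invertible hA) A
  haveI := isIso_scalar hA
  exact nonempty_iso_of_inverse hA hB
    (tensorComm _ _ ≪≫ asIso (dualBilin A A).desc ≪≫ (asIso (curry (scalarBilin A))).symm) e

/-- The dual of an epimorphism between finite locally free modules. -/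
theorem shortExact_dual' {A B C : X.Modules} {f : A ⟶ B} {g : B ⟶ C} {hfg : f ≫ g = 0}
    (hS : (ShortComplex.mk f g hfg).ShortExact) [Coh.IsQCoh A] (hC : FlatMod.IsFinLocFree C) :
    (ShortComplex.mk (precompApp g (Coh.structureModule X)) (precompApp f (Coh.structureModule X))
      (by rw [← precompApp_comp, hfg, precompApp_zero])).ShortExact := by
  classical
  let S := ShortComplex.mk f g hfg
  haveI : Epi g := hS.epi_g
  haveI hm : Mono (precompApp g (Coh.structureModule X)) := mono_precompApp g _
  let I := Coh.structureModule X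
  refine { exact := ?_, mono_f := hm, epi_g := ?_ }
  · refine ShortComplex.exact_of_f_is_kernel _ (KernelFork.IsLimit.ofι' _ _ fun {T} φ hφ => ?_)
    let β : CohB1.tensorMod T S.X₂ ⟶ I := (bilinSwap (uncurry φ)).desc
    have hβ : (tensE T).map S.f ≫ β = 0 := AmpleLib.hom_ext fun U t x => by
      show β.app U ((tE T S.f).app U (tmul t x)) = (0 : CohB1.tensorMod T S.X₁ ⟶ I).app U (tmul t x)
      rw [tensE_map_tmul, Bilin.desc_tmul]
      exact congrArg (fun ψ : T ⟶ internalHom S.X₁ I => ev (secHom (ψ.app U t)) U le_rfl x) hφ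
    have hex := (CokernelCofork.mapIsColimit _ hS.gIsCokernel (tensE T))
    let γ : CohB1.tensorMod T S.X₃ ⟶ I := (CokernelCofork.IsColimit.desc' hex β hβ).1
    have hγ : (tensE T).map S.g ≫ γ = β := (CokernelCofork.IsColimit.desc' hex β hβ).2
    refine ⟨curry (bilinSwap (bilinOfHom γ)), Scheme.Modules.hom_ext _ _ fun U =>
      ConcreteCategory.hom_ext _ _ fun t => ?_⟩
    refine locHom_ext (φ := secHom _) (ψ := secHom (φ.app U t)) fun W hW x => ?_
    show γ.app W (tmul (resM T hW t) (S.g.app W x)) = _
    rw [← tensE_map_tmul]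
    refine (congrArg (fun ψ : CohB1.tensorMod T S.X₂ ⟶ I => ψ.app W (tmul (resM T hW t) x)) hγ).trans ?_
    show β.app W (tmul (resM T hW t) x) = _
    rw [Bilin.desc_tmul]
    show ev (secHom (φ.app W (resM T hW t))) W le_rfl x = _
    rw [app_resM]
    rfl
  · haveI : Coh.IsQCoh S.X₁ := ‹Coh.IsQCoh A›
    refine epi_of_locally_surjective _ fun U ψ y hy => ?_
    obtain ⟨V, n, e, hyV, hb⟩ := exists_isBasisOn hC y
    obtain ⟨W, hW, hyW, hWle⟩ := TopologicalSpace.Opens.isBasis_iff_nbhd.1 X.isBasis_affineOpens
      (show y ∈ U ⊓ V from ⟨hy, hyV⟩)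
    have hWU : W ≤ U := hWle.trans inf_le_left
    have hbW := CAlgH3.LocFreeFactor.IsBasisOn.mono hb (hWle.trans inf_le_right)
    choose e' he' using fun i => sections_surjective (S := S) hS hW (resM C (hWle.trans inf_le_right) (e i))
    let red : ∀ W' : X.Opens, W' ≤ W → Γ(B, W') → Γ(B, W') := fun W' h x =>
      x - ∑ i, hbW.coef h (g.app W' x) i • resM B h (e' i)
    have hker : ∀ (W' : X.Opens) (h : W' ≤ W) x, g.app W' (red W' h x) = 0 := by
      intro W' h x
      rw [map_sub, map_sum, sub_eq_zero]
      refine (hbW.coef_spec h (g.app W' x)).symm.trans (Finset.sum_congr rfl fun i _ => ?_)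
      rw [Scheme.Modules.Hom.app_smul, app_resM]
      exact congrArg _ (congrArg _ (he' i).symm)
    choose t ht using fun (W' : X.Opens) (h : W' ≤ W) x =>
      sections_exact (S := S) hS (red W' h x) (hker W' h x)
    have hinj : ∀ W' : X.Opens, Function.Injective (f.app W') := fun W' => sections_injective (S := S) hS W'
    have htadd : ∀ (W' : X.Opens) (h : W' ≤ W) x x', t W' h (x + x') = t W' h x + t W' h x' := fun W' h x x' =>
      hinj W' (by
        rw [map_add]
        show S.f.app W' _ = S.f.app W' _ + S.f.app W' _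
        rw [ht, ht, ht]
        simp only [red, map_add, hbW.coef_add, Pi.add_apply, add_smul, Finset.sum_add_distrib]
        abel)
    have htsmul : ∀ (W' : X.Opens) (h : W' ≤ W) (r : Γ(X, W')) x, t W' h (r • x) = r • t W' h x :=
      fun W' h r x => hinj W' (by
        rw [Scheme.Modules.Hom.app_smul]
        show S.f.app W' _ = r • S.f.app W' _
        rw [ht, ht]
        simp only [red, Scheme.Modules.Hom.app_smul, hbW.coef_smul, mul_smul, smul_sub, Finset.smul_sum])
    have htres : ∀ (W' W'' : X.Opens) (h : W' ≤ W) (h' : W'' ≤ W') x,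
        resM A h' (t W' h x) = t W'' (h'.trans h) (resM B h' x) := fun W' W'' h h' x => hinj W'' (by
        rw [app_resM]
        show resM B h' (S.f.app W' _) = S.f.app W'' _
        rw [ht, ht]
        simp only [red, map_sub, map_sum, app_resM, hbW.coef_res h h', resM_smul, resM_resM])
    refine ⟨W, hWU, hyW, (show locHom S.X₂ I W from
      ⟨fun W' h => AddMonoidHom.mk' (fun x => ev (secHom ψ) W' (h.trans hWU) (t W' h x)) (fun x x' => by
          rw [htadd]; exact map_add ((secHom ψ).1 W' _) _ _),
        fun W' h r x => by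
          show ev _ W' _ (t W' h (r • x)) = r • ev _ W' _ (t W' h x)
          rw [htsmul, ev_smul_arg],
        fun W' W'' h h' x => by
          show resM I h' (ev _ W' _ (t W' h x)) = ev _ W'' _ (t W'' _ (resM B h' x))
          rw [ev_res, htres]⟩), ?_⟩
    refine locHom_ext (φ := secHom _) (ψ := secHom _) fun W' h x => ?_
    refine Eq.trans ?_ (resM_internalHom hWU ψ W' h x).symm
    show ev (secHom ψ) W' _ (t W' h (f.app W' x)) = _
    congr 1
    refine hinj W' ?_
    show S.f.app W' _ = _
    rw [ht]
    have h0 : g.app W' (f.app W' x) = 0 := sections_zero (S := S) W' x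
    have hc0 : hbW.coef h (0 : Γ(C, W')) = 0 := hbW.coef_eq _ (by simp)
    simp only [red, h0, hc0, Pi.zero_apply, zero_smul, Finset.sum_const_zero, sub_zero]

section ProjSpace

variable {R : Type u} [CommRing R] {n : ℕ}

/-- The degree one forms generate the irrelevant ideal. -/
theorem hcov (x : ProjectiveSpectrum (CohB1.polyGrading n R)) :
    ∃ f ∈ CohB1.polyGrading n R 1, f ∉ x.asHomogeneousIdeal.toIdeal := by
  obtain ⟨i, hi⟩ := Opens.mem_iSup.1 ((ProjLib.iSup_basicOpen_X n R).ge (Set.mem_univ x))
  exact ⟨_, ProjLib.X_mem_polyGrading n R i, hi⟩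

theorem isInvertible_O (d : ℤ) : PicF.IsInvertible (Twist.twistProjSpace n R d) :=
  TwistLib.isInvertible_twist hcov d

theorem nonempty_O_add {a b c : ℤ} (h : a + b = c) :
    Nonempty (CohB1.tensorMod (Twist.twistProjSpace n R a) (Twist.twistProjSpace n R b) ≅
      Twist.twistProjSpace n R c) :=
  TwistLib.nonempty_tensor_twist_iso hcov h

theorem nonempty_O_inv (a : ℤ) :
    Nonempty (CohB1.tensorMod (Twist.twistProjSpace n R a) (Twist.twistProjSpace n R (-a)) ≅
      Coh.structureModule (CohB1.ProjSpace n R)) := by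
  obtain ⟨e⟩ := nonempty_O_add (n := n) (R := R) (add_neg_cancel a)
  obtain ⟨z⟩ := TwistLib.nonempty_twist_zero_iso (𝒜 := CohB1.polyGrading n R)
  exact ⟨e ≪≫ z⟩

instance isEquivalence_twistO (a : ℤ) : (twistF (Twist.twistProjSpace n R a)).IsEquivalence := by
  obtain ⟨e⟩ := nonempty_O_inv (n := n) (R := R) a
  exact isEquivalence_twistF (isInvertible_O (-a)) (isInvertible_O a) (tensorComm _ _ ≪≫ e)

/-- `G(-m)`. -/
noncomputable abbrev neg (G : (CohB1.ProjSpace n R).Modules) (m : ℕ) : (CohB1.ProjSpace n R).Modules :=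
  (twistF (Twist.twistProjSpace n R (-(m : ℤ)))).obj G

/-- Vanishing below degree `a` of large negative twists. -/
def NegVan (G : (CohB1.ProjSpace n R).Modules) (a : ℕ) : Prop :=
  ∃ m₀ : ℕ, ∀ m : ℕ, m₀ ≤ m → ∀ j : ℕ, j < a → Subsingleton (Coh.HH (CohB1.ProjSpace n R) (neg G m) j)

theorem NegVan.mono {G : (CohB1.ProjSpace n R).Modules} {a b : ℕ} (h : NegVan G a) (hab : b ≤ a) : NegVan G b :=
  let ⟨m₀, hm⟩ := h; ⟨m₀, fun m hm' j hj => hm m hm' j (lt_of_lt_of_le hj hab)⟩

theorem negVan_twist (b : ℤ) : NegVan (Twist.twistProjSpace n R b) n := by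
  refine ⟨b.toNat + 1, fun m hm j hj => ?_⟩
  obtain ⟨c⟩ := nonempty_O_add (n := n) (R := R) (rfl : b + -(m : ℤ) = b + -(m : ℤ))
  exact subsingleton_HH_iso c.symm j
    (subsingleton_HH_twist j (fun h => by omega) fun h => by omega)

theorem negVan_of_iso {G G' : (CohB1.ProjSpace n R).Modules} (e : G ≅ G') {a : ℕ} (h : NegVan G a) :
    NegVan G' a :=
  let ⟨m₀, hm⟩ := h
  ⟨m₀, fun m hm' j hj => subsingleton_HH_iso ((twistF _).mapIso e) j (hm m hm' j hj)⟩

theorem negVan_of_total {r : ℕ} {M : (CohB1.ProjSpace n R).Modules} (G : Fin r → (CohB1.ProjSpace n R).Modules)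
    (p : ∀ i, M ⟶ G i) (s : ∀ i, G i ⟶ M) (htot : ∑ i, p i ≫ s i = 𝟙 M) {a : ℕ}
    (h : ∀ i, NegVan (G i) a) : NegVan M a := by
  choose m₀ hm using h
  refine ⟨Finset.univ.sup m₀, fun m hm' j hj => ?_⟩
  let T := twistF (Twist.twistProjSpace n R (-(m : ℤ)))
  refine subsingleton_HH_of_total (fun i => T.obj (G i)) (fun i => T.map (p i)) (fun i => T.map (s i)) ?_ j
    fun i => hm i m (le_trans (Finset.le_sup (Finset.mem_univ i)) hm') j hj
  rw [← CategoryTheory.Functor.map_id, ← htot, Functor.map_sum]
  simp only [Functor.map_comp]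

theorem negVan_zero (G : (CohB1.ProjSpace n R).Modules) : NegVan G 0 :=
  ⟨0, fun _ _ _ hj => absurd hj (Nat.not_lt_zero _)⟩

/-- The first term of a short exact sequence. -/
theorem negVan_left {S : ShortComplex (CohB1.ProjSpace n R).Modules} (hS : S.ShortExact) {a : ℕ}
    (h₂ : NegVan S.X₂ (a + 1)) (h₃ : NegVan S.X₃ a) : NegVan S.X₁ (a + 1) := by
  obtain ⟨m₂, hm₂⟩ := h₂
  obtain ⟨m₃, hm₃⟩ := h₃
  refine ⟨max m₂ m₃, fun m hm j hj => ?_⟩
  have hS' := hS.map_of_exact (twistF (Twist.twistProjSpace n R (-(m : ℤ))))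
  rcases j with _ | j
  · exact subsingleton_left_zero hS' (hm₂ m (le_trans (le_max_left _ _) hm) 0 hj)
  · exact subsingleton_left_succ hS' j (hm₃ m (le_trans (le_max_right _ _) hm) j (by omega))
      (hm₂ m (le_trans (le_max_left _ _) hm) (j + 1) hj)

/-- The last term of a short exact sequence. -/
theorem negVan_right {S : ShortComplex (CohB1.ProjSpace n R).Modules} (hS : S.ShortExact) {a : ℕ}
    (h₂ : NegVan S.X₂ a) (h₁ : NegVan S.X₁ (a + 1)) : NegVan S.X₃ a := by
  obtain ⟨m₂, hm₂⟩ := h₂
  obtain ⟨m₁, hm₁⟩ := h₁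
  refine ⟨max m₂ m₁, fun m hm j hj => ?_⟩
  have hS' := hS.map_of_exact (twistF (Twist.twistProjSpace n R (-(m : ℤ))))
  exact subsingleton_right hS' j (hm₂ m (le_trans (le_max_left _ _) hm) j hj)
    (hm₁ m (le_trans (le_max_right _ _) hm) (j + 1) (by omega))

variable [IsNoetherianRing R]

theorem isLocallyNoetherian_projSpace : IsLocallyNoetherian (CohB1.ProjSpace n R) := by
  haveI := isProper_projSpace_toSpec n R
  exact LocallyOfFiniteType.isLocallyNoetherian (CohB1.ProjSpace.toSpec n R)

theorem compactSpace_projSpace : CompactSpace (CohB1.ProjSpace n R) := by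
  haveI := isProper_projSpace_toSpec n R
  exact QuasiCompact.compactSpace_of_compactSpace (CohB1.ProjSpace.toSpec n R)

/-- A presentation by a sum of twists, with projective middle stalks. -/
theorem exists_presentation (G : (CohB1.ProjSpace n R).Modules) (hG : Coh.IsCoh G) :
    ∃ (r : ℕ) (a : ℤ) (p : (⨁ fun _ : Fin r => Twist.twistProjSpace n R a) ⟶ G), Epi p ∧
      Coh.IsCoh (kernel p) ∧
      ∀ x : CohB1.ProjSpace n R, CategoryTheory.Projective
        ((DerSch.stalkFunctor (CohB1.ProjSpace n R) x).obj (⨁ fun _ : Fin r => Twist.twistProjSpace n R a)) := by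
  haveI := isLocallyNoetherian_projSpace (n := n) (R := R)
  haveI := hG.1
  obtain ⟨N₀, hN₀⟩ := (projPowCover n R).exists_epi hG
  let a : ℤ := -((N₀ : ℕ) : ℤ)
  haveI := isQCoh_twistProjSpace (n := n) (R := R) a
  obtain ⟨r, p, hp⟩ := hN₀ N₀ le_rfl _ (twistGens n R N₀)
  have hEc : Coh.IsCoh (⨁ fun _ : Fin r => Twist.twistProjSpace n R a) :=
    isCoh_biproduct _ fun _ => isCoh_of_gens (twistGens n R N₀)
  refine ⟨r, a, p, hp, isCoh_kernel p hEc hG.1, fun x => ?_⟩
  let F := DerSch.stalkFunctor (CohB1.ProjSpace n R) x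
  haveI : ∀ j : Fin r, CategoryTheory.Projective
      ((F.obj ∘ fun _ : Fin r => Twist.twistProjSpace n R a) j) := fun _ => by
    haveI : Module.Free ((CohB1.ProjSpace n R).presheaf.stalk x)
        ((Twist.twistProjSpace n R a).presheaf.stalk x) :=
      Props12.free_stalk_of_isFinLocFree _ (isFinLocFree_of_invertible (isInvertible_O a)) x
    exact (IsProjective.iff_projective ((Twist.twistProjSpace n R a).presheaf.stalk x :)).1 inferInstance
  haveI : PreservesBinaryBiproducts F := preservesBinaryBiproducts_of_preservesBinaryProducts _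
  haveI : F.Additive := Functor.additive_of_preservesBinaryBiproducts _
  haveI : CategoryTheory.Projective (⨁ (F.obj ∘ fun _ : Fin r => Twist.twistProjSpace n R a)) :=
    ⟨fun f e _ => ⟨biproduct.desc fun j => Projective.factorThru (biproduct.ι _ j ≫ f) e, by
      refine biproduct.hom_ext' _ _ fun j => ?_
      rw [← Category.assoc, biproduct.ι_desc, Projective.factorThru_comp]⟩⟩
  exact Projective.of_iso (F.mapBiproduct fun _ : Fin r => Twist.twistProjSpace n R a).symm inferInstance

/-- Coherent modules free at closed points are locally free. -/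
theorem isFinLocFree_of_pd_one {G : (CohB1.ProjSpace n R).Modules} (hG : Coh.IsCoh G)
    (h : ∀ x : CohB1.ProjSpace n R, IsClosed ({x} : Set (CohB1.ProjSpace n R)) →
      CAlgH3.PD ((CohB1.ProjSpace n R).presheaf.stalk x) 1 (G.presheaf.stalk x)) : FlatMod.IsFinLocFree G := by
  haveI := isLocallyNoetherian_projSpace (n := n) (R := R)
  haveI := compactSpace_projSpace (n := n) (R := R)
  haveI := hG.1
  refine isFinLocFree_of_free_closed_stalks G ((isCoh_iff_isFP G).1 hG) fun x hx => ?_
  haveI := Props12.finite_stalk_of_isFT G hG.2 x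
  haveI := CAlgH3.pd_one_iff.1 (h x hx)
  exact Module.free_of_flat_of_isLocalRing

/-- Locally free modules have no cohomology below degree `n` in large negative twists. -/
theorem negVan_locFree : ∀ (a : ℕ), a ≤ n → ∀ (K : (CohB1.ProjSpace n R).Modules),
    FlatMod.IsFinLocFree K → NegVan K a
  | 0, _, K, _ => negVan_zero K
  | a + 1, ha, K, hK => by
    let O := Coh.structureModule (CohB1.ProjSpace n R)
    have hD : FlatMod.IsFinLocFree (internalHom K O) :=
      isFinLocFree_internalHom hK (isFinLocFree_structureModule _)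
    obtain ⟨r, b, p, hp, hker, hproj⟩ := exists_presentation (internalHom K O) (isCoh_of_isFinLocFree hD)
    haveI := hp
    let S : ShortComplex (CohB1.ProjSpace n R).Modules := ShortComplex.mk (kernel.ι p) p (kernel.condition p)
    have hS : S.ShortExact :=
      { exact := ShortComplex.exact_of_f_is_kernel _ (kernelIsKernel p), mono_f := inferInstance, epi_g := hp }
    haveI : Coh.IsQCoh (kernel p) := hker.1
    haveI : Coh.IsQCoh (internalHom K O) := (isCoh_of_isFinLocFree hD).1
    have hker' : FlatMod.IsFinLocFree (kernel p) := isFinLocFree_of_pd_one hker fun x _ => by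
      let F := DerSch.stalkFunctor (CohB1.ProjSpace n R) x
      haveI := hproj x
      haveI : Module.Free ((CohB1.ProjSpace n R).presheaf.stalk x) ((internalHom K O).presheaf.stalk x) :=
        Props12.free_stalk_of_isFinLocFree _ hD x
      refine (hS.map_of_exact F).hasProjectiveDimensionLT_X₁ 1 ?_ ?_
      · exact projective_iff_hasProjectiveDimensionLT_one.1 (hproj x)
      · exact CAlgH3.pd_mono one_le_two (CAlgH3.pd_one_iff.2 (inferInstance : Module.Projective _ _))
    have hdual := shortExact_dual' hS hD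
    obtain ⟨dd⟩ := ExtSS.nonempty_dual_dual hK
    refine negVan_of_iso dd (negVan_left hdual ?_ (negVan_locFree a (by omega) _
      (isFinLocFree_internalHom hker' (isFinLocFree_structureModule _))))
    -- the dual of a sum of twists
    obtain ⟨e⟩ := nonempty_O_inv (n := n) (R := R) b
    obtain ⟨c⟩ := nonempty_dual_invertible (isInvertible_O b) (isInvertible_O (-b)) e
    refine negVan_of_total (fun _ : Fin r => internalHom (Twist.twistProjSpace n R b) O)
      (fun i => precompApp (biproduct.ι (fun _ : Fin r => Twist.twistProjSpace n R b) i) O)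
      (fun i => precompApp (biproduct.π (fun _ : Fin r => Twist.twistProjSpace n R b) i) O) ?_
      fun _ => negVan_of_iso c.symm ((negVan_twist (-b)).mono ha)
    classical
    simp only [← precompApp_comp]
    rw [← precompApp_sum]
    exact (congrArg (fun f => precompApp f O) biproduct.total).trans (precompApp_id _ _)

/-- **Negative twists and projective dimension**: if `pd < c` at all closed points then `H^j(G(-m)) = 0` for
large `m` and `j + c ≤ n`. -/
theorem negVan_of_pd : ∀ (c : ℕ) (a : ℕ) (G : (CohB1.ProjSpace n R).Modules), Coh.IsCoh G → a + c ≤ n →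
    (∀ x : CohB1.ProjSpace n R, IsClosed ({x} : Set (CohB1.ProjSpace n R)) →
      CAlgH3.PD ((CohB1.ProjSpace n R).presheaf.stalk x) (c + 1) (G.presheaf.stalk x)) → NegVan G a
  | 0, a, G, hG, ha, h => negVan_locFree a (by omega) G (isFinLocFree_of_pd_one hG h)
  | c + 1, a, G, hG, ha, h => by
    obtain ⟨r, b, p, hp, hker, hproj⟩ := exists_presentation G hG
    haveI := hp
    let S : ShortComplex (CohB1.ProjSpace n R).Modules := ShortComplex.mk (kernel.ι p) p (kernel.condition p)
    have hS : S.ShortExact :=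
      { exact := ShortComplex.exact_of_f_is_kernel _ (kernelIsKernel p), mono_f := inferInstance, epi_g := hp }
    refine negVan_right hS ?_ (negVan_of_pd c (a + 1) _ hker (by omega) fun x hx => ?_)
    · classical
      exact negVan_of_total _ (fun i => biproduct.π _ i) (fun i => biproduct.ι _ i) biproduct.total
        fun _ => (negVan_twist b).mono (by omega)
    · exact ((hS.map_of_exact (DerSch.stalkFunctor (CohB1.ProjSpace n R) x)).hasProjectiveDimensionLT_X₃_iff c
        (hproj x)).1 (h x hx)

/-- Coherent modules with vanishing stalks at closed points have no cohomology at all. -/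
theorem negVan_of_pd_zero (G : (CohB1.ProjSpace n R).Modules) (hG : Coh.IsCoh G)
    (h : ∀ x : CohB1.ProjSpace n R, IsClosed ({x} : Set (CohB1.ProjSpace n R)) →
      CAlgH3.PD ((CohB1.ProjSpace n R).presheaf.stalk x) 0 (G.presheaf.stalk x)) (a : ℕ) : NegVan G a := by
  haveI := isLocallyNoetherian_projSpace (n := n) (R := R)
  haveI := compactSpace_projSpace (n := n) (R := R)
  haveI := hG.1
  have hz : IsZero G := by
    refine ModStalk.isZero_of_stalks fun x => ?_
    obtain ⟨y, hy, hcl⟩ := (isClosed_closure (s := ({x} : Set (CohB1.ProjSpace n R)))).exists_closed_singleton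
      ⟨x, subset_closure rfl⟩
    haveI := CAlgH3.pd_zero_iff.1 (h y hcl)
    obtain ⟨U, r, hyU, hb⟩ := Props12.exists_nhd_basis_stalk G
      (isFinLocFree_of_pd_one hG fun z hz => CAlgH3.pd_mono (Nat.zero_le _) (h z hz)) y
    obtain ⟨b⟩ := hb y hyU
    have hr : r = 0 := by
      by_contra hr
      exact one_ne_zero (α := (CohB1.ProjSpace n R).presheaf.stalk y) (by
        have := congrArg (fun w => b.repr w ⟨0, Nat.pos_of_ne_zero hr⟩)
          (Subsingleton.elim (b ⟨0, Nat.pos_of_ne_zero hr⟩) 0)
        simpa using this)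
    subst hr
    obtain ⟨b'⟩ := hb x ((specializes_iff_mem_closure.2 hy).mem_open U.2 hyU)
    haveI : Subsingleton (G.presheaf.stalk x) := b'.repr.toEquiv.subsingleton
    exact ModuleCat.isZero_iff_subsingleton.2 ‹_›
  exact ⟨0, fun m _ j _ => EulerLib.subsingleton_HH_of_isZero (Functor.map_isZero _ hz) j⟩

end ProjSpace

end Groth.Agent.Lef23
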