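import Groth.Agent.Lef23.FormalData
import Groth.Prelude.Def_FEt
import Groth.Prelude.Def_LefX

/-!
# Effective Lefschetz gives extensions of finite étale covers to a neighbourhood
-/

set_option autoImplicit false
set_option linter.style.haveILetI false
set_option backward.isDefEq.respectTransparency.types false

universe u

open CategoryTheory CategoryTheory.Limits AlgebraicGeometry Opposite TopologicalSpace

noncomputable section

namespace Groth.Agent.Lef23

variable {X : Scheme.{u}}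

theorem eqToHom_subschemeι {J K : X.IdealSheafData} (e : J = K) :
    eqToHom (congrArg (fun I : X.IdealSheafData => I.subscheme) e) ≫ K.subschemeι = J.subschemeι := by
  subst e; simp

/-- An extension of a finite étale cover to an open neighbourhood. -/
theorem exists_nhd_extension [IsLocallyNoetherian X] (𝓘 : X.IdealSheafData) (h : LefX.LeffCond X 𝓘)
    (R : FEt.Cat 𝓘.subscheme) :
    ∃ (U : X.Opens) (R' : FEt.Cat (U : Scheme.{u})), (𝓘.support : Set X) ⊆ (U : Set X) ∧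
      ∀ i : 𝓘.subscheme ⟶ (U : Scheme.{u}), i ≫ U.ι = 𝓘.subschemeι → Nonempty ((FEt.restrict i).obj R' ≅ R) := by
  haveI : IsFinite R.hom := R.prop.1
  haveI : Etale R.hom := R.prop.2
  have e1 : 𝓘 ^ (0 + 1) = 𝓘 := by rw [zero_add, pow_one]
  let t : (FSch.completionAlong X 𝓘).X 0 ≅ 𝓘.subscheme :=
    eqToIso (congrArg (fun I : X.IdealSheafData => I.subscheme) e1)
  have ht : t.hom ≫ 𝓘.subschemeι = FSch.completionToX X 𝓘 0 := eqToHom_subschemeι e1
  obtain ⟨L, e₀, he₀⟩ := exists_levels 𝓘 (R.hom ≫ t.inv)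
  obtain ⟨U, E, hU, hE, ⟨φ⟩⟩ := h.2 L.modSys L.modSys_levelwise
  let C := coverOfIso L hU hE φ
  have hform := h.1 U hU
  let A := C.alg hform hE
  haveI : IsFinite (L.q 0) := (L.prop 0).1
  haveI : Etale (L.q 0) := (L.prop 0).2
  let j := levelι (X := X) (𝓘 := 𝓘) hU 0
  haveI hcl : IsClosedImmersion (FSch.completionToX X 𝓘 0) :=
    inferInstanceAs (IsClosedImmersion (𝓘 ^ (0 + 1)).subschemeι)
  haveI : IsClosedImmersion j := by
    have : IsClosedImmersion (j ≫ U.ι) := by rw [levelι_ι]; exact hcl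
    exact IsClosedImmersion.of_comp j U.ι
  have hker : j.ker = (𝓘.comap U.ι) ^ (0 + 1) := by
    rw [FlatMorThick.ker_eq_comap_of_isPullback (isPullback_lift_open _ _ (levelι_ι hU 0))]
    show (𝓘 ^ (0 + 1)).subschemeι.ker.comap U.ι = _
    rw [Scheme.IdealSheafData.ker_subschemeι, FSchLib.comap_pow]
  let U' : (U : Scheme.{u}).Opens := C.etaleLocus hform hE
  let q₀ : C.W 0 ⟶ (FSch.completionAlong X 𝓘).X 0 := L.q 0
  haveI : IsFinite q₀ := (L.prop 0).1
  haveI : Etale q₀ := (L.prop 0).2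
  have hjU : ∀ y, j y ∈ U' := C.range_le_etaleLocus hform hE j hker q₀ rfl
  haveI : IsFinite A.π := C.isFinite_π hform hE
  haveI : Etale (A.π ∣_ U') := C.etale_restrict hform hE
  haveI : IsFinite (A.π ∣_ U') := IsZariskiLocalAtTarget.restrict ‹IsFinite A.π› U'
  let U'' : X.Opens := U.ι ''ᵁ U'
  let iso : U'.toScheme ≅ U''.toScheme := U.ι.isoImage U'
  have hiso : iso.hom ≫ U''.ι = U'.ι ≫ U.ι := U.ι.isoImage_hom_ι U'
  have hP : FEt.prop (A.π ∣_ U' ≫ iso.hom) := ⟨inferInstance, inferInstance⟩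
  refine ⟨U'', MorphismProperty.Over.mk ⊤ (A.π ∣_ U' ≫ iso.hom) hP, fun x hx => ?_, fun i hi => ?_⟩
  · obtain ⟨y, rfl⟩ : x ∈ Set.range (FSch.completionToX X 𝓘 0) := by
      show x ∈ Set.range (𝓘 ^ (0 + 1)).subschemeι
      rw [(𝓘 ^ (0 + 1)).range_subschemeι, Scheme.IdealSheafData.support_pow_succ]
      exact hx
    refine ⟨j y, hjU y, ?_⟩
    show (j ≫ U.ι) y = _
    rw [levelι_ι]
  · let j' : (FSch.completionAlong X 𝓘).X 0 ⟶ U'.toScheme := IsOpenImmersion.lift U'.ι j (by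
      rw [Scheme.Opens.range_ι]; rintro _ ⟨y, rfl⟩; exact hjU y)
    have hj' : j' ≫ U'.ι = j := IsOpenImmersion.lift_fac _ _ _
    have sq : IsPullback (C.toAlg hform hE) (L.q 0) A.π (j' ≫ U'.ι) := by
      rw [hj']
      exact C.isPullback_special hform hE j hker q₀ rfl
    have sq₂ := (isPullback_morphismRestrict A.π U').flip
    let w : L.W 0 ⟶ (A.π ⁻¹ᵁ U').toScheme := sq₂.lift (C.toAlg hform hE) (L.q 0 ≫ j') (by rw [Category.assoc]; exact sq.w)
    have hw : w ≫ (A.π ⁻¹ᵁ U').ι = C.toAlg hform hE := sq₂.lift_fst _ _ _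
    have hw' : w ≫ (A.π ∣_ U') = L.q 0 ≫ j' := sq₂.lift_snd _ _ _
    have sq₁ : IsPullback w (L.q 0) (A.π ∣_ U') j' :=
      IsPullback.of_right (by rw [hw]; exact sq) hw' sq₂
    have hi' : i = t.inv ≫ j' ≫ iso.hom := by
      rw [← cancel_mono U''.ι, hi, Category.assoc, Category.assoc, hiso, reassoc_of% hj', levelι_ι, ← ht,
        Iso.inv_hom_id_assoc]
    have hq : R.hom = e₀.hom ≫ L.q 0 ≫ t.hom := by
      rw [← Category.assoc, he₀, Category.assoc, Iso.inv_hom_id, Category.comp_id]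
    have sq₀ : IsPullback (e₀.hom ≫ w) R.hom (A.π ∣_ U' ≫ iso.hom) i := by
      refine sq₁.of_iso e₀.symm (Iso.refl _) t iso ?_ ?_ ?_ ?_
      · simp
      · simp [hq]
      · simp
      · simp [hi']
    exact ⟨(MorphismProperty.Over.isoMk sq₀.isoPullback sq₀.isoPullback_hom_snd).symm⟩

end Groth.Agent.Lef23
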