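import Groth.Agent.Formal2Lib.SectionsLimit
import Groth.Agent.CAlgH.PicPunctBasic
import Groth.Agent.LocCoh.Vanishing
import Mathlib.LinearAlgebra.Dual.Lemmas

/-!
# Cohomology off the closed point that is finite up to a power of an element

For a finite module which is free at the points of the punctured spectrum, a power of `f` moves `H⁰` and `H¹` on the
punctured spectrum into finitely generated submodules as soon as this holds for `H¹` and `H²` with supports of the ring.
-/

set_option autoImplicit false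
set_option linter.style.haveILetI false
set_option backward.isDefEq.respectTransparency false

universe u

open CategoryTheory CategoryTheory.Limits AlgebraicGeometry Opposite TopologicalSpace
open Groth.Agent.Formal2Lib

namespace Groth.Agent.Lef23.BoundedF

section alg

variable {R : Type u} [CommRing R] (f : R) (X Y Z : Type u) [AddCommGroup X] [Module R X] [AddCommGroup Y] [Module R Y]
  [AddCommGroup Z] [Module R Z]

/-- A power of `f` moves the module into a finitely generated submodule. -/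
def Bnd : Prop := ∃ (c : ℕ) (S : Submodule R X), S.FG ∧ ∀ x, f ^ c • x ∈ S

variable {f X Y Z}

theorem Bnd.of_killed {c : ℕ} (h : ∀ x : X, f ^ c • x = 0) : Bnd f X :=
  ⟨c, ⊥, Submodule.fg_bot, fun x => (Submodule.mem_bot R).2 (h x)⟩

theorem Bnd.of_surjective (h : Bnd f X) (g : X →ₗ[R] Y) (hg : Function.Surjective g) : Bnd f Y := by
  obtain ⟨c, S, hS, h⟩ := h
  refine ⟨c, S.map g, hS.map g, fun y => ?_⟩
  obtain ⟨x, rfl⟩ := hg y
  rw [← map_smul]
  exact Submodule.mem_map_of_mem (h x)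

variable [IsNoetherianRing R]

theorem Bnd.of_injective (h : Bnd f Y) (g : X →ₗ[R] Y) (hg : Function.Injective g) : Bnd f X := by
  obtain ⟨c, S, hS, h⟩ := h
  haveI : Module.Finite R S := Module.Finite.iff_fg.2 hS
  refine ⟨c, S.comap g, ?_, fun x => by rw [Submodule.mem_comap, map_smul]; exact h _⟩
  rw [← Module.Finite.iff_fg]
  refine Module.Finite.of_injective (g.restrict (p := S.comap g) (q := S) fun x hx => hx) fun a b hab => ?_
  exact Subtype.ext (hg (congrArg Subtype.val hab))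

theorem Bnd.of_exact (hX : Bnd f X) (hZ : Bnd f Z) (α : X →ₗ[R] Y) (β : Y →ₗ[R] Z) (h : Function.Exact α β) :
    Bnd f Y := by
  obtain ⟨c, S, hS, hc⟩ := hX
  obtain ⟨d, T, hT, hd⟩ := hZ
  haveI : Module.Finite R T := Module.Finite.iff_fg.2 hT
  obtain ⟨G, hG⟩ : ((LinearMap.range β ⊓ T).comap T.subtype).FG := IsNoetherian.noetherian _
  choose y hy using fun z : G => (show (z : T).1 ∈ LinearMap.range β from
    (show (z : T) ∈ (LinearMap.range β ⊓ T).comap T.subtype from hG ▸ Submodule.subset_span z.2).1)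
  refine ⟨c + d, S.map α ⊔ Submodule.span R (Set.range y), (hS.map α).sup (Submodule.fg_span (Set.finite_range y)),
    fun x => ?_⟩
  have h1 : (⟨f ^ d • β x, hd (β x)⟩ : T) ∈ (LinearMap.range β ⊓ T).comap T.subtype :=
    ⟨⟨f ^ d • x, map_smul _ _ _⟩, hd _⟩
  rw [← hG] at h1
  have h2 : ∃ w ∈ Submodule.span R (Set.range y), β w = f ^ d • β x := by
    have : ∀ z ∈ Submodule.span R (G : Set T), ∃ w ∈ Submodule.span R (Set.range y), β w = z.1 := by
      intro z hz
      induction hz using Submodule.span_induction with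
      | mem z hz => exact ⟨y ⟨z, hz⟩, Submodule.subset_span ⟨_, rfl⟩, hy ⟨z, hz⟩⟩
      | zero => exact ⟨0, zero_mem _, map_zero β⟩
      | add a b _ _ ha hb =>
        obtain ⟨wa, hwa, ha⟩ := ha
        obtain ⟨wb, hwb, hb⟩ := hb
        exact ⟨wa + wb, add_mem hwa hwb, by rw [map_add, ha, hb]; rfl⟩
      | smul r a _ ha =>
        obtain ⟨wa, hwa, ha⟩ := ha
        exact ⟨r • wa, Submodule.smul_mem _ _ hwa, by rw [map_smul, ha]; rfl⟩
    exact this _ h1
  obtain ⟨w, hw, hwx⟩ := h2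
  obtain ⟨v, hv⟩ := (h (f ^ d • x - w)).1 (by rw [map_sub, map_smul, hwx, sub_self])
  refine Submodule.mem_sup.2 ⟨α (f ^ c • v), Submodule.mem_map_of_mem (hc v), f ^ c • w,
    Submodule.smul_mem _ _ hw, ?_⟩
  rw [map_smul, hv, ← smul_add, sub_add_cancel, pow_add, mul_smul]

/-- An infinitely divisible element of a bounded module is zero. -/
theorem Bnd.eq_zero_of_divisible (hf : f ∈ (⊥ : Ideal R).jacobson) {c : ℕ} {S : Submodule R X} (hS : S.FG)
    (hc : ∀ x, f ^ c • x ∈ S) {x : X} (h : ∀ k, ∃ y, f ^ k • y = x) : x = 0 := by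
  haveI : Module.Finite R S := Module.Finite.iff_fg.2 hS
  obtain ⟨y₀, hy₀⟩ := h c
  have hx : x ∈ S := hy₀ ▸ hc y₀
  have h0 : (⟨x, hx⟩ : S) ∈ (⊥ : Submodule R S) := by
    rw [← Ideal.iInf_pow_smul_eq_bot_of_le_jacobson (M := S) (Ideal.span {f})
      ((Ideal.span_singleton_le_iff_mem _).2 hf)]
    refine (Submodule.mem_iInf _).2 fun k => ?_
    obtain ⟨y, hy⟩ := h (k + c)
    rw [Ideal.span_singleton_pow, Submodule.ideal_span_singleton_smul]
    exact ⟨⟨f ^ c • y, hc y⟩, trivial, Subtype.ext ((mul_smul _ _ _).symm.trans (by rw [← pow_add]; exact hy))⟩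
  exact congrArg Subtype.val ((Submodule.mem_bot R).1 h0)

end alg

section model

variable {R : CommRingCat.{u}} (𝔞 : Ideal R) [IsNoetherianRing R] (f : R)

local notation "U0" => LocCoh.puncturedOpen R 𝔞

theorem bnd_F_free (h1 : ∃ n : ℕ, ∀ x : _root_.LocCoh.H 𝔞 1 R, f ^ n • x = 0)
    (h2 : ∃ n : ℕ, ∀ x : _root_.LocCoh.H 𝔞 2 R, f ^ n • x = 0) : ∀ r : ℕ,
    Bnd f (SecU.F U0 (ModuleCat.of R (Fin r → R)) 0) ∧ Bnd f (SecU.F U0 (ModuleCat.of R (Fin r → R)) 1) := by
  obtain ⟨n₁, hn₁⟩ := h1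
  obtain ⟨n₂, hn₂⟩ := h2
  have b0 : Bnd f (SecU.F U0 (ModuleCat.of R R) 0) := by
    refine ⟨n₁, LinearMap.range (SecU.unit U0 (ModuleCat.of R R)), ?_, fun y => ?_⟩
    · haveI : Module.Finite R (ModuleCat.of R R) := Module.Finite.self R
      rw [LinearMap.range_eq_map]
      exact Submodule.FG.map _ (Module.Finite.fg_top (R := R) (M := ModuleCat.of R R))
    · obtain ⟨m, hm⟩ := SecU.exists_smul_eq_unit 𝔞 (ModuleCat.of R R) (f ^ n₁) hn₁ y
      exact ⟨m, hm⟩
  have b1 : Bnd f (SecU.F U0 (ModuleCat.of R R) 1) :=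
    Bnd.of_killed (c := n₂) (SecU.smul_F_one_eq_zero 𝔞 (ModuleCat.of R R) (f ^ n₂) hn₂)
  intro r
  induction r with
  | zero =>
    have hz : (LinearMap.id : ModuleCat.of R (Fin 0 → R) →ₗ[R] ModuleCat.of R (Fin 0 → R)) = 0 :=
      LinearMap.ext fun x => Subsingleton.elim (α := Fin 0 → R) _ _
    exact ⟨Bnd.of_killed (c := 0) fun x => by
        rw [pow_zero, one_smul, ← SecU.Fmap_id U0 _ 0 x, hz, SecU.Fmap_zero],
      Bnd.of_killed (c := 0) fun x => by
        rw [pow_zero, one_smul, ← SecU.Fmap_id U0 _ 1 x, hz, SecU.Fmap_zero]⟩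
  | succ r ih =>
    let A : ModuleCat.{u} R := ModuleCat.of R R
    let B : ModuleCat.{u} R := ModuleCat.of R (Fin (r + 1) → R)
    let C : ModuleCat.{u} R := ModuleCat.of R (Fin r → R)
    let i : A →ₗ[R] B := LinearMap.single R (fun _ : Fin (r + 1) => R) 0
    let p : B →ₗ[R] C := LinearMap.funLeft R R Fin.succ
    have hi : Function.Injective i := Pi.single_injective (M := fun _ : Fin (r + 1) => R) 0
    have hp : Function.Surjective p := LinearMap.funLeft_surjective_of_injective R R _ (Fin.succ_injective r)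
    have hip : Function.Exact i p := by
      intro v
      refine ⟨fun hv => ⟨v 0, funext fun j => ?_⟩, ?_⟩
      · refine Fin.cases ?_ (fun k => ?_) j
        · exact Pi.single_eq_same (M := fun _ : Fin (r + 1) => R) 0 (v 0)
        · exact (Pi.single_eq_of_ne (M := fun _ : Fin (r + 1) => R) (Fin.succ_ne_zero k) (v 0)).trans
            (congrFun hv k).symm
      · rintro ⟨a, rfl⟩
        exact funext fun k => Pi.single_eq_of_ne (M := fun _ : Fin (r + 1) => R) (Fin.succ_ne_zero k) a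
    exact ⟨Bnd.of_exact b0 ih.1 _ _ (SecU.exact_map U0 (A := A) (B := B) (C := C) hi hp hip 0),
      Bnd.of_exact b1 ih.2 _ _ (SecU.exact_map U0 (A := A) (B := B) (C := C) hi hp hip 1)⟩

theorem F_eq_zero_of_torsion (Q : ModuleCat.{u} R) (hQ : _root_.LocCoh.IsPowerTorsion 𝔞 Q) :
    (∀ x : SecU.F U0 Q 0, x = 0) ∧ ∀ x : SecU.F U0 Q 1, x = 0 := by
  have hH := fun i hi => LocCoh.subsingleton_H_of_powerTorsion (I := 𝔞) i Q hQ hi
  refine ⟨fun x => ?_, fun x => ?_⟩
  · haveI := hH 1 one_pos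
    obtain ⟨m, hm⟩ := SecU.exists_smul_eq_unit 𝔞 Q 1 (fun _ => Subsingleton.elim _ _) x
    obtain ⟨e, he⟩ := SecU.exists_DT_equiv 𝔞 Q
    rw [one_smul] at hm
    rw [← hm, ← he, (LocCoh.toDT_eq_zero_iff m).2 (hQ m), map_zero]
  · haveI := hH 2 two_pos
    have := SecU.smul_F_one_eq_zero 𝔞 Q 1 (fun _ => Subsingleton.elim _ _) x
    rwa [one_smul] at this

/-- Transfer along a map with torsion kernel and cokernel. -/
theorem F_map_torsion {M N : ModuleCat.{u} R} (w : M →ₗ[R] N)
    (hk : ∀ x, w x = 0 → ∃ m : ℕ, ∀ b ∈ 𝔞 ^ m, b • x = 0)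
    (hc : ∀ y : N, ∃ m : ℕ, ∀ b ∈ 𝔞 ^ m, b • y ∈ LinearMap.range w) :
    Function.Bijective (SecU.Fmap U0 w 0) ∧ Function.Injective (SecU.Fmap U0 w 1) ∧
      (Function.Injective w → Function.Surjective (SecU.Fmap U0 w 1)) := by
  let I : ModuleCat.{u} R := ModuleCat.of R (LinearMap.range w)
  let K : ModuleCat.{u} R := ModuleCat.of R (LinearMap.ker w)
  let Q : ModuleCat.{u} R := ModuleCat.of R (N ⧸ LinearMap.range w)
  let q : M →ₗ[R] I := w.rangeRestrict
  let j : K →ₗ[R] M := (LinearMap.ker w).subtype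
  let i : I →ₗ[R] N := (LinearMap.range w).subtype
  let p : N →ₗ[R] Q := (LinearMap.range w).mkQ
  have hq : Function.Surjective q := w.surjective_rangeRestrict
  have hjq : Function.Exact j q := fun x => by
    refine ⟨fun h => ⟨⟨x, congrArg Subtype.val h⟩, rfl⟩, ?_⟩
    rintro ⟨k, rfl⟩
    exact Subtype.ext k.2
  have hip : Function.Exact i p := LinearMap.exact_subtype_mkQ _
  obtain ⟨K0, K1⟩ := F_eq_zero_of_torsion 𝔞 K fun k => by
    obtain ⟨m, hm⟩ := hk k.1 k.2
    exact ⟨m, fun b hb => Subtype.ext (hm b hb)⟩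
  obtain ⟨Q0, Q1⟩ := F_eq_zero_of_torsion 𝔞 Q fun y => by
    obtain ⟨z, rfl⟩ := Submodule.Quotient.mk_surjective _ y
    obtain ⟨m, hm⟩ := hc z
    exact ⟨m, fun b hb => (Submodule.Quotient.mk_eq_zero _).2 (hm b hb)⟩
  have e1 := fun n => SecU.exact_map U0 (A := K) (B := M) (C := I) (Submodule.subtype_injective _) hq hjq n
  have e2 := fun n => SecU.exact_map U0 (A := I) (B := N) (C := Q) (Submodule.subtype_injective _)
    (Submodule.mkQ_surjective _) hip n
  have hcomp : ∀ n x, SecU.Fmap U0 w n x = SecU.Fmap U0 i n (SecU.Fmap U0 q n x) := fun n x => by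
    rw [← SecU.Fmap_comp]
    rfl
  have i0 : Function.Injective (SecU.Fmap U0 i 0) :=
    SecU.Fmap_zero_injective U0 (A := I) (B := N) (C := Q) (Submodule.subtype_injective _) (Submodule.mkQ_surjective _) hip
  have i1 : Function.Injective (SecU.Fmap U0 i 1) := (injective_iff_map_eq_zero _).2 fun x hx => by
    obtain ⟨z, rfl⟩ := (SecU.exact_delta_map U0 (A := I) (B := N) (C := Q) (Submodule.subtype_injective _)
      (Submodule.mkQ_surjective _) hip 0 x).1 hx
    rw [Q0 z, map_zero]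
  have q0 : Function.Injective (SecU.Fmap U0 q 0) := (injective_iff_map_eq_zero _).2 fun x hx => by
    obtain ⟨z, rfl⟩ := (e1 0 x).1 hx
    rw [K0 z, map_zero]
  have q1 : Function.Injective (SecU.Fmap U0 q 1) := (injective_iff_map_eq_zero _).2 fun x hx => by
    obtain ⟨z, rfl⟩ := (e1 1 x).1 hx
    rw [K1 z, map_zero]
  refine ⟨⟨fun a b hab => q0 (i0 (by rw [← hcomp, ← hcomp, hab])), fun y => ?_⟩,
    fun a b hab => q1 (i1 (by rw [← hcomp, ← hcomp, hab])), fun hw y => ?_⟩
  · obtain ⟨x, rfl⟩ := (e2 0 y).1 (Q0 _)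
    obtain ⟨z, rfl⟩ := (SecU.exact_map_delta U0 (A := K) (B := M) (C := I) (Submodule.subtype_injective _) hq hjq 0 x).1
      (K1 _)
    exact ⟨z, hcomp 0 z⟩
  · obtain ⟨x, rfl⟩ := (e2 1 y).1 (Q1 _)
    let q' : I →ₗ[R] M := (LinearEquiv.ofInjective w hw).symm.toLinearMap
    refine ⟨SecU.Fmap U0 q' 1 x, ?_⟩
    rw [hcomp, ← SecU.Fmap_comp U0 q' q, show q ∘ₗ q' = LinearMap.id from
      LinearMap.ext fun z => (LinearEquiv.ofInjective w hw).apply_symm_apply z, SecU.Fmap_id]

/-- Finiteness up to powers of `f` for a module free at the points of the punctured spectrum. -/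
theorem bnd_F (M : ModuleCat.{u} R) [Module.Finite R M]
    (hM : ∀ (p : Ideal R) [p.IsPrime], ¬ 𝔞 ≤ p → ∃ (k : ℕ) (s : R) (α : M →ₗ[R] (Fin k → R))
      (β : (Fin k → R) →ₗ[R] M), s ∉ p ∧ ∀ x, β (α x) = s • x)
    (h1 : ∃ n : ℕ, ∀ x : _root_.LocCoh.H 𝔞 1 R, f ^ n • x = 0)
    (h2 : ∃ n : ℕ, ∀ x : _root_.LocCoh.H 𝔞 2 R, f ^ n • x = 0) :
    Bnd f (SecU.F U0 M 0) ∧ Bnd f (SecU.F U0 M 1) := by
  classical
  have hfree := bnd_F_free 𝔞 f h1 h2
  obtain ⟨a, π₀, hπ₀⟩ := Module.Finite.exists_fin' R M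
  haveI : Module.Finite R (Module.Dual R M) :=
    Module.Finite.of_injective π₀.dualMap (LinearMap.dualMap_injective_of_surjective hπ₀)
  obtain ⟨r, π, hπ⟩ := Module.Finite.exists_fin' R (Module.Dual R M)
  haveI : Module.Finite R (LinearMap.ker π) := inferInstance
  obtain ⟨t, π', hπ'⟩ := Module.Finite.exists_fin' R (LinearMap.ker π)
  let d := fun n : ℕ => (Pi.basisFun R (Fin n)).toDualEquiv
  let g : (Fin r → R) →ₗ[R] (Fin t → R) :=
    (d t).symm.toLinearMap ∘ₗ ((LinearMap.ker π).subtype ∘ₗ π').dualMap ∘ₗ (d r).toLinearMap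
  let E : M →ₗ[R] (Fin r → R) := (d r).symm.toLinearMap ∘ₗ π.dualMap ∘ₗ Module.Dual.eval R M
  let X : ModuleCat.{u} R := ModuleCat.of R (LinearMap.ker g)
  let N : ModuleCat.{u} R := ModuleCat.of R (LinearMap.range g)
  let P : ModuleCat.{u} R := ModuleCat.of R (Fin r → R)
  let P' : ModuleCat.{u} R := ModuleCat.of R (Fin t → R)
  have hEg : ∀ x, g (E x) = 0 := fun x => by
    have h0 : ((LinearMap.ker π).subtype ∘ₗ π').dualMap (π.dualMap (Module.Dual.eval R M x)) = 0 := by
      refine LinearMap.ext fun c => ?_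
      show π (π' c).1 x = 0
      rw [show π (π' c).1 = 0 from (π' c).2, LinearMap.zero_apply]
    show (d t).symm (((LinearMap.ker π).subtype ∘ₗ π').dualMap ((d r) ((d r).symm
      (π.dualMap (Module.Dual.eval R M x))))) = 0
    rw [LinearEquiv.apply_symm_apply, h0, map_zero]
  let w : M →ₗ[R] X := E.codRestrict (LinearMap.ker g) fun x => hEg x
  obtain ⟨hb0, hi1, -⟩ := F_map_torsion 𝔞 (M := M) (N := X) w (fun x hx => by
    refine CAlgH.PicPunct.exists_pow_kill_of_local fun p _ hp => ?_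
    obtain ⟨k, s, α, β, hs, hαβ⟩ := hM p hp
    refine ⟨s, hs, ?_⟩
    have hx' : ∀ φ : Module.Dual R M, φ x = 0 := fun φ => by
      obtain ⟨c, rfl⟩ := hπ φ
      have h' : (d r).symm (π.dualMap (Module.Dual.eval R M x)) = 0 := congrArg Subtype.val hx
      rw [LinearEquiv.map_eq_zero_iff] at h'
      exact LinearMap.congr_fun h' c
    rw [← hαβ, show α x = 0 from funext fun i => hx' ((LinearMap.proj i).comp α), map_zero])
    (fun y => by
      refine (CAlgH.PicPunct.torsMem_of_local (S := LinearMap.range w) fun p _ hp => ?_).exists_pow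
      obtain ⟨k, s, α, β, hs, hαβ⟩ := hM p hp
      refine ⟨s, hs, ?_⟩
      have hy : ∃ φ : Module.Dual R (Module.Dual R M), π.dualMap φ = d r y.1 := by
        have h0 : ∀ c ∈ LinearMap.ker π, d r y.1 c = 0 := fun c hc => by
          obtain ⟨z, hz⟩ := hπ' ⟨c, hc⟩
          have h' : (d t).symm (((LinearMap.ker π).subtype ∘ₗ π').dualMap (d r y.1)) = 0 := y.2
          rw [LinearEquiv.map_eq_zero_iff] at h'
          have := LinearMap.congr_fun h' z
          rwa [LinearMap.dualMap_apply, LinearMap.comp_apply, hz] at this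
        have h0' : LinearMap.ker π ≤ LinearMap.ker (d r y.1) := fun c hc => h0 c hc
        refine ⟨(LinearMap.ker π).liftQ (d r y.1) h0' ∘ₗ
          (LinearMap.quotKerEquivOfSurjective π hπ).symm.toLinearMap, LinearMap.ext fun c => ?_⟩
        show (LinearMap.ker π).liftQ (d r y.1) h0' ((LinearMap.quotKerEquivOfSurjective π hπ).symm (π c)) = _
        rw [show (LinearMap.quotKerEquivOfSurjective π hπ).symm (π c) = Submodule.Quotient.mk c from
          (LinearEquiv.symm_apply_eq _).2 rfl, Submodule.liftQ_apply]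
      obtain ⟨φ, hφ⟩ := hy
      refine ⟨β fun i => φ ((LinearMap.proj i).comp α), Subtype.ext ?_⟩
      show (d r).symm (π.dualMap (Module.Dual.eval R M (β fun i => φ ((LinearMap.proj i).comp α)))) = s • y.1
      rw [LinearEquiv.symm_apply_eq, map_smul, ← hφ, ← map_smul]
      refine congrArg π.dualMap (LinearMap.ext fun θ => ?_)
      show θ (β fun i => φ ((LinearMap.proj i).comp α)) = s • φ θ
      have hθ : s • θ = ∑ i, θ (β (Pi.single i 1)) • (LinearMap.proj i).comp α := by
        refine LinearMap.ext fun x => ?_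
        rw [LinearMap.smul_apply, smul_eq_mul, ← smul_eq_mul, ← map_smul θ s x, ← hαβ x]
        conv_lhs => rw [← Finset.univ_sum_single (α x)]
        rw [map_sum, map_sum, LinearMap.sum_apply]
        refine Finset.sum_congr rfl fun i _ => ?_
        rw [show Pi.single i (α x i) = α x i • (Pi.single i 1 : Fin k → R) by
          rw [← Pi.single_smul', smul_eq_mul, mul_one], map_smul, map_smul, smul_eq_mul, mul_comm]
        rfl
      rw [← map_smul, hθ, map_sum]
      conv_lhs => rw [← Finset.univ_sum_single (fun i => φ ((LinearMap.proj i).comp α))]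
      rw [map_sum, map_sum]
      refine Finset.sum_congr rfl fun i _ => ?_
      rw [show Pi.single i (φ ((LinearMap.proj i).comp α)) =
          φ ((LinearMap.proj i).comp α) • (Pi.single i 1 : Fin k → R) by
        rw [← Pi.single_smul', smul_eq_mul, mul_one], map_smul, map_smul, map_smul, smul_eq_mul, smul_eq_mul, mul_comm])
  -- the kernel of a map of free modules
  let i : X →ₗ[R] P := (LinearMap.ker g).subtype
  let p : P →ₗ[R] N := g.rangeRestrict
  have hp : Function.Surjective p := g.surjective_rangeRestrict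
  have hip : Function.Exact i p := fun v =>
    ⟨fun h => ⟨⟨v, congrArg Subtype.val h⟩, rfl⟩, by rintro ⟨z, rfl⟩; exact Subtype.ext z.2⟩
  let P'' : ModuleCat.{u} R := ModuleCat.of R ((Fin t → R) ⧸ LinearMap.range g)
  have hN0 : Bnd f (SecU.F U0 N 0) := (hfree t).1.of_injective _
    (SecU.Fmap_zero_injective U0 (A := N) (B := P') (C := P'') (f := (LinearMap.range g).subtype)
      (g := (LinearMap.range g).mkQ) (Submodule.subtype_injective _) (Submodule.mkQ_surjective _)
      (LinearMap.exact_subtype_mkQ _))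
  have hX0 : Bnd f (SecU.F U0 X 0) := (hfree r).1.of_injective _
    (SecU.Fmap_zero_injective U0 (A := X) (B := P) (C := N) (Submodule.subtype_injective _) hp hip)
  have hX1 : Bnd f (SecU.F U0 X 1) := Bnd.of_exact hN0 (hfree r).2 _ _
    (SecU.exact_delta_map U0 (A := X) (B := P) (C := N) (Submodule.subtype_injective _) hp hip 0)
  exact ⟨hX0.of_injective _ hb0.1, hX1.of_injective _ hi1⟩

end model

section lift

variable {R : CommRingCat.{u}} (𝔞 : Ideal R) [IsNoetherianRing R] (f : R)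

local notation "U0" => LocCoh.puncturedOpen R 𝔞

variable (B : ModuleCat.{u} R)

/-- The reductions. -/
abbrev Q (n : ℕ) : ModuleCat.{u} R :=
  ModuleCat.of R (B ⧸ LinearMap.range (f ^ (n + 1) • LinearMap.id : B →ₗ[R] B))

/-- The projections. -/
abbrev π (n : ℕ) : B →ₗ[R] Q f B n := (LinearMap.range (f ^ (n + 1) • LinearMap.id : B →ₗ[R] B)).mkQ

omit [IsNoetherianRing R] in
theorem range_anti {a b : ℕ} (h : a ≤ b) : LinearMap.range (f ^ b • LinearMap.id : B →ₗ[R] B) ≤
    LinearMap.range (f ^ a • LinearMap.id : B →ₗ[R] B) := by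
  rintro _ ⟨y, rfl⟩
  exact ⟨f ^ (b - a) • y, by simp [← mul_smul, ← pow_add, Nat.sub_add_cancel h]⟩

/-- The transitions. -/
abbrev tr (n : ℕ) : Q f B (n + 1) →ₗ[R] Q f B n := Submodule.factor (range_anti f B (Nat.le_succ _))

/-- `f^∞`-torsion stabilises. -/
theorem exists_stable (hB : Bnd f B) : ∃ s : ℕ, ∀ j (x : B), f ^ j • x = 0 → f ^ s • x = 0 := by
  obtain ⟨c, S, hS, hc⟩ := hB
  haveI : Module.Finite R (ModuleCat.of R S) := Module.Finite.iff_fg.2 hS
  obtain ⟨t, ht⟩ := SecU.exists_stable f (ModuleCat.of R S)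
  refine ⟨t + c, fun j x hx => ?_⟩
  have h1 : (⟨f ^ c • x, hc x⟩ : S) ∈
      LinearMap.ker (f ^ (t + j) • LinearMap.id : ModuleCat.of R S →ₗ[R] ModuleCat.of R S) := by
    refine Subtype.ext ?_
    show f ^ (t + j) • f ^ c • x = 0
    rw [← mul_smul, ← pow_add, show t + j + c = t + c + j by omega, pow_add, mul_smul, hx, smul_zero]
  rw [ht (t + j) (Nat.le_add_right t j)] at h1
  rw [pow_add, mul_smul]
  exact congrArg Subtype.val h1

omit [IsNoetherianRing R] in
/-- Multiplication on the quotient by the torsion. -/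
theorem exists_seq {s : ℕ} (hs : ∀ j (x : B), f ^ j • x = 0 → f ^ s • x = 0) :
    ∃ i : ℕ → ((ModuleCat.of R (B ⧸ LinearMap.ker (f ^ s • LinearMap.id : B →ₗ[R] B))) →ₗ[R] B),
      (∀ j, Function.Injective (i j)) ∧ (∀ j, i j = f ^ j • i 0) ∧
      (∀ j, (i j).comp (LinearMap.ker (f ^ s • LinearMap.id : B →ₗ[R] B)).mkQ = f ^ (j + s) • LinearMap.id) ∧
      ∀ j k, k + 1 = j + s → Function.Exact (i j) (π f B k) := by
  let K := LinearMap.ker (f ^ s • LinearMap.id : B →ₗ[R] B)
  let i : ℕ → (ModuleCat.of R (B ⧸ K) →ₗ[R] B) := fun j => K.liftQ (f ^ (j + s) • LinearMap.id) fun x hx => by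
    have hx' : f ^ s • x = 0 := LinearMap.mem_ker.1 hx
    rw [LinearMap.mem_ker, LinearMap.smul_apply, LinearMap.id_apply, pow_add, mul_smul, hx', smul_zero]
  refine ⟨i, fun j => ?_, fun j => Submodule.linearMap_qext K (LinearMap.ext fun x => ?_),
    fun j => LinearMap.ext fun x => rfl, fun j k hk => ?_⟩
  · refine LinearMap.ker_eq_bot.1 (Submodule.ker_liftQ_eq_bot' _ _ (le_antisymm (fun x hx => ?_) fun x hx => ?_))
    · show f ^ (j + s) • x = 0
      rw [pow_add, mul_smul, show f ^ s • x = 0 from hx, smul_zero]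
    · exact hs _ x hx
  · show f ^ (j + s) • x = f ^ j • f ^ (0 + s) • x
    rw [zero_add, pow_add, mul_smul]
  · rw [LinearMap.exact_iff, Submodule.ker_mkQ, Submodule.range_liftQ, hk]

variable {B}

/-- A section killed modulo a high power of `f` is highly divisible. -/
theorem exists_div {s : ℕ} (hs : ∀ j (x : B), f ^ j • x = 0 → f ^ s • x = 0)
    (V : (Spec R).Opens) (j k : ℕ) (hk : k + 1 = j + s) (x : SecU.F V B 0)
    (hx : SecU.Fmap V (N := Q f B k) (π f B k) 0 x = 0) : ∃ y, f ^ j • y = x := by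
  obtain ⟨i, hinj, hi0, -, hex⟩ := exists_seq f B hs
  obtain ⟨z, rfl⟩ := (SecU.exact_map V (B := B) (C := Q f B k) (hinj j) (Submodule.mkQ_surjective _)
    (hex j k hk) 0 x).1 hx
  exact ⟨SecU.Fmap V (i 0) 0 z, by rw [← SecU.Fmap_smul, ← hi0]⟩

/-- Compatible families of sections of the reductions lift. -/
theorem exists_lift (hf : f ∈ (⊥ : Ideal R).jacobson) (h0 : Bnd f B) (h1 : Bnd f (SecU.F U0 B 1))
    (y : ∀ n, SecU.F U0 (Q f B n) 0) (hy : ∀ n, SecU.Fmap U0 (tr f B n) 0 (y (n + 1)) = y n) (m : ℕ) :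
    ∃ x : SecU.F U0 B 0, SecU.Fmap U0 (N := Q f B m) (π f B m) 0 x = y m := by
  obtain ⟨s, hs⟩ := exists_stable f B h0
  obtain ⟨i, hinj, hi0, hi, hex⟩ := exists_seq f B hs
  let K := LinearMap.ker (f ^ s • LinearMap.id : B →ₗ[R] B)
  let M' : ModuleCat.{u} R := ModuleCat.of R (B ⧸ K)
  let qM : B →ₗ[R] M' := K.mkQ
  let KM : ModuleCat.{u} R := ModuleCat.of R K
  let jK : KM →ₗ[R] B := K.subtype
  have hKq : Function.Exact jK qM := LinearMap.exact_subtype_mkQ K
  let d : ∀ j k, k + 1 = j + s → (SecU.F U0 (Q f B k) 0 →ₗ[R] SecU.F U0 M' 1) := fun j k hk =>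
    SecU.delta U0 (hinj j) (Submodule.mkQ_surjective _) (C := Q f B k) (hex j k hk) 0
  let v : ℕ → SecU.F U0 M' 1 := fun j => d (j + 1) (j + s) (by omega) (y (j + s))
  have hv : ∀ j, f • v (j + 1) = v j := fun j => by
    have hc1 : (LinearMap.id : B →ₗ[R] B).comp (i (j + 2)) = (i (j + 1)).comp (f • LinearMap.id) := by
      rw [LinearMap.id_comp, LinearMap.comp_smul, LinearMap.comp_id, hi0 (j + 2), hi0 (j + 1), smul_smul, pow_succ']
    have htr : (tr f B (j + s)).comp (π f B (j + s + 1)) = (π f B (j + s)).comp LinearMap.id :=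
      LinearMap.ext fun x => rfl
    have h := SecU.delta_natural U0 (A := M') (B := B) (C := Q f B (j + s + 1)) (hinj (j + 2))
      (Submodule.mkQ_surjective _) (hex (j + 2) (j + s + 1) (by omega)) (A' := M') (B' := B) (C' := Q f B (j + s))
      (hinj (j + 1)) (Submodule.mkQ_surjective _) (hex (j + 1) (j + s) (by omega))
      (f • LinearMap.id) LinearMap.id (tr f B (j + s)) hc1 htr 0 (y (j + s + 1))
    rw [SecU.Fmap_smul, SecU.Fmap_id, hy] at h
    have hidx : ∀ k k' (hk : k + 1 = j + 1 + 1 + s) (hk' : k' + 1 = j + 1 + 1 + s), k = k' →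
        d (j + 1 + 1) k hk (y k) = d (j + 1 + 1) k' hk' (y k') := by
      intro k k' hk hk' e
      subst e
      rfl
    show f • d (j + 1 + 1) (j + 1 + s) (by omega) (y (j + 1 + s)) = v j
    rw [hidx _ (j + s + 1) (by omega) (by omega) (by omega)]
    exact h
  have hdiv : ∀ k j, f ^ k • v (j + k) = v j := fun k => by
    induction k with
    | zero => intro j; rw [pow_zero, one_smul, add_zero]
    | succ k ih => intro j; rw [pow_succ, mul_smul, ← add_assoc, hv, ih]
  have hv0 : ∀ j, v j = 0 := fun j => by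
    obtain ⟨c, S, hS, hc⟩ := h1
    have hk2 : ∀ x : SecU.F U0 KM 2, f ^ s • x = 0 := fun x => by
      have h0 : f ^ s • (LinearMap.id : KM →ₗ[R] KM) = 0 :=
        LinearMap.ext fun z => Subtype.ext (LinearMap.mem_ker.1 z.2)
      exact (congrArg (f ^ s • ·) (SecU.Fmap_id U0 KM 2 x).symm).trans
        ((SecU.Fmap_smul U0 (LinearMap.id : KM →ₗ[R] KM) (f ^ s) 2 x).symm.trans
          ((congrArg (fun g : KM →ₗ[R] KM => SecU.Fmap U0 g 2 x) h0).trans (SecU.Fmap_zero U0 2 x)))
    refine Bnd.eq_zero_of_divisible hf (c := c + s) (hS.map (SecU.Fmap U0 qM 1)) (fun x => ?_)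
      fun k => ⟨v (j + k), hdiv k j⟩
    obtain ⟨b, hb⟩ := (SecU.exact_map_delta U0 (A := KM) (B := B) (C := M') (Submodule.subtype_injective _)
      (Submodule.mkQ_surjective _) hKq 1 (f ^ s • x)).1 (by rw [map_smul]; exact hk2 _)
    rw [pow_add, mul_smul, ← hb, ← map_smul]
    exact Submodule.mem_map_of_mem (hc b)
  obtain ⟨z, hz⟩ := (SecU.exact_map_delta U0 (A := M') (B := B) (C := Q f B (m + s)) (hinj (m + 1))
    (Submodule.mkQ_surjective _) (hex (m + 1) (m + s) (by omega)) 0 (y (m + s))).1 (hv0 m)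
  have hdown : ∀ k, m ≤ k → SecU.Fmap U0 (N := Q f B k) (π f B k) 0 z = y k →
      SecU.Fmap U0 (N := Q f B m) (π f B m) 0 z = y m := fun k h => by
    induction k, h using Nat.le_induction with
    | base => exact id
    | succ k hk ih =>
      intro hx
      refine ih ?_
      rw [show π f B k = (tr f B k).comp (π f B (k + 1)) from LinearMap.ext fun x => rfl, SecU.Fmap_comp, hx, hy]
  exact ⟨z, hdown (m + s) (Nat.le_add_right m s) hz⟩

end lift

end Groth.Agent.Lef23.BoundedF
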