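import Groth.Agent.Lef23.FiniteSections
import Mathlib.AlgebraicGeometry.Morphisms.Etale
import Mathlib.AlgebraicGeometry.Morphisms.FlatRank

/-!
# A finite locally free cover which is étale near the formal neighbourhood is étale
-/

set_option autoImplicit false
set_option linter.style.haveILetI false
set_option backward.isDefEq.respectTransparency.types false
set_option backward.isDefEq.respectTransparency false
universe u

open CategoryTheory CategoryTheory.Limits AlgebraicGeometry TopologicalSpace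

namespace Groth.Agent.Lef23

variable {X : Scheme.{u}} (J : X.IdealSheafData)
  (h : ∀ D : X.Modules, FlatMod.IsFinLocFree D → Lef.HomToFormalBijective J D)

include h in
/-- A clopen subset of a finite locally free cover containing the preimage of `V(J)` is everything. -/
theorem eq_univ_of_clopen {W : Scheme.{u}} (g : W ⟶ X) (hg : Mor2.IsFinLocFree g) {C : Set W} (hC : IsClopen C)
    (hsub : ∀ w, g w ∈ Set.range J.subschemeι → w ∈ C) : C = Set.univ := by
  obtain ⟨D, -, hu⟩ := existsUnique_clopen J g h hg Set.univ isClopen_univ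
  refine (hu C ⟨hC, Set.eq_univ_of_forall fun v => hsub _ ⟨pullback.snd g J.subschemeι v, ?_⟩⟩).trans
    (hu Set.univ ⟨isClopen_univ, Set.preimage_univ⟩).symm
  rw [← Scheme.Hom.comp_apply, ← pullback.condition, Scheme.Hom.comp_apply]

include h in
/-- A finite locally free cover which is étale over a neighbourhood of `V(J)` is étale. -/
theorem etale_of_formal {X' : Scheme.{u}} (π : X' ⟶ X) (hπ : Mor2.IsFinLocFree π) (U' : X.Opens)
    (hU' : Set.range J.subschemeι ⊆ (U' : Set X)) [Etale (π ∣_ U')] : Etale π := by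
  haveI : IsFinite π := hπ.1
  haveI : Flat π := hπ.2.1
  haveI : LocallyOfFinitePresentation π := hπ.2.2
  let p := pullback.fst π π
  let g := p ≫ π
  let Δ := pullback.diagonal π
  have hΔp : Δ ≫ p = 𝟙 X' := pullback.diagonal_fst π
  haveI : IsFinite p := MorphismProperty.pullback_fst _ _ ‹IsFinite π›
  haveI : Flat p := MorphismProperty.pullback_fst _ _ ‹Flat π›
  haveI : LocallyOfFinitePresentation p := MorphismProperty.pullback_fst _ _ ‹LocallyOfFinitePresentation π›
  have hg : Mor2.IsFinLocFree g := ⟨inferInstance, inferInstance, inferInstance⟩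
  let O := π ⁻¹ᵁ U'
  let π'' := O.ι ≫ π
  haveI : Etale π'' := by
    show Etale (O.ι ≫ π)
    rw [← morphismRestrict_ι]
    infer_instance
  haveI : IsOpenImmersion (O.ι ≫ Δ) := by
    have e : O.ι ≫ Δ = pullback.diagonal π'' ≫
        pullback.map π'' π'' π π O.ι O.ι (𝟙 X) (by simp [π'']) (by simp [π'']) := by
      apply pullback.hom_ext <;> simp [Δ, π'', pullback.map]
    rw [e]
    infer_instance
  have hp : ∀ x : X', p (Δ x) = x := fun x => by
    rw [← Scheme.Hom.comp_apply, hΔp]; rfl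
  -- the diagonal is clopen over `V(J)`
  let R0 := (O.ι ≫ Δ).opensRange
  have hR0 : ∀ w, w ∈ (R0 : Set ↥(pullback π π)) ↔ ∃ x ∈ O, Δ x = w := fun w => by
    constructor
    · rintro ⟨⟨x, hx⟩, rfl⟩
      exact ⟨x, hx, rfl⟩
    · rintro ⟨x, hx, rfl⟩
      exact ⟨⟨x, hx⟩, rfl⟩
  have hR0Δ : ∀ w, g w ∈ Set.range J.subschemeι → (w ∈ Set.range Δ ↔ w ∈ (R0 : Set ↥(pullback π π))) := fun w hw => by
    rw [hR0]
    refine ⟨?_, fun ⟨x, _, hx⟩ => ⟨x, hx⟩⟩
    rintro ⟨x, rfl⟩
    refine ⟨x, ?_, rfl⟩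
    show π x ∈ U'
    have : g (Δ x) = π x := by
      show (p ≫ π) (Δ x) = _
      rw [Scheme.Hom.comp_apply, hp]
    exact this ▸ hU' hw
  let a := pullback.fst g J.subschemeι
  have ha : ∀ v, g (a v) ∈ Set.range J.subschemeι := fun v => ⟨pullback.snd g J.subschemeι v, by
    rw [← Scheme.Hom.comp_apply, ← pullback.condition, Scheme.Hom.comp_apply]⟩
  have hV : IsClopen (a ⁻¹' Set.range Δ) := by
    refine ⟨Δ.isClosedEmbedding.isClosed_range.preimage a.continuous, ?_⟩
    rw [show a ⁻¹' Set.range Δ = a ⁻¹' (R0 : Set ↥(pullback π π)) from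
      Set.ext fun v => hR0Δ (a v) (ha v)]
    exact R0.2.preimage a.continuous
  obtain ⟨C, ⟨hC, hCV⟩, -⟩ := existsUnique_clopen J g h hg _ hV
  have hmem : ∀ w, g w ∈ Set.range J.subschemeι → (w ∈ C ↔ w ∈ Set.range Δ) := by
    rintro w ⟨y, hy⟩
    obtain ⟨v, hv, -⟩ := Scheme.Pullback.exists_preimage_pullback (f := g) (g := J.subschemeι) w y hy.symm
    rw [← hv]
    exact Set.ext_iff.mp hCV v
  let W1 : (pullback π π).Opens := ⟨C, hC.isOpen⟩
  haveI : IsClosedImmersion W1.ι := IsClosedImmersion.of_isPreimmersion _ (by rw [Scheme.Opens.range_ι]; exact hC.1)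
  have hΔC : ∀ x, Δ x ∈ C := by
    have := eq_univ_of_clopen J h π hπ (hC.preimage Δ.continuous) fun x hx => by
      refine (hmem (Δ x) ?_).2 ⟨x, rfl⟩
      show (p ≫ π) (Δ x) ∈ _
      rwa [Scheme.Hom.comp_apply, hp]
    exact fun x => this.ge (Set.mem_univ x)
  let δ : X' ⟶ W1 := IsOpenImmersion.lift W1.ι Δ (by
    rw [Scheme.Opens.range_ι]; rintro _ ⟨x, rfl⟩; exact hΔC x)
  have hδ : δ ≫ W1.ι = Δ := IsOpenImmersion.lift_fac _ _ _
  let q : W1.toScheme ⟶ X' := W1.ι ≫ p
  have hδq : δ ≫ q = 𝟙 X' := by rw [← Category.assoc, hδ]; exact hΔp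
  haveI : IsFinite q := inferInstance
  haveI : Flat q := inferInstance
  haveI : LocallyOfFinitePresentation q := inferInstance
  have hrank : q.finrank = 1 := by
    have h1 := eq_univ_of_clopen J h π hπ (C := {x | q.finrank x = 1})
      ((q.isLocallyConstant_finrank).isClopen_fiber 1) fun x₀ hx₀ => ?_
    · funext x
      exact h1.ge (Set.mem_univ x)
    -- an open on which the diagonal is the whole of `W1`
    let Z := C \ (R0 : Set ↥(pullback π π))
    have hZ : IsClosed (p '' Z) := p.isClosedMap _ (hC.1.sdiff R0.2)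
    let O' : X'.Opens := ⟨(O : Set X') \ (p '' Z), O.2.sdiff hZ⟩
    have hx₀O : x₀ ∈ O' := by
      refine ⟨hU' hx₀, ?_⟩
      rintro ⟨w, ⟨hw, hw'⟩, rfl⟩
      have hgw : g w ∈ Set.range J.subschemeι := by
        show (p ≫ π) w ∈ _
        rwa [Scheme.Hom.comp_apply]
      exact hw' ((hR0Δ w hgw).1 ((hmem w hgw).1 hw))
    let δ' : O'.toScheme ⟶ W1 := O'.ι ≫ δ
    haveI : IsOpenImmersion δ' := by
      have : IsOpenImmersion (δ' ≫ W1.ι) := by
        have e : δ' ≫ W1.ι = X'.homOfLE (show O' ≤ O from fun x hx => hx.1) ≫ O.ι ≫ Δ := by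
          simp [δ', hδ]
        rw [e]; infer_instance
      exact IsOpenImmersion.of_comp δ' W1.ι
    have hrange : δ'.opensRange = q ⁻¹ᵁ O'.ι.opensRange := by
      rw [Scheme.Opens.opensRange_ι]
      ext w
      constructor
      · rintro ⟨x, rfl⟩
        show q (δ (O'.ι x)) ∈ O'
        rw [← Scheme.Hom.comp_apply, hδq]
        exact x.2
      · intro hw
        have hw2 : p (W1.ι w) ∈ O' := hw
        have hR : W1.ι w ∈ (R0 : Set ↥(pullback π π)) :=
          by_contra fun hn => hw2.2 ⟨W1.ι w, ⟨w.2, hn⟩, rfl⟩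
        obtain ⟨x, -, hx⟩ := (hR0 _).1 hR
        have hxO : x ∈ O' := by rw [← hp x, hx]; exact hw2
        refine ⟨⟨x, hxO⟩, W1.ι.isOpenEmbedding.injective ?_⟩
        show W1.ι (δ x) = _
        rw [← Scheme.Hom.comp_apply, hδ, hx]
    have sq : IsPullback δ' (𝟙 _) q O'.ι :=
      (IsOpenImmersion.isPullback (𝟙 _) δ' O'.ι q (by simp [δ', hδq]) hrange.symm).flip
    show q.finrank x₀ = 1
    have := Scheme.Hom.finrank_of_isPullback _ _ _ _ sq ⟨x₀, hx₀O⟩
    rw [Scheme.Hom.finrank_eq_one_of_isIso] at this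
    exact this.symm
  haveI : IsIso q := q.isIso_iff_finrank_eq.2 hrank
  haveI : IsIso δ := by
    have : δ = inv q := by rw [← cancel_mono q, hδq, IsIso.inv_hom_id]
    rw [this]; infer_instance
  haveI : IsOpenImmersion (pullback.diagonal π) := by
    show IsOpenImmersion Δ
    rw [← hδ]; infer_instance
  exact Etale.of_formallyUnramified_of_flat π

end Groth.Agent.Lef23
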