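import Groth.Agent.Lef23.PushTensor
import Groth.Agent.MorProj.FinFree
import Groth.Agent.Coherent.CohBC.HomCorep
import Groth.Agent.ExtSS.ProjFormula
import Groth.Agent.Lef23.Structure
import Groth.Agent.HenselLib.SectionsIdem
import Groth.Prelude.Def_Lef

/-!
# Lifting functions and clopen subsets from a formal neighbourhood, for finite locally free covers
-/

set_option autoImplicit false
set_option linter.style.haveILetI false
set_option backward.isDefEq.respectTransparency.types false

universe u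

open CategoryTheory CategoryTheory.Limits AlgebraicGeometry Opposite TopologicalSpace
open Groth.Agent.Coherent Groth.Agent.PicLib Groth.Agent.AmpleLib Groth.Agent.HenselLib

namespace Groth.Agent.Lef23

variable {U W : Scheme.{u}} (J : U.IdealSheafData) (g : W ⟶ U)

/-- The thickening of the preimage. -/
noncomputable abbrev cover (n : ℕ) : Scheme.{u} := pullback g (J ^ (n + 1)).subschemeι

/-- Its inclusion. -/
noncomputable abbrev coverι (n : ℕ) : cover J g n ⟶ W := pullback.fst _ _

/-- The transition map. -/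
noncomputable def coverStep (n : ℕ) : cover J g n ⟶ cover J g (n + 1) :=
  pullback.map _ _ _ _ (𝟙 W) (Scheme.IdealSheafData.inclusion (Lef.pow_succ_le J n)) (𝟙 U) (by simp) (by simp)

theorem coverStep_fst (n : ℕ) : coverStep J g n ≫ coverι J g (n + 1) = coverι J g n :=
  (pullback.lift_fst _ _ _).trans (Category.comp_id _)

theorem coverStep_snd (n : ℕ) : coverStep J g n ≫ pullback.snd g (J ^ (n + 1 + 1)).subschemeι =
    pullback.snd g (J ^ (n + 1)).subschemeι ≫ Scheme.IdealSheafData.inclusion (Lef.pow_succ_le J n) :=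
  pullback.lift_snd _ _ _

theorem quotMap_eq {I K : U.IdealSheafData} (hle : I ≤ K) :
    Lef.quotMap hle = pushMap I.subschemeι K.subschemeι (Scheme.IdealSheafData.inclusion hle)
      (Scheme.IdealSheafData.inclusion_subschemeι hle) := rfl

/-- `g_*O ⊗ O/J^{n+1} → ` functions on the thickened preimage. -/
noncomputable abbrev coverMul (n : ℕ) :=
  (mulBilin g (J ^ (n + 1)).subschemeι _ _ (IsPullback.of_hasPullback g (J ^ (n + 1)).subschemeι)).desc

theorem coverMul_step (n : ℕ) :
    tE (pushS g) (Lef.quotMap (Lef.pow_succ_le J n)) ≫ coverMul J g n =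
      coverMul J g (n + 1) ≫ pushMap (coverι J g (n + 1) ≫ g) (coverι J g n ≫ g) (coverStep J g n)
        (by rw [← Category.assoc, coverStep_fst]) := by
  rw [quotMap_eq]
  exact mulBilin_natural g _ _ _ (IsPullback.of_hasPullback g (J ^ (n + 1 + 1)).subschemeι) _ _ _
    (IsPullback.of_hasPullback g (J ^ (n + 1)).subschemeι) (coverStep J g n) _ _
    (coverStep_fst J g n) (coverStep_snd J g n)

variable (h : ∀ D : U.Modules, FlatMod.IsFinLocFree D → Lef.HomToFormalBijective J D) (hg : Mor2.IsFinLocFree g)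

include h hg

/-- **Functions on a finite locally free cover are determined by, and lift from, the thickenings**. -/
theorem sections_formal :
    (∀ a b : Γ(W, ⊤), (∀ n, (coverι J g n).appTop.hom a = (coverι J g n).appTop.hom b) → a = b) ∧
    ∀ e : ∀ n, Γ(cover J g n, ⊤), (∀ n, (coverStep J g n).appTop.hom (e (n + 1)) = e n) →
      ∃ s : Γ(W, ⊤), ∀ n, (coverι J g n).appTop.hom s = e n := by
  obtain ⟨haff, hE⟩ := MorProj.finLocFree_pushforward_of_isFinLocFree g hg
  haveI := haff
  let E := pushS g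
  let D := internalHom E (Coh.structureModule U)
  have hD : FlatMod.IsFinLocFree D := CohBC.isFinLocFree_internalHom hE (CohBC.isFinLocFree_structureModule U)
  obtain ⟨u⟩ := ExtSS.nonempty_dual_dual (E := E) hE
  have H := fun n => IsPullback.of_hasPullback g (J ^ (n + 1)).subschemeι
  haveI hiso := fun n => isIso_mulBilin g (J ^ (n + 1)).subschemeι _ _ (H n) hE
  let β := fun n => coverMul J g n
  let Φ : ∀ N : U.Modules, (D ⟶ N) ≃+ Γ(CohB1.tensorMod E N, ⊤) := fun N =>
    (CohBC.homEquivSec D hD N).trans (CohBC.secEquiv (AmpleLib.tensorIso u (Iso.refl N)))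
  have hΦ : ∀ {N N' : U.Modules} (f : N ⟶ N') (φ : D ⟶ N), Φ N' (φ ≫ f) = (tE E f).app ⊤ (Φ N φ) := fun {N N'} f φ => by
    show (AmpleLib.tensorIso u (Iso.refl N')).hom.app ⊤ (CohBC.homEquivSec D hD N' (φ ≫ f)) = _
    rw [CohBC.homEquivSec_natural]
    refine (ConcreteCategory.congr_hom (congrArg (fun t => Scheme.Modules.Hom.app t ⊤) (AmpleLib.hom_ext
      (φ := tE (internalHom D (Coh.structureModule U)) f ≫ (AmpleLib.tensorIso u (Iso.refl N')).hom)
      (ψ := (AmpleLib.tensorIso u (Iso.refl N)).hom ≫ tE E f) fun V a b => ?_))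
      (CohBC.homEquivSec D hD N φ))
    show (AmpleLib.tensorIso u (Iso.refl N')).hom.app V ((tE _ f).app V (tmul a b)) =
      (tE E f).app V ((AmpleLib.tensorIso u (Iso.refl N)).hom.app V (tmul a b))
    rw [tensE_map_tmul]
    refine (tensorMap_tmul _ _ _ _).trans ?_
    refine Eq.trans ?_ (congrArg ((tE E f).app V) (tensorMap_tmul _ _ _ _)).symm
    rw [tensE_map_tmul]
    rfl
  let unit : CohB1.tensorMod E (Coh.structureModule U) ≅ E := AmpleLib.tensorComm _ _ ≪≫ unitTensorIso E
  let Binf : (D ⟶ Coh.structureModule U) ≃+ Γ(E, ⊤) := (Φ _).trans (CohBC.secEquiv unit)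
  let B : ∀ n, (D ⟶ ClSub.quotMod (J ^ (n + 1))) ≃+ Γ(pushS (coverι J g n ≫ g), ⊤) := fun n =>
    (Φ _).trans (CohBC.secEquiv (asIso (β n)))
  have hred : ∀ n, tE E (ClSub.toSubscheme (J ^ (n + 1))) ≫ β n =
      unit.hom ≫ pushMap g (coverι J g n ≫ g) (coverι J g n) rfl := fun n =>
    mulBilin_unit g (J ^ (n + 1)).subschemeι _ _ (H n)
  have hstep := coverMul_step J g
  have hBinf : ∀ n φ, B n (φ ≫ ClSub.toSubscheme (J ^ (n + 1))) =
      ((coverι J g n).appTop.hom (show Γ(W, ⊤) from Binf φ) : Γ(cover J g n, ⊤)) := fun n φ => by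
    refine (congrArg ((β n).app ⊤) (hΦ _ φ)).trans ?_
    refine (ConcreteCategory.congr_hom (congrArg (fun t => Scheme.Modules.Hom.app t ⊤) (hred n)) (Φ _ φ)).trans ?_
    rw [Scheme.Modules.Hom.comp_app, ConcreteCategory.comp_apply]
    exact pushMap_app_top g _ _ rfl _
  have hBn : ∀ n y, B n (y ≫ Lef.quotMap (Lef.pow_succ_le J n)) =
      ((coverStep J g n).appTop.hom (show Γ(cover J g (n + 1), ⊤) from B (n + 1) y) : Γ(cover J g n, ⊤)) := fun n y => by
    refine (congrArg ((β n).app ⊤) (hΦ _ y)).trans ?_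
    refine (ConcreteCategory.congr_hom (congrArg (fun t => Scheme.Modules.Hom.app t ⊤) (hstep n)) (Φ _ y)).trans ?_
    rw [Scheme.Modules.Hom.comp_app, ConcreteCategory.comp_apply]
    exact pushMap_app_top _ _ _ _ _
  refine ⟨fun a b hab => ?_, fun e he => ?_⟩
  · obtain ⟨φ, hφ⟩ := Binf.surjective a
    obtain ⟨ψ, hψ⟩ := Binf.surjective b
    rw [← hφ, ← hψ, (h D hD).1 φ ψ fun n => (B n).injective (by
      rw [hBinf n φ, hBinf n ψ]
      exact (congrArg _ hφ).trans ((hab n).trans (congrArg _ hψ.symm)))]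
  · obtain ⟨φ, hφ⟩ := (h D hD).2 (fun n => (B n).symm (e n)) fun n => (B n).injective (by
      rw [hBn, AddEquiv.apply_symm_apply, AddEquiv.apply_symm_apply]
      exact he n)
    exact ⟨Binf φ, fun n => (hBinf n φ).symm.trans ((congrArg (B n) (hφ n)).trans ((B n).apply_symm_apply _))⟩

/-- Clopen subsets of the preimage of the closed subscheme lift uniquely. -/
theorem existsUnique_clopen (V : Set ↥(pullback g J.subschemeι)) (hV : IsClopen V) :
    ∃! C : Set ↥W, IsClopen C ∧ (pullback.fst g J.subschemeι).base ⁻¹' C = V := by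
  obtain ⟨hinj, hex⟩ := sections_formal J g h hg
  let a := pullback.fst g J.subschemeι
  have hrange : ∀ n, Set.range (coverι J g n) = Set.range a := fun n => by
    rw [Scheme.Pullback.range_fst, Scheme.Pullback.range_fst, Scheme.IdealSheafData.range_subschemeι,
      Scheme.IdealSheafData.range_subschemeι, Scheme.IdealSheafData.support_pow_succ]
  have hclosed : IsClosed (a '' V) := a.isClosedEmbedding.isClosedMap _ hV.1
  have ht : ∀ n, IsClopen ((coverι J g n) ⁻¹' (a '' V)) := fun n => by
    refine ⟨hclosed.preimage (coverι J g n).continuous, ?_⟩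
    have : ((coverι J g n) ⁻¹' (a '' V))ᶜ = (coverι J g n) ⁻¹' (a '' Vᶜ) := by
      ext z
      obtain ⟨v, hv⟩ := (hrange n).subset ⟨z, rfl⟩
      show ¬ coverι J g n z ∈ a '' V ↔ coverι J g n z ∈ a '' Vᶜ
      rw [← hv, a.isClosedEmbedding.injective.mem_set_image, a.isClosedEmbedding.injective.mem_set_image]
      rfl
    rw [← isClosed_compl_iff, this]
    exact (a.isClosedEmbedding.isClosedMap _ hV.compl.1).preimage (coverι J g n).continuous
  choose e he het using fun n => SectionsIdem.exists_idempotent (ht n)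
  obtain ⟨s, hs⟩ := hex e fun n => by
    refine SectionsIdem.eq_of_basicOpen_eq ((he _).map (coverStep J g n).appTop.hom) (he n) ?_
    rw [← Scheme.preimage_basicOpen_top]
    refine SetLike.coe_injective ?_
    show (coverStep J g n) ⁻¹' ((cover J g (n + 1)).basicOpen (e (n + 1)) : Set ↥(cover J g (n + 1))) = _
    rw [het n, het (n + 1), ← Set.preimage_comp]
    refine congrArg (fun k => k ⁻¹' (a '' V)) (funext fun z => ?_)
    show coverι J g (n + 1) (coverStep J g n z) = _
    rw [← Scheme.Hom.comp_apply, coverStep_fst]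
  have hsi : IsIdempotentElem s := hinj _ _ fun n => by rw [map_mul, hs n, (he n).eq]
  refine ⟨W.basicOpen s, ⟨SectionsIdem.isClopen_basicOpen hsi, Set.ext fun v => ?_⟩, fun C ⟨hC, hCV⟩ => ?_⟩
  · obtain ⟨z, hz⟩ := (hrange 0).ge ⟨v, rfl⟩
    have h1 : (z ∈ ((cover J g 0).basicOpen (e 0) : Set ↥(cover J g 0))) ↔ v ∈ V := by
      rw [het 0]
      show coverι J g 0 z ∈ a '' V ↔ _
      rw [hz]
      exact a.isClosedEmbedding.injective.mem_set_image
    rw [← hs 0, ← Scheme.preimage_basicOpen_top] at h1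
    show a v ∈ (W.basicOpen s : Set ↥W) ↔ _
    rw [← hz]
    exact h1
  · obtain ⟨c, hc, hcC⟩ := SectionsIdem.exists_idempotent hC
    rw [← hcC, hinj c s fun n => SectionsIdem.eq_of_basicOpen_eq (hc.map (coverι J g n).appTop.hom)
      ((hs n).symm ▸ he n) (by
        rw [hs n, ← Scheme.preimage_basicOpen_top]
        refine SetLike.coe_injective ?_
        show (coverι J g n) ⁻¹' (W.basicOpen c : Set ↥W) = _
        rw [hcC, het n]
        ext z
        obtain ⟨v, hv⟩ := (hrange n).subset ⟨z, rfl⟩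
        show coverι J g n z ∈ C ↔ coverι J g n z ∈ a '' V
        rw [← hv, a.isClosedEmbedding.injective.mem_set_image, ← hCV]
        rfl)]

end Groth.Agent.Lef23
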