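import Groth.Agent.Lef23.CoupleEt
import Groth.Agent.Lef23.FiniteSections

/-!
# Lefschetz-type bijectivity gives full faithfulness for finite étale covers
-/

set_option autoImplicit false
set_option linter.style.haveILetI false
universe u

open CategoryTheory AlgebraicGeometry

namespace Groth.Agent.Lef23

theorem restrict_full_faithful_of_formal {U : Scheme.{u}} (J : U.IdealSheafData)
    (h : ∀ D : U.Modules, FlatMod.IsFinLocFree D → Lef.HomToFormalBijective J D) :
    (FEt.restrict J.subschemeι).Full ∧ (FEt.restrict J.subschemeι).Faithful :=
  CoupleEt.restrict_full_faithful_of_couple J.subschemeι fun Y g hf he V hV =>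
    existsUnique_clopen J g h ⟨hf, inferInstance, inferInstance⟩ V hV

end Groth.Agent.Lef23
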