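import Groth.Agent.Lef23.ComplFF
import Groth.Agent.Lef23.Algebraize
import Groth.Agent.Lef23.EtaleOfFormal
import Groth.Agent.Lef23.FEtFF
import Groth.Agent.MorProj.FinFree

/-!
# Equivalence of completion on bundles gives equivalence of finite étale covers with the closed subscheme
-/

set_option autoImplicit false
set_option linter.style.haveILetI false
set_option backward.isDefEq.respectTransparency.types false

universe u

open CategoryTheory CategoryTheory.Limits AlgebraicGeometry Opposite TopologicalSpace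
open Groth.Agent.Coherent Groth.Agent.PicLib Groth.Agent.AmpleLib

noncomputable section

namespace Groth.Agent.Lef23

variable {X : Scheme.{u}}

/-- A morphism out of a system of pullbacks, given with any form of the transition. -/
def sysOfTrans {𝔛 : FSch.Sys.{u}} (g : ∀ n, 𝔛.X n ⟶ X) (hab : ∀ n, 𝔛.ι n ≫ g (n + 1) = g n) (F : X.Modules)
    (𝔑 : FSch.ModSys 𝔛) (app : ∀ n, (Scheme.Modules.pullback (g n)).obj F ⟶ 𝔑.F n)
    (T : ∀ n, Scheme.Modules.pullback (g (n + 1)) ⋙ Scheme.Modules.pullback (𝔛.ι n) ≅ Scheme.Modules.pullback (g n))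
    (hT : ∀ n, T n = Scheme.Modules.pullbackComp (𝔛.ι n) (g (n + 1)) ≪≫ Scheme.Modules.pullbackCongr (hab n))
    (hc : ∀ n, (Scheme.Modules.pullback (𝔛.ι n)).map (app (n + 1)) ≫ (𝔑.e n).hom = ((T n).app F).hom ≫ app n) :
    pullSys g hab F ⟶ 𝔑 where
  app := app
  comm n := by
    rw [hc n, hT n]
    rfl

theorem isIso_app_of_iso {𝔛 : FSch.Sys.{u}} {𝔐 𝔑 : FSch.ModSys 𝔛} (φ : 𝔐 ≅ 𝔑) (n : ℕ) : IsIso (φ.hom.app n) :=
  ⟨φ.inv.app n, congrArg (fun f : FSch.ModSys.Hom _ _ => f.app n) φ.hom_inv_id,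
    congrArg (fun f : FSch.ModSys.Hom _ _ => f.app n) φ.inv_hom_id⟩

section generic

variable {𝔛 : FSch.Sys.{u}} (g : ∀ n, 𝔛.X n ⟶ X) (hab : ∀ n, 𝔛.ι n ≫ g (n + 1) = g n)
  {W : ℕ → Scheme.{u}} (q : ∀ n, W n ⟶ 𝔛.X n) (l : ∀ n, W n ⟶ W (n + 1))
  (sq : ∀ n, IsPullback (l n) (q n) (q (n + 1)) (𝔛.ι n))
  (hiso : ∀ n, IsIso (((Scheme.Modules.pullbackPushforwardAdjunction (𝔛.ι n)).homEquiv _ _).symm
    (bcMap (q n) (q (n + 1)) (𝔛.ι n) (l n) (sq n))))
  {F : X.Modules} (ψ : pullSys g hab F ⟶ covSys q l sq hiso)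

/-- The reductions of a module on the whole scheme. -/
def topA (n : ℕ) : F ⟶ pushS (q n ≫ g n) :=
  (Scheme.Modules.pullbackPushforwardAdjunction (g n)).homEquiv _ _ (ψ.app n) ≫
    (Scheme.Modules.pushforwardComp (q n) (g n)).hom.app _

theorem topA_app (m : ℕ) (V : X.Opens) (x : Γ(F, V)) :
    (show Γ(W m, (q m ≫ g m) ⁻¹ᵁ V) from (topA g hab q l sq hiso ψ m).app V x) =
      (show Γ(pushS (q m), g m ⁻¹ᵁ V) from (ψ.app m).app (g m ⁻¹ᵁ V) (pullSec (g m) x)) := rfl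

theorem top_comm (n : ℕ) (h : l n ≫ q (n + 1) ≫ g (n + 1) = q n ≫ g n) :
    topA g hab q l sq hiso ψ (n + 1) ≫ pushMap (q (n + 1) ≫ g (n + 1)) (q n ≫ g n) (l n) h =
      topA g hab q l sq hiso ψ n := by
  refine Scheme.Modules.hom_ext _ _ fun V => ConcreteCategory.hom_ext _ _ fun x => ?_
  show pullFun (q (n + 1) ≫ g (n + 1)) (q n ≫ g n) (l n) h V
    (show Γ(W (n + 1), _) from (topA g hab q l sq hiso ψ (n + 1)).app V x) =
      (show Γ(W n, _) from (topA g hab q l sq hiso ψ n).app V x)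
  have e : g n ⁻¹ᵁ V ≤ 𝔛.ι n ⁻¹ᵁ (g (n + 1) ⁻¹ᵁ V) := by rw [← Scheme.Hom.comp_preimage, hab]
  rw [topA_app g hab q l sq hiso ψ n V x, topA_app g hab q l sq hiso ψ (n + 1) V x,
    (sys_step g hab _ (covSys q l sq hiso) ψ n V x e).trans
      (congrArg (resM (pushS (q n)) e) (homEquiv_symm_app_pullSec _ _ _))]
  have hle : (q n ≫ g n) ⁻¹ᵁ V ≤ l n ⁻¹ᵁ (q (n + 1) ⁻¹ᵁ (g (n + 1) ⁻¹ᵁ V)) := by
    rw [← Scheme.Hom.comp_preimage, (sq n).w, Scheme.Hom.comp_preimage, Scheme.Hom.comp_preimage]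
    exact (q n).preimage_mono e
  have hgen : ∀ {B : Scheme.{u}} (f : B ⟶ 𝔛.X (n + 1)) (k : B ⟶ W (n + 1))
      (h : k ≫ q (n + 1) = f) (O' : B.Opens) (hO' : O' ≤ f ⁻¹ᵁ (g (n + 1) ⁻¹ᵁ V))
      (hO'' : O' ≤ k ⁻¹ᵁ (q (n + 1) ⁻¹ᵁ (g (n + 1) ⁻¹ᵁ V))) (w : Γ(W (n + 1), q (n + 1) ⁻¹ᵁ (g (n + 1) ⁻¹ᵁ V))),
      (k.appLE _ O' hO'').hom w = (B.presheaf.map (homOfLE hO').op).hom (pullFun (q (n + 1)) f k h _ w) := by
    intro B f k h O' hO' hO'' w
    subst h
    rw [pullFun_eq]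
    rfl
  have hcomp : ∀ (w : Γ(W (n + 1), (q (n + 1) ≫ g (n + 1)) ⁻¹ᵁ V)),
      pullFun (q (n + 1) ≫ g (n + 1)) (q n ≫ g n) (l n) h V w = ((l n).appLE _ _ hle).hom w := by
    intro w
    refine Eq.trans ?_ (pullFun_map (q (n + 1) ≫ g (n + 1)) (q n ≫ g n) (l n) h V
      (O := (q (n + 1) ≫ g (n + 1)) ⁻¹ᵁ V) le_rfl hle w)
    simp
    rfl
  rw [hcomp]
  refine Eq.trans ?_ (congrArg (resM (pushS (q n)) e)
    (bcMap_app (q n) (q (n + 1)) _ (l n) (sq n) (g (n + 1) ⁻¹ᵁ V) _)).symm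
  exact hgen _ (l n) (sq n).w _ _ hle _

end generic

variable [IsLocallyNoetherian X] {𝓘 : X.IdealSheafData} (L : EtLevels 𝓘) {F : X.Modules}
  (hF : FlatMod.IsFinLocFree F) (φ : FSch.complMod 𝓘 F ≅ L.modSys)

/-- The morphism of systems. -/
def topHom : pullSys (fun m => FSch.completionToX X 𝓘 m)
    (fun m => Scheme.IdealSheafData.inclusion_subschemeι (FSch.pow_succ_le X 𝓘 m)) F ⟶
      covSys (𝔛 := FSch.completionAlong X 𝓘) L.q L.l L.sq L.isIso_step :=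
  sysOfTrans _ _ F L.modSys φ.hom.app (FSch.complTransIso 𝓘) (fun _ => rfl) φ.hom.comm

/-- The reductions of `F`. -/
def topLevelA (n : ℕ) : F ⟶ pushS (L.q n ≫ FSch.completionToX X 𝓘 n) :=
  topA _ _ L.q L.l L.sq L.isIso_step (topHom L φ) n

theorem frame_topLevelA (n : ℕ) (V : X.affineOpens) {κ : Type u} [Fintype κ] (e : κ → Γ(F, V.1))
    (he : IsBasisOn F V.1 e) :
    Frame (pushS (L.q n ≫ FSch.completionToX X 𝓘 n)) (𝓘 ^ (n + 1)) V.1
      (fun i => (topLevelA L φ n).app V.1 (e i)) := by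
  haveI hcl : IsClosedImmersion (FSch.completionToX X 𝓘 n) :=
    inferInstanceAs (IsClosedImmersion (𝓘 ^ (n + 1)).subschemeι)
  haveI : IsIso ((topHom L φ).app n) := isIso_app_of_iso φ n
  have hF := Frame.of_basis (FSch.completionToX X 𝓘 n) (pushS (L.q n)) (isBasisOn_map_iso
    (asIso ((topHom L φ).app n)) (he.pull _))
  rw [show (FSch.completionToX X 𝓘 n).ker = 𝓘 ^ (n + 1) from Scheme.IdealSheafData.ker_subschemeι _] at hF
  exact hF

/-- The family of covers, on the whole scheme. -/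
def topCover : FormalCover 𝓘 F where
  W := L.W
  π n := L.q n ≫ FSch.completionToX X 𝓘 n
  step := L.l
  step_π n := by
    rw [← Category.assoc, (L.sq n).w, Category.assoc]
    exact congrArg (L.q n ≫ ·) (Scheme.IdealSheafData.inclusion_subschemeι (FSch.pow_succ_le X 𝓘 n))
  a := topLevelA L φ
  comm n := top_comm _ _ L.q L.l L.sq L.isIso_step (topHom L φ) n _
  killed n := by
    refine LocFrame.killed fun x => ?_
    obtain ⟨V, hxV, -, κ, hκ, e, he⟩ := exists_basis_affine hF (x := x) (U := ⊤) trivial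
    exact ⟨V, hxV, κ, hκ, _, frame_topLevelA L φ n V e he⟩
  frame n V κ _ e he := frame_topLevelA L φ n V e he

omit L hF φ

/-- **Equivalence of completion on bundles** gives equivalence of finite étale covers. -/
theorem restrict_isEquivalence_of_complEquiv (𝓘 : X.IdealSheafData)
    (h : ∀ F G : X.Modules, FlatMod.IsFinLocFree F → FlatMod.IsFinLocFree G →
      Function.Bijective (fun φ : F ⟶ G => FSch.complModMap 𝓘 φ))
    (hess : ∀ 𝔐 : FSch.ModSys (FSch.completionAlong X 𝓘), LefX.LevelwiseFinLocFree 𝔐 →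
      ∃ F : X.Modules, FlatMod.IsFinLocFree F ∧ Nonempty (FSch.complMod 𝓘 F ≅ 𝔐)) :
    (FEt.restrict 𝓘.subschemeι).IsEquivalence := by
  have hform := formal_of_complFF 𝓘 h
  obtain ⟨hfull, hfaith⟩ := restrict_full_faithful_of_formal 𝓘 hform
  haveI := hfull
  haveI := hfaith
  haveI : (FEt.restrict 𝓘.subschemeι).EssSurj := ⟨fun R => ?_⟩
  · exact { }
  haveI : IsFinite R.hom := R.prop.1
  haveI : Etale R.hom := R.prop.2
  have e1 : 𝓘 ^ (0 + 1) = 𝓘 := by rw [zero_add, pow_one]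
  let t : (FSch.completionAlong X 𝓘).X 0 ≅ 𝓘.subscheme :=
    eqToIso (congrArg (fun I : X.IdealSheafData => I.subscheme) e1)
  have ht : t.hom ≫ 𝓘.subschemeι = FSch.completionToX X 𝓘 0 := eqToHom_subschemeι e1
  obtain ⟨L, e₀, he₀⟩ := exists_levels 𝓘 (R.hom ≫ t.inv)
  obtain ⟨F, hF, ⟨φ⟩⟩ := hess L.modSys L.modSys_levelwise
  let C := topCover L hF φ
  let A := C.alg hform hF
  let j := FSch.completionToX X 𝓘 0
  haveI : IsClosedImmersion j := inferInstanceAs (IsClosedImmersion (𝓘 ^ (0 + 1)).subschemeι)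
  have hker : j.ker = 𝓘 ^ (0 + 1) := Scheme.IdealSheafData.ker_subschemeι _
  let q₀ : C.W 0 ⟶ (FSch.completionAlong X 𝓘).X 0 := L.q 0
  haveI : IsFinite q₀ := (L.prop 0).1
  haveI : Etale q₀ := (L.prop 0).2
  haveI : IsFinite A.π := C.isFinite_π hform hF
  haveI := C.isIso_ρ hform hF
  have hπ : Mor2.IsFinLocFree A.π := by
    refine MorProj.isFinLocFree_of_isAffineHom A.π fun x => ?_
    obtain ⟨V, n, hx, ⟨i⟩⟩ := hF x
    exact ⟨V, n, hx, ⟨(Scheme.Modules.restrictFunctor V.ι).mapIso (asIso (C.ρ hform hF)).symm ≪≫ i⟩⟩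
  haveI : Etale (A.π ∣_ C.etaleLocus hform hF) := C.etale_restrict hform hF
  haveI : Etale A.π := etale_of_formal 𝓘 hform A.π hπ (C.etaleLocus hform hF) (by
    rintro _ ⟨y, rfl⟩
    have hy := C.range_le_etaleLocus hform hF j hker q₀ rfl (t.inv y)
    have e : t.inv ≫ j = 𝓘.subschemeι := (Iso.inv_comp_eq t).mpr ht.symm
    rw [← e, Scheme.Hom.comp_apply]
    exact hy)
  let R' : FEt.Cat X := MorphismProperty.Over.mk ⊤ A.π ⟨inferInstance, inferInstance⟩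
  have hq : R.hom = e₀.hom ≫ L.q 0 ≫ t.hom := by
    rw [← Category.assoc, he₀, Category.assoc, Iso.inv_hom_id, Category.comp_id]
  have sq₀ : IsPullback (e₀.hom ≫ C.toAlg hform hF) R.hom A.π 𝓘.subschemeι := by
    refine (C.isPullback_special hform hF j hker q₀ rfl).of_iso e₀.symm (Iso.refl _) t (Iso.refl _) ?_ ?_ ?_ ?_
    · simp; exact (e₀.inv_hom_id_assoc _).symm
    · simp [hq, q₀]; exact (e₀.inv_hom_id_assoc _).symm
    · simp; rfl
    · simp [j, ← ht]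
  exact ⟨R', ⟨(MorphismProperty.Over.isoMk sq₀.isoPullback sq₀.isoPullback_hom_snd).symm⟩⟩

end Groth.Agent.Lef23
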