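import Groth.Agent.Lef23.PushTensor
import Groth.Agent.FModLib.Compl
import Groth.Agent.AmpleLib.GenLocus
import Groth.Agent.Coherent.CohBC.Global
import Groth.Agent.Coherent.CohBC.HomCorep
import Groth.Prelude.Def_FSch3
import Groth.Prelude.Def_Lef

/-!
# Full faithfulness of completion gives formal bijectivity
-/

set_option autoImplicit false
set_option linter.style.haveILetI false
set_option backward.isDefEq.respectTransparency.types false

universe u

open CategoryTheory CategoryTheory.Limits AlgebraicGeometry Opposite TopologicalSpace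
open Groth.Agent.Coherent Groth.Agent.PicLib Groth.Agent.AmpleLib

namespace Groth.Agent.Lef23

variable {S A B : Scheme.{u}}

/-- The adjunct of a morphism to a direct image of the structure sheaf. -/
noncomputable abbrev adjunct (f : A ⟶ S) {F : S.Modules} (φ : F ⟶ pushS f) :
    (Scheme.Modules.pullback f).obj F ⟶ Coh.structureModule A :=
  ((Scheme.Modules.pullbackPushforwardAdjunction f).homEquiv _ _).symm φ

theorem isIso_adjunct_unit (f : A ⟶ S) : IsIso (adjunct f (ClSub.unitToPush f)) := by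
  have hgen : IsGen ((Scheme.Modules.pullback f).obj (Coh.structureModule S)) (f ⁻¹ᵁ ⊤)
      (pullSec f (oneSec (⊤ : S.Opens))) :=
    isGen_pullSec f (isGen_oneSec ⊤) isInvertible_structureModule
  have h1 : (adjunct f (ClSub.unitToPush f)).app (f ⁻¹ᵁ ⊤) (pullSec f (oneSec (⊤ : S.Opens))) =
      (show Γ(Coh.structureModule A, f ⁻¹ᵁ ⊤) from (1 : Γ(A, f ⁻¹ᵁ ⊤))) := by
    refine (homEquiv_symm_app_pullSec f _ _).trans ?_
    exact map_one (f.app ⊤).hom
  refine Scheme.Modules.Hom.isIso_iff_isIso_app.mpr fun V => ?_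
  refine (ConcreteCategory.isIso_iff_bijective _).2 ?_
  have hV : V ≤ f ⁻¹ᵁ ⊤ := le_top
  refine (Function.Bijective.of_comp_iff _ (hgen V hV)).1 ?_
  have : ((adjunct f (ClSub.unitToPush f)).app V ∘ fun r : Γ(A, V) =>
      r • resM _ hV (pullSec f (oneSec (⊤ : S.Opens)))) =
      fun r : Γ(A, V) => (show Γ(Coh.structureModule A, V) from r) := funext fun r => by
    show (adjunct f (ClSub.unitToPush f)).app V (r • resM _ hV (pullSec f (oneSec (⊤ : S.Opens)))) = _
    rw [Scheme.Modules.Hom.app_smul, app_resM, h1]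
    show r * (A.presheaf.map (homOfLE hV).op).hom 1 = r
    rw [map_one, mul_one]
  rw [this]
  exact Function.bijective_id

/-- Adjuncts commute with the transition of successive pullbacks. -/
theorem adjunct_trans (f : A ⟶ S) (f' : B ⟶ S) (k : B ⟶ A) (h : k ≫ f = f') {F : S.Modules} (φ : F ⟶ pushS f) :
    (Scheme.Modules.pullback k).map (adjunct f φ) ≫ adjunct k (ClSub.unitToPush k) =
      ((Scheme.Modules.pullbackComp k f ≪≫ Scheme.Modules.pullbackCongr h).app F).hom ≫
        adjunct f' (φ ≫ pushMap f f' k h) := by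
  subst h
  apply ((Scheme.Modules.pullbackPushforwardAdjunction k).homEquiv _ _).injective
  apply ((Scheme.Modules.pullbackPushforwardAdjunction f).homEquiv _ _).injective
  refine Scheme.Modules.hom_ext _ _ fun U => ConcreteCategory.hom_ext _ _ fun (m : Γ(F, U)) => ?_
  show (adjunct k (ClSub.unitToPush k)).app (k ⁻¹ᵁ f ⁻¹ᵁ U)
      (((Scheme.Modules.pullback k).map (adjunct f φ)).app (k ⁻¹ᵁ f ⁻¹ᵁ U) (pullSec k (pullSec f m))) =
    (adjunct (k ≫ f) (φ ≫ pushMap f (k ≫ f) k rfl)).app (k ⁻¹ᵁ f ⁻¹ᵁ U)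
      (((Scheme.Modules.pullbackComp k f ≪≫ Scheme.Modules.pullbackCongr (rfl : k ≫ f = k ≫ f)).app F).hom.app
        (k ⁻¹ᵁ f ⁻¹ᵁ U) (pullSec k (pullSec f m)))
  have h1 : ((Scheme.Modules.pullbackComp k f ≪≫ Scheme.Modules.pullbackCongr (rfl : k ≫ f = k ≫ f)).app F).hom.app
      (k ⁻¹ᵁ f ⁻¹ᵁ U) (pullSec k (pullSec f m)) =
        resM ((Scheme.Modules.pullback (k ≫ f)).obj F) le_rfl (pullSec (k ≫ f) m) := by
    have := FModLib.homEquiv_comp_pullSec k f (rfl : k ≫ f = k ≫ f) F m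
    rw [Adjunction.homEquiv_unit] at this
    exact this
  rw [h1, pullback_map_app_pullSec, PicLib.resM_self]
  refine (homEquiv_symm_app_pullSec k _ _).trans ?_
  rw [homEquiv_symm_app_pullSec f φ m]
  refine Eq.trans ?_ (homEquiv_symm_app_pullSec (k ≫ f) (φ ≫ pushMap f (k ≫ f) k rfl) m).symm
  exact (pullFun_eq f k U _).symm

/-- Compatibility of adjuncts along a factorisation. -/
theorem adjunct_square (f : A ⟶ S) (f' : B ⟶ S) (k : B ⟶ A) (h : k ≫ f = f') {D : S.Modules}
    (y : D ⟶ pushS f) (y' : D ⟶ pushS f') (hy : y ≫ pushMap f f' k h = y')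
    (a : (Scheme.Modules.pullback f).obj D ⟶ (Scheme.Modules.pullback f).obj (Coh.structureModule S))
    (a' : (Scheme.Modules.pullback f').obj D ⟶ (Scheme.Modules.pullback f').obj (Coh.structureModule S))
    (ha : a ≫ adjunct f (ClSub.unitToPush f) = adjunct f y)
    (ha' : a' ≫ adjunct f' (ClSub.unitToPush f') = adjunct f' y') :
    (Scheme.Modules.pullback k).map a ≫
        ((Scheme.Modules.pullbackComp k f ≪≫ Scheme.Modules.pullbackCongr h).app (Coh.structureModule S)).hom =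
      ((Scheme.Modules.pullbackComp k f ≪≫ Scheme.Modules.pullbackCongr h).app D).hom ≫ a' := by
  haveI := isIso_adjunct_unit f'
  have h1 := adjunct_trans f f' k h (ClSub.unitToPush f)
  rw [unitToPush_pushMap] at h1
  have h2 := adjunct_trans f f' k h y
  rw [hy] at h2
  rw [← cancel_mono (adjunct f' (ClSub.unitToPush f')), Category.assoc, Category.assoc, ha', ← h1,
    ← Category.assoc, ← Functor.map_comp, ha, h2]

/-- The system of pullbacks of a module, as adjuncts. -/
theorem exists_hom_pullSys {X : Scheme.{u}} {𝔛 : FSch.Sys.{u}} (p : ∀ n, 𝔛.X n ⟶ X)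
    (hp : ∀ n, 𝔛.ι n ≫ p (n + 1) = p n) (D : X.Modules) (y : ∀ n, D ⟶ pushS (p n))
    (hy : ∀ n, y (n + 1) ≫ pushMap (p (n + 1)) (p n) (𝔛.ι n) (hp n) = y n) :
    ∃ ψ : FModLib.pullSys p hp D ⟶ FModLib.pullSys p hp (Coh.structureModule X), ∀ n,
      ψ.app n ≫ adjunct (p n) (ClSub.unitToPush (p n)) = adjunct (p n) (y n) := by
  haveI hε : ∀ n, IsIso (adjunct (p n) (ClSub.unitToPush (p n))) := fun n => isIso_adjunct_unit (p n)
  let a := fun n => adjunct (p n) (y n) ≫ inv (adjunct (p n) (ClSub.unitToPush (p n)))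
  have ha : ∀ n, a n ≫ adjunct (p n) (ClSub.unitToPush (p n)) = adjunct (p n) (y n) := fun n => by
    show (_ ≫ inv _) ≫ _ = _
    rw [Category.assoc, IsIso.inv_hom_id, Category.comp_id]
  exact ⟨⟨a, fun n => adjunct_square (p (n + 1)) (p n) (𝔛.ι n) (hp n) (y (n + 1)) (y n) (hy n) (a (n + 1)) (a n)
    (ha (n + 1)) (ha n)⟩, ha⟩

/-- The completion system of a module, as adjuncts. -/
theorem exists_hom_complMod {X : Scheme.{u}} (𝓘 : X.IdealSheafData) (D : X.Modules)
    (y : ∀ n, D ⟶ pushS (𝓘 ^ (n + 1)).subschemeι)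
    (hy : ∀ n, y (n + 1) ≫ Lef.quotMap (Lef.pow_succ_le 𝓘 n) = y n) :
    ∃ ψ : FSch.complMod 𝓘 D ⟶ FSch.complMod 𝓘 (Coh.structureModule X), ∀ n,
      ψ.app n ≫ adjunct (𝓘 ^ (n + 1)).subschemeι (ClSub.toSubscheme (𝓘 ^ (n + 1))) =
        adjunct (𝓘 ^ (n + 1)).subschemeι (y n) :=
  exists_hom_pullSys (𝔛 := FSch.completionAlong X 𝓘) (FSch.completionToX X 𝓘)
    (fun n => Scheme.IdealSheafData.inclusion_subschemeι (FSch.pow_succ_le X 𝓘 n)) D y hy

variable {X : Scheme.{u}} (𝓘 : X.IdealSheafData)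

/-- **Full faithfulness of completion** on finite locally free modules gives formal bijectivity. -/
theorem formal_of_complFF
    (h : ∀ F G : X.Modules, FlatMod.IsFinLocFree F → FlatMod.IsFinLocFree G →
      Function.Bijective (fun φ : F ⟶ G => FSch.complModMap 𝓘 φ))
    (D : X.Modules) (hD : FlatMod.IsFinLocFree D) : Lef.HomToFormalBijective 𝓘 D := by
  obtain ⟨hinj, hsurj⟩ := h D (Coh.structureModule X) hD (CohBC.isFinLocFree_structureModule X)
  let ε := fun n => adjunct (𝓘 ^ (n + 1)).subschemeι (ClSub.toSubscheme (𝓘 ^ (n + 1)))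
  haveI hε : ∀ n, IsIso (ε n) := fun n => isIso_adjunct_unit (𝓘 ^ (n + 1)).subschemeι
  have key : ∀ n (φ : D ⟶ Coh.structureModule X),
      (Scheme.Modules.pullback (𝓘 ^ (n + 1)).subschemeι).map φ ≫ ε n =
        adjunct (𝓘 ^ (n + 1)).subschemeι (φ ≫ ClSub.toSubscheme (𝓘 ^ (n + 1))) := fun n φ =>
    ((Scheme.Modules.pullbackPushforwardAdjunction _).homEquiv_naturality_left_symm _ _).symm
  refine ⟨fun φ ψ hφ => hinj (FSch.ModSys.Hom.ext (funext fun n => ?_)), fun y hy => ?_⟩
  · show (Scheme.Modules.pullback (𝓘 ^ (n + 1)).subschemeι).map φ = (Scheme.Modules.pullback _).map ψ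
    rw [← cancel_mono (ε n), key, key, hφ n]
  · obtain ⟨ψ, hψ⟩ := exists_hom_complMod 𝓘 D y hy
    obtain ⟨φ, hφ⟩ := hsurj ψ
    refine ⟨φ, fun n => ((Scheme.Modules.pullbackPushforwardAdjunction _).homEquiv _ _).symm.injective ?_⟩
    show adjunct _ _ = adjunct _ _
    rw [← key, ← hψ n, ← hφ]
    rfl

end Groth.Agent.Lef23
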