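import Groth.Agent.HenselLib.SectionsIdem
import Groth.Agent.Lef23.Formal
import Groth.Agent.Coherent.CohBC.HomCorep
import Groth.Prelude.Def_Lef

/-!
# The Lefschetz condition and connectedness
-/

set_option autoImplicit false
set_option linter.style.haveILetI false
set_option backward.isDefEq.respectTransparency.types false

universe u

open CategoryTheory CategoryTheory.Limits AlgebraicGeometry Opposite TopologicalSpace
open Groth.Agent.HenselLib

namespace Groth.Agent.Lef23

variable {X : Scheme.{u}}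

/-- Multiplication by a global section. -/
noncomputable def mulHom (a : Γ(X, ⊤)) : Coh.structureModule X ⟶ Coh.structureModule X :=
  ⟨PresheafOfModules.homMk
    { app := fun U => AddCommGrpCat.ofHom
        (AddMonoidHom.mulLeft ((X.presheaf.map (homOfLE (le_top : U.unop ≤ ⊤)).op).hom a : Γ(X, U.unop)))
      naturality := fun U V i => by
        ext (r : Γ(X, U.unop))
        show (X.presheaf.map (homOfLE (le_top : V.unop ≤ ⊤)).op).hom a * (X.presheaf.map i).hom r =
          (X.presheaf.map i).hom ((X.presheaf.map (homOfLE (le_top : U.unop ≤ ⊤)).op).hom a * r)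
        rw [map_mul, ← CommRingCat.comp_apply, ← Functor.map_comp]
        rfl }
    (fun U r s => mul_left_comm ((X.presheaf.map (homOfLE (le_top : U.unop ≤ ⊤)).op).hom a : Γ(X, U.unop))
      (show Γ(X, U.unop) from r) (show Γ(X, U.unop) from s))⟩

theorem mulHom_app (a : Γ(X, ⊤)) (V : X.Opens) (r : Γ(X, V)) :
    (mulHom a).app V r = (show Γ(X, V) from (X.presheaf.map (homOfLE (le_top : V ≤ ⊤)).op).hom a * r) := rfl

theorem mulHom_app_top (a : Γ(X, ⊤)) : (mulHom a).app ⊤ (1 : Γ(X, ⊤)) = a := by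
  show (X.presheaf.map (homOfLE (le_top : (⊤ : X.Opens) ≤ ⊤)).op).hom a * 1 = a
  rw [mul_one, show (homOfLE (le_top : (⊤ : X.Opens) ≤ ⊤)).op = 𝟙 _ from rfl, X.presheaf.map_id]
  rfl

variable {Z : Scheme.{u}} (f : Z ⟶ X)

theorem app_res (a : Γ(X, ⊤)) (V : X.Opens) :
    (f.app V).hom ((X.presheaf.map (homOfLE (le_top : V ≤ ⊤)).op).hom a) =
      (Z.presheaf.map (homOfLE (le_top : f ⁻¹ᵁ V ≤ ⊤)).op).hom (f.appTop.hom a) :=
  ConcreteCategory.congr_hom (f.naturality (homOfLE (le_top : V ≤ ⊤)).op) a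

theorem mulHom_comp_unitToPush (a : Γ(X, ⊤)) :
    mulHom a ≫ ClSub.unitToPush f =
      ClSub.unitToPush f ≫ (Scheme.Modules.pushforward f).map (mulHom (f.appTop.hom a)) :=
  Scheme.Modules.hom_ext _ _ fun V => ConcreteCategory.hom_ext _ _ fun (r : Γ(X, V)) => by
    show (f.app V).hom ((X.presheaf.map (homOfLE (le_top : V ≤ ⊤)).op).hom a * r) =
      (Z.presheaf.map (homOfLE (le_top : f ⁻¹ᵁ V ≤ ⊤)).op).hom (f.appTop.hom a) * (f.app V).hom r
    rw [map_mul, app_res]

theorem idem_appTop {a : Γ(X, ⊤)} (ha : IsIdempotentElem a) : IsIdempotentElem (f.appTop.hom a) :=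
  ha.map f.appTop.hom

/-- The homomorphisms `O → O/J` given by sections on the thickening. -/
noncomputable def secTo (J : X.IdealSheafData) (e : Γ(J.subscheme, ⊤)) :
    Coh.structureModule X ⟶ ClSub.quotMod J :=
  ClSub.toSubscheme J ≫ (Scheme.Modules.pushforward J.subschemeι).map (mulHom e)

theorem secTo_quotMap {J K : X.IdealSheafData} (h : J ≤ K) (e : Γ(J.subscheme, ⊤)) :
    secTo J e ≫ Lef.quotMap h = secTo K ((Scheme.IdealSheafData.inclusion h).appTop.hom e) :=
  Scheme.Modules.hom_ext _ _ fun V => ConcreteCategory.hom_ext _ _ fun (r : Γ(X, V)) => by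
    have hι := Scheme.IdealSheafData.inclusion_subschemeι h
    show (Lef.quotMap h).app V
        ((J.subscheme.presheaf.map (homOfLE (le_top : J.subschemeι ⁻¹ᵁ V ≤ ⊤)).op).hom e *
          (J.subschemeι.app V).hom r) =
      (K.subscheme.presheaf.map (homOfLE (le_top : K.subschemeι ⁻¹ᵁ V ≤ ⊤)).op).hom
        ((Scheme.IdealSheafData.inclusion h).appTop.hom e) * (K.subschemeι.app V).hom r
    rw [Scheme.Hom.congr_app hι.symm V]
    show (K.subscheme.presheaf.map _).hom (((Scheme.IdealSheafData.inclusion h).app (J.subschemeι ⁻¹ᵁ V)).hom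
        ((J.subscheme.presheaf.map (homOfLE (le_top : J.subschemeι ⁻¹ᵁ V ≤ ⊤)).op).hom e *
          (J.subschemeι.app V).hom r)) = _
    rw [map_mul, map_mul, app_res, ← CommRingCat.comp_apply, ← Functor.map_comp]
    rfl

theorem reduce_eq {J : X.IdealSheafData} {a : Γ(X, ⊤)} :
    mulHom a ≫ ClSub.toSubscheme J = secTo J (J.subschemeι.appTop.hom a) :=
  mulHom_comp_unitToPush J.subschemeι a

section Lef

variable (X) (𝓘 : X.IdealSheafData) (h : Lef.LefCond X 𝓘) (U : X.Opens)
  (hU : (𝓘.support : Set X) ⊆ (U : Set X))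

/-- The `n`-th thickening of `Y` in `U`. -/
noncomputable abbrev thick (n : ℕ) : (U : Scheme.{u}).IdealSheafData := 𝓘.comap U.ι ^ (n + 1)

theorem mem_support (n : ℕ) (z : (thick X 𝓘 U n).subscheme) :
    U.ι ((thick X 𝓘 U n).subschemeι z) ∈ 𝓘.support := by
  have : (thick X 𝓘 U n).subschemeι z ∈ (thick X 𝓘 U n).support := by
    rw [← SetLike.mem_coe, ← Scheme.IdealSheafData.range_subschemeι]
    exact ⟨z, rfl⟩
  rw [Scheme.IdealSheafData.support_pow_succ, Scheme.IdealSheafData.support_comap] at this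
  exact this

/-- The underlying map of a thickening to `Y`. -/
noncomputable def toY (n : ℕ) (z : (thick X 𝓘 U n).subscheme) : (𝓘.support : Set X) :=
  ⟨U.ι ((thick X 𝓘 U n).subschemeι z), mem_support X 𝓘 U n z⟩

theorem continuous_toY (n : ℕ) : Continuous (toY X 𝓘 U n) :=
  Continuous.subtype_mk ((U.ι.continuous).comp (thick X 𝓘 U n).subschemeι.continuous) _

include h hU

/-- An idempotent function on `U` is determined by its restriction to the thickenings of `Y`. -/
theorem eq_of_reduce {a b : Γ((U : Scheme.{u}), ⊤)}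
    (hab : ∀ n, (thick X 𝓘 U n).subschemeι.appTop.hom a = (thick X 𝓘 U n).subschemeι.appTop.hom b) :
    a = b := by
  have := (h U hU _ (Groth.Agent.Coherent.CohBC.isFinLocFree_structureModule _)).1 (mulHom a) (mulHom b)
    fun n => by rw [reduce_eq, reduce_eq, hab n]
  rw [← mulHom_app_top a, ← mulHom_app_top b, this]

/-- A nonempty clopen subset of `U` meets `Y`. -/
theorem eq_empty_of_disjoint {W : Set (U : Scheme.{u})} (hW : IsClopen W)
    (hd : ∀ w ∈ W, U.ι w ∉ 𝓘.support) : W = ∅ := by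
  obtain ⟨e, he, heW⟩ := SectionsIdem.exists_idempotent hW
  have h0 : e = 0 := eq_of_reduce X 𝓘 h U hU fun n => by
    rw [map_zero]
    refine SectionsIdem.eq_of_basicOpen_eq (idem_appTop _ he) IsIdempotentElem.zero ?_
    rw [← Scheme.preimage_basicOpen_top, Scheme.basicOpen_zero, eq_bot_iff]
    intro z hz
    have hz' : (thick X 𝓘 U n).subschemeι z ∈ ((U : Scheme.{u}).basicOpen e : Set (U : Scheme.{u})) := hz
    rw [heW] at hz'
    exact absurd (mem_support X 𝓘 U n z) (hd _ hz')
  rw [← heW, h0, Scheme.basicOpen_zero]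
  rfl

/-- Every clopen subset of `Y` is the trace of one of `U`. -/
theorem exists_clopen {t : Set (𝓘.support : Set X)} (ht : IsClopen t) :
    ∃ W : Set (U : Scheme.{u}), IsClopen W ∧
      ∀ (w : (U : Scheme.{u})) (hw : U.ι w ∈ 𝓘.support), w ∈ W ↔ (⟨U.ι w, hw⟩ : (𝓘.support : Set X)) ∈ t := by
  choose e he het using fun n => SectionsIdem.exists_idempotent (ht.preimage (continuous_toY X 𝓘 U n))
  have hcomp : ∀ n, (Scheme.IdealSheafData.inclusion (Lef.pow_succ_le (𝓘.comap U.ι) n)).appTop.hom (e (n + 1)) =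
      e n := fun n => by
    refine SectionsIdem.eq_of_basicOpen_eq (idem_appTop _ (he _)) (he n) ?_
    rw [← Scheme.preimage_basicOpen_top]
    refine SetLike.coe_injective ?_
    rw [het n]
    show _ ⁻¹' ((thick X 𝓘 U (n + 1)).subscheme.basicOpen (e (n + 1)) : Set ↥(thick X 𝓘 U (n + 1)).subscheme) = _
    rw [het (n + 1), ← Set.preimage_comp]
    refine congrArg (fun g => g ⁻¹' t) (funext fun z => Subtype.ext ?_)
    show U.ι ((thick X 𝓘 U (n + 1)).subschemeι
        (Scheme.IdealSheafData.inclusion (Lef.pow_succ_le (𝓘.comap U.ι) n) z)) =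
      U.ι ((thick X 𝓘 U n).subschemeι z)
    rw [← Scheme.Hom.comp_apply (Scheme.IdealSheafData.inclusion _), Scheme.IdealSheafData.inclusion_subschemeι]
  obtain ⟨φ, hφ⟩ := (h U hU _ (Groth.Agent.Coherent.CohBC.isFinLocFree_structureModule _)).2
    (fun n => secTo (thick X 𝓘 U n) (e n)) fun n => by rw [secTo_quotMap, hcomp n]
  let s : Γ((U : Scheme.{u}), ⊤) := φ.app ⊤ (1 : Γ((U : Scheme.{u}), ⊤))
  have hs : ∀ n, (thick X 𝓘 U n).subschemeι.appTop.hom s = e n := fun n => by
    refine ((congrArg (fun g => g.app ⊤ (1 : Γ((U : Scheme.{u}), ⊤))) (hφ n)) : _).trans ?_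
    show (mulHom (e n)).app ⊤ ((thick X 𝓘 U n).subschemeι.appTop.hom 1) = e n
    rw [map_one, mulHom_app_top]
  have hidem : IsIdempotentElem s := eq_of_reduce X 𝓘 h U hU fun n => by
    rw [map_mul, hs n, (he n).eq]
  refine ⟨_, SectionsIdem.isClopen_basicOpen hidem, fun w hw => ?_⟩
  have hw' : w ∈ (thick X 𝓘 U 0).support := by
    rw [Scheme.IdealSheafData.support_pow_succ, Scheme.IdealSheafData.support_comap]
    exact hw
  rw [← SetLike.mem_coe, ← Scheme.IdealSheafData.range_subschemeι] at hw'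
  obtain ⟨z, rfl⟩ := hw'
  have hz : (z ∈ ((thick X 𝓘 U 0).subscheme.basicOpen (e 0) : Set _)) ↔ toY X 𝓘 U 0 z ∈ t := by
    rw [het 0]
    rfl
  rw [← hs 0, ← Scheme.preimage_basicOpen_top] at hz
  exact hz

/-- `Y` is connected iff `U` is. -/
theorem connected_iff : ConnectedSpace (𝓘.support : Set X) ↔ ConnectedSpace U := by
  let g : ↥(𝓘.support : Set X) → (U : Scheme.{u}) := fun y => ⟨y.1, hU y.2⟩
  have hg : Continuous g := Continuous.subtype_mk continuous_subtype_val _
  constructor
  · intro hY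
    haveI : Nonempty U := hY.toNonempty.map g
    haveI : PreconnectedSpace U := by
      refine preconnectedSpace_iff_clopen.2 fun W hW => ?_
      rcases isClopen_iff.1 (hW.preimage hg) with hW' | hW'
      · refine Or.inl (eq_empty_of_disjoint X 𝓘 h U hU hW fun w hw hm => ?_)
        have : (⟨U.ι w, hm⟩ : (𝓘.support : Set X)) ∈ g ⁻¹' W := hw
        rw [hW'] at this
        exact this
      · refine Or.inr (Set.compl_empty_iff.1 (eq_empty_of_disjoint X 𝓘 h U hU hW.compl fun w hw hm => ?_))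
        have : (⟨U.ι w, hm⟩ : (𝓘.support : Set X)) ∈ g ⁻¹' W := hW'.symm ▸ trivial
        exact hw this
    exact ⟨inferInstance⟩
  · intro hUc
    haveI : Nonempty (𝓘.support : Set X) := by
      by_contra hne
      have := eq_empty_of_disjoint X 𝓘 h U hU isClopen_univ fun w _ hm => hne ⟨⟨_, hm⟩⟩
      exact (Set.univ_nonempty (α := U)).ne_empty this
    haveI : PreconnectedSpace (𝓘.support : Set X) := by
      refine preconnectedSpace_iff_clopen.2 fun t ht => ?_
      obtain ⟨W, hW, hWt⟩ := exists_clopen X 𝓘 h U hU ht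
      have key : ∀ y : (𝓘.support : Set X), g y ∈ W ↔ y ∈ t := fun y => hWt (g y) y.2
      rcases isClopen_iff.1 hW with rfl | rfl
      · exact Or.inl (Set.eq_empty_of_forall_notMem fun y hy => (key y).2 hy)
      · exact Or.inr (Set.eq_univ_of_forall fun y => (key y).1 trivial)
    exact ⟨inferInstance⟩

end Lef

end Groth.Agent.Lef23
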