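import Groth.Agent.FEtStein.ConnFibreFF
import Groth.Agent.FEtQuot.RestrictExact
import Groth.Agent.FEtStein.FibreIso

/-!
# Restriction of covers to a closed subscheme with lifting of clopen subsets of finite étale covers
-/

set_option autoImplicit false
set_option linter.style.haveILetI false
set_option backward.isDefEq.respectTransparency.types false
set_option backward.isDefEq.respectTransparency false
universe u

open CategoryTheory CategoryTheory.Limits AlgebraicGeometry TopologicalSpace

namespace Groth.Agent.Lef23.CoupleEt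
open Groth.Agent.FEtStein

variable {X₀ X : Scheme.{u}} (i : X₀ ⟶ X)

theorem restrict_map_fst₀ {Y Z : FEt.Cat X} (a : Y ⟶ Z) :
    ((FEt.restrict i).map a).left ≫ pullback.fst Z.hom i = pullback.fst Y.hom i ≫ a.left := by
  simp [FEt.restrict, MorphismProperty.Over.pullback]

variable
  (hC : ∀ (Y : Scheme.{u}) (g : Y ⟶ X), IsFinite g → Etale g → ∀ V : Set ↥(pullback g i), IsClopen V →
    ∃! U : Set ↥Y, IsClopen U ∧ (pullback.fst g i).base ⁻¹' U = V)

include hC

/-- A nonempty clopen subset of a finite scheme meets the closed part. -/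
theorem eq_empty_of_disjoint_range {Z : Scheme.{u}} (g : Z ⟶ X) [IsFinite g] [Etale g] {D : Set Z} (hD : IsClopen D)
    (h : ∀ z ∈ D, g z ∉ Set.range i) : D = ∅ := by
  obtain ⟨U, -, hu⟩ := hC Z g inferInstance inferInstance ∅ isClopen_empty
  refine (hu D ⟨hD, Set.eq_empty_of_forall_notMem fun w hw => h _ hw ⟨pullback.snd g i w, ?_⟩⟩).trans
    (hu ∅ ⟨isClopen_empty, Set.preimage_empty⟩).symm
  rw [← Scheme.Hom.comp_apply, ← pullback.condition, Scheme.Hom.comp_apply]

/-- A finite étale morphism of finite schemes which is an isomorphism on the closed part is an isomorphism. -/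
theorem isIso_of_isIso_closed {C Y : Scheme.{u}} (q : C ⟶ Y) [IsFinite q] [Etale q] (g : Y ⟶ X) [IsFinite g] [Etale g]
    [IsIso (pullback.snd q (pullback.fst g i))] : IsIso q := by
  haveI : Surjective q := by
    have h0 : (Set.range q)ᶜ = ∅ := eq_empty_of_disjoint_range i hC g
      (IsClopen.compl ⟨q.isClosedMap.isClosed_range, q.isOpenMap.isOpen_range⟩) fun y hy ⟨p, hp⟩ => by
        obtain ⟨w, hw, -⟩ := Scheme.Pullback.exists_preimage_pullback (f := g) (g := i) y p hp.symm
        obtain ⟨c, hc⟩ := (pullback.snd q (pullback.fst g i)).surjective w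
        exact hy ⟨pullback.fst q (pullback.fst g i) c, by
          rw [← Scheme.Hom.comp_apply, pullback.condition, Scheme.Hom.comp_apply, hc, hw]⟩
    exact ⟨fun y => by_contra fun hy => (Set.eq_empty_iff_forall_notMem.mp h0 y) hy⟩
  haveI : UniversallyInjective q := by
    rw [UniversallyInjective.iff_diagonal]
    let Δ := pullback.diagonal q
    haveI : IsFinite (pullback.fst q q) := MorphismProperty.pullback_fst _ _ ‹IsFinite q›
    haveI : Etale (pullback.fst q q) := MorphismProperty.pullback_fst _ _ ‹Etale q›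
    have h0 : (Set.range Δ)ᶜ = ∅ := eq_empty_of_disjoint_range i hC (pullback.fst q q ≫ q ≫ g)
      (IsClopen.compl ⟨Δ.isClosedEmbedding.isClosed_range, Δ.isOpenEmbedding.isOpen_range⟩) fun z hz ⟨p, hp⟩ => by
        obtain ⟨w, hw, -⟩ := Scheme.Pullback.exists_preimage_pullback (f := g) (g := i)
          ((pullback.fst q q ≫ q) z) p (by rw [← Scheme.Hom.comp_apply, Category.assoc]; exact hp.symm)
        obtain ⟨x, hx, -⟩ := Scheme.Pullback.exists_preimage_pullback (f := pullback.fst q q ≫ q)
          (g := pullback.fst g i) z w hw.symm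
        let a := pullback.fst (pullback.fst q q ≫ q) (pullback.fst g i)
        let b := pullback.snd (pullback.fst q q ≫ q) (pullback.fst g i)
        have hab : a ≫ pullback.fst q q ≫ q = b ≫ pullback.fst g i := pullback.condition
        have e : a ≫ pullback.fst q q = a ≫ pullback.snd q q := by
          have h1 := pullback.lift_fst (f := q) (g := pullback.fst g i) (a ≫ pullback.fst q q) b
            (by rw [Category.assoc, hab])
          have h2 := pullback.lift_fst (f := q) (g := pullback.fst g i) (a ≫ pullback.snd q q) b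
            (by rw [Category.assoc, ← pullback.condition, hab])
          rw [← h1, ← h2]
          congr 1
          rw [← cancel_mono (pullback.snd q (pullback.fst g i))]
          simp
        refine hz ⟨(a ≫ pullback.fst q q) x, ?_⟩
        have e2 : a = (a ≫ pullback.fst q q) ≫ Δ := pullback.hom_ext (by simp [Δ]) (by simp [Δ, e])
        rw [← hx]
        exact ((congrArg (fun k : pullback (pullback.fst q q ≫ q) (pullback.fst g i) ⟶ pullback q q => k x) e2).trans
          (Scheme.Hom.comp_apply _ _ _)).symm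
    exact ⟨fun d => by_contra fun hd => (Set.eq_empty_iff_forall_notMem.mp h0 d) hd⟩
  haveI := Groth.Agent.FEtLib.isOpenImmersion_of_etale_universallyInjective q
  haveI : Epi q.base := (TopCat.epi_iff_surjective _).mpr q.surjective
  exact IsOpenImmersion.isIso _

theorem restrict_faithful_of_couple : (FEt.restrict i).Faithful := by
  refine ⟨fun {Y Z} a b h => ?_⟩
  haveI : IsFinite Y.hom := Y.prop.1
  haveI : Etale Y.hom := Y.prop.2
  haveI : IsFinite Z.hom := Z.prop.1
  haveI : Etale Z.hom := Z.prop.2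
  let d : Y.left ⟶ pullback Z.hom Z.hom := pullback.lift a.left b.left
    ((MorphismProperty.Over.w a).trans (MorphismProperty.Over.w b).symm)
  let Δ := pullback.diagonal Z.hom
  let q := pullback.fst d Δ
  haveI : IsFinite q := MorphismProperty.pullback_fst _ _ (inferInstance : IsFinite Δ)
  haveI : Etale q := MorphismProperty.pullback_fst _ _ (inferInstance : Etale Δ)
  have hq : q ≫ a.left = q ≫ b.left := by
    have h1 := congrArg (· ≫ pullback.fst Z.hom Z.hom) (pullback.condition (f := d) (g := Δ))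
    have h2 := congrArg (· ≫ pullback.snd Z.hom Z.hom) (pullback.condition (f := d) (g := Δ))
    simp only [d, Δ, Category.assoc, pullback.lift_fst, pullback.lift_snd, pullback.diagonal_fst,
      pullback.diagonal_snd, Category.comp_id] at h1 h2
    exact h1.trans h2.symm
  let ρ := pullback.fst Y.hom i
  have hρ : ρ ≫ a.left = ρ ≫ b.left := by rw [← restrict_map_fst₀ i a, ← restrict_map_fst₀ i b, h]
  let σ : pullback Y.hom i ⟶ pullback d Δ := pullback.lift ρ (ρ ≫ a.left)
    (pullback.hom_ext (by simp [d, Δ]) (by simp [d, Δ, hρ]))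
  let σ' : pullback Y.hom i ⟶ pullback q ρ := pullback.lift σ (𝟙 _)
    (by rw [Category.id_comp]; exact pullback.lift_fst _ _ _)
  haveI : IsSplitEpi (pullback.snd q ρ) := IsSplitEpi.mk' ⟨σ', pullback.lift_snd _ _ _⟩
  haveI : IsIso (pullback.snd q ρ) := isIso_of_mono_of_isSplitEpi _
  haveI : IsIso q := isIso_of_isIso_closed i hC q Y.hom
  exact MorphismProperty.Over.Hom.ext ((cancel_epi q).mp hq)

/-- Restriction of covers along a closed part lifting clopen subsets is fully faithful. -/
theorem restrict_full_faithful_of_couple [IsClosedImmersion i] :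
    (FEt.restrict i).Full ∧ (FEt.restrict i).Faithful := by
  refine ⟨⟨fun {Y Z} φ => ?_⟩, restrict_faithful_of_couple i hC⟩
  haveI : IsFinite Y.hom := Y.prop.1
  haveI : Etale Y.hom := Y.prop.2
  haveI : IsFinite Z.hom := Z.prop.1
  haveI : Etale Z.hom := Z.prop.2
  let pY := pullback.fst Y.hom Z.hom
  let pZ := pullback.snd Y.hom Z.hom
  haveI : IsFinite pY := MorphismProperty.pullback_fst _ _ ‹IsFinite Z.hom›
  haveI : Etale pY := MorphismProperty.pullback_fst _ _ ‹Etale Z.hom›
  let p := pullback.fst (pY ≫ Y.hom) i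
  let fY := pullback.fst Y.hom i
  let q₀ : pullback (pY ≫ Y.hom) i ⟶ pullback Y.hom i :=
    pullback.lift (p ≫ pY) (pullback.snd _ _) (by rw [Category.assoc]; exact pullback.condition)
  have hq : IsPullback p q₀ pY fY := by
    refine IsPullback.of_bot ?_ (pullback.lift_fst _ _ _).symm (IsPullback.of_hasPullback Y.hom i)
    simpa [q₀] using IsPullback.of_hasPullback (pY ≫ Y.hom) i
  haveI : IsFinite q₀ := MorphismProperty.of_isPullback hq ‹IsFinite pY›
  haveI : Etale q₀ := MorphismProperty.of_isPullback hq ‹Etale pY›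
  have hφ : φ.left ≫ pullback.snd Z.hom i = pullback.snd Y.hom i := MorphismProperty.Over.w φ
  let γ : pullback Y.hom i ⟶ pullback (pY ≫ Y.hom) i :=
    pullback.lift (pullback.lift fY (φ.left ≫ pullback.fst Z.hom i) (by
      show fY ≫ Y.hom = (φ.left ≫ pullback.fst Z.hom i) ≫ Z.hom
      rw [pullback.condition, Category.assoc, pullback.condition]
      exact (congrArg (· ≫ i) hφ).symm.trans (Category.assoc _ _ _)))
      (pullback.snd Y.hom i) (by simp only [pY, fY, pullback.lift_fst_assoc]; exact pullback.condition)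
  have hγ : γ ≫ q₀ = 𝟙 _ := pullback.hom_ext (by simp [γ, q₀, p, pY, fY]) (by simp [γ, q₀])
  haveI : IsClosedImmersion (γ ≫ q₀) := by rw [hγ]; infer_instance
  haveI : IsClosedImmersion γ := IsClosedImmersion.of_comp γ q₀
  haveI : Etale (γ ≫ q₀) := by rw [hγ]; infer_instance
  haveI : Etale γ := Etale.of_comp γ q₀
  haveI : IsOpenImmersion γ := IsOpenImmersion.of_flat_of_mono γ
  have hD : IsClopen (Set.range γ) := ⟨γ.isClosedEmbedding.isClosed_range, γ.isOpenEmbedding.isOpen_range⟩
  obtain ⟨U, ⟨hU, hsat⟩, -⟩ := hC _ (pY ≫ Y.hom) inferInstance inferInstance _ hD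
  replace hsat : p ⁻¹' U = Set.range γ := hsat
  let V : (pullback Y.hom Z.hom).Opens := ⟨U, hU.isOpen⟩
  haveI : IsClosedImmersion V.ι := IsClosedImmersion.of_isPreimmersion _ (by rw [Scheme.Opens.range_ι]; exact hU.isClosed)
  let c := V.ι ≫ pY
  have hr : Set.range γ ⊆ Set.range (p ⁻¹ᵁ V).ι := by
    rw [Scheme.Opens.range_ι]
    exact hsat.symm.subset
  let l := IsOpenImmersion.lift (p ⁻¹ᵁ V).ι γ hr
  have hl : l ≫ (p ⁻¹ᵁ V).ι = γ := IsOpenImmersion.lift_fac _ _ _
  haveI : IsOpenImmersion (l ≫ (p ⁻¹ᵁ V).ι) := by rw [hl]; infer_instance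
  haveI : IsOpenImmersion l := IsOpenImmersion.of_comp l (p ⁻¹ᵁ V).ι
  haveI : Epi l.base := by
    rw [TopCat.epi_iff_surjective]
    intro z
    obtain ⟨y, hy⟩ := hsat.subset z.2
    refine ⟨y, (p ⁻¹ᵁ V).ι.injective ?_⟩
    rw [← Scheme.Hom.comp_apply, hl]
    exact hy
  haveI : IsIso l := IsOpenImmersion.isIso l
  have h2 : IsPullback (p ∣_ V) ((p ⁻¹ᵁ V).ι ≫ q₀) c fY := (isPullback_morphismRestrict p V).paste_vert hq
  haveI : IsIso ((p ⁻¹ᵁ V).ι ≫ q₀) := by
    have h1 : l ≫ ((p ⁻¹ᵁ V).ι ≫ q₀) = 𝟙 _ := by rw [← Category.assoc, hl, hγ]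
    exact IsIso.of_isIso_fac_left h1
  haveI : IsIso (pullback.snd c fY) := by
    rw [← h2.isoPullback_inv_snd]
    infer_instance
  haveI : IsIso c := isIso_of_isIso_closed i hC c Y.hom
  refine ⟨MorphismProperty.Over.homMk (inv c ≫ V.ι ≫ pZ) ?_, ?_⟩
  · show (inv c ≫ V.ι ≫ pZ) ≫ Z.hom = Y.hom
    rw [Category.assoc, Category.assoc, IsIso.inv_comp_eq, Category.assoc, ← pullback.condition]
  · apply MorphismProperty.Over.Hom.ext
    apply pullback.hom_ext
    · rw [restrict_map_fst₀]
      show fY ≫ inv c ≫ V.ι ≫ pZ = _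
      have h3 : fY ≫ inv c = l ≫ (p ∣_ V) := by
        rw [IsIso.comp_inv_eq, Category.assoc, h2.w, ← Category.assoc, ← Category.assoc, hl, hγ, Category.id_comp]
      rw [← Category.assoc, h3, Category.assoc, morphismRestrict_ι_assoc, ← Category.assoc l, hl]
      simp [γ, p, pZ]
    · rw [hφ]
      exact MorphismProperty.Over.w _

end Groth.Agent.Lef23.CoupleEt
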