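import Groth.Agent.Lef23.Formal
import Groth.Agent.PicDef15.StepCoh
import Groth.Agent.TwistLib.G.Map
import Groth.Agent.AmpleLib.FTIdeal

/-!
# Locally cyclic modules with given annihilator
-/

set_option autoImplicit false
set_option linter.style.haveILetI false
set_option backward.isDefEq.respectTransparency.types false

universe u

open CategoryTheory CategoryTheory.Limits AlgebraicGeometry Opposite TopologicalSpace
open Groth.Agent.Coherent Groth.Agent.PicLib Groth.Agent.AmpleLib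

noncomputable section

namespace Groth.Agent.Lef23

variable {X : Scheme.{u}}

/-- `e` generates `P` on the affine opens inside `V`, with annihilator `J`. -/
structure Gen (P : X.Modules) (J : X.IdealSheafData) (V : X.Opens) (e : Γ(P, V)) : Prop where
  surj : ∀ (B : X.affineOpens) (h : B.1 ≤ V) (z : Γ(P, B.1)), ∃ r : Γ(X, B.1), r • resM P h e = z
  ker : ∀ (B : X.affineOpens) (h : B.1 ≤ V) (r : Γ(X, B.1)), r • resM P h e = 0 ↔ r ∈ J.ideal B

/-- Locally cyclic with annihilator `J`. -/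
def Cyc (P : X.Modules) (J : X.IdealSheafData) : Prop :=
  ∀ x : X, ∃ V : X.affineOpens, x ∈ V.1 ∧ ∃ e : Γ(P, V.1), Gen P J V.1 e

/-- Surjective on the small affine opens. -/
def Surj {P P' : X.Modules} (φ : P ⟶ P') : Prop :=
  ∀ x : X, ∃ V : X.affineOpens, x ∈ V.1 ∧ ∀ B : X.affineOpens, B.1 ≤ V.1 → Function.Surjective (φ.app B.1)

theorem Gen.restrict {P : X.Modules} {J : X.IdealSheafData} {V W : X.Opens} {e : Γ(P, V)} (he : Gen P J V e)
    (h : W ≤ V) : Gen P J W (resM P h e) where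
  surj B hB z := by
    obtain ⟨r, hr⟩ := he.surj B (hB.trans h) z
    exact ⟨r, by rw [resM_resM]; exact hr⟩
  ker B hB r := by rw [resM_resM]; exact he.ker B (hB.trans h) r

theorem mem_ideal_iff (J : X.IdealSheafData) (B : X.affineOpens) (r : Γ(X, B.1)) :
    r ∈ J.ideal B ↔ J.subschemeι.app B.1 r = 0 := by
  rw [← Scheme.IdealSheafData.ker_subschemeι_app]
  rfl

/-- Membership in an ideal sheaf is local. -/
theorem mem_ideal_of_local (J : X.IdealSheafData) (B : X.affineOpens) (r : Γ(X, B.1))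
    (h : ∀ y ∈ B.1, ∃ (C : X.affineOpens) (hC : C.1 ≤ B.1), y ∈ C.1 ∧ PicLib.res hC r ∈ J.ideal C) :
    r ∈ J.ideal B := by
  rw [mem_ideal_iff]
  refine sec_ext (ClSub.quotMod J) (show Γ(ClSub.quotMod J, B.1) from J.subschemeι.app B.1 r) 0 fun y hy => ?_
  obtain ⟨C, hC, hyC, hr⟩ := h y hy
  refine ⟨C.1, hC, hyC, ?_⟩
  rw [mem_ideal_iff] at hr
  rw [map_zero]
  refine Eq.trans ?_ hr
  exact (app_resM (ClSub.toSubscheme J) hC (show Γ(Coh.structureModule X, B.1) from r)).symm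

/-- The classes of `1` generate `O/J`. -/
theorem gen_quot (J : X.IdealSheafData) (V : X.Opens) :
    Gen (ClSub.quotMod J) J V ((ClSub.toSubscheme J).app V (show Γ(Coh.structureModule X, V) from (1 : Γ(X, V)))) := by
  have key : ∀ (B : X.Opens) (h : B ≤ V) (r : Γ(X, B)), r • resM (ClSub.quotMod J) h
      ((ClSub.toSubscheme J).app V (show Γ(Coh.structureModule X, V) from (1 : Γ(X, V)))) =
      (show Γ(ClSub.quotMod J, B) from J.subschemeι.app B r) := fun B h r => by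
    have h1 : resM (Coh.structureModule X) h (show Γ(Coh.structureModule X, V) from (1 : Γ(X, V))) =
        (show Γ(Coh.structureModule X, B) from (1 : Γ(X, B))) :=
      map_one (X.presheaf.map (homOfLE h).op).hom
    rw [← app_resM, h1, ← Scheme.Modules.Hom.app_smul]
    exact congrArg (J.subschemeι.app B).hom (mul_one r)
  refine ⟨fun B h z => ?_, fun B h r => ?_⟩
  · obtain ⟨r, hr⟩ := J.subschemeι.app_surjective B.1 B.2 z
    exact ⟨r, (key _ h r).trans hr⟩
  · rw [key, mem_ideal_iff]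
    rfl

theorem cyc_quot (J : X.IdealSheafData) : Cyc (ClSub.quotMod J) J := fun x => by
  obtain ⟨V, hV, hxV, -⟩ := exists_isAffineOpen_mem_and_subset (x := x) (U := ⊤) trivial
  exact ⟨⟨V, hV⟩, hxV, _, gen_quot J V⟩

theorem isGen_of_eq_bot {Z : Scheme.{u}} (N : Z.Modules) {U : Z.Opens} (hU : U = ⊥) (s : Γ(N, U)) :
    IsGen N U s := fun V hV => by
  have h0 : ∀ (M : Z.Modules) (a b : Γ(M, V)), a = b := fun M a b => sec_ext M a b fun y hy => by
    have := hV hy
    rw [hU] at this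
    exact this.elim
  exact ⟨fun a b _ => h0 (Coh.structureModule Z) a b, fun z => ⟨0, h0 N _ _⟩⟩

/-- Generators of invertible modules on a closed subscheme. -/
theorem gen_push {Z : Scheme.{u}} (t : Z ⟶ X) [IsClosedImmersion t] (N : Z.Modules) {V : X.Opens}
    {s : Γ(N, t ⁻¹ᵁ V)} (hs : IsGen N (t ⁻¹ᵁ V) s) :
    Gen ((Scheme.Modules.pushforward t).obj N) t.ker V s := by
  refine ⟨fun B h z => ?_, fun B h r => ?_⟩
  · obtain ⟨c, hc⟩ := (hs _ (t.preimage_mono h)).2 z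
    obtain ⟨r, hr⟩ := t.app_surjective B.1 B.2 c
    refine ⟨r, Eq.trans ?_ hc⟩
    show t.app B.1 r • resM N (t.preimage_mono h) s = _
    rw [hr]
  · rw [Scheme.Hom.ker_apply]
    show t.app B.1 r • resM N (t.preimage_mono h) s = 0 ↔ t.app B.1 r = 0
    refine ⟨fun h0 => (hs _ (t.preimage_mono h)).1 ?_, fun h0 => by rw [h0, zero_smul]⟩
    exact h0.trans (zero_smul _ _).symm

theorem cyc_push {Z : Scheme.{u}} (t : Z ⟶ X) [IsClosedImmersion t] {N : Z.Modules} (hN : PicF.IsInvertible N) :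
    Cyc ((Scheme.Modules.pushforward t).obj N) t.ker := fun x => by
  by_cases hx : x ∈ Set.range t
  · obtain ⟨z, rfl⟩ := hx
    obtain ⟨Q, hzQ, s, hs⟩ := exists_isGen hN z
    obtain ⟨V₀, hV₀, e⟩ := t.isEmbedding.isInducing.isOpen_iff.1 Q.2
    obtain ⟨V, hV, hzV, hVV₀⟩ := exists_isAffineOpen_mem_and_subset (x := t z) (U := ⟨V₀, hV₀⟩)
      (show t z ∈ V₀ by have := e.ge hzQ; exact this)
    have hle : t ⁻¹ᵁ V ≤ Q := fun w hw => e.le (hVV₀ hw)
    exact ⟨⟨V, hV⟩, hzV, _, gen_push t N (hs.restrict hle)⟩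
  · obtain ⟨V, hV, hxV, hVr⟩ := exists_isAffineOpen_mem_and_subset (x := x)
      (U := ⟨(Set.range t)ᶜ, t.isClosedEmbedding.isClosed_range.isOpen_compl⟩) hx
    have hbot : t ⁻¹ᵁ V = ⊥ := le_bot_iff.1 fun w hw => hVr hw ⟨w, rfl⟩
    exact ⟨⟨V, hV⟩, hxV, _, gen_push t N (isGen_of_eq_bot N hbot 0)⟩

theorem Cyc.exists_gen {P : X.Modules} {J : X.IdealSheafData} (hP : Cyc P J) {x : X} {U : X.Opens} (hx : x ∈ U) :
    ∃ V : X.affineOpens, x ∈ V.1 ∧ V.1 ≤ U ∧ ∃ e : Γ(P, V.1), Gen P J V.1 e := by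
  obtain ⟨V₀, hx₀, e, he⟩ := hP x
  obtain ⟨V, hV, hxV, hle⟩ := exists_isAffineOpen_mem_and_subset (x := x) (U := U ⊓ V₀.1) ⟨hx, hx₀⟩
  exact ⟨⟨V, hV⟩, hxV, fun y hy => (hle hy).1, _, he.restrict fun y hy => (hle hy).2⟩

/-- The image of a generator under a surjection is a generator. -/
theorem Gen.map {P P' : X.Modules} {J J' : X.IdealSheafData} {V : X.Opens} {e : Γ(P, V)} (he : Gen P J V e)
    (hP' : Cyc P' J') (φ : P ⟶ P') (hφ : ∀ B : X.affineOpens, B.1 ≤ V → Function.Surjective (φ.app B.1)) :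
    Gen P' J' V (φ.app V e) := by
  refine ⟨fun B h z => ?_, fun B h r => ⟨fun h0 => ?_, fun hr => ?_⟩⟩
  · obtain ⟨y, rfl⟩ := hφ B h z
    obtain ⟨r, rfl⟩ := he.surj B h y
    exact ⟨r, by rw [Scheme.Modules.Hom.app_smul, app_resM]⟩
  · refine mem_ideal_of_local J' B r fun y hy => ?_
    obtain ⟨C, hyC, hCB, e', he'⟩ := hP'.exists_gen hy
    obtain ⟨y₀, hy₀⟩ := hφ C (hCB.trans h) (resM P' le_rfl e')
    obtain ⟨c, rfl⟩ := he.surj C (hCB.trans h) y₀
    refine ⟨C, hCB, hyC, (he'.ker C le_rfl _).1 ?_⟩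
    have h1 := congrArg (resM P' hCB) h0
    rw [resM_smul, resM_resM, map_zero] at h1
    rw [← hy₀, Scheme.Modules.Hom.app_smul, app_resM, smul_comm, h1, smul_zero]
  · refine sec_ext _ _ _ fun y hy => ?_
    obtain ⟨C, hyC, hCB, e', he'⟩ := hP'.exists_gen hy
    refine ⟨C.1, hCB, hyC, ?_⟩
    obtain ⟨s, hs⟩ := he'.surj C le_rfl (resM P' (hCB.trans h) (φ.app V e))
    rw [map_zero, resM_smul, resM_resM, ← hs, smul_comm, (he'.ker C le_rfl _).2 ?_, smul_zero]
    exact J'.ideal_le_comap_ideal hCB hr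

theorem Surj.comp {P P' P'' : X.Modules} {φ : P ⟶ P'} {ψ : P' ⟶ P''} (hφ : Surj φ) (hψ : Surj ψ) :
    Surj (φ ≫ ψ) := fun x => by
  obtain ⟨V, hxV, hV⟩ := hφ x
  obtain ⟨W, hxW, hW⟩ := hψ x
  obtain ⟨B, hB, hxB, hle⟩ := exists_isAffineOpen_mem_and_subset (x := x) (U := V.1 ⊓ W.1) ⟨hxV, hxW⟩
  refine ⟨⟨B, hB⟩, hxB, fun C hC z => ?_⟩
  obtain ⟨y, rfl⟩ := hW C (fun w hw => (hle (hC hw)).2) z
  obtain ⟨w, rfl⟩ := hV C (fun w hw => (hle (hC hw)).1) y
  exact ⟨w, rfl⟩

theorem Surj.of_isIso {P P' : X.Modules} (φ : P ⟶ P') [IsIso φ] : Surj φ := fun x => by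
  obtain ⟨V, hV, hxV, -⟩ := exists_isAffineOpen_mem_and_subset (x := x) (U := ⊤) trivial
  exact ⟨⟨V, hV⟩, hxV, fun B _ => (ConcreteCategory.bijective_of_isIso (φ.app B.1)).2⟩

theorem Surj.epi {P P' : X.Modules} {φ : P ⟶ P'} (hφ : Surj φ) : Epi φ :=
  epi_of_locally_surjective φ fun W a y hy => by
    obtain ⟨V, hyV, hV⟩ := hφ y
    obtain ⟨B, hB, hyB, hle⟩ := exists_isAffineOpen_mem_and_subset (x := y) (U := W ⊓ V.1) ⟨hy, hyV⟩
    exact ⟨B, fun z hz => (hle hz).1, hyB, hV ⟨B, hB⟩ (fun z hz => (hle hz).2) _⟩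

/-- Small affine opens on which `A` has a generator and `P` has one mapping to generators. -/
theorem exists_nice {A P P' : X.Modules} (hA : PicF.IsInvertible A) {J : X.IdealSheafData} (hP : Cyc P J)
    {φ : P ⟶ P'} (hφ : Surj φ) {x : X} {U : X.Opens} (hx : x ∈ U) :
    ∃ V : X.affineOpens, x ∈ V.1 ∧ V.1 ≤ U ∧ (∃ g : Γ(A, V.1), IsGen A V.1 g) ∧
      (∀ B : X.affineOpens, B.1 ≤ V.1 → Function.Surjective (φ.app B.1)) ∧ ∃ e : Γ(P, V.1), Gen P J V.1 e := by
  obtain ⟨W₁, hx₁, g, hg⟩ := exists_isGen hA x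
  obtain ⟨W₂, hx₂, h2⟩ := hφ x
  obtain ⟨V, hxV, hle, e, he⟩ := hP.exists_gen (U := U ⊓ W₁ ⊓ W₂.1) (x := x) ⟨⟨hx, hx₁⟩, hx₂⟩
  exact ⟨V, hxV, fun y hy => (hle hy).1.1, ⟨_, hg.restrict fun y hy => (hle hy).1.2⟩,
    fun B hB => h2 B fun y hy => (hle (hB hy)).2, e, he⟩

/-- Tensoring with a generator of an invertible module on the left. -/
theorem bijective_tmul_left {A : X.Modules} {U : X.Opens} {g : Γ(A, U)} (hg : IsGen A U g) (M : X.Modules)
    {V : X.Opens} (h : V ≤ U) : Function.Bijective (fun m : Γ(M, V) => tmul (resM A h g) m) := by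
  have e : (fun m : Γ(M, V) => tmul (resM A h g) m) =
      (AmpleLib.tensorComm M A).hom.app V ∘ fun m : Γ(M, V) => tmul m (resM A h g) :=
    funext fun m => by
      show tmul (resM A h g) m = (AmpleLib.tensorSwap M A).app V (tmul m (resM A h g))
      unfold AmpleLib.tensorSwap
      rw [Bilin.desc_tmul]
  rw [e]
  exact (ConcreteCategory.bijective_of_isIso ((AmpleLib.tensorComm M A).hom.app V)).comp
    (bijective_tmul_gen hg V h)

theorem Gen.tensor {A P : X.Modules} {J : X.IdealSheafData} {V : X.Opens} {g : Γ(A, V)} (hg : IsGen A V g)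
    {e : Γ(P, V)} (he : Gen P J V e) : Gen (CohB1.tensorMod A P) J V (tmul g e) := by
  refine ⟨fun B h z => ?_, fun B h r => ?_⟩
  · obtain ⟨m, rfl⟩ := (bijective_tmul_left hg P h).2 z
    obtain ⟨r, rfl⟩ := he.surj B h m
    exact ⟨r, by rw [resM_tmul, ← tmul_smul_right]⟩
  · rw [resM_tmul, ← tmul_smul_right, ← he.ker B h r]
    refine ⟨fun h0 => (bijective_tmul_left hg P h).1 ?_, fun h0 => by rw [h0, tmul_zero_right]⟩
    exact h0.trans (tmul_zero_right _).symm

theorem cyc_tensor {A P : X.Modules} (hA : PicF.IsInvertible A) {J : X.IdealSheafData} (hP : Cyc P J) :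
    Cyc (CohB1.tensorMod A P) J := fun x => by
  obtain ⟨W, hxW, g, hg⟩ := exists_isGen hA x
  obtain ⟨V, hxV, hle, e, he⟩ := hP.exists_gen hxW
  exact ⟨V, hxV, _, Gen.tensor (hg.restrict hle) he⟩

/-- Multiplication through a map to `O`. -/
def actBilin {A : X.Modules} (a : A ⟶ Coh.structureModule X) (P : X.Modules) : Bilin A P P where
  app U x z := (show Γ(X, U) from a.app U x) • z
  add_left U x x' z := by rw [map_add]; exact add_smul (show Γ(X, U) from a.app U x) (show Γ(X, U) from a.app U x') z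
  add_right U x z z' := smul_add _ _ _
  smul_left U r x z := by
    rw [Scheme.Modules.Hom.app_smul]
    exact mul_smul r (show Γ(X, U) from a.app U x) z
  smul_right U r x z := smul_comm _ _ _
  res U V h x z := by
    refine (resM_smul P h (show Γ(X, U) from a.app U x) z).trans ?_
    exact congrArg (fun c : Γ(X, V) => c • resM P h z) (app_resM a h x).symm

/-- **The kernel of a surjection of cyclic modules**: if locally `J' = (f)` and `J = f J''` with `f` the image of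
a generator of `A`, the kernel of `P → P'` is `A ⊗ P''`. -/
theorem exists_kernel_iso {A : X.Modules} (hA : PicF.IsInvertible A) (a : A ⟶ Coh.structureModule X) [Mono a]
    {P P' P'' : X.Modules} {J J' J'' : X.IdealSheafData} (hP : Cyc P J) (hP' : Cyc P' J') (hP'' : Cyc P'' J'')
    (q : P ⟶ P') (p : P ⟶ P'') (hq : Surj q) (hp : Surj p)
    (hJ : ∀ (V : X.affineOpens) (g : Γ(A, V.1)), IsGen A V.1 g →
      J'.ideal V = Ideal.span {(show Γ(X, V.1) from a.app V.1 g)} ∧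
      J.ideal V = Ideal.span {(show Γ(X, V.1) from a.app V.1 g)} * J''.ideal V) :
    Nonempty (kernel q ≅ CohB1.tensorMod A P'') := by
  let μ : CohB1.tensorMod A P ⟶ P := (actBilin a P).desc
  -- local data
  have nice : ∀ (x : X) (U : X.Opens), x ∈ U → ∃ V : X.affineOpens, x ∈ V.1 ∧ V.1 ≤ U ∧
      (∀ B : X.affineOpens, B.1 ≤ V.1 → ∃ (g : Γ(A, B.1)) (e : Γ(P, B.1)), IsGen A B.1 g ∧ Gen P J B.1 e ∧
        Gen P' J' B.1 (q.app B.1 e) ∧ Gen P'' J'' B.1 (p.app B.1 e)) := fun x U hx => by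
    obtain ⟨V₁, hx₁, hle₁, -, hqs, -⟩ := exists_nice hA hP hq hx
    obtain ⟨V, hxV, hle, ⟨g, hg⟩, hps, e, he⟩ := exists_nice hA hP hp hx₁
    refine ⟨V, hxV, hle.trans hle₁, fun B hB => ⟨resM A hB g, resM P hB e, hg.restrict hB, he.restrict hB,
      (he.restrict hB).map hP' q fun C hC => hqs C ((hC.trans hB).trans hle),
      (he.restrict hB).map hP'' p fun C hC => hps C (hC.trans hB)⟩⟩
  -- the affine opens with generators form a basis
  let Nice : X.Opens → Prop := fun B => ∃ hB : IsAffineOpen B, ∃ (g : Γ(A, B)) (e : Γ(P, B)), IsGen A B g ∧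
    Gen P J B e ∧ Gen P' J' B (q.app B e) ∧ Gen P'' J'' B (p.app B e)
  have hbasis : ∀ (U : X.Opens) (y : X), y ∈ U → ∃ B, Nice B ∧ y ∈ B ∧ B ≤ U := fun U y hy => by
    obtain ⟨V, hyV, hle, hV⟩ := nice y U hy
    exact ⟨V.1, ⟨V.2, hV V le_rfl⟩, hyV, hle⟩
  have hext : ∀ {M : X.Modules} (f g : CohB1.tensorMod A P ⟶ M),
      (∀ B, Nice B → ∀ z, f.app B z = g.app B z) → f = g := fun f g h => by
    refine Scheme.Modules.hom_ext _ _ fun U => ConcreteCategory.hom_ext _ _ fun z => ?_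
    refine sec_ext _ _ _ fun y hy => ?_
    obtain ⟨B, hB, hyB, hle⟩ := hbasis U y hy
    exact ⟨B, hle, hyB, by rw [← app_resM, ← app_resM]; exact h B hB _⟩
  -- the image of `g ⊗ re`
  have hμ : ∀ (B : X.Opens) (g : Γ(A, B)) (z : Γ(P, B)),
      μ.app B (tmul g z) = (show Γ(X, B) from a.app B g) • z := fun B g z => Bilin.desc_tmul _ B g z
  have hzero : μ ≫ q = 0 := hext _ _ fun B ⟨hB, g, e, hg, he, heq, hep⟩ z => by
    obtain ⟨m, rfl⟩ := (bijective_tmul_left hg P le_rfl).2 z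
    obtain ⟨r, rfl⟩ := he.surj ⟨B, hB⟩ le_rfl m
    simp only [PicLib.resM_self]
    rw [Scheme.Modules.Hom.comp_app, ConcreteCategory.comp_apply, hμ, ← mul_smul, Scheme.Modules.Hom.app_smul]
    refine Eq.trans ?_ rfl
    refine ((congrArg (fun w => _ • w) (PicLib.resM_self P' le_rfl (q.app B e)).symm).trans ((heq.ker ⟨B, hB⟩ le_rfl _).2 ?_))
    rw [(hJ ⟨B, hB⟩ g hg).1]
    exact Ideal.mem_span_singleton.2 (dvd_mul_right _ _)
  let μ' : CohB1.tensorMod A P ⟶ kernel q := kernel.lift q μ hzero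
  haveI : Epi p := hp.epi
  let π : CohB1.tensorMod A P ⟶ CohB1.tensorMod A P'' := tE A p
  haveI : PreservesColimitsOfSize.{0, 0} (tensE A) := (tensorHomAdj A).leftAdjoint_preservesColimits
  haveI : Epi π := (tensE A).map_epi p
  have hπ : ∀ (B : X.Opens) (g : Γ(A, B)) (z : Γ(P, B)), π.app B (tmul g z) = tmul g (p.app B z) :=
    fun B g z => tensE_map_tmul A p B g z
  have hkern : kernel.ι π ≫ μ' = 0 := by
    refine Scheme.Modules.hom_ext _ _ fun U => ConcreteCategory.hom_ext _ _ fun w => ?_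
    refine sec_ext _ _ _ fun y hy => ?_
    obtain ⟨B, ⟨hB, g, e, hg, he, heq, hep⟩, hyB, hle⟩ := hbasis U y hy
    refine ⟨B, hle, hyB, ?_⟩
    rw [← app_resM, ← app_resM]
    let w' := resM _ hle w
    apply app_injective_of_mono (kernel.ι q) B
    show (kernel.ι q).app B (μ'.app B ((kernel.ι π).app B w')) = (kernel.ι q).app B 0
    rw [map_zero, ← ConcreteCategory.comp_apply, ← Scheme.Modules.Hom.comp_app, kernel.lift_ι]
    have h0 := kernel_ι_app_zero π B w'
    obtain ⟨m, hm⟩ := (bijective_tmul_left hg P le_rfl).2 ((kernel.ι π).app B w')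
    obtain ⟨r, rfl⟩ := he.surj ⟨B, hB⟩ le_rfl m
    simp only [PicLib.resM_self] at hm
    rw [← hm, hπ, Scheme.Modules.Hom.app_smul] at h0
    have h1 : r • p.app B e = 0 := (bijective_tmul_left hg P'' le_rfl).1 (by
      simp only [PicLib.resM_self]
      rw [h0, tmul_zero_right])
    have hr : r ∈ J''.ideal ⟨B, hB⟩ := (hep.ker ⟨B, hB⟩ le_rfl r).1 (by rw [PicLib.resM_self]; exact h1)
    rw [← hm, hμ, ← mul_smul]
    refine (congrArg (fun w => _ • w) (PicLib.resM_self P le_rfl e).symm).trans ((he.ker ⟨B, hB⟩ le_rfl _).2 ?_)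
    rw [(hJ ⟨B, hB⟩ g hg).2]
    exact Ideal.mul_mem_mul (Ideal.mem_span_singleton_self _) hr
  let ν : CohB1.tensorMod A P'' ⟶ kernel q := Abelian.epiDesc π μ' hkern
  have hν : π ≫ ν = μ' := Abelian.comp_epiDesc π μ' hkern
  haveI : IsIso ν := by
    refine TwistLib.G.isIso_of_bijective_on_basis ν Nice hbasis fun B ⟨hB, g, e, hg, he, heq, hep⟩ => ?_
    have hval : ∀ r : Γ(X, B), (kernel.ι q).app B (ν.app B (tmul g (r • p.app B e))) =
        ((show Γ(X, B) from a.app B g) * r) • e := fun r => by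
      rw [← Scheme.Modules.Hom.app_smul, ← hπ, ← ConcreteCategory.comp_apply (π.app B), ← Scheme.Modules.Hom.comp_app, hν,
        ← ConcreteCategory.comp_apply (μ'.app B), ← Scheme.Modules.Hom.comp_app, kernel.lift_ι, hμ, mul_smul]
    have hpre : ∀ z : Γ(CohB1.tensorMod A P'', B), ∃ r : Γ(X, B), tmul g (r • p.app B e) = z := fun z => by
      obtain ⟨m, rfl⟩ := (bijective_tmul_left hg P'' le_rfl).2 z
      obtain ⟨r, rfl⟩ := hep.surj ⟨B, hB⟩ le_rfl m
      exact ⟨r, by simp only [PicLib.resM_self]⟩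
    refine ⟨(injective_iff_map_eq_zero (ν.app B).hom).2 fun z hz => ?_, fun y => ?_⟩
    · obtain ⟨r, rfl⟩ := hpre z
      have h1 := (hval r).symm.trans ((congrArg ((kernel.ι q).app B) hz).trans (map_zero _))
      have h2 := (he.ker ⟨B, hB⟩ le_rfl _).1 (by rw [PicLib.resM_self]; exact h1)
      rw [(hJ ⟨B, hB⟩ g hg).2, Ideal.mem_span_singleton_mul] at h2
      obtain ⟨c, hc, hcr⟩ := h2
      have hrc : r = c := by
        refine (hg B le_rfl).1 (app_injective_of_mono a B ?_)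
        simp only [PicLib.resM_self, Scheme.Modules.Hom.app_smul]
        show r * (show Γ(X, B) from a.app B g) = c * (show Γ(X, B) from a.app B g)
        rw [mul_comm r, ← hcr, mul_comm c]
      have h3 := (hep.ker ⟨B, hB⟩ le_rfl r).2 (hrc ▸ hc)
      rw [PicLib.resM_self] at h3
      rw [h3, tmul_zero_right]
    · obtain ⟨c, hc⟩ := he.surj ⟨B, hB⟩ le_rfl ((kernel.ι q).app B y)
      rw [PicLib.resM_self] at hc
      have h0 : c • q.app B e = 0 := by
        rw [← Scheme.Modules.Hom.app_smul, hc]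
        exact kernel_ι_app_zero q B y
      have h1 := (heq.ker ⟨B, hB⟩ le_rfl c).1 (by rw [PicLib.resM_self]; exact h0)
      rw [(hJ ⟨B, hB⟩ g hg).1, Ideal.mem_span_singleton'] at h1
      obtain ⟨r, rfl⟩ := h1
      refine ⟨tmul g (r • p.app B e), app_injective_of_mono (kernel.ι q) B ?_⟩
      rw [hval, mul_comm, hc]
  exact ⟨(asIso ν).symm⟩

/-- Ideals of powers through a generator. -/
theorem ideal_pow_gen (I : X.IdealSheafData) (n : ℕ) (V : X.affineOpens) {g : Γ(ClSub.idealMod (I ^ n), V.1)}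
    (hg : IsGen (ClSub.idealMod (I ^ n)) V.1 g) :
    (I ^ n).ideal V = Ideal.span {(show Γ(X, V.1) from (ClSub.idealModι (I ^ n)).app V.1 g)} := by
  apply le_antisymm
  · intro r hr
    rw [mem_ideal_iff] at hr
    obtain ⟨k, hk⟩ := (mem_range_idealModι (I ^ n) V.1 r).2 hr
    obtain ⟨c, hc⟩ := (hg V.1 le_rfl).2 k
    simp only [PicLib.resM_self] at hc
    rw [← hk, ← hc, Scheme.Modules.Hom.app_smul]
    exact Ideal.mem_span_singleton'.2 ⟨c, rfl⟩
  · rw [Ideal.span_le, Set.singleton_subset_iff, SetLike.mem_coe, mem_ideal_iff]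
    exact (mem_range_idealModι _ _ _).1 ⟨g, rfl⟩

/-- The kernel between two thickenings. -/
theorem exists_kernel_iso_pow (I : X.IdealSheafData) (hI : BlowUp.IsEffCartierIdeal I) (a b n : ℕ) (hn : n = a + b)
    {P P' P'' : X.Modules} (hP : Cyc P (I ^ n)) (hP' : Cyc P' (I ^ a)) (hP'' : Cyc P'' (I ^ b))
    (q : P ⟶ P') (p : P ⟶ P'') (hq : Surj q) (hp : Surj p) :
    Nonempty (kernel q ≅ CohB1.tensorMod (ClSub.idealMod (I ^ a)) P'') := by
  have hA : PicF.IsInvertible (ClSub.idealMod (I ^ a)) := by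
    obtain ⟨e⟩ := nonempty_idealMod_pow I hI a
    exact KLLib.isInvertible_of_iso e.symm (isInvertible_tensorPow ((Groth.Agent.S8914.result I).2 hI) a)
  haveI := AmpleLib.mono_idealModι (I ^ a)
  refine exists_kernel_iso hA (ClSub.idealModι (I ^ a)) hP hP' hP'' q p hq hp fun V g hg => ?_
  refine ⟨ideal_pow_gen I a V hg, ?_⟩
  rw [← ideal_pow_gen I a V hg, hn, pow_add, Scheme.IdealSheafData.ideal_mul]
  rfl

end Groth.Agent.Lef23
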