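import Groth.Agent.Coherent.TensorBasis
import Groth.Agent.Coherent.TensorFinLoc
import Groth.Agent.TwistLib.G.Map
import Groth.Agent.Lef23.Formal
import Mathlib.RingTheory.TensorProduct.Free

/-!
# Functions on a base change of a finite locally free morphism as a tensor product
-/

set_option autoImplicit false
set_option linter.style.haveILetI false
set_option backward.isDefEq.respectTransparency.types false

universe u

open CategoryTheory CategoryTheory.Limits AlgebraicGeometry Opposite TopologicalSpace TensorProduct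
open Groth.Agent.Coherent Groth.Agent.PicLib Groth.Agent.AmpleLib

namespace Groth.Agent.Lef23

variable {S A B C : Scheme.{u}}

/-- The direct image of the structure sheaf. -/
noncomputable abbrev pushS (f : A ⟶ S) : S.Modules :=
  (Scheme.Modules.pushforward f).obj (Coh.structureModule A)

/-- Restriction along the identity of an open does nothing. -/
theorem map_endo_apply (A : Scheme.{u}) {V : A.Opens} (i : op V ⟶ op V) (x : Γ(A, V)) :
    (A.presheaf.map i).hom x = x := by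
  rw [show i = 𝟙 _ from Subsingleton.elim _ _, A.presheaf.map_id]
  rfl

/-- Pullback of functions along a morphism over `S`. -/
noncomputable def pushMap (f : A ⟶ S) (f' : B ⟶ S) (k : B ⟶ A) (h : k ≫ f = f') : pushS f ⟶ pushS f' :=
  (Scheme.Modules.pushforward f).map (ClSub.unitToPush k) ≫
    (Scheme.Modules.pushforwardComp k f).hom.app _ ≫ (Scheme.Modules.pushforwardCongr h).hom.app _

/-- `pushMap` on functions. -/
noncomputable def pullFun (f : A ⟶ S) (f' : B ⟶ S) (k : B ⟶ A) (h : k ≫ f = f') (V : S.Opens) :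
    Γ(A, f ⁻¹ᵁ V) → Γ(B, f' ⁻¹ᵁ V) :=
  fun x => (pushMap f f' k h).app V x

theorem pushMap_app (f : A ⟶ S) (f' : B ⟶ S) (k : B ⟶ A) (h : k ≫ f = f') (V : S.Opens) (x : Γ(pushS f, V)) :
    (pushMap f f' k h).app V x = pullFun f f' k h V x := rfl

theorem pullFun_eq (f : A ⟶ S) (k : B ⟶ A) (V : S.Opens) (x : Γ(A, f ⁻¹ᵁ V)) :
    pullFun f (k ≫ f) k rfl V x = (k.app (f ⁻¹ᵁ V)).hom x :=
  map_endo_apply B (V := (k ≫ f) ⁻¹ᵁ V) _ _

theorem pullFun_mul (f : A ⟶ S) (f' : B ⟶ S) (k : B ⟶ A) (h : k ≫ f = f') (V : S.Opens) (x y : Γ(A, f ⁻¹ᵁ V)) :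
    pullFun f f' k h V (x * y) = pullFun f f' k h V x * pullFun f f' k h V y := by
  subst h
  rw [pullFun_eq, pullFun_eq, pullFun_eq, map_mul]
  rfl

theorem pullFun_add (f : A ⟶ S) (f' : B ⟶ S) (k : B ⟶ A) (h : k ≫ f = f') (V : S.Opens) (x y : Γ(A, f ⁻¹ᵁ V)) :
    pullFun f f' k h V (x + y) = pullFun f f' k h V x + pullFun f f' k h V y := by
  subst h
  rw [pullFun_eq, pullFun_eq, pullFun_eq, map_add]
  rfl

theorem pullFun_res (f : A ⟶ S) (f' : B ⟶ S) (k : B ⟶ A) (h : k ≫ f = f') {V V' : S.Opens} (hle : V' ≤ V)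
    (x : Γ(A, f ⁻¹ᵁ V)) :
    (B.presheaf.map (homOfLE (f'.preimage_mono hle)).op).hom (pullFun f f' k h V x) =
      pullFun f f' k h V' ((A.presheaf.map (homOfLE (f.preimage_mono hle)).op).hom x) :=
  (app_resM (pushMap f f' k h) hle x).symm

theorem pullFun_smul (f : A ⟶ S) (f' : B ⟶ S) (k : B ⟶ A) (h : k ≫ f = f') (V : S.Opens) (r : Γ(S, V))
    (x : Γ(A, f ⁻¹ᵁ V)) :
    pullFun f f' k h V ((f.app V).hom r * x) = (f'.app V).hom r * pullFun f f' k h V x :=
  Scheme.Modules.Hom.app_smul (pushMap f f' k h) r x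

theorem unitToPush_pushMap (f : A ⟶ S) (f' : B ⟶ S) (k : B ⟶ A) (h : k ≫ f = f') :
    ClSub.unitToPush f ≫ pushMap f f' k h = ClSub.unitToPush f' := by
  subst h
  refine Scheme.Modules.hom_ext _ _ fun V => ConcreteCategory.hom_ext _ _ fun (r : Γ(S, V)) => ?_
  exact pullFun_eq f k V _

theorem pullFun_comp (f : A ⟶ S) (f' : B ⟶ S) (f'' : C ⟶ S) (k : B ⟶ A) (l : C ⟶ B) (h : k ≫ f = f')
    (h' : l ≫ f' = f'') (V : S.Opens) (x : Γ(A, f ⁻¹ᵁ V)) :
    pullFun f' f'' l h' V (pullFun f f' k h V x) =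
      pullFun f f'' (l ≫ k) (by rw [Category.assoc, h, h']) V x := by
  subst h
  subst h'
  rw [pullFun_eq, pullFun_eq]
  refine Eq.trans ?_ (map_endo_apply C (V := (l ≫ k ≫ f) ⁻¹ᵁ V) _ _).symm
  rfl

theorem pushMap_comp (f : A ⟶ S) (f' : B ⟶ S) (f'' : C ⟶ S) (k : B ⟶ A) (l : C ⟶ B) (h : k ≫ f = f')
    (h' : l ≫ f' = f'') :
    pushMap f f' k h ≫ pushMap f' f'' l h' =
      pushMap f f'' (l ≫ k) (by rw [Category.assoc, h, h']) :=
  Scheme.Modules.hom_ext _ _ fun V => ConcreteCategory.hom_ext _ _ fun (r : Γ(A, f ⁻¹ᵁ V)) =>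
    pullFun_comp f f' f'' k l h h' V r

theorem pushMap_app_top (f : A ⟶ S) (f' : B ⟶ S) (k : B ⟶ A) (h : k ≫ f = f') (x : Γ(A, ⊤)) :
    (pushMap f f' k h).app ⊤ x = (k.appTop.hom x : Γ(B, ⊤)) := by
  subst h
  exact pullFun_eq f k ⊤ x

variable {W V₀ P : Scheme.{u}} {U : Scheme.{u}} (g : W ⟶ U) (ι : V₀ ⟶ U) (fst : P ⟶ W) (snd : P ⟶ V₀)
  (H : IsPullback fst snd g ι)

/-- Multiplication of pullbacks. -/
noncomputable def mulBilin : Bilin (pushS g) (pushS ι) (pushS (fst ≫ g)) where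
  app V b r := (show Γ(P, (fst ≫ g) ⁻¹ᵁ V) from
    pullFun g (fst ≫ g) fst rfl V b * pullFun ι (fst ≫ g) snd H.w.symm V r)
  add_left V a a' b := by
    exact (congrArg (fun z : Γ(P, (fst ≫ g) ⁻¹ᵁ V) => z * pullFun ι (fst ≫ g) snd H.w.symm V b) (pullFun_add g (fst ≫ g) fst rfl V a a')).trans (add_mul _ _ _)
  add_right V a b b' := by
    exact (congrArg (fun z : Γ(P, (fst ≫ g) ⁻¹ᵁ V) => pullFun g (fst ≫ g) fst rfl V a * z) (pullFun_add ι (fst ≫ g) snd H.w.symm V b b')).trans (mul_add _ _ _)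
  smul_left V r a b := by
    show pullFun g (fst ≫ g) fst rfl V ((g.app V).hom r * _) * _ = _
    rw [pullFun_smul]
    exact mul_assoc _ _ _
  smul_right V r a b := by
    show _ * pullFun ι (fst ≫ g) snd H.w.symm V ((ι.app V).hom r * _) = _
    rw [pullFun_smul]
    exact mul_left_comm _ _ _
  res V V' h a b := by
    show (P.presheaf.map (homOfLE ((fst ≫ g).preimage_mono h)).op).hom (_ * _) = _
    rw [map_mul, pullFun_res (hle := h), pullFun_res (hle := h)]
    rfl

theorem mulBilin_tmul (V : U.Opens) (b : Γ(pushS g, V)) (r : Γ(pushS ι, V)) :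
    (mulBilin g ι fst snd H).desc.app V (tmul b r) =
      (show Γ(P, (fst ≫ g) ⁻¹ᵁ V) from
        pullFun g (fst ≫ g) fst rfl V b * pullFun ι (fst ≫ g) snd H.w.symm V r) :=
  Bilin.desc_tmul _ V b r

include H in
/-- Over an affine open with a basis, products of pullbacks give all functions on the base change, uniquely. -/
theorem bijective_mulBilin [IsAffineHom g] [IsAffineHom ι] {V : U.Opens} (hV : IsAffineOpen V) {I : Type u}
    [Fintype I] {e : I → Γ(pushS g, V)} (he : IsBasisOn (pushS g) V e) :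
    Function.Bijective ((mulBilin g ι fst snd H).desc.app V) := by
  classical
  have hW : ι ⁻¹ᵁ V ≤ ι ⁻¹ᵁ V := le_rfl
  let G := g ⁻¹ᵁ V
  let Z := ι ⁻¹ᵁ V
  let PV : P.Opens := fst ⁻¹ᵁ G
  have hPU : PV = fst ⁻¹ᵁ G ⊓ snd ⁻¹ᵁ Z := by
    have : snd ⁻¹ᵁ Z = PV := by
      show (snd ≫ ι) ⁻¹ᵁ V = (fst ≫ g) ⁻¹ᵁ V
      rw [H.w]
    rw [this, inf_idem]
  have hp := (isIso_pushoutSection_iff H (UX := G) (UT := Z) (US := V) le_rfl le_rfl hPU).mp
    (isIso_pushoutSection_of_isAffineOpen H le_rfl le_rfl hPU hV (hV.preimage ι) (hV.preimage g))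
  rw [← Scheme.Hom.app_eq_appLE, ← Scheme.Hom.app_eq_appLE] at hp
  letI : Algebra Γ(U, V) Γ(V₀, Z) := (ι.app V).hom.toAlgebra
  letI : Algebra Γ(U, V) Γ(W, G) := (g.app V).hom.toAlgebra
  let ψ := hp.flip.isoIsPushout _ _ (CommRingCat.isPushout_tensorProduct Γ(U, V) Γ(V₀, Z) Γ(W, G))
  let L : (I → Γ(U, V)) →ₗ[Γ(U, V)] Γ(W, G) := Fintype.linearCombination Γ(U, V) (show I → Γ(W, G) from e)
  have hL : Function.Bijective L := by
    have h := he (le_refl V)
    suffices hf : (⇑L : (I → Γ(U, V)) → Γ(W, G)) = fun c => ∑ i, c i • resM (pushS g) le_rfl (e i) by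
      rw [hf]
      exact h
    funext c
    show ∑ i, c i • (show Γ(W, G) from e i) = ∑ i, c i • resM (pushS g) le_rfl (e i)
    refine Finset.sum_congr rfl fun i _ => ?_
    rw [PicLib.resM_self]
    rfl
  let b : Module.Basis I Γ(U, V) Γ(W, G) := Module.Basis.ofEquivFun (LinearEquiv.ofBijective L hL).symm
  have hb : ∀ i, b i = e i := fun i => by
    show Module.Basis.ofEquivFun _ i = _
    rw [Module.Basis.coe_ofEquivFun]
    exact Fintype.linearCombination_apply_single Γ(U, V) _ i 1 |>.trans (one_smul _ _)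
  let bc := Algebra.TensorProduct.basis Γ(V₀, Z) b
  refine (Function.Bijective.of_comp_iff _ (bijective_sum_tmul he (pushS ι) V le_rfl)).1 ?_
  have hkey : ((mulBilin g ι fst snd H).desc.app V ∘ fun m : I → Γ(pushS ι, V) =>
      ∑ i, tmul (resM (pushS g) le_rfl (e i)) (m i)) =
      (fun z : Γ(V₀, Z) ⊗[Γ(U, V)] Γ(W, G) => (show Γ(pushS (fst ≫ g), V) from ψ.inv.hom z)) ∘
        fun m : I → Γ(V₀, Z) => bc.equivFun.symm m := by
    funext m
    show (mulBilin g ι fst snd H).desc.app V (∑ i, tmul (resM (pushS g) le_rfl (e i)) (m i)) =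
      ψ.inv.hom (bc.equivFun.symm m)
    rw [Module.Basis.equivFun_symm_apply, map_sum, map_sum]
    refine Finset.sum_congr rfl fun i _ => ?_
    rw [mulBilin_tmul, PicLib.resM_self, Algebra.TensorProduct.basis_apply, TensorProduct.smul_tmul', smul_eq_mul, mul_one, hb]
    have hm : (show Γ(V₀, Z) from m i) ⊗ₜ[Γ(U, V)] (show Γ(W, G) from e i) =
        ((show Γ(V₀, Z) from m i) ⊗ₜ[Γ(U, V)] (1 : Γ(W, G))) * ((1 : Γ(V₀, Z)) ⊗ₜ[Γ(U, V)] (show Γ(W, G) from e i)) := by
      rw [Algebra.TensorProduct.tmul_mul_tmul, mul_one, one_mul]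
    refine Eq.trans ?_ (congrArg ψ.inv.hom hm).symm
    rw [map_mul]
    refine (mul_comm (_ : Γ(P, (fst ≫ g) ⁻¹ᵁ V)) _).trans (congrArg₂ (· * ·) ?_ ?_)
    · exact (ConcreteCategory.congr_hom (hp.flip.inl_isoIsPushout_inv _ _
        (CommRingCat.isPushout_tensorProduct Γ(U, V) Γ(V₀, Z) Γ(W, G))) _).symm
    · exact (ConcreteCategory.congr_hom (hp.flip.inr_isoIsPushout_inv _ _
        (CommRingCat.isPushout_tensorProduct Γ(U, V) Γ(V₀, Z) Γ(W, G))) _).symm
  rw [hkey]
  exact (ConcreteCategory.bijective_of_isIso ψ.inv).comp bc.equivFun.symm.bijective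

include H in
/-- **Base change**: `g_*O ⊗ ι_*O` is the direct image of the functions on the fibre product. -/
theorem isIso_mulBilin [IsAffineHom g] [IsAffineHom ι] (hg : FlatMod.IsFinLocFree (pushS g)) :
    IsIso (mulBilin g ι fst snd H).desc := by
  refine TwistLib.G.isIso_of_bijective_on_basis _
    (fun V => IsAffineOpen V ∧ ∃ (n : ℕ) (e : ULift.{u} (Fin n) → Γ(pushS g, V)), IsBasisOn (pushS g) V e)
    (fun V y hy => ?_) fun V ⟨hV, n, e, he⟩ => bijective_mulBilin g ι fst snd H hV he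
  obtain ⟨U₁, n, e, hyU, hUV, he⟩ := exists_basis_nhd hg y V hy
  obtain ⟨V', hV', hyV', hle⟩ := exists_isAffineOpen_mem_and_subset (x := y) (U := U₁) hyU
  refine ⟨V', ⟨hV', n, fun i => resM (pushS g) hle (e i), fun W' hW' => ?_⟩, hyV', hle.trans hUV⟩
  have h := he (hW'.trans hle)
  convert h using 2 with c
  refine Finset.sum_congr rfl fun i _ => ?_
  rw [resM_resM]

/-- Multiplication commutes with pullback of the second factor. -/
theorem mulBilin_natural {V₁ P' : Scheme.{u}} (ι' : V₁ ⟶ U) (fst' : P' ⟶ W) (snd' : P' ⟶ V₁)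
    (H' : IsPullback fst' snd' g ι') (k : P' ⟶ P) (l : V₁ ⟶ V₀) (hl : l ≫ ι = ι')
    (h1 : k ≫ fst = fst') (h2 : k ≫ snd = snd' ≫ l) :
    tE (pushS g) (pushMap ι ι' l hl) ≫ (mulBilin g ι' fst' snd' H').desc =
      (mulBilin g ι fst snd H).desc ≫
        pushMap (fst ≫ g) (fst' ≫ g) k (by rw [← Category.assoc, h1]) :=
  AmpleLib.hom_ext fun V b r => by
    rw [Scheme.Modules.Hom.comp_app, Scheme.Modules.Hom.comp_app, ConcreteCategory.comp_apply,
      ConcreteCategory.comp_apply, tensE_map_tmul, mulBilin_tmul, mulBilin_tmul, pushMap_app]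
    refine Eq.trans ?_ (pullFun_mul _ _ _ _ V _ _).symm
    rw [pullFun_comp, pullFun_comp, pullFun_comp]
    simp only [h1, h2]

/-- Multiplication with the pullback of a function is scalar multiplication. -/
theorem mulBilin_unit :
    tE (pushS g) (ClSub.unitToPush ι) ≫ (mulBilin g ι fst snd H).desc =
      ((AmpleLib.tensorComm (pushS g) (Coh.structureModule U)).hom ≫ (unitTensorIso (pushS g)).hom) ≫
        pushMap g (fst ≫ g) fst rfl :=
  AmpleLib.hom_ext fun V b r => by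
    rw [Scheme.Modules.Hom.comp_app, Scheme.Modules.Hom.comp_app, ConcreteCategory.comp_apply,
      ConcreteCategory.comp_apply, tensE_map_tmul, mulBilin_tmul, unit_app_tmul, pushMap_app]
    refine Eq.trans ?_ (pullFun_smul g _ _ rfl V r b).symm
    refine (mul_comm (_ : Γ(P, (fst ≫ g) ⁻¹ᵁ V)) _).trans (congrArg (· * _) ?_)
    exact ConcreteCategory.congr_hom (congrArg (fun t => Scheme.Modules.Hom.app t V)
      (unitToPush_pushMap ι (fst ≫ g) snd H.w.symm)) r

end Groth.Agent.Lef23
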