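import Groth.Agent.Lef23.FormalHom
import Groth.Agent.Lef23.PushTensor
import Groth.Agent.Coherent.QcohSections
import Groth.Prelude.Def_RelSpec

/-!
# The algebra of a formally given family of covers

A finite locally free module whose reductions are the algebras of functions of a compatible family of covers of
the thickenings is a quasi-coherent algebra.
-/

set_option autoImplicit false
set_option linter.style.haveILetI false
set_option backward.isDefEq.respectTransparency.types false

universe u

open CategoryTheory CategoryTheory.Limits AlgebraicGeometry Opposite TopologicalSpace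
open Groth.Agent.Coherent Groth.Agent.PicLib Groth.Agent.AmpleLib

noncomputable section

namespace Groth.Agent.Lef23

variable {U : Scheme.{u}}

theorem hom_ext₃ {A B C N : U.Modules} {φ ψ : CohB1.tensorMod A (CohB1.tensorMod B C) ⟶ N}
    (h : ∀ (V : U.Opens) (a : Γ(A, V)) (b : Γ(B, V)) (c : Γ(C, V)),
      φ.app V (tmul a (tmul b c)) = ψ.app V (tmul a (tmul b c))) : φ = ψ :=
  (tensorHomEquiv A (CohB1.tensorMod B C) N).injective <| AmpleLib.hom_ext fun V b c =>
    locHom_ext (φ := secHom _) (ψ := secHom _) fun W hW a => by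
      show φ.app W (tmul a (resM _ hW (tmul b c))) = ψ.app W (tmul a (resM _ hW (tmul b c)))
      rw [resM_tmul]
      exact h W a _ _

/-- Covers of the thickenings of `V(J)` whose functions are the reductions of `E`. -/
structure FormalCover (J : U.IdealSheafData) (E : U.Modules) where
  /-- The covers. -/
  W : ℕ → Scheme.{u}
  /-- Their maps to the base. -/
  π : ∀ n, W n ⟶ U
  /-- The transitions. -/
  step : ∀ n, W n ⟶ W (n + 1)
  step_π : ∀ n, step n ≫ π (n + 1) = π n
  /-- The reductions. -/
  a : ∀ n, E ⟶ pushS (π n)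
  comm : ∀ n, a (n + 1) ≫ pushMap (π (n + 1)) (π n) (step n) (step_π n) = a n
  killed : ∀ n, Killed (pushS (π n)) (J ^ (n + 1))
  frame : ∀ (n : ℕ) (V : U.affineOpens) (κ : Type u) (_ : Fintype κ) (e : κ → Γ(E, V.1)),
    IsBasisOn E V.1 e → Frame (pushS (π n)) (J ^ (n + 1)) V.1 (fun i => (a n).app V.1 (e i))

namespace FormalCover

variable {J : U.IdealSheafData} {E : U.Modules} (C : FormalCover J E)

/-- The model of `E`. -/
def model : FormalModel J E :=
  ⟨fun n => pushS (C.π n), C.a, fun n => pushMap (C.π (n + 1)) (C.π n) (C.step n) (C.step_π n), C.comm, C.killed,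
    C.frame⟩

/-- The function of a section. -/
def fn (n : ℕ) (V : U.Opens) (x : Γ(E, V)) : Γ(C.W n, C.π n ⁻¹ᵁ V) := (C.a n).app V x

theorem fn_add (n : ℕ) (V : U.Opens) (x y : Γ(E, V)) : C.fn n V (x + y) = C.fn n V x + C.fn n V y :=
  map_add ((C.a n).app V).hom x y

theorem fn_smul (n : ℕ) (V : U.Opens) (r : Γ(U, V)) (x : Γ(E, V)) :
    C.fn n V (r • x) = (C.π n).app V r * C.fn n V x :=
  Scheme.Modules.Hom.app_smul (C.a n) r x

theorem fn_res (n : ℕ) {V V' : U.Opens} (h : V' ≤ V) (x : Γ(E, V)) :
    ((C.W n).presheaf.map (homOfLE ((C.π n).preimage_mono h)).op).hom (C.fn n V x) = C.fn n V' (resM E h x) :=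
  (app_resM (C.a n) h x).symm

theorem fn_step (n : ℕ) (V : U.Opens) (x : Γ(E, V)) :
    pullFun (C.π (n + 1)) (C.π n) (C.step n) (C.step_π n) V (C.fn (n + 1) V x) = C.fn n V x :=
  ConcreteCategory.congr_hom (congrArg (fun φ => Scheme.Modules.Hom.app φ V) (C.comm n)) x

/-- Products of functions. -/
def mulF (n : ℕ) : Bilin E E (pushS (C.π n)) where
  app V x y := (show Γ(C.W n, C.π n ⁻¹ᵁ V) from C.fn n V x * C.fn n V y)
  add_left V x x' y := by
    show C.fn n V (x + x') * C.fn n V y = C.fn n V x * C.fn n V y + C.fn n V x' * C.fn n V y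
    rw [fn_add, add_mul]
  add_right V x y y' := by
    show C.fn n V x * C.fn n V (y + y') = C.fn n V x * C.fn n V y + C.fn n V x * C.fn n V y'
    rw [fn_add, mul_add]
  smul_left V r x y := by
    show C.fn n V (r • x) * C.fn n V y = (C.π n).app V r * (C.fn n V x * C.fn n V y)
    rw [fn_smul, mul_assoc]
  smul_right V r x y := by
    show C.fn n V x * C.fn n V (r • y) = (C.π n).app V r * (C.fn n V x * C.fn n V y)
    rw [fn_smul, mul_left_comm]
  res V V' h x y := by
    show ((C.W n).presheaf.map (homOfLE ((C.π n).preimage_mono h)).op).hom (C.fn n V x * C.fn n V y) = _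
    rw [map_mul, fn_res, fn_res]

variable (h : ∀ D : U.Modules, FlatMod.IsFinLocFree D → Lef.HomToFormalBijective J D)
  (hE : FlatMod.IsFinLocFree E)

include h hE in
theorem mul_exists :
    ∃! m : CohB1.tensorMod E E ⟶ E, ∀ n, m ≫ C.model.a n = (C.mulF n).desc := by
  refine C.model.existsUnique_hom h hE (ExtFilt28.isFinLocFree_tensor hE hE) _ fun n => AmpleLib.hom_ext fun V x y => ?_
  show (pushMap (C.π (n + 1)) (C.π n) (C.step n) (C.step_π n)).app V ((C.mulF (n + 1)).desc.app V (tmul x y)) =
    (C.mulF n).desc.app V (tmul x y)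
  rw [Bilin.desc_tmul, Bilin.desc_tmul]
  show pullFun (C.π (n + 1)) (C.π n) (C.step n) (C.step_π n) V (C.fn (n + 1) V x * C.fn (n + 1) V y) =
    C.fn n V x * C.fn n V y
  rw [pullFun_mul, fn_step, fn_step]

/-- The multiplication. -/
def μ : Bilin E E E := bilinOfHom (C.mul_exists h hE).choose

theorem fn_μ (n : ℕ) (V : U.Opens) (x y : Γ(E, V)) :
    C.fn n V ((C.μ h hE).app V x y) = C.fn n V x * C.fn n V y :=
  (ConcreteCategory.congr_hom (congrArg (fun φ => Scheme.Modules.Hom.app φ V)
    ((C.mul_exists h hE).choose_spec.1 n)) (tmul x y)).trans (Bilin.desc_tmul _ V x y)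

include h hE in
theorem one_exists :
    ∃! e : Coh.structureModule U ⟶ E, ∀ n, e ≫ C.model.a n = ClSub.unitToPush (C.π n) :=
  C.model.existsUnique_hom h hE (CohBC.isFinLocFree_structureModule U) _ fun n =>
    unitToPush_pushMap (C.π (n + 1)) (C.π n) (C.step n) (C.step_π n)

/-- The unit. -/
def one (V : U.Opens) : Γ(E, V) :=
  (C.one_exists h hE).choose.app V (show Γ(Coh.structureModule U, V) from (1 : Γ(U, V)))

theorem fn_one (n : ℕ) (V : U.Opens) : C.fn n V (C.one h hE V) = 1 :=
  (ConcreteCategory.congr_hom (congrArg (fun φ : Coh.structureModule U ⟶ pushS (C.π n) => Scheme.Modules.Hom.app φ V)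
    ((C.one_exists h hE).choose_spec.1 n)) (show Γ(Coh.structureModule U, V) from (1 : Γ(U, V)))).trans
    (show ((C.π n).app V).hom 1 = 1 from map_one ((C.π n).app V).hom)

theorem resM_one {V V' : U.Opens} (hle : V' ≤ V) : resM E hle (C.one h hE V) = C.one h hE V' := by
  refine (app_resM _ hle _).symm.trans (congrArg _ ?_)
  exact map_one (U.presheaf.map (homOfLE hle).op).hom

theorem μ_comm (V : U.Opens) (x y : Γ(E, V)) : (C.μ h hE).app V x y = (C.μ h hE).app V y x := by
  have e : (C.μ h hE).desc = AmpleLib.tensorSwap E E ≫ (C.μ h hE).desc :=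
    C.model.hom_ext h hE (ExtFilt28.isFinLocFree_tensor hE hE) fun n => AmpleLib.hom_ext fun V x y => by
      rw [Scheme.Modules.Hom.comp_app, ConcreteCategory.comp_apply, Bilin.desc_tmul, Scheme.Modules.Hom.comp_app,
        ConcreteCategory.comp_apply, Scheme.Modules.Hom.comp_app, ConcreteCategory.comp_apply]
      unfold AmpleLib.tensorSwap
      rw [Bilin.desc_tmul, Bilin.desc_tmul]
      exact (C.fn_μ h hE n V x y).trans ((mul_comm _ _).trans (C.fn_μ h hE n V y x).symm)
  have e' := ConcreteCategory.congr_hom (congrArg (fun φ => Scheme.Modules.Hom.app φ V) e) (tmul x y)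
  rw [Scheme.Modules.Hom.comp_app, ConcreteCategory.comp_apply] at e'
  unfold AmpleLib.tensorSwap at e'
  rwa [Bilin.desc_tmul, Bilin.desc_tmul, Bilin.desc_tmul] at e'

theorem one_μ (V : U.Opens) (x : Γ(E, V)) : (C.μ h hE).app V (C.one h hE V) x = x := by
  let p : E ⟶ E := AmpleLib.toUnitTensor E ≫ AmpleLib.tensorMap (C.one_exists h hE).choose (𝟙 E) ≫ (C.μ h hE).desc
  have hp : ∀ (V : U.Opens) (x : Γ(E, V)), p.app V x = (C.μ h hE).app V (C.one h hE V) x := fun V x => by
    show (C.μ h hE).desc.app V ((AmpleLib.tensorMap (C.one_exists h hE).choose (𝟙 E)).app V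
      (tmul (show Γ(Coh.structureModule U, V) from (1 : Γ(U, V))) x)) = _
    rw [AmpleLib.tensorMap_tmul, Bilin.desc_tmul]
    rfl
  have e : p = 𝟙 E := C.model.hom_ext h hE hE fun n => Scheme.Modules.hom_ext _ _ fun V =>
    ConcreteCategory.hom_ext _ _ fun x => by
      rw [Scheme.Modules.Hom.comp_app, ConcreteCategory.comp_apply, hp, Category.id_comp]
      exact (C.fn_μ h hE n V _ x).trans (by rw [fn_one, one_mul]; rfl)
  rw [← hp, e]
  rfl

/-- `(b, c) ↦ (a ↦ (a b) c)`. -/
def leftMul : Bilin E E (internalHom E E) where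
  app V b c := (show locHom E E V from
    ⟨fun W hW => AddMonoidHom.mk'
        (fun a => (C.μ h hE).app W ((C.μ h hE).app W a (resM E hW b)) (resM E hW c))
        (fun a a' => by rw [(C.μ h hE).add_left, (C.μ h hE).add_left]),
      fun W hW r a => by
        show (C.μ h hE).app W ((C.μ h hE).app W (r • a) _) _ = r • (C.μ h hE).app W ((C.μ h hE).app W a _) _
        rw [(C.μ h hE).smul_left, (C.μ h hE).smul_left],
      fun W W' hW hle a => by
        show resM E hle ((C.μ h hE).app W ((C.μ h hE).app W a _) _) = (C.μ h hE).app W' ((C.μ h hE).app W' _ _) _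
        rw [(C.μ h hE).res, (C.μ h hE).res, resM_resM, resM_resM]⟩)
  add_left V b b' c := locHom_ext fun W hW a => by
    show (C.μ h hE).app W ((C.μ h hE).app W a (resM E hW (b + b'))) (resM E hW c) =
      (C.μ h hE).app W ((C.μ h hE).app W a (resM E hW b)) (resM E hW c) +
        (C.μ h hE).app W ((C.μ h hE).app W a (resM E hW b')) (resM E hW c)
    rw [map_add, (C.μ h hE).add_right, (C.μ h hE).add_left]
  add_right V b c c' := locHom_ext fun W hW a => by
    show (C.μ h hE).app W ((C.μ h hE).app W a (resM E hW b)) (resM E hW (c + c')) =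
      (C.μ h hE).app W ((C.μ h hE).app W a (resM E hW b)) (resM E hW c) +
        (C.μ h hE).app W ((C.μ h hE).app W a (resM E hW b)) (resM E hW c')
    rw [map_add, (C.μ h hE).add_right]
  smul_left V r b c := locHom_ext fun W hW a => by
    show (C.μ h hE).app W ((C.μ h hE).app W a (resM E hW (r • b))) (resM E hW c) =
      U.presheaf.map (homOfLE hW).op r • (C.μ h hE).app W ((C.μ h hE).app W a (resM E hW b)) (resM E hW c)
    rw [resM_smul, (C.μ h hE).smul_right, (C.μ h hE).smul_left]
  smul_right V r b c := locHom_ext fun W hW a => by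
    show (C.μ h hE).app W ((C.μ h hE).app W a (resM E hW b)) (resM E hW (r • c)) =
      U.presheaf.map (homOfLE hW).op r • (C.μ h hE).app W ((C.μ h hE).app W a (resM E hW b)) (resM E hW c)
    rw [resM_smul, (C.μ h hE).smul_right]
  res V V' hle b c := locHom_ext fun W hW a => by
    show (C.μ h hE).app W ((C.μ h hE).app W a (resM E (hW.trans hle) b)) (resM E (hW.trans hle) c) =
      (C.μ h hE).app W ((C.μ h hE).app W a (resM E hW (resM E hle b))) (resM E hW (resM E hle c))
    rw [resM_resM, resM_resM]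

theorem μ_assoc (V : U.Opens) (x y z : Γ(E, V)) :
    (C.μ h hE).app V ((C.μ h hE).app V x y) z = (C.μ h hE).app V x ((C.μ h hE).app V y z) := by
  let p : CohB1.tensorMod E (CohB1.tensorMod E E) ⟶ E :=
    AmpleLib.tensorMap (𝟙 E) (C.μ h hE).desc ≫ (C.μ h hE).desc
  let q : CohB1.tensorMod E (CohB1.tensorMod E E) ⟶ E := (uncurry (C.leftMul h hE).desc).desc
  have hp : ∀ (V : U.Opens) (x y z : Γ(E, V)),
      p.app V (tmul x (tmul y z)) = (C.μ h hE).app V x ((C.μ h hE).app V y z) := fun V x y z => by
    show (C.μ h hE).desc.app V ((AmpleLib.tensorMap (𝟙 E) (C.μ h hE).desc).app V (tmul x (tmul y z))) = _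
    rw [AmpleLib.tensorMap_tmul, Bilin.desc_tmul, Bilin.desc_tmul]
    rfl
  have hq : ∀ (V : U.Opens) (x y z : Γ(E, V)),
      q.app V (tmul x (tmul y z)) = (C.μ h hE).app V ((C.μ h hE).app V x y) z := fun V x y z => by
    refine (Bilin.desc_tmul _ V x _).trans ?_
    show ev (secHom ((C.leftMul h hE).desc.app V (tmul y z))) V le_rfl x = _
    rw [Bilin.desc_tmul]
    show (C.μ h hE).app V ((C.μ h hE).app V x (resM E le_rfl y)) (resM E le_rfl z) = _
    rw [PicLib.resM_self, PicLib.resM_self]
  have e : q = p := C.model.hom_ext h hE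
    (ExtFilt28.isFinLocFree_tensor hE (ExtFilt28.isFinLocFree_tensor hE hE)) fun n => hom_ext₃ fun V x y z => by
      rw [Scheme.Modules.Hom.comp_app, ConcreteCategory.comp_apply, hq, Scheme.Modules.Hom.comp_app,
        ConcreteCategory.comp_apply, hp]
      refine (C.fn_μ h hE n V _ z).trans (Eq.trans ?_ (C.fn_μ h hE n V x _).symm)
      rw [fn_μ, fn_μ, mul_assoc]
  rw [← hq, e, hp]

end FormalCover

/-- Sections of `E` as a ring. -/
structure CovSec {J : U.IdealSheafData} {E : U.Modules} (C : FormalCover J E)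
    (h : ∀ D : U.Modules, FlatMod.IsFinLocFree D → Lef.HomToFormalBijective J D)
    (hE : FlatMod.IsFinLocFree E) (V : U.Opens) where
  /-- The section. -/
  val : Γ(E, V)

namespace CovSec

variable {J : U.IdealSheafData} {E : U.Modules} {C : FormalCover J E}
  {h : ∀ D : U.Modules, FlatMod.IsFinLocFree D → Lef.HomToFormalBijective J D}
  {hE : FlatMod.IsFinLocFree E} {V : U.Opens}

@[ext] theorem ext {p q : CovSec C h hE V} (e : p.val = q.val) : p = q := by
  cases p; cases q; simpa using e

instance : Zero (CovSec C h hE V) := ⟨⟨0⟩⟩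
instance : One (CovSec C h hE V) := ⟨⟨C.one h hE V⟩⟩
instance : Add (CovSec C h hE V) := ⟨fun p q => ⟨p.val + q.val⟩⟩
instance : Neg (CovSec C h hE V) := ⟨fun p => ⟨-p.val⟩⟩
instance : Mul (CovSec C h hE V) := ⟨fun p q => ⟨(C.μ h hE).app V p.val q.val⟩⟩

theorem zero_val : (0 : CovSec C h hE V).val = 0 := rfl
theorem one_val : (1 : CovSec C h hE V).val = C.one h hE V := rfl
theorem add_val (p q : CovSec C h hE V) : (p + q).val = p.val + q.val := rfl
theorem mul_val (p q : CovSec C h hE V) : (p * q).val = (C.μ h hE).app V p.val q.val := rfl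

instance : CommRing (CovSec C h hE V) where
  add_assoc a b c := ext (add_assoc a.val b.val c.val)
  zero_add a := ext (zero_add a.val)
  add_zero a := ext (add_zero a.val)
  add_comm a b := ext (add_comm a.val b.val)
  neg_add_cancel a := ext (neg_add_cancel a.val)
  nsmul := nsmulRec
  zsmul := zsmulRec
  left_distrib a b c := ext ((C.μ h hE).add_right V _ _ _)
  right_distrib a b c := ext ((C.μ h hE).add_left V _ _ _)
  zero_mul a := ext (by
    show (C.μ h hE).app V 0 a.val = 0
    have e := (C.μ h hE).add_left V 0 0 a.val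
    rwa [add_zero, left_eq_add] at e)
  mul_zero a := ext (by
    show (C.μ h hE).app V a.val 0 = 0
    have e := (C.μ h hE).add_right V a.val 0 0
    rwa [add_zero, left_eq_add] at e)
  one_mul a := ext (C.one_μ h hE V a.val)
  mul_one a := ext ((C.μ_comm h hE V _ _).trans (C.one_μ h hE V a.val))
  mul_comm a b := ext (C.μ_comm h hE V _ _)
  mul_assoc a b c := ext (C.μ_assoc h hE V _ _ _)

/-- Restriction. -/
def res {V' : U.Opens} (hle : V' ≤ V) : CovSec C h hE V →+* CovSec C h hE V' where
  toFun p := ⟨resM E hle p.val⟩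
  map_one' := ext (C.resM_one h hE hle)
  map_zero' := ext (map_zero (resM E hle))
  map_add' p q := ext (map_add (resM E hle) p.val q.val)
  map_mul' p q := ext ((C.μ h hE).res V V' hle p.val q.val)

variable (C h hE V) in
/-- The structure map. -/
def str : Γ(U, V) →+* CovSec C h hE V where
  toFun r := ⟨r • C.one h hE V⟩
  map_one' := ext (one_smul Γ(U, V) _)
  map_zero' := ext (zero_smul Γ(U, V) _)
  map_add' r s := ext (add_smul r s (C.one h hE V))
  map_mul' r s := ext (by
    show (r * s) • C.one h hE V = (C.μ h hE).app V (r • C.one h hE V) (s • C.one h hE V)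
    rw [(C.μ h hE).smul_left, (C.μ h hE).smul_right, C.one_μ, mul_smul])

theorem str_mul (r : Γ(U, V)) (p : CovSec C h hE V) : (str C h hE V r * p).val = r • p.val := by
  show (C.μ h hE).app V (r • C.one h hE V) p.val = _
  rw [(C.μ h hE).smul_left, C.one_μ]

theorem res_str {V' : U.Opens} (hle : V' ≤ V) (r : Γ(U, V)) :
    res hle (str C h hE V r) = str C h hE V' (U.presheaf.map (homOfLE hle).op r) :=
  ext (by
    show resM E hle (r • C.one h hE V) = U.presheaf.map (homOfLE hle).op r • C.one h hE V'
    rw [resM_smul, C.resM_one])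

end CovSec

namespace FormalCover

variable {J : U.IdealSheafData} {E : U.Modules} (C : FormalCover J E)
  (h : ∀ D : U.Modules, FlatMod.IsFinLocFree D → Lef.HomToFormalBijective J D)
  (hE : FlatMod.IsFinLocFree E)

/-- The presheaf of rings. -/
def pre : TopCat.Presheaf CommRingCat.{u} U.carrier where
  obj V := CommRingCat.of (CovSec C h hE V.unop)
  map i := CommRingCat.ofHom (CovSec.res (leOfHom i.unop))
  map_id V := CommRingCat.hom_ext (RingHom.ext fun p => CovSec.ext (resM_refl E p.val))
  map_comp i j := CommRingCat.hom_ext (RingHom.ext fun p => CovSec.ext (resM_resM E _ _ p.val).symm)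

theorem isSheaf_pre : (C.pre h hE).IsSheaf := by
  rw [TopCat.Presheaf.isSheaf_iff_isSheafUniqueGluing]
  intro ι W sf hc
  let T : TopCat.Sheaf Ab U := ⟨E.presheaf, E.isSheaf⟩
  obtain ⟨l, hl, hl'⟩ := TopCat.Sheaf.existsUnique_gluing T W (fun i => (show CovSec C h hE (W i) from sf i).val)
    (fun i j => congrArg CovSec.val (hc i j))
  refine ⟨(⟨l⟩ : CovSec C h hE (iSup W)), fun i => CovSec.ext (hl i), fun p hp => ?_⟩
  exact CovSec.ext (hl' _ fun i => congrArg CovSec.val (hp i))

/-- The structure map. -/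
def strA : U.presheaf ⟶ C.pre h hE where
  app V := CommRingCat.ofHom (CovSec.str C h hE V.unop)
  naturality V V' i := CommRingCat.hom_ext (RingHom.ext fun r => (CovSec.res_str (leOfHom i.unop) r).symm)

theorem isQC_pre : RelSpec.IsQC (C.pre h hE) (C.strA h hE) := by
  haveI : Coh.IsQCoh E := (CohBC.isCoh_of_isFinLocFree hE).1
  intro V hV r
  letI := ((C.pre h hE).map (homOfLE (U.basicOpen_le r)).op).hom.toAlgebra
  rw [show ((C.strA h hE).app (op V)).hom r = (show (C.pre h hE).obj (op V) from CovSec.str C h hE V r) from rfl]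
  refine (isLocalization_iff _ _).2 ⟨?_, ?_, ?_⟩
  · rintro ⟨_, n, rfl⟩
    show IsUnit (CovSec.res (U.basicOpen_le r) ((CovSec.str C h hE V r) ^ n))
    rw [map_pow, CovSec.res_str]
    exact ((RingedSpace.isUnit_res_basicOpen U.toLocallyRingedSpace.toRingedSpace r).map
      (CovSec.str C h hE (U.basicOpen r))).pow n
  · intro z
    obtain ⟨n, t, ht⟩ := qcoh_exists_pow_smul hV E r (show CovSec C h hE (U.basicOpen r) from z).val
    refine ⟨⟨(⟨t⟩ : CovSec C h hE V), ⟨_, n, rfl⟩⟩, ?_⟩
    show (show CovSec C h hE (U.basicOpen r) from z) * CovSec.res (U.basicOpen_le r) ((CovSec.str C h hE V r) ^ n) =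
      CovSec.res (U.basicOpen_le r) ⟨t⟩
    rw [← map_pow, CovSec.res_str, mul_comm]
    exact CovSec.ext ((CovSec.str_mul _ _).trans ht.symm)
  · intro x y hxy
    change CovSec.res (U.basicOpen_le r) (show CovSec C h hE V from x) =
      CovSec.res (U.basicOpen_le r) (show CovSec C h hE V from y) at hxy
    obtain ⟨n, hn⟩ := qcoh_exists_pow_smul_eq_zero hV E r
      ((show CovSec C h hE V from x).val - (show CovSec C h hE V from y).val)
      (by rw [map_sub, sub_eq_zero]; exact congrArg CovSec.val hxy)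
    refine ⟨⟨_, n, rfl⟩, ?_⟩
    show (CovSec.str C h hE V r) ^ n * (show CovSec C h hE V from x) =
      (CovSec.str C h hE V r) ^ n * (show CovSec C h hE V from y)
    rw [← map_pow]
    refine CovSec.ext ?_
    rw [CovSec.str_mul, CovSec.str_mul, ← sub_eq_zero, ← smul_sub]
    exact hn

/-- **The algebra.** -/
def alg : RelSpec.QCAlg U := ⟨C.pre h hE, C.isSheaf_pre h hE, C.strA h hE, C.isQC_pre h hE⟩

/-- The map to functions on the covers. -/
def toFun (n : ℕ) : (C.alg h hE).presheaf ⟶ (C.π n).base _* (C.W n).presheaf where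
  app V := CommRingCat.ofHom
    { toFun := fun p : CovSec C h hE V.unop => C.fn n V.unop p.val
      map_one' := C.fn_one h hE n V.unop
      map_zero' := map_zero ((C.a n).app V.unop).hom
      map_add' := fun p q => C.fn_add n V.unop p.val q.val
      map_mul' := fun p q => C.fn_μ h hE n V.unop p.val q.val }
  naturality V V' i := CommRingCat.hom_ext (RingHom.ext fun p => (C.fn_res n (leOfHom i.unop) p.val).symm)

theorem str_toFun (n : ℕ) : (C.alg h hE).str ≫ C.toFun h hE n = (C.π n).c := by
  refine NatTrans.ext (funext fun V => CommRingCat.hom_ext (RingHom.ext fun r => ?_))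
  show C.fn n V.unop ((show Γ(U, V.unop) from r) • C.one h hE V.unop) = (C.π n).app V.unop r
  rw [fn_smul, fn_one, mul_one]

end FormalCover

end Groth.Agent.Lef23
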