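import Groth.Agent.Lef23.PairVanish
import Groth.Agent.AmpleLib.Twist2
import Groth.Agent.Desc19b.AmpleQuot
import Groth.Agent.Coherent.Serre.Vanishing

/-!
# Homomorphisms from negative powers generating, and their lifts
-/

set_option autoImplicit false
set_option linter.style.haveILetI false
set_option backward.isDefEq.respectTransparency.types false

universe u

open CategoryTheory CategoryTheory.Limits AlgebraicGeometry Opposite TopologicalSpace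
open Groth.Agent.Coherent Groth.Agent.PicLib Groth.Agent.AmpleLib Groth.Agent.EulerLib Groth.Agent.SerreDual

noncomputable section

namespace Groth.Agent.Lef23

variable {X : Scheme.{u}}

/-- Reassociation. -/
def assocT (A B P : X.Modules) : CohB1.tensorMod A (CohB1.tensorMod B P) ≅ CohB1.tensorMod (CohB1.tensorMod A B) P :=
  ((tensECompIso A B).app P).symm

/-- The negative powers. -/
abbrev Qp (𝓘 : X.IdealSheafData) (j : ℕ) : X.Modules := CohB1.tensorPow (ClSub.idealMod 𝓘) j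

variable {𝓘 : X.IdealSheafData} {L : X.Modules}
  (hL : ClSub.IsInverseOf L (ClSub.idealMod 𝓘)) (hamp : CohB1.IsAmple L)
include hL hamp

theorem isInvertible_Qp (j : ℕ) : PicF.IsInvertible (Qp 𝓘 j) :=
  isInvertible_tensorPow (isInvertible_inverse hamp.1 hL) j

theorem nonempty_Qp_add (i a : ℕ) : Nonempty (CohB1.tensorMod (Qp 𝓘 i) (Qp 𝓘 a) ≅ Qp 𝓘 (i + a)) :=
  H0Growth23.nonempty_iso_of_mk_eq (hL := isInvertible_tensorMod (isInvertible_Qp hL hamp i) (isInvertible_Qp hL hamp a))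
    (hN := isInvertible_Qp hL hamp (i + a)) (by
      rw [← InvCl.mk_mul (isInvertible_Qp hL hamp i) (isInvertible_Qp hL hamp a),
        InvCl.mk_tensorPow (isInvertible_inverse hamp.1 hL), InvCl.mk_tensorPow (isInvertible_inverse hamp.1 hL),
        InvCl.mk_tensorPow (isInvertible_inverse hamp.1 hL), pow_add])

theorem nonempty_pow_inv (n : ℕ) :
    Nonempty (CohB1.tensorMod (CohB1.tensorPow L n) (Qp 𝓘 n) ≅ Coh.structureModule X) := by
  have hM := isInvertible_inverse hamp.1 hL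
  obtain ⟨u⟩ := hL
  have hαβ : InvCl.mk L hamp.1 * InvCl.mk (ClSub.idealMod 𝓘) hM = 1 := InvCl.mk_eq _ _ u
  exact H0Growth23.nonempty_iso_of_mk_eq
    (hL := isInvertible_tensorMod (isInvertible_tensorPow hamp.1 n) (isInvertible_tensorPow hM n))
    (hN := isInvertible_structureModule) (by
      rw [← InvCl.mk_mul (isInvertible_tensorPow hamp.1 n) (isInvertible_tensorPow hM n),
        InvCl.mk_tensorPow hamp.1, InvCl.mk_tensorPow hM, ← mul_pow, hαβ, one_pow]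
      rfl)

/-- Homomorphisms out of a negative power as sections of the positive twist, naturally. -/
theorem exists_homSecEquiv (j : ℕ) :
    ∃ τ : ∀ P : X.Modules, (Qp 𝓘 j ⟶ P) ≃+ Γ(CohB1.tensorMod (CohB1.tensorPow L j) P, ⊤),
      ∀ (P P' : X.Modules) (f : P ⟶ P') (φ : Qp 𝓘 j ⟶ P),
        τ P' (φ ≫ f) = (tE (CohB1.tensorPow L j) f).app ⊤ (τ P φ) := by
  have hQ := isInvertible_Qp hL hamp j
  have hQl := Coherent.isFinLocFree_of_invertible hQ
  obtain ⟨e⟩ := nonempty_pow_inv hL hamp j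
  obtain ⟨d⟩ := nonempty_dual_invertible hQ (isInvertible_tensorPow hamp.1 j) (AmpleLib.tensorComm _ _ ≪≫ e)
  refine ⟨fun P => (CohBC.homEquivSec (Qp 𝓘 j) hQl P).trans (CohBC.secEquiv (AmpleLib.tensorIso d (Iso.refl P))),
    fun P P' f φ => ?_⟩
  show (AmpleLib.tensorIso d (Iso.refl P')).hom.app ⊤ (CohBC.homEquivSec (Qp 𝓘 j) hQl P' (φ ≫ f)) = _
  rw [CohBC.homEquivSec_natural]
  refine (ConcreteCategory.congr_hom (congrArg (fun t => Scheme.Modules.Hom.app t ⊤) (AmpleLib.hom_ext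
    (φ := tE (internalHom (Qp 𝓘 j) (Coh.structureModule X)) f ≫ (AmpleLib.tensorIso d (Iso.refl P')).hom)
    (ψ := (AmpleLib.tensorIso d (Iso.refl P)).hom ≫ tE (CohB1.tensorPow L j) f) fun V a b => ?_))
    (CohBC.homEquivSec (Qp 𝓘 j) hQl P φ))
  show (AmpleLib.tensorIso d (Iso.refl P')).hom.app V ((tE _ f).app V (tmul a b)) =
    (tE (CohB1.tensorPow L j) f).app V ((AmpleLib.tensorIso d (Iso.refl P)).hom.app V (tmul a b))
  rw [tensE_map_tmul]
  refine (tensorMap_tmul _ _ _ _).trans ?_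
  refine Eq.trans ?_ (congrArg ((tE (CohB1.tensorPow L j) f).app V) (tensorMap_tmul _ _ _ _)).symm
  rw [tensE_map_tmul]
  rfl

/-- Large negative powers map onto the invertible modules of a closed subscheme. -/
theorem exists_spans [IsLocallyNoetherian X] [CompactSpace X] {Z : Scheme.{u}} (t : Z ⟶ X) [IsClosedImmersion t]
    {N : Z.Modules} (hN : PicF.IsInvertible N) :
    ∃ N₀ : ℕ, ∀ n, N₀ ≤ n →
      ∃ (r : ℕ) (s : Fin r → (Qp 𝓘 n ⟶ (Scheme.Modules.pushforward t).obj N)), Spans t N s := by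
  classical
  let F := (Scheme.Modules.pushforward t).obj N
  have hF : Coh.IsCoh F :=
    isCoh_push_finite t (CohBC.isCoh_of_isFinLocFree (Coherent.isFinLocFree_of_invertible hN))
  haveI := hF.1
  have key : ∀ z : Z, ∃ (A : X.Opens) (N₁ : ℕ), t z ∈ A ∧ ∀ n, N₁ ≤ n → ∃ s : Qp 𝓘 n ⟶ F,
      ∀ y ∈ A, ∃ B : X.affineOpens, y ∈ B.1 ∧ ∃ g : Γ(Qp 𝓘 n, B.1), IsGen (Qp 𝓘 n) B.1 g ∧
        IsGen N (t ⁻¹ᵁ B.1) (show Γ(N, t ⁻¹ᵁ B.1) from s.app B.1 g) := fun z => by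
    obtain ⟨Q₁, hzQ, e, he⟩ := exists_isGen hN z
    obtain ⟨V₀, hV₀, heq⟩ := t.isEmbedding.isInducing.isOpen_iff.1 Q₁.2
    obtain ⟨W₁, hzW, gL, hgL⟩ := exists_isGen hamp.1 (t z)
    obtain ⟨m, hm, b, hxb, hbV, hb⟩ := affGlocus_of_mem (x := t z) (U := W₁ ⊓ ⟨V₀, hV₀⟩) hamp
      ⟨hzW, by have := heq.ge hzQ; exact this⟩
    let A := glocus _ b
    have hAQ : t ⁻¹ᵁ A ≤ Q₁ := fun w hw => heq.le (hbV hw).2
    obtain ⟨N₁, hN₁⟩ := exists_twist_section hamp F hm b (hgL.restrict (hbV.trans inf_le_left))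
      (show Γ(F, A) from resM N hAQ e)
    refine ⟨A, N₁, hxb, fun n hn => ?_⟩
    obtain ⟨u, h, hh, hu⟩ := hN₁ n hn
    obtain ⟨c⟩ := nonempty_pow_inv hL hamp n
    obtain ⟨ψ, hψ⟩ := Desc19b.exists_hom_of_twist_section F (isInvertible_tensorPow hamp.1 n) c u
      (show Γ(F, A) from resM N hAQ e) h hh hu
    refine ⟨(unitTensorIso (Qp 𝓘 n)).inv ≫ ψ, fun y hy => ?_⟩
    obtain ⟨W, hW, hyW, k, hk⟩ := hψ y hy
    obtain ⟨W₂, hyW₂, g, hg⟩ := exists_isGen (isInvertible_Qp hL hamp n) y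
    obtain ⟨B, hB, hyB, hle⟩ := exists_isAffineOpen_mem_and_subset (x := y) (U := W ⊓ W₂) ⟨hyW, hyW₂⟩
    have hBW : B ≤ W := fun w hw => (hle hw).1
    have hgB := hg.restrict (show B ≤ W₂ from fun w hw => (hle hw).2)
    refine ⟨⟨B, hB⟩, hyB, _, hgB, ?_⟩
    let k' : Γ(Qp 𝓘 n, B) := resM _ hBW ((unitTensorIso (Qp 𝓘 n)).hom.app W k)
    have hk' : ((unitTensorIso (Qp 𝓘 n)).inv ≫ ψ).app B k' = resM F (hBW.trans hW) (show Γ(F, A) from resM N hAQ e) := by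
      have h₀ : ((unitTensorIso (Qp 𝓘 n)).inv ≫ ψ).app W ((unitTensorIso (Qp 𝓘 n)).hom.app W k) = ψ.app W k := by
        rw [← ConcreteCategory.comp_apply, ← Scheme.Modules.Hom.comp_app, Iso.hom_inv_id_assoc]
      rw [app_resM, h₀, hk, resM_resM]
    obtain ⟨c', hc'⟩ := (hgB B le_rfl).2 k'
    simp only [PicLib.resM_self] at hc'
    rw [← hc', Scheme.Modules.Hom.app_smul] at hk'
    have hgen : IsGen N (t ⁻¹ᵁ B) (resM N ((t.preimage_mono (hBW.trans hW)).trans hAQ) e) := he.restrict _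
    have hk'' : t.app B c' • (show Γ(N, t ⁻¹ᵁ B) from ((unitTensorIso (Qp 𝓘 n)).inv ≫ ψ).app B (resM _ _ g)) =
        resM N ((t.preimage_mono (hBW.trans hW)).trans hAQ) e :=
      hk'.trans (resM_resM N hAQ (t.preimage_mono (hBW.trans hW)) e)
    obtain ⟨d, hd⟩ := (hgen (t ⁻¹ᵁ B) le_rfl).2
      (show Γ(N, t ⁻¹ᵁ B) from ((unitTensorIso (Qp 𝓘 n)).inv ≫ ψ).app B (resM _ (show B ≤ W₂ from fun w hw => (hle hw).2) g))
    simp only [PicLib.resM_self] at hd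
    have hcd : t.app B c' * d = 1 := (hgen (t ⁻¹ᵁ B) le_rfl).1 (by
      simp only [PicLib.resM_self, one_smul]
      rw [mul_smul, hd]
      exact hk'')
    have hdu : IsUnit d := IsUnit.of_mul_eq_one (t.app B c') (by rw [mul_comm]; exact hcd)
    intro V hV
    rw [← hd]
    have : (fun r : Γ(Z, V) => r • resM N hV (d • resM N ((t.preimage_mono (hBW.trans hW)).trans hAQ) e)) =
        (fun r : Γ(Z, V) => r • resM N hV (resM N ((t.preimage_mono (hBW.trans hW)).trans hAQ) e)) ∘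
          fun r => r * PicLib.res hV d := funext fun r => by
      show r • resM N hV (d • _) = (r * PicLib.res hV d) • _
      rw [resM_smul, mul_smul]
    rw [this]
    exact (hgen V hV).comp (hdu.map _).unit.mulRight_bijective
  choose A N₁ hA hs using key
  haveI : CompactSpace Z := t.isClosedEmbedding.compactSpace
  obtain ⟨T, hT⟩ := isCompact_univ.elim_finite_subcover (fun z : Z => ((t ⁻¹ᵁ A z : Z.Opens) : Set Z))
    (fun z => (t ⁻¹ᵁ A z).2) fun z _ => Set.mem_iUnion.2 ⟨z, hA z⟩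
  refine ⟨T.sup N₁, fun n hn => ?_⟩
  choose s hs' using fun z : T => hs z.1 n ((Finset.le_sup z.2).trans hn)
  refine ⟨T.card, fun i => s (T.equivFin.symm i), fun z => ?_⟩
  obtain ⟨z₀, hz₀, hz⟩ := Set.mem_iUnion₂.1 (hT (Set.mem_univ z))
  obtain ⟨B, hB, g, hg, hgN⟩ := hs' ⟨z₀, hz₀⟩ (t z) hz
  refine ⟨T.equivFin ⟨z₀, hz₀⟩, B, hB, g, hg, ?_⟩
  have hgen : ∀ w : T, w = ⟨z₀, hz₀⟩ → IsGen N (t ⁻¹ᵁ B.1) (show Γ(N, t ⁻¹ᵁ B.1) from (s w).app B.1 g) := by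
    rintro _ rfl
    exact hgN
  exact hgen _ (T.equivFin.symm_apply_apply _)

omit hL hamp in
/-- Pushforward of functions on the first thickening and the quotient by the ideal. -/
theorem nonempty_pushZero :
    Nonempty ((Scheme.Modules.pushforward (𝓘 ^ (0 + 1)).subschemeι).obj (Coh.structureModule (Zs 𝓘 0)) ≅
      ClSub.quotMod 𝓘) :=
  ⟨eqToIso (congrArg ClSub.quotMod (show 𝓘 ^ (0 + 1) = 𝓘 by rw [zero_add, pow_one]))⟩

omit hamp in
theorem subsingleton_zero_quot_of (i : ℕ) (h0 : Subsingleton (Coh.HH X (CohB1.tensorMod (Coh.structureModule X) (Qp 𝓘 i)) 0))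
    (h1 : Subsingleton (Coh.HH X (CohB1.tensorMod (Coh.structureModule X) (Qp 𝓘 (i + 1))) 1))
    (hQ : PicF.IsInvertible (Qp 𝓘 i)) :
    Subsingleton (Coh.HH X (CohB1.tensorMod (Qp 𝓘 i) (ClSub.quotMod 𝓘)) 0) := by
  have hS := shortExact_tE (Coherent.isFinLocFree_of_invertible hQ) (CurveRR24.shortExact_ideal 𝓘)
  refine subsingleton_right hS 0 ?_ ?_
  · exact subsingleton_HH_iso (AmpleLib.tensorComm (Coh.structureModule X) (Qp 𝓘 i)) 0 h0
  · exact subsingleton_HH_iso (unitTensorIso (Qp 𝓘 (i + 1))) 1 h1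

variable (k : Type u) [Field k] [X.Over (Spec (CommRingCat.of k))] [IsProper (X ↘ Spec (CommRingCat.of k))]

/-- The standing hypotheses on the divisor. -/
def Good (k : Type u) [Field k] [X.Over (Spec (CommRingCat.of k))] (𝓘 : X.IdealSheafData) : Prop :=
  (∀ x : X, IsClosed ({x} : Set X) → (2 : ℕ∞) ≤ LocCoh.depth (X.presheaf.stalk x) (X.presheaf.stalk x)) ∧
  ∀ m : ℕ, 1 ≤ m → ∀ i : ℕ, (i = 1 ∨ i = 2) →
    Subsingleton (Coh.HH X ((DCoh.tensorBi.obj (CohB1.tensorPow (ClSub.idealMod 𝓘) m)).obj (ClSub.quotMod 𝓘)) i)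

variable (hgood : Good k 𝓘)
include hgood

theorem subsingleton_one_quot (i : ℕ) (hi : 1 ≤ i) :
    Subsingleton (Coh.HH X (CohB1.tensorMod (Qp 𝓘 i) (ClSub.quotMod 𝓘)) 1) := by
  let s₁ : (DCoh.tensorBi.obj (Qp 𝓘 i)).obj (ClSub.quotMod 𝓘) ≅ CohB1.tensorMod (ClSub.quotMod 𝓘) (Qp 𝓘 i) :=
    swapIso (Qp 𝓘 i) (ClSub.quotMod 𝓘)
  exact subsingleton_HH_iso (s₁ ≪≫ AmpleLib.tensorComm (ClSub.quotMod 𝓘) (Qp 𝓘 i)) 1 (hgood.2 i hi 1 (Or.inl rfl))

theorem exists_vanish_zero_quot : ∃ i₀ : ℕ, ∀ i, i₀ ≤ i →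
    Subsingleton (Coh.HH X (CohB1.tensorMod (Qp 𝓘 i) (ClSub.quotMod 𝓘)) 0) := by
  haveI : Subsingleton ↥(Spec (CommRingCat.of k)) := inferInstanceAs (Subsingleton (PrimeSpectrum k))
  haveI : Flat (X ↘ Spec (CommRingCat.of k)) := inferInstance
  haveI : IsLocallyNoetherian X := LocallyOfFiniteType.isLocallyNoetherian (X ↘ Spec (CommRingCat.of k))
  let f := X ↘ Spec (CommRingCat.of k)
  obtain ⟨m₀, hm₀⟩ := exists_vanishing (A := k) hL hamp (Coh.structureModule X) (isCoh_structureModule X)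
    (isFlatOver_structureModule f) 2 fun x hx => by
      have h1 : (2 : ℕ∞) ≤ LocCoh.depth ↑(CInt.fiberStalk f x) ↑(CInt.fiberStalk f x) := by
        rw [depth_fiberStalk_of_field]
        exact hgood.1 x (isClosed_singleton_of_fibre _ x hx)
      rw [← depth_fibre_structure f (f.base x) (f.asFiber x)] at h1
      exact h1
  exact ⟨m₀, fun i hi => subsingleton_zero_quot_of hL i (hm₀ i hi 0 two_pos) (hm₀ (i + 1) (by omega) 1 one_lt_two)
    (isInvertible_Qp hL hamp i)⟩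

/-- `H¹` of large negative twists of an invertible module on the divisor vanishes. -/
theorem exists_vanish_one (l : Level (Zs 𝓘 0)) : ∃ i₀ : ℕ, ∀ i, i₀ ≤ i →
    Subsingleton (Coh.HH X (CohB1.tensorMod (Qp 𝓘 i)
      ((Scheme.Modules.pushforward (𝓘 ^ (0 + 1)).subschemeι).obj l.N)) 1) := by
  haveI : IsLocallyNoetherian X := LocallyOfFiniteType.isLocallyNoetherian (X ↘ Spec (CommRingCat.of k))
  haveI : CompactSpace X := QuasiCompact.compactSpace_of_compactSpace (X ↘ Spec (CommRingCat.of k))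
  let t := (𝓘 ^ (0 + 1)).subschemeι
  let l' : Level (Zs 𝓘 0) := ⟨l.M, l.N, l.hM, l.hN, AmpleLib.tensorComm _ _ ≪≫ l.ε⟩
  obtain ⟨N₁, hN₁⟩ := exists_spans hL hamp t l.hM
  obtain ⟨N₂, hN₂⟩ := exists_spans hL hamp t l.hN
  let a := N₁ + N₂
  obtain ⟨r, s, hs⟩ := hN₁ a (Nat.le_add_right _ _)
  obtain ⟨r', s', hs'⟩ := hN₂ a (Nat.le_add_left _ _)
  obtain ⟨i₁, hi₁⟩ := exists_vanish_zero_quot hL hamp k hgood
  obtain ⟨eO⟩ := nonempty_pushZero (𝓘 := 𝓘)
  have hQl := fun n => Coherent.isFinLocFree_of_invertible (isInvertible_Qp hL hamp n)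
  have hM0 : ∀ i, i₁ ≤ i → Subsingleton (Coh.HH X (CohB1.tensorMod (Qp 𝓘 (i + a))
      ((Scheme.Modules.pushforward t).obj l.M)) 0) := fun i hi => by
    obtain ⟨e⟩ := nonempty_Qp_add hL hamp i a
    have h := subsingleton_zero_pair t l' s' (isInvertible_Qp hL hamp a) hs' (hQl i)
      (subsingleton_HH_iso (AmpleLib.tensorIso (Iso.refl (Qp 𝓘 i)) eO.symm) 0 (hi₁ i hi))
    exact subsingleton_HH_iso (assocT (Qp 𝓘 i) (Qp 𝓘 a) ((Scheme.Modules.pushforward t).obj l.M) ≪≫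
      AmpleLib.tensorIso e (Iso.refl ((Scheme.Modules.pushforward t).obj l.M))) 0 h
  refine ⟨i₁ + a + a + a + 1, fun n hn => ?_⟩
  obtain ⟨i, rfl⟩ : ∃ i, n = i + (a + a) := ⟨n - (a + a), by omega⟩
  obtain ⟨e₁⟩ := nonempty_Qp_add hL hamp i a
  obtain ⟨e₂⟩ := nonempty_Qp_add hL hamp (i + a) a
  have h1 : Subsingleton (Coh.HH X (CohB1.tensorMod (CohB1.tensorMod (Qp 𝓘 i) (Qp 𝓘 a))
      ((Scheme.Modules.pushforward t).obj (Coh.structureModule (Zs 𝓘 0)))) 1) :=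
    subsingleton_HH_iso (AmpleLib.tensorIso e₁.symm eO.symm) 1 (subsingleton_one_quot hL hamp k hgood (i + a) (by omega))
  have h0 : Subsingleton (Coh.HH X (CohB1.tensorMod (Qp 𝓘 i) ((Scheme.Modules.pushforward t).obj l.M)) 0) := by
    have := hM0 (i - a) (by omega)
    rwa [Nat.sub_add_cancel (by omega)] at this
  have h := subsingleton_one_pair t l s (isInvertible_Qp hL hamp a) hs (hQl i) h1 h0
  rw [← add_assoc]
  let P := (Scheme.Modules.pushforward t).obj l.N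
  let b₁ : CohB1.tensorMod (Qp 𝓘 i) (CohB1.tensorMod (Qp 𝓘 a) (CohB1.tensorMod (Qp 𝓘 a) P)) ≅
      CohB1.tensorMod (CohB1.tensorMod (Qp 𝓘 i) (Qp 𝓘 a)) (CohB1.tensorMod (Qp 𝓘 a) P) :=
    assocT (Qp 𝓘 i) (Qp 𝓘 a) (CohB1.tensorMod (Qp 𝓘 a) P)
  let b₂ : CohB1.tensorMod (Qp 𝓘 (i + a)) (CohB1.tensorMod (Qp 𝓘 a) P) ≅
      CohB1.tensorMod (CohB1.tensorMod (Qp 𝓘 (i + a)) (Qp 𝓘 a)) P :=
    assocT (Qp 𝓘 (i + a)) (Qp 𝓘 a) P
  exact subsingleton_HH_iso (b₁ ≪≫ AmpleLib.tensorIso e₁ (Iso.refl (CohB1.tensorMod (Qp 𝓘 a) P)) ≪≫ b₂ ≪≫ AmpleLib.tensorIso e₂ (Iso.refl P)) 1 h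

/-- All homomorphisms out of a large negative power into the bottom of a system lift to the system. -/
theorem exists_lift_homs (hI : BlowUp.IsEffCartierIdeal 𝓘) [IsLocallyNoetherian X] (S : Sys 𝓘)
    (hB : ∃ i₀ : ℕ, ∀ i, i₀ ≤ i → Subsingleton (Coh.HH X (CohB1.tensorMod (Qp 𝓘 i) (S.P 0)) 1)) :
    ∃ J : ℕ, ∀ j, J ≤ j → ∀ t : Qp 𝓘 j ⟶ S.P 0,
      ∃ y : ∀ m, Qp 𝓘 j ⟶ S.P m, y 0 = t ∧ ∀ m, y (m + 1) ≫ S.q m = y m := by
  obtain ⟨i₀, hi₀⟩ := hB
  obtain ⟨j₀, hj₀⟩ := Serre.exists_subsingleton_HH_twist (A := k) hamp (S.P 0) (S.coh 0)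
  obtain ⟨J, hJ⟩ := exists_lift_sections k hI hL hamp S j₀ i₀
    (fun n hn => subsingleton_HH_iso (AmpleLib.tensorComm _ _) 1 (hj₀ n hn 1 Nat.one_pos)) hi₀
  refine ⟨J, fun j hj t => ?_⟩
  obtain ⟨τ, hτ⟩ := exists_homSecEquiv hL hamp j
  obtain ⟨y, hy0, hy⟩ := hJ j hj (τ _ t)
  refine ⟨fun m => (τ _).symm (y m), ?_, fun m => (τ _).injective ?_⟩
  · show (τ _).symm (y 0) = t
    rw [hy0, AddEquiv.symm_apply_apply]
  · rw [hτ, AddEquiv.apply_symm_apply, AddEquiv.apply_symm_apply, hy m]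

end Groth.Agent.Lef23
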