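import Groth.Agent.Lef23.FrameLift
import Groth.Agent.Lef23.SpanHoms
import Groth.Agent.Lef23.LefCondition
import Groth.Agent.Desc19b.AmpleQuot

/-!
# Presentations of systems by negative powers, and algebraization of their maps
-/

set_option autoImplicit false
set_option linter.style.haveILetI false
set_option backward.isDefEq.respectTransparency.types false

universe u

open CategoryTheory CategoryTheory.Limits AlgebraicGeometry Opposite TopologicalSpace
open Groth.Agent.Coherent Groth.Agent.PicLib Groth.Agent.AmpleLib Groth.Agent.EulerLib Groth.Agent.SerreDual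

noncomputable section

namespace Groth.Agent.Lef23

attribute [local instance] hasFiniteBiproducts

variable {X : Scheme.{u}}

/-- `E ↦ E ⊗ -` on isomorphisms. -/
def tensCongr {E E' : X.Modules} (e : E ≅ E') : tensE E ≅ tensE E' := (DCoh.tensorBi (X := X)).mapIso e

/-- `O ⊗ - ≅ id`. -/
def tensUnit : tensE (Coh.structureModule X) ≅ 𝟭 X.Modules :=
  NatIso.ofComponents (fun M => unitTensorIso M) fun {M N} f => AmpleLib.hom_ext fun U a b => by
    show (unitBilin N).desc.app U ((tE (Coh.structureModule X) f).app U (tmul a b)) =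
      f.app U ((unitBilin M).desc.app U (tmul a b))
    rw [tensE_map_tmul, Bilin.desc_tmul, Bilin.desc_tmul]
    exact (Scheme.Modules.Hom.app_smul f (show Γ(X, U) from a) b).symm

/-- Tensoring with an invertible module is an equivalence. -/
def tensEquiv {Q R : X.Modules} (u : CohB1.tensorMod Q R ≅ Coh.structureModule X) : X.Modules ≌ X.Modules :=
  CategoryTheory.Equivalence.mk (tensE Q) (tensE R)
    (tensUnit.symm ≪≫ tensCongr ((AmpleLib.tensorComm R Q ≪≫ u).symm) ≪≫ tensECompIso R Q)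
    ((tensECompIso Q R).symm ≪≫ tensCongr u ≪≫ tensUnit)

theorem toQ_natural {G G' : X.Modules} (f : G ⟶ G') (J : X.IdealSheafData) :
    f ≫ toQ G' J = toQ G J ≫ tensorMap f (𝟙 (ClSub.quotMod J)) :=
  Scheme.Modules.hom_ext _ _ fun U => ConcreteCategory.hom_ext _ _ fun x => by
    rw [Scheme.Modules.Hom.comp_app, Scheme.Modules.Hom.comp_app, ConcreteCategory.comp_apply,
      ConcreteCategory.comp_apply, toQ_app, toQ_app, tensorMap_tmul]
    rfl

theorem tensorMap_total {r : ℕ} (N : Fin r → X.Modules) (M : X.Modules) :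
    ∑ b, tensorMap (biproduct.π N b) (𝟙 M) ≫ tensorMap (biproduct.ι N b) (𝟙 M) =
      𝟙 (CohB1.tensorMod (⨁ N) M) := AmpleLib.hom_ext fun U g m => by
  rw [Coherent.app_sum]
  simp only [Scheme.Modules.Hom.comp_app, ConcreteCategory.comp_apply, tensorMap_tmul]
  rw [← Coherent.sum_tmul_left]
  refine congrArg (tmul · m) ?_
  exact PicDef15.app_biproduct_total N U g

theorem tensorMap_id_natural {G G' : X.Modules} (f : G ⟶ G') {N N' : X.Modules} (s : N ⟶ N') :
    tE G s ≫ tensorMap f (𝟙 N') = tensorMap f (𝟙 N) ≫ tE G' s := AmpleLib.hom_ext fun U g m => by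
  rw [Scheme.Modules.Hom.comp_app, Scheme.Modules.Hom.comp_app, ConcreteCategory.comp_apply,
    ConcreteCategory.comp_apply, tensE_map_tmul, tensorMap_tmul, tensorMap_tmul]
  exact (tensE_map_tmul G' s U (f.app U g) m).symm

variable (A : Type u) [CommRing A] [IsNoetherianRing A] [X.Over (Spec (CommRingCat.of A))]
  [IsProper (X ↘ Spec (CommRingCat.of A))]

variable [Flat (X ↘ Spec (CommRingCat.of A))]

/-- Algebraization of formal maps between invertible modules. -/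
theorem exists_algebraize {𝓘 : X.IdealSheafData} {L : X.Modules} (hL : ClSub.IsInverseOf L (ClSub.idealMod 𝓘))
    (hamp : CohB1.IsAmple L) (hdepth : FibreDepthTwo A X) {Q Q' : X.Modules} (hQ : PicF.IsInvertible Q)
    (hQ' : PicF.IsInvertible Q') (f : ∀ m, Q' ⟶ CohB1.tensorMod Q (ClSub.quotMod (𝓘 ^ (m + 1))))
    (hf : ∀ m, f (m + 1) ≫ tE Q (Lef.quotMap (Lef.pow_succ_le 𝓘 m)) = f m) :
    ∃ h : Q' ⟶ Q, ∀ m, h ≫ toQ Q (𝓘 ^ (m + 1)) = f m := by
  obtain ⟨R, ⟨u₀⟩⟩ := VarietyLib.exists_isInverseOf hQ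
  have hR : PicF.IsInvertible R := MorProj.isInvertible_of_tensor_iso (AmpleLib.tensorComm _ _ ≪≫ u₀)
  let e := tensEquiv u₀
  let W : X.Modules := CohB1.tensorMod R Q'
  have hW : PicF.IsInvertible W := isInvertible_tensorMod hR hQ'
  let ε : CohB1.tensorMod Q W ≅ Q' :=
    ((tensECompIso Q R).symm ≪≫ tensCongr u₀ ≪≫ tensUnit).app Q'
  let z : ∀ m, W ⟶ ClSub.quotMod (𝓘 ^ (m + 1)) := fun m => e.fullyFaithfulFunctor.preimage (ε.hom ≫ f m)
  have hz : ∀ m, tE Q (z m) = ε.hom ≫ f m := fun m => e.fullyFaithfulFunctor.map_preimage _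
  obtain ⟨β, hβ⟩ := (bijective_formal (A := A) 𝓘 hL hamp hdepth hW).2 z fun m => by
    apply e.fullyFaithfulFunctor.map_injective
    show (tensE Q).map (z (m + 1) ≫ Lef.quotMap (Lef.pow_succ_le 𝓘 m)) = (tensE Q).map (z m)
    rw [Functor.map_comp]
    show tE Q (z (m + 1)) ≫ tE Q _ = tE Q (z m)
    rw [hz, hz, Category.assoc, hf]
  refine ⟨ε.inv ≫ tE Q β ≫ (unitR Q).inv, fun m => ?_⟩
  rw [toQ, Category.assoc, Category.assoc, Iso.inv_hom_id_assoc]
  have h1 : tE Q β ≫ tE Q (ClSub.toSubscheme (𝓘 ^ (m + 1))) = ε.hom ≫ f m := by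
    rw [← hz m, ← hβ m]
    exact ((tensE Q).map_comp _ _).symm
  rw [h1, Iso.inv_hom_id_assoc]

/-- Algebraization of formal maps between sums of invertible modules. -/
theorem exists_algebraize_sum {𝓘 : X.IdealSheafData} {L : X.Modules} (hL : ClSub.IsInverseOf L (ClSub.idealMod 𝓘))
    (hamp : CohB1.IsAmple L) (hdepth : FibreDepthTwo A X) {r r' : ℕ} {N : Fin r → X.Modules}
    {N' : Fin r' → X.Modules} (hN : ∀ b, PicF.IsInvertible (N b)) (hN' : ∀ i, PicF.IsInvertible (N' i))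
    (f : ∀ m, (⨁ N') ⟶ CohB1.tensorMod (⨁ N) (ClSub.quotMod (𝓘 ^ (m + 1))))
    (hf : ∀ m, f (m + 1) ≫ tE (⨁ N) (Lef.quotMap (Lef.pow_succ_le 𝓘 m)) = f m) :
    ∃ h : (⨁ N') ⟶ ⨁ N, ∀ m, h ≫ toQ (⨁ N) (𝓘 ^ (m + 1)) = f m := by
  have hc := fun i b => exists_algebraize A hL hamp hdepth (hN b) (hN' i)
    (fun m => biproduct.ι N' i ≫ f m ≫ tensorMap (biproduct.π N b) (𝟙 _)) fun m => by
      rw [Category.assoc, Category.assoc, ← tensorMap_id_natural, ← Category.assoc (f (m + 1)), hf]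
  choose h hh using hc
  refine ⟨biproduct.desc fun i => biproduct.lift fun b => h i b, fun m => biproduct.hom_ext' _ _ fun i => ?_⟩
  let J := ClSub.quotMod (𝓘 ^ (m + 1))
  rw [← Category.comp_id (biproduct.ι N' i ≫ f m), ← Category.comp_id (toQ (⨁ N) (𝓘 ^ (m + 1))),
    ← tensorMap_total N J, Preadditive.comp_sum, Preadditive.comp_sum, Preadditive.comp_sum, Preadditive.comp_sum]
  refine Finset.sum_congr rfl fun b _ => ?_
  rw [← Category.assoc (toQ _ _), ← toQ_natural, biproduct.ι_desc_assoc]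
  rw [show (biproduct.lift fun b => h i b) ≫ (biproduct.π N b ≫ toQ (N b) (𝓘 ^ (m + 1))) ≫
      tensorMap (biproduct.ι N b) (𝟙 J) =
      (h i b ≫ toQ (N b) (𝓘 ^ (m + 1))) ≫ tensorMap (biproduct.ι N b) (𝟙 J) by
    rw [← Category.assoc, biproduct.lift_π_assoc], hh]
  simp only [Category.assoc, J]

omit [Flat (X ↘ Spec (CommRingCat.of A))] in
include A in
/-- **Presentations**: a system with lifting sections is generated by large negative powers. -/
theorem exists_presentation_sys {𝓘 : X.IdealSheafData} {L : X.Modules} (hL : ClSub.IsInverseOf L (ClSub.idealMod 𝓘))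
    (hamp : CohB1.IsAmple L) (S : FSys 𝓘) (J : ℕ)
    (hJ : ∀ j, J ≤ j → ∀ t : Γ(CohB1.tensorMod (CohB1.tensorPow L j) (S.P 0), ⊤),
      ∃ y : ∀ m, Γ(CohB1.tensorMod (CohB1.tensorPow L j) (S.P m), ⊤),
        y 0 = t ∧ ∀ m, (tE (CohB1.tensorPow L j) (S.q m)).app ⊤ (y (m + 1)) = y m) :
    ∃ (r : ℕ) (a : Fin r → ℕ) (φ : ∀ m, (⨁ fun i => Qp 𝓘 (a i)) ⟶ S.P m),
      (∀ m, φ (m + 1) ≫ S.q m = φ m) ∧ Epi (φ 0) := by
  haveI : IsLocallyNoetherian X := LocallyOfFiniteType.isLocallyNoetherian (X ↘ Spec (CommRingCat.of A))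
  haveI : CompactSpace X := QuasiCompact.compactSpace_of_compactSpace (X ↘ Spec (CommRingCat.of A))
  have hM := isInvertible_inverse hamp.1 hL
  have hLJ := isInvertible_tensorPow hamp.1 J
  have hQJ := isInvertible_Qp hL hamp J
  let C : X.Modules → Prop := fun P => ∃ m, 0 < m ∧ P = CohB1.tensorPow L m
  obtain ⟨n, N, π, hπ, hNk⟩ := Desc19b.exists_epi_negPow C (fun x => by
      obtain ⟨-, -, h⟩ := isAmple_iff_affGlocus.1 hamp
      obtain ⟨m, hm, b, hx, -, hb⟩ := h x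
      exact ⟨_, b, ⟨m, hm, rfl⟩, isInvertible_tensorPow hamp.1 m, hx, hb⟩)
    (CohB1.tensorMod (CohB1.tensorPow L J) (S.P 0)) (isCoh_pow_tensor hamp (S.coh 0) J)
  choose hN P k hCP hk hNP using hNk
  choose m hm hP using hCP
  -- the negative powers
  have hiso : ∀ j, Nonempty (Qp 𝓘 (J + m j * k j) ≅ CohB1.tensorMod (Qp 𝓘 J) (N j)) := fun j => by
    obtain ⟨v⟩ := hNP j
    rw [hP j] at v
    obtain ⟨w⟩ := hL
    have hαβ : InvCl.mk L hamp.1 * InvCl.mk (ClSub.idealMod 𝓘) hM = 1 := InvCl.mk_eq _ _ w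
    have hmk : InvCl.mk (N j) (hN j) = InvCl.mk (ClSub.idealMod 𝓘) hM ^ (m j * k j) := by
      have h1 : InvCl.mk (N j) (hN j) * InvCl.mk L hamp.1 ^ (m j * k j) = 1 := by
        rw [pow_mul, ← InvCl.mk_tensorPow hamp.1, ← InvCl.mk_tensorPow (isInvertible_tensorPow hamp.1 (m j)),
          InvCl.mk_mul]
        exact InvCl.mk_eq _ _ v
      exact left_inv_eq_right_inv h1 (by rw [← mul_pow, hαβ, one_pow])
    exact H0Growth23.nonempty_iso_of_mk_eq (hL := isInvertible_Qp ⟨w⟩ hamp (J + m j * k j))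
      (hN := isInvertible_tensorMod hQJ (hN j)) (by
      rw [← InvCl.mk_mul hQJ (hN j), hmk, InvCl.mk_tensorPow hM, InvCl.mk_tensorPow hM, pow_add])
  obtain ⟨c⟩ := nonempty_pow_inv hL hamp J
  let χ : CohB1.tensorMod (Qp 𝓘 J) (CohB1.tensorMod (CohB1.tensorPow L J) (S.P 0)) ≅ S.P 0 :=
    ((tensECompIso (Qp 𝓘 J) (CohB1.tensorPow L J)).symm ≪≫
      tensCongr (AmpleLib.tensorComm _ _ ≪≫ c) ≪≫ tensUnit).app (S.P 0)
  let s : ∀ j, Qp 𝓘 (J + m j * k j) ⟶ S.P 0 := fun j =>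
    (hiso j).some.hom ≫ tE (Qp 𝓘 J) (biproduct.ι N j ≫ π) ≫ χ.hom
  have hlift : ∀ j, ∃ φ : ∀ l, Qp 𝓘 (J + m j * k j) ⟶ S.P l, φ 0 = s j ∧ ∀ l, φ (l + 1) ≫ S.q l = φ l := fun j => by
    obtain ⟨τ, hτ⟩ := exists_homSecEquiv hL hamp (J + m j * k j)
    obtain ⟨y, hy0, hy⟩ := hJ (J + m j * k j) (Nat.le_add_right _ _) (τ _ (s j))
    refine ⟨fun l => (τ _).symm (y l), (τ _).injective (by rw [AddEquiv.apply_symm_apply, hy0]), fun l => ?_⟩
    apply (τ _).injective
    rw [hτ, AddEquiv.apply_symm_apply, AddEquiv.apply_symm_apply, hy]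
  choose φ hφ0 hφ using hlift
  refine ⟨n, fun j => J + m j * k j, fun l => biproduct.desc fun j => φ j l,
    fun l => biproduct.hom_ext' _ _ fun j => by rw [biproduct.ι_desc_assoc, biproduct.ι_desc, hφ], ?_⟩
  haveI : (tensE (Qp 𝓘 J)).Additive := DCoh.additive_tensorBi_obj _
  haveI : PreservesColimitsOfSize.{0, 0} (tensE (Qp 𝓘 J)) := (tensorHomAdj (Qp 𝓘 J)).leftAdjoint_preservesColimits
  haveI := hπ
  haveI : Epi (tE (Qp 𝓘 J) π) := (tensE (Qp 𝓘 J)).map_epi π
  have hsum : tE (Qp 𝓘 J) π ≫ χ.hom =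
      (biproduct.lift fun j => tE (Qp 𝓘 J) (biproduct.π N j) ≫ (hiso j).some.inv) ≫ biproduct.desc fun j => φ j 0 := by
    rw [biproduct.lift_desc]
    simp only [hφ0, s, Category.assoc, Iso.inv_hom_id_assoc]
    have htot : tE (Qp 𝓘 J) π = ∑ j, tE (Qp 𝓘 J) (biproduct.π N j) ≫ tE (Qp 𝓘 J) (biproduct.ι N j ≫ π) := by
      refine Eq.trans (congrArg (tensE (Qp 𝓘 J)).map
        (show π = ∑ j, biproduct.π N j ≫ biproduct.ι N j ≫ π by
          simp only [← Category.assoc]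
          rw [← Preadditive.sum_comp, biproduct.total, Category.id_comp])) ?_
      rw [Functor.map_sum]
      exact Finset.sum_congr rfl fun j _ => Functor.map_comp _ _ _
    rw [htot, Preadditive.sum_comp]
    exact Finset.sum_congr rfl fun j _ => Category.assoc _ _ _
  exact epi_of_epi_fac hsum.symm

end Groth.Agent.Lef23
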