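import Groth.Agent.Lef23.FrameLocFree
import Groth.Agent.Lef23.FramePresent
import Groth.Agent.DCat.ClosedPush
import Groth.Agent.Coherent.PullUnit
import Groth.Agent.KoszPn17.TwistGen
import Groth.Agent.DCat.PerfTensor

/-!
# The effective Lefschetz condition along an ample divisor
-/

set_option autoImplicit false
set_option linter.style.haveILetI false
set_option backward.isDefEq.respectTransparency.types false

universe u

open CategoryTheory CategoryTheory.Limits AlgebraicGeometry Opposite TopologicalSpace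
open Groth.Agent.Coherent Groth.Agent.PicLib Groth.Agent.AmpleLib Groth.Agent.EulerLib Groth.Agent.SerreDual

noncomputable section

namespace Groth.Agent.Lef23

attribute [local instance] hasFiniteBiproducts

variable {X : Scheme.{u}}

theorem killed_push (J : X.IdealSheafData) (H : J.subscheme.Modules) :
    Killed ((Scheme.Modules.pushforward J.subschemeι).obj H) J := fun B r hr z => by
  rw [mem_ideal_iff] at hr
  show J.subschemeι.app B.1 r • (show Γ(H, J.subschemeι ⁻¹ᵁ B.1) from z) = 0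
  rw [hr, zero_smul]

theorem pullbackCongr_app_pullSec' {W : Scheme.{u}} {a b : W ⟶ X} (hab : a = b) (M : X.Modules) {U : X.Opens}
    (m : Γ(M, U)) :
    ((Scheme.Modules.pullbackCongr hab).hom.app M).app (a ⁻¹ᵁ U) (pullSec a m) =
      resM ((Scheme.Modules.pullback b).obj M) (le_of_eq (by rw [hab])) (pullSec b m) := by
  subst hab
  exact (congrArg (fun φ => φ (pullSec a m)) (((Scheme.Modules.pullback a).obj M).presheaf.map_id _)).symm

theorem pullbackComp_app_pullSec' {W V : Scheme.{u}} (f : W ⟶ V) (g : V ⟶ X) {b : W ⟶ X} (hab : f ≫ g = b)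
    (M : X.Modules) {U : X.Opens} (m : Γ(M, U)) :
    ((Scheme.Modules.pullbackComp f g).app M ≪≫ (Scheme.Modules.pullbackCongr hab).app M).hom.app (f ⁻¹ᵁ (g ⁻¹ᵁ U))
        (pullSec f (pullSec g m)) =
      resM ((Scheme.Modules.pullback b).obj M) (le_of_eq (by subst hab; rfl)) (pullSec b m) := by
  show ((Scheme.Modules.pullbackCongr hab).hom.app M).app _
    (((Scheme.Modules.pullbackComp f g).hom.app M).app _ (pullSec f (pullSec g m))) = _
  rw [← pullbackComp_inv_app_pullSec]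
  have e := (Scheme.Modules.pullbackComp f g).inv_hom_id_app M
  refine (congrArg (((Scheme.Modules.pullbackCongr hab).hom.app M).app _) ?_).trans
    (pullbackCongr_app_pullSec' hab M m)
  exact congr(($e).app ((f ≫ g) ⁻¹ᵁ U) (pullSec (f ≫ g) m))

theorem ext_pullback_two {W V : Scheme.{u}} (f : W ⟶ V) (g : V ⟶ X) {M : X.Modules} {N : W.Modules}
    (a b : (Scheme.Modules.pullback f).obj ((Scheme.Modules.pullback g).obj M) ⟶ N)
    (h : ∀ (U : X.Opens) (m : Γ(M, U)),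
      a.app (f ⁻¹ᵁ (g ⁻¹ᵁ U)) (pullSec f (pullSec g m)) = b.app (f ⁻¹ᵁ (g ⁻¹ᵁ U)) (pullSec f (pullSec g m))) :
    a = b := by
  apply ((Scheme.Modules.pullbackPushforwardAdjunction f).homEquiv _ _).injective
  apply ((Scheme.Modules.pullbackPushforwardAdjunction g).homEquiv _ _).injective
  simp only [Adjunction.homEquiv_unit]
  exact Scheme.Modules.hom_ext _ _ fun U => ConcreteCategory.hom_ext _ _ fun m => h U m

/-- Adjuncts of compatible maps to direct images are compatible. -/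
theorem comm_adjunct {W V : Scheme.{u}} (j : W ⟶ V) (g : V ⟶ X) (b : W ⟶ X) (hab : j ≫ g = b) {E : X.Modules}
    {N' : V.Modules} {N : W.Modules} (e : (Scheme.Modules.pullback j).obj N' ≅ N)
    (α' : E ⟶ (Scheme.Modules.pushforward g).obj N') (α : E ⟶ (Scheme.Modules.pushforward b).obj N)
    (hcomp : α' ≫ stepPush j g b hab (toPushOf j e) = α) :
    (Scheme.Modules.pullback j).map (((Scheme.Modules.pullbackPushforwardAdjunction g).homEquiv _ _).symm α') ≫
        e.hom =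
      ((Scheme.Modules.pullbackComp j g).app E ≪≫ (Scheme.Modules.pullbackCongr hab).app E).hom ≫
        ((Scheme.Modules.pullbackPushforwardAdjunction b).homEquiv _ _).symm α := by
  refine ext_pullback_two j g _ _ fun U x => ?_
  have hle : b ⁻¹ᵁ U ≤ j ⁻¹ᵁ (g ⁻¹ᵁ U) := le_of_eq (by rw [← Scheme.Hom.comp_preimage, hab])
  have hle' : j ⁻¹ᵁ (g ⁻¹ᵁ U) ≤ b ⁻¹ᵁ U := le_of_eq (by rw [← Scheme.Hom.comp_preimage, hab])
  let c := ((Scheme.Modules.pullbackPushforwardAdjunction g).homEquiv _ _).symm α'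
  have h1 : ((Scheme.Modules.pullback j).map c).app (j ⁻¹ᵁ (g ⁻¹ᵁ U)) (pullSec j (pullSec g x)) =
      pullSec j (c.app (g ⁻¹ᵁ U) (pullSec g x)) :=
    (congrArg (fun t : _ ⟶ _ => Scheme.Modules.Hom.app t (g ⁻¹ᵁ U) (pullSec g x))
      ((Scheme.Modules.pullbackPushforwardAdjunction j).unit.naturality c)).symm
  rw [Scheme.Modules.Hom.comp_app, Scheme.Modules.Hom.comp_app, ConcreteCategory.comp_apply,
    ConcreteCategory.comp_apply, h1, pullbackComp_app_pullSec' j g hab E x, app_resM, homEquiv_symm_app_pullSec,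
    homEquiv_symm_app_pullSec, ← hcomp, Scheme.Modules.Hom.comp_app, ConcreteCategory.comp_apply]
  show _ = resM N hle' (show Γ(N, b ⁻¹ᵁ U) from (stepPush j g b hab (toPushOf j e)).app U (α'.app U x))
  rw [stepPush_app j g b hab _ U hle, resM_resM, PicLib.resM_self, toPushOf_app]

/-- The pullbacks of a module to a system of schemes over `X`. -/
abbrev pullSys {𝔛 : FSch.Sys.{u}} (g : ∀ n, 𝔛.X n ⟶ X) (hab : ∀ n, 𝔛.ι n ≫ g (n + 1) = g n) (E : X.Modules) :
    FSch.ModSys 𝔛 where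
  F n := (Scheme.Modules.pullback (g n)).obj E
  e n := (Scheme.Modules.pullbackComp (𝔛.ι n) (g (n + 1))).app E ≪≫ (Scheme.Modules.pullbackCongr (hab n)).app E

/-- Isomorphisms of systems from levels. -/
theorem nonempty_modSys_iso {𝔛 : FSch.Sys.{u}} {𝔐 𝔑 : FSch.ModSys 𝔛} (a : ∀ n, 𝔐.F n ⟶ 𝔑.F n) [∀ n, IsIso (a n)]
    (ha : ∀ n, (Scheme.Modules.pullback (𝔛.ι n)).map (a (n + 1)) ≫ (𝔑.e n).hom = (𝔐.e n).hom ≫ a n) :
    Nonempty (𝔐 ≅ 𝔑) := by
  let b : 𝔑 ⟶ 𝔐 := ⟨fun n => inv (a n), fun n => by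
    rw [Functor.map_inv, IsIso.inv_comp_eq, ← Category.assoc, ha n, Category.assoc, IsIso.hom_inv_id, Category.comp_id]⟩
  exact ⟨⟨⟨a, ha⟩, b, FSch.ModSys.Hom.ext (funext fun n => IsIso.hom_inv_id (a n)),
    FSch.ModSys.Hom.ext (funext fun n => IsIso.inv_hom_id (a n))⟩⟩

/-- Systems from compatible maps to direct images. -/
theorem nonempty_pullSys_iso {𝔛 : FSch.Sys.{u}} (g : ∀ n, 𝔛.X n ⟶ X) (hab : ∀ n, 𝔛.ι n ≫ g (n + 1) = g n)
    (E : X.Modules) (𝔐 : FSch.ModSys 𝔛) (α : ∀ n, E ⟶ (Scheme.Modules.pushforward (g n)).obj (𝔐.F n))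
    (hα : ∀ n, α (n + 1) ≫ stepPush (𝔛.ι n) (g (n + 1)) (g n) (hab n) (toPushOf (𝔛.ι n) (𝔐.e n)) = α n)
    (hiso : ∀ n, IsIso (((Scheme.Modules.pullbackPushforwardAdjunction (g n)).homEquiv _ _).symm (α n))) :
    Nonempty (pullSys g hab E ≅ 𝔐) :=
  @nonempty_modSys_iso _ (pullSys g hab E) 𝔐
    (fun n => ((Scheme.Modules.pullbackPushforwardAdjunction (g n)).homEquiv _ _).symm (α n)) hiso
    (fun n => comm_adjunct (𝔛.ι n) (g (n + 1)) (g n) (hab n) (𝔐.e n) (α (n + 1)) (α n) (hα n))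

/-- Modules agreeing on a neighbourhood have the same systems of pullbacks. -/
theorem nonempty_pullSys_restrict {𝔛 : FSch.Sys.{u}} (g : ∀ n, 𝔛.X n ⟶ X) (hab : ∀ n, 𝔛.ι n ≫ g (n + 1) = g n)
    (E : X.Modules) (U : X.Opens) (hU : ∀ n, Set.range (g n) ⊆ (U : Set X)) :
    Nonempty (pullSys g hab E ≅ pullSys g hab ((Scheme.Modules.pushforward U.ι).obj (E.restrict U.ι))) := by
  let η := (Scheme.Modules.restrictAdjunction U.ι).unit.app E
  haveI : IsIso ((Scheme.Modules.restrictFunctor U.ι).map η) := by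
    haveI := (Scheme.Modules.restrictAdjunction U.ι).left_triangle_components E
    exact IsIso.of_isIso_fac_right this
  haveI : IsIso ((Scheme.Modules.pullback U.ι).map η) :=
    (NatIso.isIso_map_iff (Scheme.Modules.restrictFunctorIsoPullback U.ι) η).1 inferInstance
  haveI : ∀ n, IsIso ((Scheme.Modules.pullback (g n)).map η) := fun n => by
    let j₀ : 𝔛.X n ⟶ U := IsOpenImmersion.lift U.ι (g n) (by rw [Scheme.Opens.range_ι]; exact hU n)
    rw [← IsOpenImmersion.lift_fac U.ι (g n) (by rw [Scheme.Opens.range_ι]; exact hU n)]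
    refine (NatIso.isIso_map_iff (Scheme.Modules.pullbackComp j₀ U.ι) η).1 ?_
    exact inferInstanceAs (IsIso ((Scheme.Modules.pullback j₀).map ((Scheme.Modules.pullback U.ι).map η)))
  exact nonempty_modSys_iso (𝔐 := pullSys g hab E)
    (𝔑 := pullSys g hab ((Scheme.Modules.pushforward U.ι).obj (E.restrict U.ι)))
    (fun n => (Scheme.Modules.pullback (g n)).map η)
    fun n => (Scheme.Modules.pullbackComp (𝔛.ι n) (g (n + 1)) ≪≫ Scheme.Modules.pullbackCongr (hab n)).hom.naturality η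

variable {I : X.IdealSheafData} [IsLocallyNoetherian X] (𝔐 : FSch.ModSys (FSch.completionAlong X I))
  (h𝔐 : LefX.LevelwiseFinLocFree 𝔐) {G : X.Modules} (hG : FlatMod.IsFinLocFree G)
  (φ : ∀ m, G ⟶ (FSys.ofModSys 𝔐 h𝔐).P m) (hφ : ∀ m, φ (m + 1) ≫ (FSys.ofModSys 𝔐 h𝔐).q m = φ m)
  (h0 : Epi (φ 0)) {G' : X.Modules} (hG' : FlatMod.IsFinLocFree G')
  (φ' : ∀ m, G' ⟶ (kerSys (FSys.ofModSys 𝔐 h𝔐) hG φ hφ h0).P m)
  (hφ' : ∀ m, φ' (m + 1) ≫ (kerSys (FSys.ofModSys 𝔐 h𝔐) hG φ hφ h0).q m = φ' m) (h0' : Epi (φ' 0))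
  (h : G' ⟶ G) (hh : ∀ m, h ≫ toQ G (I ^ (m + 1)) = φ' m ≫ kernel.ι (psi (FSys.ofModSys 𝔐 h𝔐) hG φ m))

include hG' hφ' h0' in
theorem exists_descend (m : ℕ) {H : X.Modules} (hH : Killed H (I ^ (m + 1))) (v : cokernel h ⟶ H) :
    ∃ β : (FSys.ofModSys 𝔐 h𝔐).P m ⟶ H, alpha (FSys.ofModSys 𝔐 h𝔐) hG φ hφ h0 φ' h hh m ≫ β = v := by
  let S := FSys.ofModSys 𝔐 h𝔐
  let K := kerSys S hG φ hφ h0
  obtain ⟨ψ', hψ'⟩ := exists_factor G hG hH (cokernel.π h ≫ v)
  haveI : Epi (psi S hG φ m) := (surj_psi S hG φ hφ h0 m).epi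
  haveI : Epi (φ' m) := by
    rw [← toQ_psi K hG' φ' m]
    haveI := epi_toQ G' (I ^ (m + 1))
    haveI : Epi (psi K hG' φ' m) := (surj_psi K hG' φ' hφ' h0' m).epi
    exact epi_comp _ _
  have h1 : kernel.ι (psi S hG φ m) ≫ ψ' = 0 := by
    apply (cancel_epi (φ' m)).1
    refine Eq.trans ?_ comp_zero.symm
    show φ' m ≫ kernel.ι (psi S hG φ m) ≫ ψ' = 0
    rw [← Category.assoc, ← hh m, Category.assoc, hψ', ← Category.assoc, cokernel.condition, zero_comp]
  refine ⟨Abelian.epiDesc (psi S hG φ m) ψ' h1, ?_⟩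
  rw [← cancel_epi (cokernel.π h), ← Category.assoc]
  show (cokernel.π h ≫ cokernel.desc h (φ m) _) ≫ _ = _
  rw [cokernel.π_desc, ← toQ_psi S hG φ m, Category.assoc, Abelian.comp_epiDesc, hψ']

/-- The comparison of the completion of the algebraization with the given system. -/
def compl (m : ℕ) : (Scheme.Modules.pullback (I ^ (m + 1)).subschemeι).obj (cokernel h) ⟶ 𝔐.F m :=
  ((Scheme.Modules.pullbackPushforwardAdjunction (I ^ (m + 1)).subschemeι).homEquiv _ _).symm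
    (alpha (FSys.ofModSys 𝔐 h𝔐) hG φ hφ h0 φ' h hh m)

theorem compl_spec (m : ℕ) (U : X.Opens) (x : Γ(cokernel h, U)) :
    (compl 𝔐 h𝔐 hG φ hφ h0 φ' h hh m).app ((I ^ (m + 1)).subschemeι ⁻¹ᵁ U) (pullSec (I ^ (m + 1)).subschemeι x) =
      (alpha (FSys.ofModSys 𝔐 h𝔐) hG φ hφ h0 φ' h hh m).app U x :=
  homEquiv_symm_app_pullSec _ _ _

include hG' hφ' h0' in
theorem isIso_compl (m : ℕ) : IsIso (compl 𝔐 h𝔐 hG φ hφ h0 φ' h hh m) := by
  let S := FSys.ofModSys 𝔐 h𝔐
  let ι := (I ^ (m + 1)).subschemeι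
  let adj := Scheme.Modules.pullbackPushforwardAdjunction ι
  haveI : IsIso adj.counit := NatIso.isIso_of_isIso_app _
  let ff := adj.fullyFaithfulROfIsIsoCounit
  let α := alpha S hG φ hφ h0 φ' h hh m
  haveI : Epi α := by
    haveI : Epi (psi S hG φ m) := (surj_psi S hG φ hφ h0 m).epi
    haveI := epi_toQ G (I ^ (m + 1))
    haveI : Epi (φ m) := by rw [← toQ_psi S hG φ m]; exact epi_comp _ _
    exact epi_of_epi_fac (cokernel.π_desc h (φ m) _)
  obtain ⟨β, hβ⟩ := exists_descend 𝔐 h𝔐 hG φ hφ h0 hG' φ' hφ' h0' h hh m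
    (killed_push (I ^ (m + 1)) _) (adj.unit.app (cokernel h))
  let a := compl 𝔐 h𝔐 hG φ hφ h0 φ' h hh m
  have ha : adj.unit.app (cokernel h) ≫ (Scheme.Modules.pushforward ι).map a = α := by
    exact (adj.homEquiv_unit (cokernel h) _ a).symm.trans (Equiv.apply_symm_apply (adj.homEquiv _ _) _)
  let b : 𝔐.F m ⟶ (Scheme.Modules.pullback ι).obj (cokernel h) := ff.preimage β
  have hb : (Scheme.Modules.pushforward ι).map b = β := ff.map_preimage β
  refine ⟨b, (adj.homEquiv _ _).injective ?_, ff.map_injective ?_⟩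
  · rw [adj.homEquiv_unit, adj.homEquiv_unit, Functor.map_comp, ← Category.assoc, ha, hb,
      CategoryTheory.Functor.map_id]
    exact hβ.trans (Category.comp_id _).symm
  · rw [Functor.map_comp, hb, CategoryTheory.Functor.map_id]
    apply (cancel_epi α).1
    refine Eq.trans ?_ (Category.comp_id _).symm
    show α ≫ β ≫ (Scheme.Modules.pushforward ι).map a = α
    rw [← Category.assoc]
    refine Eq.trans ?_ ha
    exact congrArg (· ≫ (Scheme.Modules.pushforward ι).map a) hβ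

theorem alpha_q (m : ℕ) : alpha (FSys.ofModSys 𝔐 h𝔐) hG φ hφ h0 φ' h hh (m + 1) ≫
    stepPush (incl I m) (I ^ (m + 1 + 1)).subschemeι (I ^ (m + 1)).subschemeι (incl_ι m)
      (toPushOf (incl I m) (𝔐.e m)) = alpha (FSys.ofModSys 𝔐 h𝔐) hG φ hφ h0 φ' h hh m := by
  apply (cancel_epi (cokernel.π h)).1
  refine ((Category.assoc _ _ _).symm.trans ?_).trans (cokernel.π_desc h (φ m) _).symm
  exact (congrArg (· ≫ (FSys.ofModSys 𝔐 h𝔐).q m) (cokernel.π_desc h (φ (m + 1)) _)).trans (hφ m)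

include hG' hφ' h0' hh in
theorem exists_algebraization : ∃ (U : X.Opens) (E : (U : Scheme.{u}).Modules),
    (I.support : Set X) ⊆ (U : Set X) ∧ FlatMod.IsFinLocFree E ∧
      Nonempty (FSch.completionMod I ((Scheme.Modules.pushforward U.ι).obj E) ≅ 𝔐) := by
  obtain ⟨U, hU, hfree⟩ := exists_free_cokernel (FSys.ofModSys 𝔐 h𝔐) hG φ hφ h0 φ' h0' h hh
    (CohBC.isCoh_of_isFinLocFree hG')
  refine ⟨U, (cokernel h).restrict U.ι, hU, hfree, ?_⟩
  obtain ⟨e₁⟩ : Nonempty (FSch.completionMod I (cokernel h) ≅ 𝔐) :=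
    nonempty_pullSys_iso (fun n => FSch.completionToX X I n)
      (fun n => Scheme.IdealSheafData.inclusion_subschemeι (FSch.pow_succ_le X I n)) (cokernel h) 𝔐
      (fun n => alpha (FSys.ofModSys 𝔐 h𝔐) hG φ hφ h0 φ' h hh n)
      (fun n => alpha_q 𝔐 h𝔐 hG φ hφ h0 φ' h hh n)
      (fun n => isIso_compl 𝔐 h𝔐 hG φ hφ h0 hG' φ' hφ' h0' h hh n)
  obtain ⟨e₂⟩ : Nonempty (FSch.completionMod I (cokernel h) ≅
      FSch.completionMod I ((Scheme.Modules.pushforward U.ι).obj ((cokernel h).restrict U.ι))) :=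
    nonempty_pullSys_restrict (fun n => FSch.completionToX X I n)
      (fun n => Scheme.IdealSheafData.inclusion_subschemeι (FSch.pow_succ_le X I n)) (cokernel h) U fun n => by
        show Set.range (I ^ (n + 1)).subschemeι ⊆ (U : Set X)
        rw [(I ^ (n + 1)).range_subschemeι, Scheme.IdealSheafData.support_pow_succ]
        exact hU
  exact ⟨e₂.symm ≪≫ e₁⟩

omit [IsLocallyNoetherian X] in
theorem isFinLocFree_sum' {r : ℕ} (N : Fin r → X.Modules) (hN : ∀ i, FlatMod.IsFinLocFree (N i)) :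
    FlatMod.IsFinLocFree (⨁ N) :=
  DCat.PerfTensor.isFinLocFree_of_iso (biproduct.isoCoproduct N).symm (DCat.PerfTensor.isFinLocFree_sigma N hN)

variable {A : Type u} [CommRing A] [IsNoetherianRing A] [X.Over (Spec (CommRingCat.of A))]
  [IsProper (X ↘ Spec (CommRingCat.of A))] [Flat (X ↘ Spec (CommRingCat.of A))]

omit [IsLocallyNoetherian X] in
variable (A) in
include A in
/-- **The effective Lefschetz condition along an ample divisor.** -/
theorem leffCond_of_ample (𝓘 : X.IdealSheafData) {L : X.Modules} (hL : ClSub.IsInverseOf L (ClSub.idealMod 𝓘))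
    (hamp : CohB1.IsAmple L) [hf0 : Flat (𝓘.subschemeι ≫ (X ↘ Spec (CommRingCat.of A)))]
    (hdepth0 : ∀ y : ↥(𝓘.subscheme),
      IsClosed ({((𝓘.subschemeι ≫ (X ↘ Spec (CommRingCat.of A)))).asFiber y} :
        Set ↥(((𝓘.subschemeι ≫ (X ↘ Spec (CommRingCat.of A)))).fiber
          (((𝓘.subschemeι ≫ (X ↘ Spec (CommRingCat.of A)))).base y))) →
      (2 : ℕ∞) ≤ LocCoh.depth ↑(CInt.fiberStalk (𝓘.subschemeι ≫ (X ↘ Spec (CommRingCat.of A))) y)
        ↑(CInt.fiberStalk (𝓘.subschemeι ≫ (X ↘ Spec (CommRingCat.of A))) y))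
    (hdepth : FibreDepthTwo A X) : LefX.LeffCond X 𝓘 := by
  haveI : IsLocallyNoetherian X := LocallyOfFiniteType.isLocallyNoetherian (X ↘ Spec (CommRingCat.of A))
  refine ⟨lefCond_of_ample (A := A) 𝓘 hL hamp hdepth, fun 𝔐 h𝔐 => ?_⟩
  have hM := isInvertible_inverse hamp.1 hL
  have hI : BlowUp.IsEffCartierIdeal 𝓘 := (Groth.Agent.S8914.result 𝓘).1 hM
  have hvan : ∀ J : X.IdealSheafData, J = 𝓘 → ∀ N : J.subscheme.Modules, FlatMod.IsFinLocFree N →
      ∃ i₀ : ℕ, ∀ i, i₀ ≤ i → Subsingleton (Coh.HH X (CohB1.tensorMod (CohB1.tensorPow (ClSub.idealMod 𝓘) i)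
        ((Scheme.Modules.pushforward J.subschemeι).obj N)) 1) := by
    rintro J rfl N hN
    exact exists_vanishing_bottom J.subschemeι hdepth0 hN hL hamp
  let S := FSys.ofModSys 𝔐 h𝔐
  have hS : ∀ (T : FSys 𝓘) (N : (Zs 𝓘 0).Modules), FlatMod.IsFinLocFree N →
      (T.P 0 ≅ (Scheme.Modules.pushforward (𝓘 ^ (0 + 1)).subschemeι).obj N) →
      ∃ (r : ℕ) (a : Fin r → ℕ) (φ : ∀ m, (⨁ fun i => Qp 𝓘 (a i)) ⟶ T.P m),
        (∀ m, φ (m + 1) ≫ T.q m = φ m) ∧ Epi (φ 0) := fun T N hN e => by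
    obtain ⟨i₀, hi₀⟩ := hvan (𝓘 ^ (0 + 1)) (by rw [zero_add, pow_one]) N hN
    obtain ⟨j₀, hj₀⟩ := exists_vanishing_top A hamp (T.coh 0)
    obtain ⟨J, hJ⟩ := exists_lift_sections' A hI hL hamp T j₀ i₀ hj₀ fun i hi =>
      subsingleton_HH_iso (AmpleLib.tensorIso (Iso.refl _) e).symm 1 (hi₀ i hi)
    exact exists_presentation_sys A hL hamp T J hJ
  obtain ⟨r, a, φ, hφ, h0⟩ := hS S (𝔐.F 0) (h𝔐 0) (Iso.refl _)
  have hG : FlatMod.IsFinLocFree (⨁ fun i => Qp 𝓘 (a i)) :=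
    isFinLocFree_sum' _ fun i => Coherent.isFinLocFree_of_invertible (isInvertible_Qp hL hamp (a i))
  let K := kerSys S hG φ hφ h0
  -- the bottom of the kernels
  obtain ⟨N, hN, ⟨eN⟩⟩ : ∃ N : (Zs 𝓘 0).Modules, FlatMod.IsFinLocFree N ∧
      Nonempty (K.P 0 ≅ (Scheme.Modules.pushforward (𝓘 ^ (0 + 1)).subschemeι).obj N) := by
    let ι := (𝓘 ^ (0 + 1)).subschemeι
    let adj := Scheme.Modules.pullbackPushforwardAdjunction ι
    let Gp := (Scheme.Modules.pullback ι).obj (⨁ fun i => Qp 𝓘 (a i))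
    have hGp : FlatMod.IsFinLocFree Gp := FlatMorAdm.isFinLocFree_pullback ι hG
    obtain ⟨θ, hθ⟩ := exists_factor (⨁ fun i => Qp 𝓘 (a i)) hG (killed_push (𝓘 ^ (0 + 1)) Gp)
      (adj.unit.app _)
    haveI : IsIso θ := by
      refine MapsFrame.isIso (J := 𝓘 ^ (0 + 1)) fun x => ?_
      obtain ⟨V, hxV, -, κ, _, g, hg⟩ := exists_basis_affine hG (x := x) (U := ⊤) trivial
      refine ⟨V, hxV, κ, inferInstance, _, frame_toQ _ _ hg, ?_⟩
      have h1 := Frame.of_basis ι Gp (hg.pull ι)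
      rw [Scheme.IdealSheafData.ker_subschemeι] at h1
      have h2 : (fun i => θ.app V.1 ((toQ (⨁ fun i => Qp 𝓘 (a i)) (𝓘 ^ (0 + 1))).app V.1 (g i))) =
          fun i => (show Γ((Scheme.Modules.pushforward ι).obj Gp, V.1) from pullSec ι (g i)) := funext fun i => by
        show (toQ _ _ ≫ θ).app V.1 (g i) = _
        rw [hθ]
        rfl
      rw [h2]
      exact h1
    haveI : IsIso adj.counit := NatIso.isIso_of_isIso_app _
    let ff := adj.fullyFaithfulROfIsIsoCounit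
    let p := psi S hG φ 0
    let π : Gp ⟶ 𝔐.F 0 := ff.preimage (inv θ ≫ p)
    have hπ : (Scheme.Modules.pushforward ι).map π = inv θ ≫ p := ff.map_preimage _
    haveI : Epi p := (surj_psi S hG φ hφ h0 0).epi
    haveI : Epi π := by
      haveI : Epi ((Scheme.Modules.pushforward ι).map π) := by
        rw [hπ]
        exact @epi_comp _ _ _ _ _ (inv θ) inferInstance p (surj_psi S hG φ hφ h0 0).epi
      haveI : (Scheme.Modules.pushforward ι).Faithful := ff.faithful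
      exact (Scheme.Modules.pushforward ι).epi_of_epi_map inferInstance
    refine ⟨kernel π, KoszPn17.isFinLocFree_kernel π hGp (h𝔐 0), ⟨?_⟩⟩
    haveI := adj.rightAdjoint_preservesLimits
    exact (PreservesKernel.iso (Scheme.Modules.pushforward ι) π ≪≫
      kernel.mapIso ((Scheme.Modules.pushforward ι).map π) p (asIso θ).symm (Iso.refl _)
        ((Category.comp_id _).trans hπ)).symm
  obtain ⟨r', a', φ', hφ', h0'⟩ := hS K N hN eN
  have hG' : FlatMod.IsFinLocFree (⨁ fun i => Qp 𝓘 (a' i)) :=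
    isFinLocFree_sum' _ fun i => Coherent.isFinLocFree_of_invertible (isInvertible_Qp hL hamp (a' i))
  obtain ⟨h, hh⟩ := exists_algebraize_sum A hL hamp hdepth (fun b => isInvertible_Qp hL hamp (a b))
    (fun i => isInvertible_Qp hL hamp (a' i)) (fun m => φ' m ≫ kernel.ι (psi S hG φ m)) fun m => by
      exact (Category.assoc _ _ _).trans ((congrArg (φ' (m + 1) ≫ ·) (kerQ_ι S hG φ hφ m).symm).trans
        ((Category.assoc _ _ _).symm.trans (congrArg (· ≫ kernel.ι (psi S hG φ m)) (hφ' m))))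
  exact exists_algebraization 𝔐 h𝔐 hG φ hφ h0 hG' φ' hφ' h0' h hh

end Groth.Agent.Lef23
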