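import Groth.Agent.Lef23.PicImage
import Groth.Agent.Lef23.Disjoint
import Groth.Agent.CAlgH.ParaStalkGeom
import Groth.Agent.ParaF29.Ops
import Groth.Agent.AmpleLib.Relative

/-!
# Invertible modules on an ample divisor extend
-/

set_option autoImplicit false
set_option linter.style.haveILetI false
set_option backward.isDefEq.respectTransparency.types false

universe u

open CategoryTheory CategoryTheory.Limits AlgebraicGeometry Opposite TopologicalSpace
open Groth.Agent.Coherent Groth.Agent.PicLib Groth.Agent.AmpleLib Groth.Agent.EulerLib Groth.Agent.SerreDual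

noncomputable section

namespace Groth.Agent.Lef23

variable {X : Scheme.{u}}

/-- Pullback along a map factoring through an open subscheme. -/
def pullbackRestrictIso {Z : Scheme.{u}} {U : X.Opens} (j : Z ⟶ U) (ι : Z ⟶ X) (h : j ≫ U.ι = ι) (P : X.Modules) :
    (Scheme.Modules.pullback j).obj (P.restrict U.ι) ≅ (Scheme.Modules.pullback ι).obj P :=
  (Scheme.Modules.pullback j).mapIso ((Scheme.Modules.restrictFunctorIsoPullback U.ι).app P) ≪≫
    (Scheme.Modules.pullbackComp j U.ι).app P ≪≫ (Scheme.Modules.pullbackCongr h).app P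

/-- Extension across a closed set with parafactorial local rings. -/
theorem exists_extension [IsLocallyNoetherian X] {U : X.Opens}
    (hU : ∀ y : X, y ∉ U → CAlgH.ParaStalk.Good (X.presheaf.stalk y)) {Z : Scheme.{u}} (ι : Z ⟶ X)
    (hι : Set.range ι ⊆ (U : Set X)) {M : X.Modules} (hM : PicF.IsInvertible (M.restrict U.ι)) :
    ∃ E : X.Modules, PicF.IsInvertible E ∧
      Nonempty ((Scheme.Modules.pullback ι).obj E ≅ (Scheme.Modules.pullback ι).obj M) := by
  let Y : Closeds X := ⟨(U : Set X)ᶜ, U.2.isClosed_compl⟩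
  have hY : Y.compl = U := Opens.ext (compl_compl _)
  obtain ⟨hb, hlt⟩ := (ParaF29.isParafactorialPair_iff Y).1
    ((CAlgH.ParaStalk.isParafactorialPair_iff_stalks Y).2 fun y hy => (CAlgH.ParaStalk.good_iff _).2 (hU y hy))
  rw [hY] at hb hlt
  have hb' : ParaF29.HB U.ι.opensRange := by rw [Scheme.Opens.opensRange_ι]; exact hb
  have hj := ParaF29.invRestrictEquiv_of_locTriv U.ι hb'
    (ParaF29.locTriv_of_LT hlt (𝟙 X) U.ι (by rw [Scheme.Opens.opensRange_ι]; rfl))
  obtain ⟨E, hE, ⟨e⟩⟩ := hj.2 _ hM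
  let j₀ : Z ⟶ U := IsOpenImmersion.lift U.ι ι (by rwa [Scheme.Opens.range_ι])
  have h₀ : j₀ ≫ U.ι = ι := IsOpenImmersion.lift_fac _ _ _
  exact ⟨E, hE, ⟨(pullbackRestrictIso j₀ ι h₀ E).symm ≪≫ (Scheme.Modules.pullback j₀).mapIso e ≪≫
    pullbackRestrictIso j₀ ι h₀ M⟩⟩

/-- Removing the twist. -/
theorem nonempty_untwist {Z : Scheme.{u}} (ι : Z ⟶ X) {E P Q : X.Modules} (hE : PicF.IsInvertible E)
    (hP : PicF.IsInvertible P) (hQ : PicF.IsInvertible Q) (u : CohB1.tensorMod P Q ≅ Coh.structureModule X)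
    {N : Z.Modules} (hN : PicF.IsInvertible N)
    (e : (Scheme.Modules.pullback ι).obj E ≅ CohB1.tensorMod ((Scheme.Modules.pullback ι).obj Q) N) :
    Nonempty ((Scheme.Modules.pullback ι).obj (CohB1.tensorMod E P) ≅ N) := by
  have hE' := PicLoc.isInvertible_pullback ι hE
  have hP' := PicLoc.isInvertible_pullback ι hP
  have hQ' := PicLoc.isInvertible_pullback ι hQ
  obtain ⟨e₁⟩ := exists_pullTensorIso ι hE hP
  obtain ⟨e₂⟩ := exists_pullTensorIso ι hP hQ
  obtain ⟨e₃⟩ := exists_pullStructureIso ι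
  have h1 : InvCl.mk _ hE' = InvCl.mk _ hQ' * InvCl.mk N hN := by
    rw [InvCl.mk_mul hQ' hN]
    exact InvCl.mk_eq _ _ e
  have h2 : InvCl.mk _ hP' * InvCl.mk _ hQ' = 1 := by
    rw [InvCl.mk_mul hP' hQ']
    exact InvCl.mk_eq _ isInvertible_structureModule
      (e₂.symm ≪≫ (Scheme.Modules.pullback ι).mapIso u ≪≫ e₃)
  obtain ⟨e₄⟩ := H0Growth23.nonempty_iso_of_mk_eq (hL := isInvertible_tensorMod hE' hP') (hN := hN) (by
    rw [← InvCl.mk_mul hE' hP', h1, mul_right_comm, mul_comm (InvCl.mk _ hQ') (InvCl.mk _ hP'), h2, one_mul])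
  exact ⟨e₁ ≪≫ e₄⟩

variable (k : Type u) [Field k] [X.Over (Spec (CommRingCat.of k))] [IsProper (X ↘ Spec (CommRingCat.of k))]
  {𝓘 : X.IdealSheafData} {L : X.Modules} (hL : ClSub.IsInverseOf L (ClSub.idealMod 𝓘)) (hamp : CohB1.IsAmple L)
  (hgood : Good k 𝓘)

include hL hamp hgood in
/-- **`Pic X → Pic X₀` is injective.** -/
theorem pic_injective {M M' : X.Modules} (hM : PicF.IsInvertible M) (hM' : PicF.IsInvertible M')
    (e : (Scheme.Modules.pullback 𝓘.subschemeι).obj M ≅ (Scheme.Modules.pullback 𝓘.subschemeι).obj M') :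
    Nonempty (M ≅ M') := by
  haveI : IsLocallyNoetherian X := LocallyOfFiniteType.isLocallyNoetherian (X ↘ Spec (CommRingCat.of k))
  exact nonempty_iso_of_restrict 𝓘
    (lefCond_of_ample (A := k) 𝓘 hL hamp (fibreDepthTwo_of_good k hgood))
    (fun m => subsingleton_kernel_quotMap 𝓘 ((Groth.Agent.S8914.result 𝓘).1 (isInvertible_inverse hamp.1 hL))
      hgood.2 m 1 (Or.inl rfl)) hM hM' e

include hL hamp hgood in
/-- **`Pic X → Pic X₀` is surjective.** -/
theorem pic_surjective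
    (hpf : ∀ x : X, IsClosed ({x} : Set X) → x ∉ (𝓘.support : Set X) →
      ParaF.PicTrivial (↑(FEt.puncturedSpec (X.presheaf.stalk x)) : Scheme.{u}))
    {N : 𝓘.subscheme.Modules} (hN : PicF.IsInvertible N) :
    ∃ M : X.Modules, PicF.IsInvertible M ∧ Nonempty ((Scheme.Modules.pullback 𝓘.subschemeι).obj M ≅ N) := by
  haveI : IsLocallyNoetherian X := LocallyOfFiniteType.isLocallyNoetherian (X ↘ Spec (CommRingCat.of k))
  haveI : X.IsSeparated := ⟨by rw [← terminal.comp_from (X ↘ Spec (CommRingCat.of k))]; infer_instance⟩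
  have h01 : 𝓘 ^ (0 + 1) = 𝓘 := by rw [zero_add, pow_one]
  let a : Zs 𝓘 0 ⟶ 𝓘.subscheme := Scheme.IdealSheafData.inclusion h01.ge
  let b : 𝓘.subscheme ⟶ Zs 𝓘 0 := Scheme.IdealSheafData.inclusion h01.le
  have ha : a ≫ 𝓘.subschemeι = (𝓘 ^ (0 + 1)).subschemeι := Scheme.IdealSheafData.inclusion_subschemeι _
  have hb : b ≫ (𝓘 ^ (0 + 1)).subschemeι = 𝓘.subschemeι := Scheme.IdealSheafData.inclusion_subschemeι _
  have hba : b ≫ a = 𝟙 _ := by rw [← cancel_mono 𝓘.subschemeι, Category.assoc, ha, hb, Category.id_comp]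
  have hI : BlowUp.IsEffCartierIdeal 𝓘 := (Groth.Agent.S8914.result 𝓘).1 (isInvertible_inverse hamp.1 hL)
  obtain ⟨T, hT⟩ := exists_tower 𝓘 (fun m i hi => subsingleton_kernel_quotMap 𝓘 hI hgood.2 m i hi)
    (PicLoc.isInvertible_pullback a hN)
  obtain ⟨j, r, r', t, s, φ, ht, hs, h0, hmin⟩ := exists_products T k hL hamp hgood
  have hQ := isInvertible_Qp hL hamp j
  obtain ⟨hU, ⟨χ⟩⟩ := nonempty_pullback_coimage φ hmin (𝓘 ^ (0 + 1)).subschemeι (T.level 0) t s hQ hs h0 ht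
  have hsupp : (𝓘.support : Set X) ⊆ (unitLocus φ : Set X) := by
    rw [← 𝓘.range_subschemeι]
    rintro _ ⟨w, rfl⟩
    exact hU ⟨b w, by rw [← Scheme.Hom.comp_apply, hb]⟩
  obtain ⟨E, hE, ⟨eE⟩⟩ := exists_extension (fun y hy => by
      have hc : IsClosed ({y} : Set X) := isClosed_singleton_of_fibre _ y
        (isClosed_fibre_of_disjoint (A := k) 𝓘 hL hamp (Z := (unitLocus φ : Set X)ᶜ)
          (unitLocus φ).2.isClosed_compl (Set.disjoint_left.2 fun z hz hz' => hz (hsupp hz')) hy)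
      exact ⟨hgood.1 y hc, hpf y hc fun h => hy (hsupp h)⟩)
    (𝓘 ^ (0 + 1)).subschemeι hU (isInvertible_unitLocus φ hmin)
  obtain ⟨u⟩ := nonempty_pow_inv hL hamp j
  obtain ⟨e⟩ := nonempty_untwist (𝓘 ^ (0 + 1)).subschemeι hE (isInvertible_tensorPow hamp.1 j) hQ u
    (T.level 0).hN (eE ≪≫ χ)
  refine ⟨_, isInvertible_tensorMod hE (isInvertible_tensorPow hamp.1 j), ⟨?_⟩⟩
  exact ((Scheme.Modules.pullbackCongr hb).app _).symm ≪≫ ((Scheme.Modules.pullbackComp b _).app _).symm ≪≫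
    (Scheme.Modules.pullback b).mapIso (e ≪≫ eqToIso hT) ≪≫ (Scheme.Modules.pullbackComp b a).app N ≪≫
    (Scheme.Modules.pullbackCongr hba).app N ≪≫ (Scheme.Modules.pullbackId _).app N

end Groth.Agent.Lef23
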