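import Groth.Agent.Lef23.FormalSpec
import Groth.Agent.Lef23.FrameLeff
import Groth.Agent.Lef23.PicExtend
import Groth.Agent.FSchLib.EtCovLevel
import Groth.Agent.FSchLib.Systems
import Groth.Agent.CohCmpLib.Compose
import Groth.Agent.MorProj.FinFree
import Groth.Agent.FlatMorThick.FiniteOrder

/-!
# From a finite étale cover of `Y` and an algebraization of its lifts to a formally given family of covers

The lifts of the cover to the thickenings give a levelwise locally free system of modules on the completion; an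
isomorphism with the completion of a locally free module near `Y` makes that module a formal model of the covers.
-/

set_option autoImplicit false
set_option linter.style.haveILetI false
set_option backward.isDefEq.respectTransparency.types false

universe u

open CategoryTheory CategoryTheory.Limits AlgebraicGeometry Opposite TopologicalSpace
open Groth.Agent.Coherent Groth.Agent.PicLib Groth.Agent.AmpleLib

noncomputable section

namespace Groth.Agent.Lef23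

/-- `pullFun` of a restriction. -/
theorem pullFun_map {U A B : Scheme.{u}} (f : A ⟶ U) (f' : B ⟶ U) (k : B ⟶ A) (h : k ≫ f = f') (V : U.Opens)
    {O : A.Opens} (hO : f ⁻¹ᵁ V ≤ O) (hle : f' ⁻¹ᵁ V ≤ k ⁻¹ᵁ O) (z : Γ(A, O)) :
    pullFun f f' k h V ((A.presheaf.map (homOfLE hO).op).hom z) = (k.appLE O (f' ⁻¹ᵁ V) hle).hom z := by
  subst h
  rw [pullFun_eq, ← CommRingCat.comp_apply, Scheme.Hom.app_eq_appLE, Scheme.Hom.map_appLE]
  rfl

section BaseChange

variable {Z Z' W W' : Scheme.{u}} (q : W ⟶ Z) (q' : W' ⟶ Z') (ι : Z ⟶ Z') (l : W ⟶ W')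
  (sq : IsPullback l q q' ι)

/-- The base change map of direct images. -/
def bcMap : pushS q' ⟶ (Scheme.Modules.pushforward ι).obj (pushS q) :=
  pushMap q' (q ≫ ι) l sq.w ≫ (Scheme.Modules.pushforwardComp q ι).inv.app _

theorem bcMap_app (V : Z'.Opens) (x : Γ(pushS q', V)) :
    (show Γ(W, (q ≫ ι) ⁻¹ᵁ V) from (bcMap q q' ι l sq).app V x) = pullFun q' (q ≫ ι) l sq.w V x := rfl

/-- Base change of the direct image of the structure sheaf of a finite locally free morphism. -/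
theorem isIso_adjunct_bcMap [IsAffineHom q'] [IsAffineHom ι] (hE : FlatMod.IsFinLocFree (pushS q'))
    (hind : Topology.IsInducing ι.base) :
    IsIso (((Scheme.Modules.pullbackPushforwardAdjunction ι).homEquiv _ _).symm (bcMap q q' ι l sq)) := by
  classical
  refine TwistLib.G.isIso_of_bijective_on_basis _
    (fun B => ∃ V : Z'.affineOpens, B = ι ⁻¹ᵁ V.1 ∧ ∃ (κ : Type u) (_ : Fintype κ) (e : κ → Γ(pushS q', V.1)),
      IsBasisOn (pushS q') V.1 e) (fun O y hy => ?_) ?_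
  · obtain ⟨O', hO', hO⟩ := hind.isOpen_iff.1 O.2
    have hy' : ι y ∈ (⟨O', hO'⟩ : Z'.Opens) := by
      show y ∈ ι.base ⁻¹' O'
      rw [hO]; exact hy
    obtain ⟨V, hxV, hVO, κ, hκ, e, he⟩ := exists_basis_affine hE (U := ⟨O', hO'⟩) hy'
    refine ⟨ι ⁻¹ᵁ V.1, ⟨V, rfl, κ, hκ, e, he⟩, hxV, fun z hz => ?_⟩
    have hz' : z ∈ ι.base ⁻¹' O' := hVO hz
    rwa [hO] at hz'
  rintro _ ⟨V, rfl, κ, hκ, e, he⟩
  let β := ((Scheme.Modules.pullbackPushforwardAdjunction ι).homEquiv _ _).symm (bcMap q q' ι l sq)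
  let f := l ≫ q'
  have hf : 𝟙 W ≫ f = q ≫ ι := by rw [Category.id_comp]; exact sq.w
  have hf' : 𝟙 W ≫ (q ≫ ι) = f := by rw [Category.id_comp]; exact sq.w.symm
  have hT : Function.Bijective (pullFun f (q ≫ ι) (𝟙 W) hf V.1) := by
    have hid : ∀ (a b : W ⟶ Z') (h : 𝟙 W ≫ a = b), Function.Bijective (pullFun a b (𝟙 W) h V.1) := by
      intro a b h
      subst h
      have : pullFun a (𝟙 W ≫ a) (𝟙 W) rfl V.1 = fun x => x := funext fun x => by
        rw [pullFun_eq]; simp; rfl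
      rw [this]
      exact Function.bijective_id
    exact hid _ _ _
  have hP := hT.comp ((bijective_mulBilin q' ι l q sq V.2 he).comp (bijective_sum_tmul he (pushS ι) V.1 le_rfl))
  have hpull := (he.pull ι) (le_refl (ι ⁻¹ᵁ V.1))
  refine (Function.Bijective.of_comp_iff _ hpull).1 ?_
  refine Eq.mpr (congrArg Function.Bijective (funext fun c => ?_)) hP
  show β.app (ι ⁻¹ᵁ V.1) (∑ i, c i • resM _ le_rfl (pullSec ι (e i))) =
    pullFun f (q ≫ ι) (𝟙 W) hf V.1 ((mulBilin q' ι l q sq).desc.app V.1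
      (∑ i, tmul (resM (pushS q') le_rfl (e i)) (c i)))
  rw [map_sum, map_sum]
  refine Eq.trans ?_ (map_sum (pullHom f (q ≫ ι) (𝟙 W) hf V.1) _ _).symm
  refine Finset.sum_congr rfl fun i _ => ?_
  rw [Scheme.Modules.Hom.app_smul, PicLib.resM_self, mulBilin_tmul, PicLib.resM_self]
  show (show Γ(W, (q ≫ ι) ⁻¹ᵁ V.1) from (q.app (ι ⁻¹ᵁ V.1)).hom (c i)) *
      (show Γ(W, (q ≫ ι) ⁻¹ᵁ V.1) from β.app (ι ⁻¹ᵁ V.1) (pullSec ι (e i))) =
    pullFun f (q ≫ ι) (𝟙 W) hf V.1 (_ * _)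
  rw [homEquiv_symm_app_pullSec, bcMap_app, pullFun_mul, pullFun_comp, pullFun_comp, mul_comm]
  simp only [Category.id_comp]
  refine congrArg₂ (· * ·) rfl ?_
  exact (pullFun_eq ι q V.1 (c i)).symm

end BaseChange

/-- The system of modules of functions on a cartesian family of covers of a system of schemes. -/
def covSys {𝔛 : FSch.Sys.{u}} {W : ℕ → Scheme.{u}} (q : ∀ n, W n ⟶ 𝔛.X n) (l : ∀ n, W n ⟶ W (n + 1))
    (sq : ∀ n, IsPullback (l n) (q n) (q (n + 1)) (𝔛.ι n))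
    (hiso : ∀ n, IsIso (((Scheme.Modules.pullbackPushforwardAdjunction (𝔛.ι n)).homEquiv _ _).symm
      (bcMap (q n) (q (n + 1)) (𝔛.ι n) (l n) (sq n)))) : FSch.ModSys 𝔛 where
  F n := pushS (q n)
  e n := haveI := hiso n
    asIso (((Scheme.Modules.pullbackPushforwardAdjunction (𝔛.ι n)).homEquiv _ _).symm
      (bcMap (q n) (q (n + 1)) (𝔛.ι n) (l n) (sq n)))

variable {X : Scheme.{u}}

/-- Lifts of a finite étale cover to all thickenings. -/
structure EtLevels (𝓘 : X.IdealSheafData) where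
  /-- The covers. -/
  W : ℕ → Scheme.{u}
  /-- Their structure maps. -/
  q : ∀ n, W n ⟶ (FSch.completionAlong X 𝓘).X n
  /-- The transitions. -/
  l : ∀ n, W n ⟶ W (n + 1)
  sq : ∀ n, IsPullback (l n) (q n) (q (n + 1)) ((FSch.completionAlong X 𝓘).ι n)
  prop : ∀ n, IsFinite (q n) ∧ Etale (q n)

theorem exists_levels [IsLocallyNoetherian X] (𝓘 : X.IdealSheafData) {W₀ : Scheme.{u}}
    (q : W₀ ⟶ (FSch.completionAlong X 𝓘).X 0) [IsFinite q] [Etale q] :
    ∃ (L : EtLevels 𝓘) (e : W₀ ≅ L.W 0), e.hom ≫ L.q 0 = q := by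
  have h𝔛 := FSchLib.isLocNoethFormal_completionAlong 𝓘
  let t := FSchLib.EtCovLevel.tower (FSch.completionAlong X 𝓘) h𝔛 W₀ q ⟨inferInstance, inferInstance⟩
  choose l hl using FSchLib.EtCovLevel.tower_step (FSch.completionAlong X 𝓘) h𝔛 W₀ q ⟨inferInstance, inferInstance⟩
  exact ⟨⟨fun n => (t n).1, fun n => (t n).2.1, l, hl, fun n => (t n).2.2⟩, Iso.refl _, Category.id_comp _⟩

namespace EtLevels

variable {𝓘 : X.IdealSheafData} (L : EtLevels 𝓘)

theorem isFinLocFree_pushS [IsLocallyNoetherian X] (n : ℕ) : FlatMod.IsFinLocFree (pushS (L.q n)) := by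
  haveI := (L.prop n).1
  haveI := (L.prop n).2
  exact (MorProj.finLocFree_pushforward_of_isFinLocFree (L.q n) ⟨inferInstance, inferInstance, inferInstance⟩).2

theorem isIso_step [IsLocallyNoetherian X] (n : ℕ) :
    IsIso (((Scheme.Modules.pullbackPushforwardAdjunction ((FSch.completionAlong X 𝓘).ι n)).homEquiv _ _).symm
      (bcMap (L.q n) (L.q (n + 1)) ((FSch.completionAlong X 𝓘).ι n) (L.l n) (L.sq n))) := by
  haveI := (L.prop (n + 1)).1
  haveI : IsClosedImmersion ((FSch.completionAlong X 𝓘).ι n) := isClosedImmersion_incl 𝓘 n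
  exact isIso_adjunct_bcMap _ _ _ _ _ (L.isFinLocFree_pushS (n + 1)) (Scheme.Hom.isClosedEmbedding _).isInducing

/-- The system of modules of functions on the covers. -/
def modSys [IsLocallyNoetherian X] : FSch.ModSys (FSch.completionAlong X 𝓘) :=
  covSys (𝔛 := FSch.completionAlong X 𝓘) L.q L.l L.sq L.isIso_step

theorem modSys_levelwise [IsLocallyNoetherian X] : LefX.LevelwiseFinLocFree L.modSys := L.isFinLocFree_pushS

end EtLevels

/-- `pullbackRestrictIso` on pulled back sections. -/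
theorem pullbackRestrictIso_app_pullSec {Z : Scheme.{u}} {U : X.Opens} (j : Z ⟶ U) (p : Z ⟶ X) (h : j ≫ U.ι = p)
    (P : X.Modules) (V : U.toScheme.Opens) (y : Γ(P, U.ι ''ᵁ V)) (e : j ⁻¹ᵁ V ≤ p ⁻¹ᵁ (U.ι ''ᵁ V)) :
    (pullbackRestrictIso j p h P).hom.app (j ⁻¹ᵁ V) (pullSec j (show Γ(P.restrict U.ι, V) from y)) =
      resM ((Scheme.Modules.pullback p).obj P) e (pullSec p y) := by
  let f := (Scheme.Modules.restrictFunctorIsoPullback U.ι).hom.app P
  have hle : j ⁻¹ᵁ V ≤ j ⁻¹ᵁ (U.ι ⁻¹ᵁ (U.ι ''ᵁ V)) := j.preimage_mono (U.ι.preimage_image_eq V).ge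
  have h1 : ((Scheme.Modules.pullback j).map f).app (j ⁻¹ᵁ V) (pullSec j (show Γ(P.restrict U.ι, V) from y)) =
      resM _ hle (pullSec j (pullSec U.ι y)) := by
    refine (congrArg (fun t : _ ⟶ _ => Scheme.Modules.Hom.app t V (show Γ(P.restrict U.ι, V) from y))
      ((Scheme.Modules.pullbackPushforwardAdjunction j).unit.naturality f)).symm.trans ?_
    show pullSec j (f.app V (show Γ(P.restrict U.ι, V) from y)) = _
    rw [CohCmpLib.restrictIso_hom_app', ← resM_pullSec]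
  show ((Scheme.Modules.pullbackComp j U.ι).app P ≪≫ (Scheme.Modules.pullbackCongr h).app P).hom.app (j ⁻¹ᵁ V)
    (((Scheme.Modules.pullback j).map f).app (j ⁻¹ᵁ V) (pullSec j (show Γ(P.restrict U.ι, V) from y))) = _
  rw [h1]
  refine (app_resM ((Scheme.Modules.pullbackComp j U.ι).app P ≪≫ (Scheme.Modules.pullbackCongr h).app P).hom hle _).trans ?_
  rw [pullbackComp_app_pullSec' j U.ι h P y, resM_resM]

theorem isPullback_lift_open {Z : Scheme.{u}} {U : X.Opens} (j : Z ⟶ U) (p : Z ⟶ X) (h : j ≫ U.ι = p) :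
    IsPullback j (𝟙 Z) U.ι p :=
  ⟨⟨by rw [h, Category.id_comp]⟩, ⟨PullbackCone.IsLimit.mk _ (fun s => s.snd)
    (fun s => by rw [← cancel_mono U.ι, Category.assoc, h]; exact s.condition.symm)
    (fun s => Category.comp_id _)
    (fun s m _ h2 => by rw [← h2, Category.comp_id])⟩⟩

/-- Morphisms from systems of pullbacks, on pulled back sections. -/
theorem sys_step {𝔛 : FSch.Sys.{u}} (g : ∀ n, 𝔛.X n ⟶ X) (hab : ∀ n, 𝔛.ι n ≫ g (n + 1) = g n) (M : X.Modules)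
    (𝔑 : FSch.ModSys 𝔛) (ψ : pullSys g hab M ⟶ 𝔑) (n : ℕ) (O : X.Opens) (y : Γ(M, O))
    (e : g n ⁻¹ᵁ O ≤ 𝔛.ι n ⁻¹ᵁ (g (n + 1) ⁻¹ᵁ O)) :
    (ψ.app n).app (g n ⁻¹ᵁ O) (pullSec (g n) y) =
      resM (𝔑.F n) e ((𝔑.e n).hom.app (𝔛.ι n ⁻¹ᵁ (g (n + 1) ⁻¹ᵁ O))
        (pullSec (𝔛.ι n) ((ψ.app (n + 1)).app (g (n + 1) ⁻¹ᵁ O) (pullSec (g (n + 1)) y)))) := by
  let ι := 𝔛.ι n
  let p' := g (n + 1)
  have h0 := congrArg (fun t : _ ⟶ _ => Scheme.Modules.Hom.app t (ι ⁻¹ᵁ (p' ⁻¹ᵁ O)) (pullSec ι (pullSec p' y)))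
    (ψ.comm n)
  change (𝔑.e n).hom.app _ (((Scheme.Modules.pullback ι).map (ψ.app (n + 1))).app _ (pullSec ι (pullSec p' y))) =
    (ψ.app n).app _ ((((Scheme.Modules.pullbackComp ι p').app M) ≪≫ (Scheme.Modules.pullbackCongr (hab n)).app M).hom.app
      (ι ⁻¹ᵁ (p' ⁻¹ᵁ O)) (pullSec ι (pullSec p' y))) at h0
  rw [pullbackComp_app_pullSec' ι p' (hab n) M y, app_resM] at h0
  have h1 : ((Scheme.Modules.pullback ι).map (ψ.app (n + 1))).app (ι ⁻¹ᵁ (p' ⁻¹ᵁ O)) (pullSec ι (pullSec p' y)) =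
      pullSec ι ((ψ.app (n + 1)).app (p' ⁻¹ᵁ O) (pullSec p' y)) :=
    (congrArg (fun t : _ ⟶ _ => Scheme.Modules.Hom.app t (p' ⁻¹ᵁ O) (pullSec p' y))
      ((Scheme.Modules.pullbackPushforwardAdjunction ι).unit.naturality (ψ.app (n + 1)))).symm
  rw [h1] at h0
  have h2 := congrArg (resM (𝔑.F n) e) h0
  rw [resM_resM, PicLib.resM_self] at h2
  exact h2.symm

section generic

variable {𝔛 : FSch.Sys.{u}} (g : ∀ n, 𝔛.X n ⟶ X) (hab : ∀ n, 𝔛.ι n ≫ g (n + 1) = g n)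
  {W : ℕ → Scheme.{u}} (q : ∀ n, W n ⟶ 𝔛.X n) (l : ∀ n, W n ⟶ W (n + 1))
  (sq : ∀ n, IsPullback (l n) (q n) (q (n + 1)) (𝔛.ι n))
  (hiso : ∀ n, IsIso (((Scheme.Modules.pullbackPushforwardAdjunction (𝔛.ι n)).homEquiv _ _).symm
    (bcMap (q n) (q (n + 1)) (𝔛.ι n) (l n) (sq n))))
  {U : X.Opens} (j : ∀ n, 𝔛.X n ⟶ U) (hj : ∀ n, j n ≫ U.ι = g n) {E : (U : Scheme.{u}).Modules}
  (ψ : pullSys g hab ((Scheme.Modules.pushforward U.ι).obj E) ⟶ covSys q l sq hiso)

/-- The levels of a morphism of systems, inside the neighbourhood. -/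
def genHom (n : ℕ) : (Scheme.Modules.pullback (j n)).obj E ⟶ pushS (q n) :=
  (Scheme.Modules.pullback (j n)).map ((asIso (Scheme.Modules.restrictAdjunction U.ι).counit).app E).inv ≫
    (pullbackRestrictIso (j n) (g n) (hj n) ((Scheme.Modules.pushforward U.ι).obj E)).hom ≫ ψ.app n

/-- The reductions of `E`. -/
def genA (n : ℕ) : E ⟶ pushS (q n ≫ j n) :=
  (Scheme.Modules.pullbackPushforwardAdjunction (j n)).homEquiv _ _ (genHom g hab q l sq hiso j hj ψ n) ≫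
    (Scheme.Modules.pushforwardComp (q n) (j n)).hom.app _

theorem genA_app (m : ℕ) (V : U.toScheme.Opens) (x : Γ(E, V)) (hO : j m ⁻¹ᵁ V ≤ g m ⁻¹ᵁ (U.ι ''ᵁ V)) :
    (show Γ(W m, (q m ≫ j m) ⁻¹ᵁ V) from (genA g hab q l sq hiso j hj ψ m).app V x) =
      resM (pushS (q m)) hO ((ψ.app m).app (g m ⁻¹ᵁ (U.ι ''ᵁ V))
        (pullSec (g m) (show Γ(((Scheme.Modules.pushforward U.ι).obj E).restrict U.ι, V) from
          ((asIso (Scheme.Modules.restrictAdjunction U.ι).counit).app E).inv.app V x :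
          Γ((Scheme.Modules.pushforward U.ι).obj E, U.ι ''ᵁ V)))) := by
  refine Eq.trans ?_ (app_resM (ψ.app m) hO _)
  refine congrArg ((ψ.app m).app (j m ⁻¹ᵁ V)) ?_
  refine Eq.trans ?_ (pullbackRestrictIso_app_pullSec (j m) _ (hj m) _ V _ hO)
  refine congrArg ((pullbackRestrictIso (j m) (g m) (hj m)
    ((Scheme.Modules.pushforward U.ι).obj E)).hom.app (j m ⁻¹ᵁ V)) ?_
  exact (congrArg (fun t : _ ⟶ _ => Scheme.Modules.Hom.app t V x)
    ((Scheme.Modules.pullbackPushforwardAdjunction (j m)).unit.naturality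
      ((asIso (Scheme.Modules.restrictAdjunction U.ι).counit).app E).inv)).symm

theorem gen_step (n : ℕ) (O : X.Opens) (y : Γ((Scheme.Modules.pushforward U.ι).obj E, O))
    (e : g n ⁻¹ᵁ O ≤ 𝔛.ι n ⁻¹ᵁ (g (n + 1) ⁻¹ᵁ O)) :
    (ψ.app n).app (g n ⁻¹ᵁ O) (pullSec (g n) y) =
      resM (pushS (q n)) e ((bcMap (q n) (q (n + 1)) (𝔛.ι n) (l n) (sq n)).app (g (n + 1) ⁻¹ᵁ O)
        ((ψ.app (n + 1)).app (g (n + 1) ⁻¹ᵁ O) (pullSec (g (n + 1)) y))) :=
  (sys_step g hab _ (covSys q l sq hiso) ψ n O y e).trans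
    (congrArg (resM (pushS (q n)) e) (homEquiv_symm_app_pullSec _ _ _))

theorem gen_comm (hjι : ∀ n, 𝔛.ι n ≫ j (n + 1) = j n) (n : ℕ) (h : l n ≫ q (n + 1) ≫ j (n + 1) = q n ≫ j n) :
    genA g hab q l sq hiso j hj ψ (n + 1) ≫ pushMap (q (n + 1) ≫ j (n + 1)) (q n ≫ j n) (l n) h =
      genA g hab q l sq hiso j hj ψ n := by
  refine Scheme.Modules.hom_ext _ _ fun V => ConcreteCategory.hom_ext _ _ fun x => ?_
  let O := U.ι ''ᵁ V
  have hO : ∀ m, j m ⁻¹ᵁ V ≤ g m ⁻¹ᵁ O := fun m => by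
    rw [← hj m, Scheme.Hom.comp_preimage]
    exact (j m).preimage_mono (U.ι.preimage_image_eq V).ge
  show pullFun (q (n + 1) ≫ j (n + 1)) (q n ≫ j n) (l n) h V
    (show Γ(W (n + 1), _) from (genA g hab q l sq hiso j hj ψ (n + 1)).app V x) =
      (show Γ(W n, _) from (genA g hab q l sq hiso j hj ψ n).app V x)
  have e : g n ⁻¹ᵁ O ≤ 𝔛.ι n ⁻¹ᵁ (g (n + 1) ⁻¹ᵁ O) := by rw [← Scheme.Hom.comp_preimage, hab]
  rw [genA_app g hab q l sq hiso j hj ψ n V x (hO n), genA_app g hab q l sq hiso j hj ψ (n + 1) V x (hO (n + 1)),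
    gen_step g hab q l sq hiso ψ n O _ e]
  have hle : (q n ≫ j n) ⁻¹ᵁ V ≤ l n ⁻¹ᵁ (q (n + 1) ⁻¹ᵁ (g (n + 1) ⁻¹ᵁ O)) := by
    rw [← Scheme.Hom.comp_preimage, (sq n).w, Scheme.Hom.comp_preimage, Scheme.Hom.comp_preimage]
    exact (q n).preimage_mono ((hO n).trans e)
  refine (pullFun_map _ _ (l n) _ V ((q (n + 1)).preimage_mono (hO (n + 1))) hle _).trans ?_
  rw [resM_resM]
  refine Eq.trans ?_ (congrArg (resM (pushS (q n)) ((hO n).trans e))
    (bcMap_app (q n) (q (n + 1)) _ (l n) (sq n) (g (n + 1) ⁻¹ᵁ O) _)).symm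
  have hgen : ∀ {B : Scheme.{u}} (f : B ⟶ 𝔛.X (n + 1)) (k : B ⟶ W (n + 1))
      (h : k ≫ q (n + 1) = f) (O' : B.Opens) (hO' : O' ≤ f ⁻¹ᵁ (g (n + 1) ⁻¹ᵁ O))
      (hO'' : O' ≤ k ⁻¹ᵁ (q (n + 1) ⁻¹ᵁ (g (n + 1) ⁻¹ᵁ O))) (w : Γ(W (n + 1), q (n + 1) ⁻¹ᵁ (g (n + 1) ⁻¹ᵁ O))),
      (k.appLE _ O' hO'').hom w = (B.presheaf.map (homOfLE hO').op).hom (pullFun (q (n + 1)) f k h _ w) := by
    intro B f k h O' hO' hO'' w
    subst h
    rw [pullFun_eq]
    rfl
  exact hgen _ (l n) (sq n).w _ _ hle _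

end generic

section ofIso

variable {𝓘 : X.IdealSheafData} (L : EtLevels 𝓘) [IsLocallyNoetherian X] {U : X.Opens}
  (hU : (𝓘.support : Set X) ⊆ (U : Set X)) {E : (U : Scheme.{u}).Modules} (hE : FlatMod.IsFinLocFree E)
  (φ : FSch.completionMod 𝓘 ((Scheme.Modules.pushforward U.ι).obj E) ≅ L.modSys)

/-- The thickenings inside the neighbourhood. -/
def levelι (hU : (𝓘.support : Set X) ⊆ (U : Set X)) (n : ℕ) : (FSch.completionAlong X 𝓘).X n ⟶ U :=
  IsOpenImmersion.lift U.ι (FSch.completionToX X 𝓘 n) (by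
    show Set.range (𝓘 ^ (n + 1)).subschemeι ⊆ Set.range U.ι
    rw [Scheme.Opens.range_ι, (𝓘 ^ (n + 1)).range_subschemeι, Scheme.IdealSheafData.support_pow_succ]
    exact hU)

omit [IsLocallyNoetherian X] in
theorem levelι_ι (n : ℕ) : levelι hU n ≫ U.ι = FSch.completionToX X 𝓘 n := IsOpenImmersion.lift_fac _ _ _

omit [IsLocallyNoetherian X] in
theorem ι_levelι (n : ℕ) : (FSch.completionAlong X 𝓘).ι n ≫ levelι hU (n + 1) = levelι hU n := by
  rw [← cancel_mono U.ι, Category.assoc, levelι_ι, levelι_ι]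
  exact Scheme.IdealSheafData.inclusion_subschemeι (FSch.pow_succ_le X 𝓘 n)

/-- The morphism of systems. -/
def sysHom : pullSys (fun m => FSch.completionToX X 𝓘 m)
    (fun m => Scheme.IdealSheafData.inclusion_subschemeι (FSch.pow_succ_le X 𝓘 m))
    ((Scheme.Modules.pushforward U.ι).obj E) ⟶
      covSys (𝔛 := FSch.completionAlong X 𝓘) L.q L.l L.sq L.isIso_step := φ.hom

theorem isIso_sysHom_app (n : ℕ) : IsIso ((sysHom L φ).app n) :=
  ⟨φ.inv.app n, congrArg (fun f : FSch.ModSys.Hom _ _ => f.app n) φ.hom_inv_id,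
    congrArg (fun f : FSch.ModSys.Hom _ _ => f.app n) φ.inv_hom_id⟩

/-- The reductions. -/
def levelA (n : ℕ) : E ⟶ pushS (L.q n ≫ levelι hU n) :=
  genA _ _ L.q L.l L.sq L.isIso_step (levelι hU) (levelι_ι hU) (sysHom L φ) n

theorem frame_levelA (n : ℕ) (V : U.toScheme.affineOpens) {κ : Type u} [Fintype κ] (e : κ → Γ(E, V.1))
    (he : IsBasisOn E V.1 e) :
    Frame (pushS (L.q n ≫ levelι hU n)) ((𝓘.comap U.ι) ^ (n + 1)) V.1
      (fun i => (levelA L hU φ n).app V.1 (e i)) := by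
  haveI hcl : IsClosedImmersion (FSch.completionToX X 𝓘 n) :=
    inferInstanceAs (IsClosedImmersion (𝓘 ^ (n + 1)).subschemeι)
  haveI : IsClosedImmersion (levelι hU n) := by
    have : IsClosedImmersion (levelι hU n ≫ U.ι) := by rw [levelι_ι]; exact hcl
    exact IsClosedImmersion.of_comp (levelι hU n) U.ι
  have hker : (levelι hU n).ker = (𝓘.comap U.ι) ^ (n + 1) := by
    rw [FlatMorThick.ker_eq_comap_of_isPullback (isPullback_lift_open _ _ (levelι_ι hU n))]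
    show (𝓘 ^ (n + 1)).subschemeι.ker.comap U.ι = _
    rw [Scheme.IdealSheafData.ker_subschemeι, FSchLib.comap_pow]
  have hψ := isIso_sysHom_app L φ n
  haveI : IsIso (genHom _ _ L.q L.l L.sq L.isIso_step (levelι hU) (levelι_ι hU) (sysHom L φ) n) := by
    unfold genHom
    exact IsIso.comp_isIso' inferInstance (IsIso.comp_isIso' inferInstance hψ)
  have hF := Frame.of_basis (levelι hU n) (pushS (L.q n)) (isBasisOn_map_iso
    (asIso (genHom _ _ L.q L.l L.sq L.isIso_step (levelι hU) (levelι_ι hU) (sysHom L φ) n)) (he.pull _))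
  rw [hker] at hF
  exact hF

/-- The family of covers near `Y`. -/
def coverOfIso : FormalCover (𝓘.comap U.ι) E where
  W := L.W
  π n := L.q n ≫ levelι hU n
  step := L.l
  step_π n := by rw [← Category.assoc, (L.sq n).w, Category.assoc, ι_levelι]
  a := levelA L hU φ
  comm n := gen_comm _ _ L.q L.l L.sq L.isIso_step (levelι hU) (levelι_ι hU) (sysHom L φ) (ι_levelι hU) n _
  killed n := by
    refine LocFrame.killed fun x => ?_
    obtain ⟨V, hxV, -, κ, hκ, e, he⟩ := exists_basis_affine hE (x := x) (U := ⊤) trivial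
    exact ⟨V, hxV, κ, hκ, _, frame_levelA L hU φ n V e he⟩
  frame n V κ _ e he := frame_levelA L hU φ n V e he

end ofIso

end Groth.Agent.Lef23
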