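import Groth.Agent.Lef23.FrameSys
import Groth.Agent.Coherent.InternalHomAdj
import Groth.Agent.Coherent.CohBC.HomSheaf
import Groth.Agent.ExtFilt28.LocFree
import Groth.Prelude.Def_Lef

/-!
# Morphisms into a finite locally free module from its formal models

If `Hom(D, O) → lim Hom(D, O/J^{n+1})` is bijective for every finite locally free `D`, morphisms from a finite
locally free module into a finite locally free `E` are the same as compatible families of morphisms into models
of the reductions of `E`.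
-/

set_option autoImplicit false
set_option linter.style.haveILetI false
set_option backward.isDefEq.respectTransparency.types false

universe u

open CategoryTheory CategoryTheory.Limits AlgebraicGeometry Opposite TopologicalSpace
open Groth.Agent.Coherent Groth.Agent.PicLib Groth.Agent.AmpleLib

noncomputable section

namespace Groth.Agent.Lef23

variable {U : Scheme.{u}}

/-- The dual. -/
abbrev dualM (E : U.Modules) : U.Modules := internalHom E (Coh.structureModule U)

theorem contract_natural (E : U.Modules) {N N' : U.Modules} (g : N ⟶ N') :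
    tE E g ≫ (contractBilin E N').desc = (contractBilin E N).desc ≫ internalHomMap (dualM E) g :=
  AmpleLib.hom_ext fun V x n => by
    rw [Scheme.Modules.Hom.comp_app, ConcreteCategory.comp_apply, tensE_map_tmul, Bilin.desc_tmul,
      Scheme.Modules.Hom.comp_app, ConcreteCategory.comp_apply, Bilin.desc_tmul]
    refine locHom_ext (φ := secHom _) (ψ := secHom _) fun W hW ξ => ?_
    refine Eq.trans ?_ (ev_internalHomMap (dualM E) g _ W hW ξ).symm
    show (show Γ(U, W) from ev (secHom ξ) W le_rfl (resM E hW x)) • resM N' hW (g.app V n) =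
      g.app W ((show Γ(U, W) from ev (secHom ξ) W le_rfl (resM E hW x)) • resM N hW n)
    rw [Scheme.Modules.Hom.app_smul, app_resM]

/-- `Hom(F, E ⊗ N) = Hom(E^∨ ⊗ F, N)`. -/
def homTensEquiv {E : U.Modules} (hE : FlatMod.IsFinLocFree E) (F N : U.Modules) :
    (F ⟶ CohB1.tensorMod E N) ≃ (CohB1.tensorMod (dualM E) F ⟶ N) :=
  haveI := isIso_contract hE N
  ((Iso.refl F).homCongr (asIso (contractBilin E N).desc)).trans (tensorHomEquiv (dualM E) F N).symm

theorem homTensEquiv_natural {E : U.Modules} (hE : FlatMod.IsFinLocFree E) (F : U.Modules) {N N' : U.Modules}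
    (g : N ⟶ N') (f : F ⟶ CohB1.tensorMod E N) :
    homTensEquiv hE F N' (f ≫ tE E g) = homTensEquiv hE F N f ≫ g := by
  show (tensorHomEquiv (dualM E) F N').symm (𝟙 F ≫ (f ≫ tE E g) ≫ (contractBilin E N').desc) =
    (tensorHomEquiv (dualM E) F N).symm (𝟙 F ≫ f ≫ (contractBilin E N).desc) ≫ g
  rw [Category.id_comp, Category.id_comp, Category.assoc, contract_natural, ← Category.assoc]
  refine AmpleLib.hom_ext fun V ξ x => ?_
  show _ = g.app V (((tensorHomEquiv (dualM E) F N).symm (f ≫ (contractBilin E N).desc)).app V (tmul ξ x))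
  refine (Bilin.desc_tmul _ V ξ x).trans (Eq.trans ?_ (congrArg (g.app V) (Bilin.desc_tmul _ V ξ x)).symm)
  exact ev_internalHomMap (dualM E) g _ V le_rfl ξ

/-- Models of the reductions of a module. -/
structure FormalModel (J : U.IdealSheafData) (E : U.Modules) where
  /-- The levels. -/
  M : ℕ → U.Modules
  /-- The reductions. -/
  a : ∀ n, E ⟶ M n
  /-- The transitions. -/
  t : ∀ n, M (n + 1) ⟶ M n
  comm : ∀ n, a (n + 1) ≫ t n = a n
  killed : ∀ n, Killed (M n) (J ^ (n + 1))
  frame : ∀ (n : ℕ) (V : U.affineOpens) (κ : Type u) (_ : Fintype κ) (e : κ → Γ(E, V.1)),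
    IsBasisOn E V.1 e → Frame (M n) (J ^ (n + 1)) V.1 (fun i => (a n).app V.1 (e i))

variable {J : U.IdealSheafData} {E : U.Modules}

theorem FormalModel.exists_iso (S : FormalModel J E) (hE : FlatMod.IsFinLocFree E) (n : ℕ) :
    ∃ ψ : CohB1.tensorMod E (ClSub.quotMod (J ^ (n + 1))) ≅ S.M n, toQ E (J ^ (n + 1)) ≫ ψ.hom = S.a n := by
  obtain ⟨ψ, hψ⟩ := exists_factor E hE (S.killed n) (S.a n)
  haveI : IsIso ψ := by
    refine MapsFrame.isIso (J := J ^ (n + 1)) fun x => ?_
    obtain ⟨V, hxV, -, κ, hκ, e, he⟩ := exists_basis_affine hE (x := x) (U := ⊤) trivial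
    refine ⟨V, hxV, κ, hκ, _, frame_toQ E _ he, ?_⟩
    have h := S.frame n V κ hκ e he
    have h' : ∀ i, ψ.app V.1 ((toQ E (J ^ (n + 1))).app V.1 (e i)) = (S.a n).app V.1 (e i) := fun i => by
      rw [← ConcreteCategory.comp_apply, ← Scheme.Modules.Hom.comp_app, hψ]
    simpa only [h'] using h
  exact ⟨asIso ψ, hψ⟩

/-- **Morphisms into `E` are the compatible families of morphisms into its models.** -/
theorem FormalModel.existsUnique_hom (S : FormalModel J E)
    (h : ∀ D : U.Modules, FlatMod.IsFinLocFree D → Lef.HomToFormalBijective J D)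
    (hE : FlatMod.IsFinLocFree E) {F : U.Modules} (hF : FlatMod.IsFinLocFree F) (f : ∀ n, F ⟶ S.M n)
    (hf : ∀ n, f (n + 1) ≫ S.t n = f n) :
    ∃! m : F ⟶ E, ∀ n, m ≫ S.a n = f n := by
  choose ψ hψ using S.exists_iso hE
  have hsq : ∀ n, (ψ (n + 1)).hom ≫ S.t n = tE E (Lef.quotMap (Lef.pow_succ_le J n)) ≫ (ψ n).hom := fun n => by
    haveI := epi_toQ E (J ^ (n + 1 + 1))
    rw [← cancel_epi (toQ E (J ^ (n + 1 + 1))), ← Category.assoc, hψ, S.comm, ← Category.assoc, toQ_quotMap, hψ]
  let D := CohB1.tensorMod (dualM E) F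
  have hD : FlatMod.IsFinLocFree D :=
    ExtFilt28.isFinLocFree_tensor (CohBC.isFinLocFree_internalHom hE (CohBC.isFinLocFree_structureModule U)) hF
  let Φ := homTensEquiv hE F
  let B : (F ⟶ E) ≃ (D ⟶ Coh.structureModule U) := ((Iso.refl F).homCongr (unitR E)).trans (Φ _)
  let y : ∀ n, D ⟶ ClSub.quotMod (J ^ (n + 1)) := fun n => Φ _ (f n ≫ (ψ n).inv)
  have hy : Lef.IsFormalHom J D y := fun n => by
    show Φ _ _ ≫ _ = Φ _ _
    rw [← homTensEquiv_natural]
    refine congrArg (Φ _) ?_
    rw [Iso.eq_comp_inv, Category.assoc, Category.assoc, ← hsq, Iso.inv_hom_id_assoc]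
    exact hf n
  have key : ∀ (m : F ⟶ E) n, m ≫ S.a n = f n ↔ B m ≫ ClSub.toSubscheme (J ^ (n + 1)) = y n := fun m n => by
    show _ ↔ Φ _ (𝟙 F ≫ m ≫ (unitR E).hom) ≫ ClSub.toSubscheme (J ^ (n + 1)) = Φ _ (f n ≫ (ψ n).inv)
    rw [← homTensEquiv_natural, (Φ _).apply_eq_iff_eq, Iso.eq_comp_inv, Category.id_comp, Category.assoc,
      Category.assoc, ← hψ n, toQ, Category.assoc]
  obtain ⟨hinj, hsurj⟩ := h D hD
  obtain ⟨φ, hφ⟩ := hsurj y hy
  refine ⟨B.symm φ, fun n => (key _ n).2 (by rw [B.apply_symm_apply]; exact hφ n), fun m hm => ?_⟩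
  rw [Equiv.eq_symm_apply]
  exact hinj _ _ fun n => by rw [(key m n).1 (hm n), hφ n]

/-- Morphisms with the same reductions are equal. -/
theorem FormalModel.hom_ext (S : FormalModel J E)
    (h : ∀ D : U.Modules, FlatMod.IsFinLocFree D → Lef.HomToFormalBijective J D)
    (hE : FlatMod.IsFinLocFree E) {F : U.Modules} (hF : FlatMod.IsFinLocFree F) {m m' : F ⟶ E}
    (hm : ∀ n, m ≫ S.a n = m' ≫ S.a n) : m = m' :=
  (S.existsUnique_hom h hE hF (fun n => m' ≫ S.a n) fun n => by rw [Category.assoc, S.comm]).unique hm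
    fun _ => rfl

end Groth.Agent.Lef23
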