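import Groth.Agent.Lef23.FormalAlgebra
import Groth.Agent.FiniteEt.Trace
import Groth.Agent.RelSpecLib.Basic
import Groth.Agent.H8Lim.RelSpecMap
import Groth.Agent.FEtQuot.EndoScheme

/-!
# The cover algebraizing a formally given family of finite étale covers

The relative spectrum of the algebra is finite, étale near `V(J)`, and restricts to the given cover of `V(J)`.
-/

set_option autoImplicit false
set_option linter.style.haveILetI false
set_option backward.isDefEq.respectTransparency.types false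

universe u

open CategoryTheory CategoryTheory.Limits AlgebraicGeometry Opposite TopologicalSpace
open Groth.Agent.Coherent Groth.Agent.PicLib Groth.Agent.AmpleLib

noncomputable section

namespace Groth.Agent.Lef23

/-- The trace matrix is compatible with maps of algebras carrying a basis to a basis. -/
theorem traceMatrix_map {A A' B B' : Type u} [CommRing A] [CommRing A'] [CommRing B] [CommRing B'] [Algebra A B]
    [Algebra A' B'] (f : A →+* A') (g : B →+* B') (hfg : ∀ r, g (algebraMap A B r) = algebraMap A' B' (f r))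
    {ι : Type u} [Fintype ι] [DecidableEq ι] (b : Module.Basis ι A B) (b' : Module.Basis ι A' B')
    (hb : ∀ i, g (b i) = b' i) :
    Algebra.traceMatrix A' b' = (Algebra.traceMatrix A b).map f := by
  have key : ∀ (x : B) (i : ι), b'.repr (g x) i = f (b.repr x i) := fun x i => by
    conv_lhs => rw [← b.sum_repr x]
    rw [map_sum]
    simp only [Algebra.smul_def, map_mul, hfg, hb]
    simp only [← Algebra.smul_def]
    rw [b'.repr_sum_self]
  have htr : ∀ x : B, Algebra.trace A' B' (g x) = f (Algebra.trace A B x) := fun x => by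
    rw [Algebra.trace_eq_matrix_trace b, Algebra.trace_eq_matrix_trace b']
    simp only [Matrix.trace, Matrix.diag, Algebra.leftMulMatrix_eq_repr_mul, map_sum, ← key, map_mul, hb]
  ext i j
  rw [Matrix.map_apply, Algebra.traceMatrix_apply, Algebra.traceMatrix_apply, Algebra.traceForm_apply,
    Algebra.traceForm_apply, ← hb, ← hb, ← map_mul, htr]

variable {U : Scheme.{u}}

section pull

variable {A B : Scheme.{u}} (f : A ⟶ U) (f' : B ⟶ U) (k : B ⟶ A) (h : k ≫ f = f') (V : U.Opens)

/-- `pullFun` as a ring map. -/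
def pullHom : Γ(A, f ⁻¹ᵁ V) →+* Γ(B, f' ⁻¹ᵁ V) :=
  RingHom.mk'
    { toFun := pullFun f f' k h V
      map_one' := by subst h; rw [pullFun_eq, map_one]; rfl
      map_mul' := pullFun_mul f f' k h V }
    (pullFun_add f f' k h V)

theorem pullHom_app (x : Γ(U, V)) : pullHom f f' k h V ((f.app V).hom x) = (f'.app V).hom x := by
  subst h
  exact pullFun_eq f k V _

theorem etale_pullHom [IsAffineHom f] [IsAffineHom k] [Etale k] (hV : IsAffineOpen V) :
    (pullHom f f' k h V).Etale := by
  subst h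
  have e : pullHom f (k ≫ f) k rfl V = (k.app (f ⁻¹ᵁ V)).hom := RingHom.ext fun x => pullFun_eq f k V x
  rw [e, Scheme.Hom.app_eq_appLE]
  exact k.etale_appLE (hV.preimage f) ((hV.preimage f).preimage k) le_rfl

/-- A morphism of schemes affine over the base is an isomorphism if it is so on functions. -/
theorem isIso_of_bijective_pullFun [IsAffineHom f] [IsAffineHom f']
    (hcov : ∀ x : U, ∃ V : U.Opens, IsAffineOpen V ∧ x ∈ V ∧ Function.Bijective (pullFun f f' k h V)) : IsIso k := by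
  subst h
  choose V hV hxV hb using hcov
  show MorphismProperty.isomorphisms Scheme.{u} k
  rw [IsZariskiLocalAtTarget.iff_of_iSup_eq_top (P := MorphismProperty.isomorphisms Scheme.{u})
    (fun x : U => f ⁻¹ᵁ V x) (top_le_iff.mp fun a _ => Opens.mem_iSup.2 ⟨f a, hxV (f a)⟩)]
  intro x
  haveI : IsAffine (f ⁻¹ᵁ V x).toScheme := (hV x).preimage f
  haveI : IsAffine (k ⁻¹ᵁ (f ⁻¹ᵁ V x)).toScheme := (hV x).preimage (k ≫ f)
  show IsIso (k ∣_ (f ⁻¹ᵁ V x))
  have hfun : pullFun f (k ≫ f) k rfl (V x) = fun z => (k.app (f ⁻¹ᵁ V x)).hom z := funext fun z => pullFun_eq f k _ z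
  have happ : IsIso (k.app (f ⁻¹ᵁ V x)) :=
    (ConcreteCategory.isIso_iff_bijective _).2 (by have := hb x; rwa [hfun] at this)
  have htop : IsIso (k ∣_ (f ⁻¹ᵁ V x)).appTop := by
    haveI hk' : IsIso (k.app ((f ⁻¹ᵁ V x).ι ''ᵁ ⊤)) := by rwa [Scheme.Opens.ι_image_top]
    rw [morphismRestrict_appTop]
    exact IsIso.comp_isIso' hk' (Functor.map_isIso _ _)
  exact (HasAffineProperty.iff_of_isAffine (P := MorphismProperty.isomorphisms Scheme.{u})).2 ⟨inferInstance, htop⟩

end pull

/-- Local properties of the structure map of a relative spectrum over an open. -/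
theorem prop_restrict_π (A : RelSpec.QCAlg U) (U' : U.Opens) (P : MorphismProperty Scheme.{u})
    [IsZariskiLocalAtTarget P] [P.RespectsIso]
    (h : ∀ x ∈ U', ∃ V : U.affineOpens, x ∈ V.1 ∧ V.1 ≤ U' ∧ P (Spec.map (A.str.app (op V.1)))) :
    P (A.π ∣_ U') := by
  choose V hxV hVU hP using fun x : U' => h x.1 x.2
  rw [IsZariskiLocalAtTarget.iff_of_iSup_eq_top (P := P) (fun x : U' => U'.ι ⁻¹ᵁ (V x).1)
    (top_le_iff.mp fun a _ => Opens.mem_iSup.2 ⟨a, hxV a⟩)]
  intro x
  have himg : U'.ι ''ᵁ (U'.ι ⁻¹ᵁ (V x).1) = (V x).1 := by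
    rw [U'.ι.image_preimage_eq_opensRange_inf, Scheme.Opens.opensRange_ι, inf_eq_right.2 (hVU x)]
  obtain ⟨e, he⟩ := FEtQuot.Endo.restrict_iso_chart (A := A) (V x).2
  have hV : P (A.π ∣_ (V x).1) := by
    have : e.hom ≫ (A.π ∣_ (V x).1) = Spec.map (A.str.app (op (V x).1)) ≫ (V x).2.isoSpec.inv := by
      rw [← cancel_mono (V x).1.ι, Category.assoc, he, Category.assoc, (V x).2.isoSpec_inv_ι]
    rw [← P.cancel_left_of_respectsIso e.hom, this, P.cancel_right_of_respectsIso]
    exact hP x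
  rw [P.arrow_mk_iso_iff (morphismRestrictRestrict A.π U' _)]
  rw [himg]
  exact hV

namespace FormalCover

variable {J : U.IdealSheafData} {E : U.Modules} (C : FormalCover J E)
  (h : ∀ D : U.Modules, FlatMod.IsFinLocFree D → Lef.HomToFormalBijective J D)
  (hE : FlatMod.IsFinLocFree E)

theorem finite_str {V : U.Opens} (hV : IsAffineOpen V) [IsLocallyNoetherian U] :
    ((C.alg h hE).str.app (op V)).hom.Finite := by
  have hcoh := CohBC.isCoh_of_isFinLocFree hE
  haveI := hcoh.1
  have hfin : Module.Finite Γ(U, V) Γ(E, V) := ((isCoh_iff_finite_sections _).1 hcoh).2 V hV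
  show (CovSec.str C h hE V).Finite
  letI := (CovSec.str C h hE V).toAlgebra
  let e : Γ(E, V) →ₗ[Γ(U, V)] CovSec C h hE V :=
    { toFun := fun x => ⟨x⟩
      map_add' := fun _ _ => rfl
      map_smul' := fun r x => CovSec.ext (CovSec.str_mul r (⟨x⟩ : CovSec C h hE V)).symm }
  exact Module.Finite.of_surjective e fun p => ⟨p.val, rfl⟩

theorem isFinite_π [IsLocallyNoetherian U] : IsFinite (C.alg h hE).π :=
  (IsZariskiLocalAtTarget.iff_of_iSup_eq_top (P := @IsFinite) (fun V : U.affineOpens => V.1)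
    (iSup_affineOpens_eq_top U)).2 fun V =>
      prop_restrict_π (C.alg h hE) V.1 @IsFinite fun x hx =>
        ⟨V, hx, le_rfl, (IsFinite.SpecMap_iff _).mpr (C.finite_str h hE V.2)⟩

section basis

variable {V : U.Opens} {κ : Type u} [Fintype κ] (e : κ → Γ(E, V)) (he : IsBasisOn E V e)

/-- A basis of the sections as a module over the functions. -/
def secBasis {V' : U.Opens} (hle : V' ≤ V) :
    letI := (CovSec.str C h hE V').toAlgebra
    Module.Basis κ Γ(U, V') (CovSec C h hE V') :=
  letI := (CovSec.str C h hE V').toAlgebra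
  let L : CovSec C h hE V' ≃ₗ[Γ(U, V')] (κ → Γ(U, V')) :=
    { toFun := fun p => he.coef hle p.val
      invFun := fun c => ⟨∑ i, c i • resM E hle (e i)⟩
      left_inv := fun p => CovSec.ext (he.coef_spec hle p.val)
      right_inv := fun c => he.coef_eq hle rfl
      map_add' := fun p q => he.coef_add hle p.val q.val
      map_smul' := fun r p => by
        show he.coef hle (CovSec.str C h hE V' r * p).val = _
        rw [CovSec.str_mul, he.coef_smul]
        rfl }
  Module.Basis.ofEquivFun L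

theorem secBasis_val {V' : U.Opens} (hle : V' ≤ V) (i : κ) :
    (letI := (CovSec.str C h hE V').toAlgebra; secBasis C h hE e he hle i).val = resM E hle (e i) := by
  classical
  letI := (CovSec.str C h hE V').toAlgebra
  rw [secBasis, Module.Basis.coe_ofEquivFun]
  show ∑ j, (Pi.single i (1 : Γ(U, V')) : κ → Γ(U, V')) j • resM E hle (e j) = _
  simp [Pi.single_apply]

end basis

section special

variable {Y : Scheme.{u}} (j : Y ⟶ U) [IsClosedImmersion j] (hker : j.ker = J ^ (0 + 1))
  (q₀ : C.W 0 ⟶ Y) (hq : q₀ ≫ j = C.π 0)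

include hker hq in
/-- The images of a basis form a basis of the functions on the given cover. -/
theorem bijective_special {V : U.affineOpens} {κ : Type u} [Fintype κ] (e : κ → Γ(E, V.1))
    (he : IsBasisOn E V.1 e) :
    Function.Bijective fun c : κ → Γ(Y, j ⁻¹ᵁ V.1) =>
      ∑ i, pullHom j (C.π 0) q₀ hq V.1 (c i) * C.fn 0 V.1 (e i) := by
  have hF := C.frame 0 V κ inferInstance e he
  have hterm : ∀ r : κ → Γ(U, V.1),
      ∑ i, pullHom j (C.π 0) q₀ hq V.1 ((j.app V.1).hom (r i)) * C.fn 0 V.1 (e i) =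
        (∑ i, r i • resM (pushS (C.π 0)) le_rfl ((C.a 0).app V.1 (e i)) : Γ(pushS (C.π 0), V.1)) := fun r =>
    Finset.sum_congr rfl fun i _ => by
      rw [pullHom_app, PicLib.resM_self]
      rfl
  refine ⟨fun c c' hcc => ?_, fun z => ?_⟩
  · choose r hr using fun i => j.app_surjective V.1 V.2 (c i - c' i)
    have h0 : ∑ i, r i • resM (pushS (C.π 0)) le_rfl ((C.a 0).app V.1 (e i)) = 0 := by
      rw [← hterm r]
      simp only [hr, map_sub, sub_mul]
      rw [Finset.sum_sub_distrib]
      exact sub_eq_zero.2 hcc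
    funext i
    have hi := (hF.ker V le_rfl r).1 h0 i
    rw [← hker, Scheme.Hom.ker_apply, RingHom.mem_ker, hr] at hi
    exact sub_eq_zero.1 hi
  · obtain ⟨r, hr⟩ := hF.surj V le_rfl z
    exact ⟨fun i => (j.app V.1).hom (r i), (hterm r).trans hr⟩

/-- The opens over which the algebra is étale. -/
def etaleLocus : U.Opens :=
  ⨆ (V : U.affineOpens) (_ : ((C.alg h hE).str.app (op V.1)).hom.Etale), V.1

theorem etale_restrict : Etale ((C.alg h hE).π ∣_ C.etaleLocus h hE) :=
  prop_restrict_π (C.alg h hE) _ @Etale fun x hx => by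
    simp only [etaleLocus, Opens.mem_iSup] at hx
    obtain ⟨V, hV, hxV⟩ := hx
    exact ⟨V, hxV, le_iSup₂_of_le (f := fun (V : U.affineOpens)
      (_ : ((C.alg h hE).str.app (op V.1)).hom.Etale) => V.1) V hV le_rfl,
      (HasRingHomProperty.Spec_iff (P := @Etale)).mpr hV⟩

include hker hq in
/-- The algebra is étale near `Y`. -/
theorem range_le_etaleLocus [IsFinite q₀] [Etale q₀] (y : Y) : j y ∈ C.etaleLocus h hE := by
  classical
  obtain ⟨V, hyV, -, κ, hκ, e, he⟩ := exists_basis_affine hE (x := j y) (U := ⊤) trivial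
  let B := CovSec C h hE V.1
  letI algB : Algebra Γ(U, V.1) B := (CovSec.str C h hE V.1).toAlgebra
  let b := secBasis C h hE e he (le_refl V.1)
  let A₀ := Γ(Y, j ⁻¹ᵁ V.1)
  let B₀ := Γ(C.W 0, C.π 0 ⁻¹ᵁ V.1)
  haveI : IsAffineHom (C.π 0) := hq ▸ inferInstance
  letI alg₀ : Algebra A₀ B₀ := (pullHom j (C.π 0) q₀ hq V.1).toAlgebra
  have hbij := C.bijective_special j hker q₀ hq e he
  let L₀ : (κ → A₀) →ₗ[A₀] B₀ := Fintype.linearCombination A₀ (fun i => (C.fn 0 V.1 (e i) : B₀))
  have hL₀ : Function.Bijective L₀ := hbij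
  let b₀ : Module.Basis κ A₀ B₀ := Module.Basis.ofEquivFun (LinearEquiv.ofBijective L₀ hL₀).symm
  have hb₀ : ∀ i, b₀ i = C.fn 0 V.1 (e i) := fun i => by
    show Module.Basis.ofEquivFun _ i = _
    rw [Module.Basis.coe_ofEquivFun]
    exact Fintype.linearCombination_apply_single A₀ _ i 1 |>.trans (one_smul _ _)
  let g₀ : B →+* B₀ := ((C.toFun h hE 0).app (op V.1)).hom
  have htm := traceMatrix_map (A := Γ(U, V.1)) (B := B) (A' := A₀) (B' := B₀) (j.app V.1).hom g₀ (fun r => by
      show C.fn 0 V.1 (r • C.one h hE V.1) = pullHom j (C.π 0) q₀ hq V.1 ((j.app V.1).hom r)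
      rw [pullHom_app, fn_smul, fn_one, mul_one]) b b₀ (fun i => by
      show C.fn 0 V.1 (b i).val = b₀ i
      rw [hb₀, C.secBasis_val h hE e he, PicLib.resM_self])
  haveI : Algebra.Etale A₀ B₀ := RingHom.etale_algebraMap.1 (etale_pullHom j (C.π 0) q₀ hq V.1 V.2)
  haveI : Module.Finite A₀ B₀ := Module.Finite.of_basis b₀
  haveI : Module.Free A₀ B₀ := Module.Free.of_basis b₀
  let d : Γ(U, V.1) := (Algebra.traceMatrix Γ(U, V.1) b).det
  have hd₀ : IsUnit ((j.app V.1).hom d) := by
    rw [RingHom.map_det, RingHom.mapMatrix_apply, ← htm]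
    exact (FiniteEt.isUnit_det_iff_etale A₀ B₀ b₀).2 inferInstance
  have hyd : j y ∈ U.basicOpen d := by
    have : y ∈ j ⁻¹ᵁ U.basicOpen d := by
      rw [Scheme.preimage_basicOpen, Scheme.basicOpen_of_isUnit _ hd₀]
      exact hyV
    exact this
  let V' : U.affineOpens := ⟨U.basicOpen d, V.2.basicOpen d⟩
  have hle : V'.1 ≤ V.1 := U.basicOpen_le d
  have het : ((C.alg h hE).str.app (op V'.1)).hom.Etale := by
    let B' := CovSec C h hE V'.1
    letI algB' : Algebra Γ(U, V'.1) B' := (CovSec.str C h hE V'.1).toAlgebra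
    let b' := secBasis C h hE e he hle
    have htm' := traceMatrix_map (A := Γ(U, V.1)) (B := B) (A' := Γ(U, V'.1)) (B' := B')
      (U.presheaf.map (homOfLE hle).op).hom (CovSec.res hle) (fun r => CovSec.res_str hle r) b b' (fun i => by
        refine CovSec.ext ?_
        rw [C.secBasis_val h hE e he]
        show resM E hle (b i).val = _
        rw [C.secBasis_val h hE e he, PicLib.resM_self])
    haveI : Module.Finite Γ(U, V'.1) B' := Module.Finite.of_basis b'
    haveI : Module.Free Γ(U, V'.1) B' := Module.Free.of_basis b'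
    have hu : IsUnit (Algebra.traceMatrix Γ(U, V'.1) b').det := by
      rw [htm', ← RingHom.mapMatrix_apply, ← RingHom.map_det]
      exact RingedSpace.isUnit_res_basicOpen U.toLocallyRingedSpace.toRingedSpace d
    exact RingHom.etale_algebraMap.2 ((FiniteEt.isUnit_det_iff_etale Γ(U, V'.1) B' b').1 hu)
  simp only [etaleLocus, Opens.mem_iSup]
  exact ⟨V', het, hyd⟩

/-- The map of the given cover to the relative spectrum. -/
def toAlg : C.W 0 ⟶ (C.alg h hE).spec := H8Lim.toSpec (C.π 0) (C.toFun h hE 0)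

theorem toAlg_π : C.toAlg h hE ≫ (C.alg h hE).π = C.π 0 := H8Lim.toSpec_π _ _ (C.str_toFun h hE 0)

/-- The sections of `E` as functions on the relative spectrum. -/
def ρ : E ⟶ pushS (C.alg h hE).π :=
  haveI := RelSpecLib.isIso_gammaMap (C.alg h hE)
  ⟨PresheafOfModules.homMk
    { app := fun V => AddCommGrpCat.ofHom (AddMonoidHom.mk'
        (fun x => (show Γ(pushS (C.alg h hE).π, V.unop) from
          ((inv (C.alg h hE).gammaMap).app V).hom (⟨x⟩ : CovSec C h hE V.unop)))
        (fun x y => map_add ((inv (C.alg h hE).gammaMap).app V).hom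
          (⟨x⟩ : CovSec C h hE V.unop) (⟨y⟩ : CovSec C h hE V.unop)))
      naturality := fun V V' i => ConcreteCategory.hom_ext _ _ fun x =>
        ConcreteCategory.congr_hom ((inv (C.alg h hE).gammaMap).naturality i) (⟨x⟩ : CovSec C h hE V.unop) }
    fun V r x => by
      have hc : (C.alg h hE).str ≫ inv (C.alg h hE).gammaMap = (C.alg h hE).π.c := by
        rw [IsIso.comp_inv_eq]
        exact ((C.alg h hE).π_c_gammaMap).symm
      have hr := ConcreteCategory.congr_hom (NatTrans.congr_app hc V) r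
      show ((inv (C.alg h hE).gammaMap).app V).hom (⟨(show Γ(U, V.unop) from r) • x⟩ : CovSec C h hE V.unop) =
        ((C.alg h hE).π.app V.unop).hom r * (show Γ((C.alg h hE).spec, (C.alg h hE).π ⁻¹ᵁ V.unop) from
          ((inv (C.alg h hE).gammaMap).app V).hom (⟨x⟩ : CovSec C h hE V.unop))
      rw [show (⟨(show Γ(U, V.unop) from r) • x⟩ : CovSec C h hE V.unop) =
          CovSec.str C h hE V.unop (show Γ(U, V.unop) from r) * ⟨x⟩ from CovSec.ext (CovSec.str_mul _ _).symm]
      exact (map_mul ((inv (C.alg h hE).gammaMap).app V).hom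
        (CovSec.str C h hE V.unop (show Γ(U, V.unop) from r)) (⟨x⟩ : CovSec C h hE V.unop)).trans
        (congrArg (fun w : Γ((C.alg h hE).spec, (C.alg h hE).π ⁻¹ᵁ V.unop) => w * _) hr)⟩

theorem isIso_ρ : IsIso (C.ρ h hE) := by
  haveI := RelSpecLib.isIso_gammaMap (C.alg h hE)
  refine Scheme.Modules.Hom.isIso_iff_isIso_app.mpr fun V => (ConcreteCategory.isIso_iff_bijective _).2 ?_
  refine (ConcreteCategory.bijective_of_isIso ((inv (C.alg h hE).gammaMap).app (op V))).comp ?_
  exact ⟨fun a b hab => congrArg CovSec.val hab, fun p => ⟨p.val, rfl⟩⟩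

/-- Restricted to the given cover, the functions of sections are the given ones. -/
theorem pull_ρ (V : U.affineOpens) (x : Γ(E, V.1)) :
    pullFun (C.alg h hE).π (C.π 0) (C.toAlg h hE) (C.toAlg_π h hE) V.1 ((C.ρ h hE).app V.1 x) = C.fn 0 V.1 x := by
  haveI := RelSpecLib.isIso_gammaMap (C.alg h hE)
  let A := C.alg h hE
  have e : C.π 0 ⁻¹ᵁ V.1 ≤ H8Lim.toSpec (C.π 0) (C.toFun h hE 0) ⁻¹ᵁ (A.π ⁻¹ᵁ V.1) :=
    le_of_eq (by rw [← Scheme.Hom.comp_preimage, H8Lim.toSpec_π _ _ (C.str_toFun h hE 0)])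
  have hgen : ∀ {P : Scheme.{u}} (f : P ⟶ U) (k : C.W 0 ⟶ P) (hk : k ≫ f = C.π 0)
      (e : C.π 0 ⁻¹ᵁ V.1 ≤ k ⁻¹ᵁ (f ⁻¹ᵁ V.1)) (s : Γ(P, f ⁻¹ᵁ V.1)),
      pullFun f (C.π 0) k hk V.1 s = (k.appLE (f ⁻¹ᵁ V.1) (C.π 0 ⁻¹ᵁ V.1) e).hom s := by
    intro P f k hk e s
    generalize C.π 0 = π₀ at hk e
    subst hk
    rw [pullFun_eq, Scheme.Hom.app_eq_appLE]
    rfl
  show pullFun A.π (C.π 0) (C.toAlg h hE) (C.toAlg_π h hE) V.1
    (((inv A.gammaMap).app (op V.1)).hom (⟨x⟩ : CovSec C h hE V.1)) = _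
  refine (hgen A.π (C.toAlg h hE) (C.toAlg_π h hE) e _).trans ?_
  unfold toAlg
  rw [H8Lim.toSpec_appLE (C.π 0) (C.toFun h hE 0) V e, CommRingCat.comp_apply]
  have h1 : (A.gammaAff V.1 V.2).hom (((inv A.gammaMap).app (op V.1)).hom (⟨x⟩ : CovSec C h hE V.1)) = ⟨x⟩ := by
    rw [← A.gammaMap_app V.1 V.2]
    exact ConcreteCategory.congr_hom (NatTrans.congr_app (IsIso.inv_hom_id A.gammaMap) (op V.1))
      (⟨x⟩ : CovSec C h hE V.1)
  erw [h1]
  rfl

include hker hq in
/-- **The algebraized cover restricts to the given cover.** -/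
theorem isPullback_special [IsAffineHom q₀] :
    IsPullback (C.toAlg h hE) q₀ (C.alg h hE).π j := by
  let A := C.alg h hE
  haveI := C.isIso_ρ h hE
  let fst := pullback.fst A.π j
  let snd := pullback.snd A.π j
  let θ : C.W 0 ⟶ pullback A.π j := pullback.lift (C.toAlg h hE) q₀ ((C.toAlg_π h hE).trans hq.symm)
  have h1 : θ ≫ fst = C.toAlg h hE := pullback.lift_fst _ _ _
  have h2 : θ ≫ snd = q₀ := pullback.lift_snd _ _ _
  have hθ : θ ≫ fst ≫ A.π = C.π 0 := by rw [reassoc_of% h1]; exact C.toAlg_π h hE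
  haveI : IsAffineHom (C.π 0) := hq ▸ inferInstance
  haveI : IsAffineHom (fst ≫ A.π) := inferInstance
  haveI : IsIso θ := by
    refine isIso_of_bijective_pullFun (fst ≫ A.π) (C.π 0) θ hθ fun x => ?_
    obtain ⟨V, hxV, -, κ, hκ, e, he⟩ := exists_basis_affine hE (x := x) (U := ⊤) trivial
    refine ⟨V.1, V.2, hxV, ?_⟩
    have H := IsPullback.of_hasPullback A.π j
    let g := fun i => (C.ρ h hE).app V.1 (e i)
    have hg : IsBasisOn (pushS A.π) V.1 g := isBasisOn_map_iso (asIso (C.ρ h hE)) he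
    have hP := (bijective_mulBilin A.π j fst snd H V.2 hg).comp (bijective_sum_tmul hg (pushS j) V.1 le_rfl)
    refine (Function.Bijective.of_comp_iff _ hP).1 ?_
    refine Eq.mpr (congrArg Function.Bijective (funext fun c => ?_)) (C.bijective_special j hker q₀ hq e he)
    show pullFun (fst ≫ A.π) (C.π 0) θ hθ V.1
      ((mulBilin A.π j fst snd H).desc.app V.1 (∑ i, tmul (resM (pushS A.π) le_rfl (g i)) (c i))) = _
    rw [map_sum]
    refine Eq.trans (map_sum (pullHom (fst ≫ A.π) (C.π 0) θ hθ V.1) _ _) ?_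
    refine Finset.sum_congr rfl fun i _ => ?_
    rw [mulBilin_tmul, PicLib.resM_self]
    show pullFun (fst ≫ A.π) (C.π 0) θ hθ V.1 (_ * _) = _
    rw [pullFun_mul, pullFun_comp, pullFun_comp, mul_comm]
    refine congrArg₂ (· * ·) ?_ ?_
    · simp only [h2]
      rfl
    · simp only [h1]
      exact C.pull_ρ h hE V (e i)
  exact IsPullback.of_iso_pullback ⟨(C.toAlg_π h hE).trans hq.symm⟩ (asIso θ) h1 h2

end special

end FormalCover

end Groth.Agent.Lef23
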