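import Groth.Agent.Lef23.GrKernel
import Groth.Agent.PicDef15.Lift
import Groth.Agent.H0Growth23.Basic
import Groth.Agent.PrinLib.Generate

/-!
# Formal systems of invertible modules on the thickenings of a divisor
-/

set_option autoImplicit false
set_option linter.style.haveILetI false
set_option backward.isDefEq.respectTransparency.types false

universe u

open CategoryTheory CategoryTheory.Limits AlgebraicGeometry Opposite TopologicalSpace
open Groth.Agent.Coherent Groth.Agent.PicLib Groth.Agent.AmpleLib Groth.Agent.EulerLib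

noncomputable section

namespace Groth.Agent.Lef23

variable {X : Scheme.{u}}

/-- Global sections of the quotient lift when `H¹` of the first term injects. -/
theorem surjective_app_top {S : ShortComplex X.Modules} (hS : S.ShortExact)
    (h : Function.Injective (hm S.f 1)) : Function.Surjective (S.g.app (⊤ : X.Opens)) := by
  intro z
  let φ := RingHom.id Γ(X, ⊤)
  let z' := HHTopEquiv S.X₃ 0 ((Existence.hSec S.X₃).symm z)
  have hd : deltaA φ hS ⊤ 0 z' = 0 := by
    obtain ⟨w, hw⟩ := (HHTopEquiv S.X₁ 1).surjective (deltaA φ hS ⊤ 0 z')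
    have h0 : postA φ S.f ⊤ 1 (deltaA φ hS ⊤ 0 z') = 0 :=
      (exact_deltaA_postA φ hS ⊤ 0 _).2 ⟨z', rfl⟩
    rw [← hw] at h0 ⊢
    have h1 : hm S.f 1 w = hm S.f 1 0 := (HHTopEquiv S.X₂ 1).injective (by
      rw [hm_top, hm_top]
      exact h0.trans (by rw [map_zero]; exact (map_zero _).symm))
    rw [h h1, map_zero]
    rfl
  obtain ⟨y, hy⟩ := (exact_postA_deltaA φ hS ⊤ 0 z').1 hd
  refine ⟨Existence.hSec S.X₂ ((HHTopEquiv S.X₂ 0).symm y), ?_⟩
  rw [← Existence.hSec_map S.g]
  refine (Existence.hSec S.X₃).symm.injective ((HHTopEquiv S.X₃ 0).injective ?_)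
  rw [AddEquiv.symm_apply_apply]
  refine (hm_top S.g 0 _).trans ?_
  rw [AddEquiv.apply_symm_apply]
  exact hy

/-- A short exact sequence from an epimorphism. -/
theorem shortExact_kernel {M N : X.Modules} (g : M ⟶ N) [Epi g] :
    (ShortComplex.mk (kernel.ι g) g (kernel.condition g)).ShortExact :=
  { exact := ShortComplex.exact_of_f_is_kernel _ (kernelIsKernel g), mono_f := inferInstance, epi_g := ‹_› }

/-- The kernel of `O → t_* O` is the ideal of `t`. -/
theorem nonempty_idealMod_ker {Z : Scheme.{u}} (t : Z ⟶ X) [IsClosedImmersion t] :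
    Nonempty (ClSub.idealMod t.ker ≅ kernel (ClSub.unitToPush t)) := by
  have key : ∀ (V : X.Opens) (hV : IsAffineOpen V) (r : Γ(X, V)),
      t.ker.subschemeι.app V r = 0 ↔ t.app V r = 0 := fun V hV r => by
    rw [← mem_ideal_iff t.ker ⟨V, hV⟩ r, Scheme.Hom.ker_apply]
    rfl
  have h1 : ClSub.idealModι t.ker ≫ ClSub.unitToPush t = 0 :=
    PicDef15.hom_eq_zero_of_affine _ fun V hV x =>
      (key V hV _).1 (kernel_ι_app_zero (ClSub.toSubscheme t.ker) V x)
  have h2 : kernel.ι (ClSub.unitToPush t) ≫ ClSub.toSubscheme t.ker = 0 :=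
    PicDef15.hom_eq_zero_of_affine _ fun V hV x =>
      (key V hV _).2 (kernel_ι_app_zero (ClSub.unitToPush t) V x)
  let a : ClSub.idealMod t.ker ⟶ kernel (ClSub.unitToPush t) := kernel.lift _ (ClSub.idealModι t.ker) h1
  let b : kernel (ClSub.unitToPush t) ⟶ ClSub.idealMod t.ker := kernel.lift (ClSub.toSubscheme t.ker) _ h2
  haveI := AmpleLib.mono_idealModι t.ker
  have hb : b ≫ ClSub.idealModι t.ker = kernel.ι (ClSub.unitToPush t) := kernel.lift_ι _ _ _
  have ha : a ≫ kernel.ι (ClSub.unitToPush t) = ClSub.idealModι t.ker := kernel.lift_ι _ _ _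
  refine ⟨⟨a, b, ?_, ?_⟩⟩
  · rw [← cancel_mono (ClSub.idealModι t.ker), Category.assoc, hb, ha, Category.id_comp]
  · rw [← cancel_mono (kernel.ι (ClSub.unitToPush t)), Category.assoc, ha, hb, Category.id_comp]

theorem isIso_mulHom {c : Γ(X, ⊤)} (hc : IsUnit c) : IsIso (mulHom c) := by
  refine TwistLib.G.isIso_of_bijective_on_basis _ (fun _ => True) (fun V y hy => ⟨V, trivial, hy, le_rfl⟩)
    fun V _ => ?_
  have hu : IsUnit (PicLib.res (le_top : V ≤ ⊤) c) := hc.map _
  exact hu.unit.mulLeft_bijective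

/-- The direct image of a kernel, composed with an isomorphism. -/
theorem nonempty_push_kernel {Z : Scheme.{u}} (ι : Z ⟶ X) {A B : Z.Modules} (u : A ⟶ B) {C : X.Modules}
    (T : (Scheme.Modules.pushforward ι).obj B ≅ C) (q : (Scheme.Modules.pushforward ι).obj A ⟶ C)
    (hq : q = (Scheme.Modules.pushforward ι).map u ≫ T.hom) :
    Nonempty ((Scheme.Modules.pushforward ι).obj (kernel u) ≅ kernel q) := by
  haveI := (Scheme.Modules.pullbackPushforwardAdjunction ι).rightAdjoint_preservesLimits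
  subst hq
  exact ⟨PreservesKernel.iso (Scheme.Modules.pushforward ι) u ≪≫
    (kernelCompMono ((Scheme.Modules.pushforward ι).map u) T.hom).symm⟩

variable (I : X.IdealSheafData)

/-- The thickenings. -/
abbrev Zs (m : ℕ) : Scheme.{u} := (I ^ (m + 1)).subscheme

/-- The inclusions of the thickenings. -/
abbrev incl (m : ℕ) : (Zs I m) ⟶ Zs I (m + 1) :=
  Scheme.IdealSheafData.inclusion (Lef.pow_succ_le I m)

theorem isClosedImmersion_incl (m : ℕ) : IsClosedImmersion (incl I m) := by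
  haveI : IsClosedImmersion (incl I m ≫ (I ^ (m + 1 + 1)).subschemeι) := by
    rw [Scheme.IdealSheafData.inclusion_subschemeι]; infer_instance
  exact IsClosedImmersion.of_comp (incl I m) (I ^ (m + 1 + 1)).subschemeι

theorem sq_ker_incl (m : ℕ) : (incl I m).ker ^ 2 = ⊥ := by
  let ι' := (I ^ (m + 1 + 1)).subschemeι
  have e : (incl I m).ker.map ι' = I ^ (m + 1) := by
    rw [Scheme.IdealSheafData.map_ker, Scheme.IdealSheafData.inclusion_subschemeι,
      Scheme.IdealSheafData.ker_subschemeι]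
  have hle : (incl I m).ker ≤ (I ^ (m + 1)).comap ι' :=
    (PrinLib.le_comap_map _ _).trans_eq (congrArg (fun J => Scheme.IdealSheafData.comap J _) e)
  have h0 : (I ^ (m + 1 + 1)).comap ι' = ⊥ := by
    refine le_antisymm ?_ bot_le
    rw [← Scheme.IdealSheafData.le_map_iff_comap_le, Scheme.IdealSheafData.map_bot,
      Scheme.IdealSheafData.ker_subschemeι]
  refine le_antisymm ?_ bot_le
  rw [pow_two]
  refine (mul_le_mul' hle hle).trans ?_
  rw [← FSchLib.comap_mul, ← pow_add, ← h0]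
  refine Scheme.IdealSheafData.comap_mono _ ?_
  rw [show m + 1 + (m + 1) = m + 1 + 1 + m by omega, pow_add]
  exact mul_le_of_le_one_right' le_top

/-- Cohomology of the ideal of a step is that of the graded piece. -/
theorem subsingleton_ker_incl (m i : ℕ)
    (h : Subsingleton (Coh.HH X (kernel (Lef.quotMap (Lef.pow_succ_le I m))) i)) :
    Subsingleton (Coh.HH (Zs I (m + 1)) (ClSub.idealMod (incl I m).ker) i) := by
  haveI := isClosedImmersion_incl I m
  haveI := MorProj.isQCoh_idealMod (incl I m).ker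
  obtain ⟨e⟩ := nonempty_idealMod_ker (incl I m)
  obtain ⟨e'⟩ := nonempty_push_kernel (I ^ (m + 1 + 1)).subschemeι (ClSub.unitToPush (incl I m))
    ((Scheme.Modules.pushforwardComp (incl I m) (I ^ (m + 1 + 1)).subschemeι).app (Coh.structureModule (Zs I m)) ≪≫
      (Scheme.Modules.pushforwardCongr (Scheme.IdealSheafData.inclusion_subschemeι (Lef.pow_succ_le I m))).app _)
    (Lef.quotMap (Lef.pow_succ_le I m)) rfl
  have h1 := subsingleton_HH_iso (((Scheme.Modules.pushforward (I ^ (m + 1 + 1)).subschemeι).mapIso e ≪≫ e').symm) i h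
  haveI : Subsingleton (Coh.HH X ((Coh.push (I ^ (m + 1 + 1)).subschemeι).obj (ClSub.idealMod (incl I m).ker)) i) := h1
  exact (HHAffinePushEquiv (I ^ (m + 1 + 1)).subschemeι (ClSub.idealMod (incl I m).ker) i).subsingleton

theorem surjective_incl_app_top (m : ℕ)
    (h : Subsingleton (Coh.HH X (kernel (Lef.quotMap (Lef.pow_succ_le I m))) 1)) :
    Function.Surjective ((incl I m).app ⊤) := by
  haveI : Epi (Lef.quotMap (Lef.pow_succ_le I m)) := (surj_quotMap _).epi
  have hs := surjective_app_top (shortExact_kernel (Lef.quotMap (Lef.pow_succ_le I m))) fun a b _ => Subsingleton.elim a b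
  intro c
  let T := (Scheme.Modules.pushforwardCongr (Scheme.IdealSheafData.inclusion_subschemeι (Lef.pow_succ_le I m))).app
    (Coh.structureModule (Zs I m))
  obtain ⟨r, hr⟩ := hs (T.hom.app ⊤ c)
  exact ⟨r, (ConcreteCategory.bijective_of_isIso (T.hom.app ⊤)).1 hr⟩

/-- An invertible module with an inverse. -/
structure Level (Z : Scheme.{u}) where
  N : Z.Modules
  M : Z.Modules
  hN : PicF.IsInvertible N
  hM : PicF.IsInvertible M
  ε : CohB1.tensorMod N M ≅ Coh.structureModule Z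

/-- The pairing of a level on sections. -/
def Level.pair {Z : Scheme.{u}} (l : Level Z) (U : Z.Opens) (a : Γ(l.N, U)) (b : Γ(l.M, U)) : Γ(Z, U) :=
  l.ε.hom.app U (tmul a b)

/-- One level over another. -/
structure Step {Z Z' : Scheme.{u}} (h : Z ⟶ Z') (l : Level Z) (l' : Level Z') where
  u : l'.N ⟶ (Scheme.Modules.pushforward h).obj l.N
  v : l'.M ⟶ (Scheme.Modules.pushforward h).obj l.M
  hu : Surj u
  hv : Surj v
  compat : ∀ (U : Z'.Opens) (a : Γ(l'.N, U)) (b : Γ(l'.M, U)),
    h.app U (l'.pair U a b) = l.pair (h ⁻¹ᵁ U) (u.app U a) (v.app U b)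

/-- The map to the direct image attached to an isomorphism of the pullback. -/
def toPushOf {Z Z' : Scheme.{u}} (h : Z ⟶ Z') {N' : Z'.Modules} {N : Z.Modules}
    (ψ : (Scheme.Modules.pullback h).obj N' ≅ N) : N' ⟶ (Scheme.Modules.pushforward h).obj N :=
  (Scheme.Modules.pullbackPushforwardAdjunction h).unit.app N' ≫ (Scheme.Modules.pushforward h).map ψ.hom

theorem toPushOf_app {Z Z' : Scheme.{u}} (h : Z ⟶ Z') {N' : Z'.Modules} {N : Z.Modules}
    (ψ : (Scheme.Modules.pullback h).obj N' ≅ N) (U : Z'.Opens) (a : Γ(N', U)) :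
    (toPushOf h ψ).app U a = ψ.hom.app (h ⁻¹ᵁ U) (pullSec h a) := rfl

theorem isGen_toPushOf {Z Z' : Scheme.{u}} (h : Z ⟶ Z') {N' : Z'.Modules} (hN' : PicF.IsInvertible N')
    {N : Z.Modules} (ψ : (Scheme.Modules.pullback h).obj N' ≅ N) {U : Z'.Opens} {s : Γ(N', U)} (hs : IsGen N' U s) :
    IsGen N (h ⁻¹ᵁ U) ((toPushOf h ψ).app U s) :=
  isGen_map_iso ψ (isGen_pullSec h hs hN')

theorem surj_toPushOf {Z Z' : Scheme.{u}} (h : Z ⟶ Z') [IsClosedImmersion h] {N' : Z'.Modules}
    (hN' : PicF.IsInvertible N') {N : Z.Modules} (ψ : (Scheme.Modules.pullback h).obj N' ≅ N) :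
    Surj (toPushOf h ψ) := fun x => by
  obtain ⟨Q, hxQ, s, hs⟩ := exists_isGen hN' x
  obtain ⟨V, hV, hxV, hVQ⟩ := exists_isAffineOpen_mem_and_subset (x := x) (U := Q) hxQ
  refine ⟨⟨V, hV⟩, hxV, fun B hB z => ?_⟩
  have hg := isGen_toPushOf h hN' ψ (hs.restrict (hB.trans hVQ))
  obtain ⟨c, hc⟩ := (hg (h ⁻¹ᵁ B.1) le_rfl).2 z
  obtain ⟨c', rfl⟩ := h.app_surjective B.1 B.2 c
  refine ⟨c' • resM N' (hB.trans hVQ) s, ?_⟩
  rw [Scheme.Modules.Hom.app_smul]
  simp only [PicLib.resM_self] at hc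
  exact hc

theorem exists_step {Z Z' : Scheme.{u}} (h : Z ⟶ Z') [IsClosedImmersion h] [Z'.IsSeparated]
    (hsq : h.ker ^ 2 = ⊥) (h2 : Subsingleton (Coh.HH Z' (ClSub.idealMod h.ker) 2))
    (h1 : Function.Surjective (h.app ⊤)) (l : Level Z) :
    ∃ l' : Level Z', Nonempty (Step h l l') := by
  -- lift the module
  obtain ⟨N', hN', ⟨e⟩⟩ := PicDef15.exists_invertible_lift h.ker hsq h2
    (PicLoc.isInvertible_pullback (inv h.toImage) l.hN)
  let ψ : (Scheme.Modules.pullback h).obj N' ≅ l.N :=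
    (Scheme.Modules.pullbackCongr h.toImage_imageι.symm).app N' ≪≫
      ((Scheme.Modules.pullbackComp h.toImage h.ker.subschemeι).app N').symm ≪≫
      (Scheme.Modules.pullback h.toImage).mapIso e ≪≫
      (Scheme.Modules.pullbackComp h.toImage (inv h.toImage)).app l.N ≪≫
      (Scheme.Modules.pullbackCongr (IsIso.hom_inv_id h.toImage)).app l.N ≪≫
      (Scheme.Modules.pullbackId _).app l.N
  -- its inverse
  obtain ⟨M', ⟨eM⟩⟩ := VarietyLib.exists_isInverseOf hN'
  have hM' : PicF.IsInvertible M' := MorProj.isInvertible_of_tensor_iso (AmpleLib.tensorComm _ _ ≪≫ eM)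
  obtain ⟨eP⟩ := exists_pullTensorIso h hN' hM'
  obtain ⟨eO⟩ := exists_pullStructureIso h
  have hPN := PicLoc.isInvertible_pullback h hN'
  have hPM := PicLoc.isInvertible_pullback h hM'
  have hmk : InvCl.mk _ hPM = InvCl.mk l.M l.hM := by
    have ha : InvCl.mk _ hPM * InvCl.mk l.N l.hN = 1 := by
      rw [mul_comm, ← InvCl.mk_eq _ hPN ψ.symm |>.symm, InvCl.mk_mul]
      exact InvCl.mk_eq _ isInvertible_structureModule (eP.symm ≪≫ (Scheme.Modules.pullback h).mapIso eM ≪≫ eO)
    have hb : InvCl.mk l.N l.hN * InvCl.mk l.M l.hM = 1 := by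
      rw [InvCl.mk_mul]
      exact InvCl.mk_eq _ isInvertible_structureModule l.ε
    exact left_inv_eq_right_inv ha hb
  obtain ⟨φ⟩ := H0Growth23.nonempty_iso_of_mk_eq hmk
  let u := toPushOf h ψ
  let v := toPushOf h φ
  -- the reduction of the pairing
  let α : Bilin N' M' ((Scheme.Modules.pushforward h).obj (Coh.structureModule Z)) :=
    { app := fun U a b => l.ε.hom.app (h ⁻¹ᵁ U) (tmul (show Γ(l.N, h ⁻¹ᵁ U) from u.app U a)
        (show Γ(l.M, h ⁻¹ᵁ U) from v.app U b))
      add_left := fun U a a' b => by rw [map_add]; exact (congrArg _ (tmul_add_left _ _ _)).trans (map_add _ _ _)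
      add_right := fun U a b b' => by rw [map_add]; exact (congrArg _ (tmul_add_right _ _ _)).trans (map_add _ _ _)
      smul_left := fun U r a b => by
        rw [Scheme.Modules.Hom.app_smul]
        exact (congrArg _ (tmul_smul_left (h.app U r) _ _)).trans (Scheme.Modules.Hom.app_smul _ _ _)
      smul_right := fun U r a b => by
        rw [Scheme.Modules.Hom.app_smul]
        exact (congrArg _ (tmul_smul_right (h.app U r) _ _)).trans (Scheme.Modules.Hom.app_smul _ _ _)
      res := fun U V hle a b => by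
        refine (app_resM l.ε.hom (h.preimage_mono hle) _).symm.trans ?_
        rw [resM_tmul, app_resM u hle a, app_resM v hle b]
        rfl }
  let γ : Coh.structureModule (Z') ⟶ _ := eM.inv ≫ α.desc
  let u₀ : Γ(Z, h ⁻¹ᵁ ⊤) := γ.app ⊤ (show Γ(Coh.structureModule (Z'), ⊤) from (1 : Γ(Z', ⊤)))
  have hγ : ∀ (U : (Z').Opens) (c : Γ(Z', U)),
      (show Γ(Z, h ⁻¹ᵁ U) from γ.app U c) = h.app U c * PicLib.res (h.preimage_mono (le_top : U ≤ ⊤)) u₀ :=
    fun U c => by
    have h1' : resM (Coh.structureModule (Z')) (le_top : U ≤ ⊤)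
        (show Γ(Coh.structureModule (Z'), ⊤) from (1 : Γ(Z', ⊤))) =
        (show Γ(Coh.structureModule (Z'), U) from (1 : Γ(Z', U))) :=
      map_one ((Z').presheaf.map (homOfLE (le_top : U ≤ ⊤)).op).hom
    have hc : (show Γ(Coh.structureModule (Z'), U) from c) = c • resM (Coh.structureModule (Z')) (le_top : U ≤ ⊤)
        (show Γ(Coh.structureModule (Z'), ⊤) from (1 : Γ(Z', ⊤))) := by
      rw [h1']; exact (mul_one c).symm
    refine ((congrArg (γ.app U) hc).trans (Scheme.Modules.Hom.app_smul γ c _)).trans ?_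
    rw [app_resM]
    rfl
  obtain ⟨w, hw⟩ := h1 u₀
  -- the scalar is a unit
  have hsurj : Function.Surjective h := fun z => by
    have : z ∈ Set.range h := by
      rw [FSchLib.range_eq_support_ker, PicDef15.support_eq _ hsq]
      trivial
    exact this
  have hu0 : IsUnit w := by
    refine (Z').toRingedSpace.isUnit_of_isUnit_germ ⊤ _ fun z hz => ?_
    obtain ⟨y, rfl⟩ := hsurj z
    obtain ⟨Q₁, hy₁, a, ha⟩ := exists_isGen hN' (h y)
    obtain ⟨Q₂, hy₂, b, hb⟩ := exists_isGen hM' (h y)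
    let Q := Q₁ ⊓ Q₂
    have hyQ : h y ∈ Q := ⟨hy₁, hy₂⟩
    let a' := resM N' (inf_le_left : Q ≤ Q₁) a
    let b' := resM M' (inf_le_right : Q ≤ Q₂) b
    have hg : IsGen (Coh.structureModule Z) (h ⁻¹ᵁ Q) (α.app Q a' b') :=
      isGen_map_iso l.ε (isGen_tmul (isGen_toPushOf h hN' ψ (ha.restrict inf_le_left))
        (isGen_toPushOf h hM' φ (hb.restrict inf_le_right)))
    let c : Γ(Z', Q) := eM.hom.app Q (tmul a' b')
    have hγc : (show Γ(Z, h ⁻¹ᵁ Q) from γ.app Q c) = α.app Q a' b' := by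
      show (eM.inv ≫ α.desc).app Q (eM.hom.app Q (tmul a' b')) = _
      rw [Scheme.Modules.Hom.comp_app, ConcreteCategory.comp_apply, ← ConcreteCategory.comp_apply (eM.hom.app Q),
        ← Scheme.Modules.Hom.comp_app, eM.hom_inv_id]
      exact Bilin.desc_tmul α Q a' b'
    obtain ⟨d, hd⟩ := (hg (h ⁻¹ᵁ Q) le_rfl).2 (show Γ(Coh.structureModule Z, h ⁻¹ᵁ Q) from (1 : Γ(Z, h ⁻¹ᵁ Q)))
    have hunit : IsUnit (PicLib.res (h.preimage_mono (le_top : Q ≤ ⊤)) u₀) := by
      refine IsUnit.of_mul_eq_one (d * h.app Q c) ?_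
      simp only [PicLib.resM_self] at hd
      rw [← hγc, hγ] at hd
      refine Eq.trans ?_ hd
      show _ = d * (h.app Q c * PicLib.res (h.preimage_mono (le_top : Q ≤ ⊤)) u₀)
      ring
    have hy0 : y ∈ Z.basicOpen u₀ := by
      rw [Scheme.mem_basicOpen _ _ y (show y ∈ h ⁻¹ᵁ ⊤ from trivial)]
      have := hunit.map (Z.presheaf.germ (h ⁻¹ᵁ Q) y hyQ).hom
      rwa [VarietyLib.StarGlue.germ_resO] at this
    rw [← hw, ← Scheme.preimage_basicOpen] at hy0
    exact (Scheme.mem_basicOpen _ _ _ hz).1 hy0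
  haveI := isIso_mulHom hu0
  refine ⟨⟨N', M', hN', hM', eM ≪≫ asIso (mulHom w)⟩, ⟨⟨u, v, surj_toPushOf h hN' ψ, surj_toPushOf h hM' φ, fun U a b => ?_⟩⟩⟩
  show h.app U ((mulHom w).app U (eM.hom.app U (tmul a b))) = α.app U a b
  rw [mulHom_app, map_mul]
  have h3 : h.app U (PicLib.res (le_top : U ≤ ⊤) w) = PicLib.res (h.preimage_mono (le_top : U ≤ ⊤)) (h.app ⊤ w) :=
    ConcreteCategory.congr_hom (h.naturality (homOfLE (le_top : U ≤ ⊤)).op) w
  rw [h3, hw, mul_comm, ← hγ]
  show (eM.inv ≫ α.desc).app U (eM.hom.app U (tmul a b)) = _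
  rw [Scheme.Modules.Hom.comp_app, ConcreteCategory.comp_apply, ← ConcreteCategory.comp_apply (eM.hom.app U),
    ← Scheme.Modules.Hom.comp_app, eM.hom_inv_id]
  exact Bilin.desc_tmul α U a b

/-- A formal invertible module with inverse. -/
structure Tower where
  level : ∀ m, Level (Zs I m)
  step : ∀ m, Step (incl I m) (level m) (level (m + 1))

theorem exists_tower [X.IsSeparated]
    (hH : ∀ m i, (i = 1 ∨ i = 2) → Subsingleton (Coh.HH X (kernel (Lef.quotMap (Lef.pow_succ_le I m))) i))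
    {N : (Zs I 0).Modules} (hN : PicF.IsInvertible N) :
    ∃ T : Tower I, (T.level 0).N = N := by
  obtain ⟨M, ⟨e⟩⟩ := VarietyLib.exists_isInverseOf hN
  have hM : PicF.IsInvertible M := MorProj.isInvertible_of_tensor_iso (AmpleLib.tensorComm _ _ ≪≫ e)
  have hstep : ∀ (m : ℕ) (l : Level (Zs I m)), ∃ l' : Level (Zs I (m + 1)), Nonempty (Step (incl I m) l l') := fun m l => by
    haveI := isClosedImmersion_incl I m
    haveI : (Zs I (m + 1)).IsSeparated := ⟨by
      rw [← terminal.comp_from (I ^ (m + 1 + 1)).subschemeι]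
      infer_instance⟩
    exact exists_step (incl I m) (sq_ker_incl I m) (subsingleton_ker_incl I m 2 (hH m 2 (Or.inr rfl)))
      (surjective_incl_app_top I m (hH m 1 (Or.inl rfl))) l
  choose next hnext using hstep
  let L : ∀ m, Level (Zs I m) := fun m => Nat.rec (motive := fun m => Level (Zs I m)) ⟨N, M, hN, hM, e⟩ next m
  exact ⟨⟨L, fun m => (hnext m (L m)).some⟩, rfl⟩

end Groth.Agent.Lef23
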