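import Groth.Agent.Lef23.FrameSys

/-!
# Selection of frames and kernels of presentations of systems
-/

set_option autoImplicit false
set_option linter.style.haveILetI false
set_option backward.isDefEq.respectTransparency.types false

universe u

open CategoryTheory CategoryTheory.Limits AlgebraicGeometry Opposite TopologicalSpace
open Groth.Agent.Coherent Groth.Agent.PicLib Groth.Agent.AmpleLib Groth.Agent.EulerLib Groth.Agent.SerreDual

noncomputable section

namespace Groth.Agent.Lef23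

variable {X : Scheme.{u}}

theorem evaluation_eq_zero_of_mem (J : X.IdealSheafData) (V : X.affineOpens) {y : X} (hy : y ∈ V.1)
    (hJ : y ∈ J.support) {r : Γ(X, V.1)} (hr : r ∈ J.ideal V) : X.evaluation V.1 y hy r = 0 := by
  rw [Scheme.evaluation_eq_zero_iff_notMem_basicOpen]
  exact (X.mem_zeroLocus_iff _ _).1 ((Scheme.IdealSheafData.mem_support_iff_of_mem hy).1 hJ) r hr

/-- Rows with a left inverse contain a basis. -/
theorem exists_det_ne_zero {K : Type u} [Field K] {ι κ : Type u} [Fintype ι] [Fintype κ] [DecidableEq ι]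
    (M : Matrix κ ι K) (C : Matrix ι κ K) (h : C * M = 1) :
    ∃ S : ι → κ, Function.Injective S ∧ (M.submatrix S id).det ≠ 0 := by
  classical
  have hspan : Submodule.span K (Set.range M.row) = ⊤ := by
    rw [eq_top_iff]
    intro x _
    have h1 : Matrix.vecMul (Matrix.vecMul x C) M = x := by rw [Matrix.vecMul_vecMul, h, Matrix.vecMul_one]
    rw [← h1, Matrix.vecMul_eq_sum]
    exact Submodule.sum_mem _ fun j _ => Submodule.smul_mem _ _ (Submodule.subset_span ⟨j, rfl⟩)
  obtain ⟨b, hb, hbs, hli⟩ := exists_linearIndependent K (Set.range M.row)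
  let B : Module.Basis b K (ι → K) := Module.Basis.mk hli (by rw [Subtype.range_coe_subtype]; exact (hbs.trans hspan).ge)
  let E : ι ≃ b := (Pi.basisFun K ι).indexEquiv B
  choose S hS using fun i => hb (E i).2
  refine ⟨S, fun i i' hii => E.injective (Subtype.ext ?_), ?_⟩
  · rw [← hS i, ← hS i', hii]
  · have hrow : (M.submatrix S id).row = (fun x : b => (x : ι → K)) ∘ E := funext fun i => hS i
    have hu : IsUnit (M.submatrix S id) := Matrix.linearIndependent_rows_iff_isUnit.1
      (by rw [hrow]; exact hli.comp _ E.injective)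
    exact ((Matrix.isUnit_iff_isUnit_det _).1 hu).ne_zero

theorem isUnit_res_basicOpen' {V : X.Opens} (d : Γ(X, V)) :
    IsUnit (X.presheaf.map (homOfLE (X.basicOpen_le d)).op d) :=
  X.toRingedSpace.isUnit_res_basicOpen d

variable {P P' : X.Modules} {J J' : X.IdealSheafData} {V : X.affineOpens} {ι : Type u} [Fintype ι]
  {e : ι → Γ(P, V.1)}

/-- A spanning family contains a frame near a point of the zero set. -/
theorem Frame.exists_select (he : Frame P J V.1 e) {κ : Type u} [Fintype κ] (v : κ → Γ(P, V.1))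
    (hv : ∀ i, ∃ c : κ → Γ(X, V.1), ∑ j, c j • v j = e i) {y : X} (hy : y ∈ V.1) (hJ : y ∈ J.support) :
    ∃ (W : X.affineOpens) (h : W.1 ≤ V.1), y ∈ W.1 ∧ ∃ S : ι → κ, Function.Injective S ∧
      Frame P J W.1 (fun i => resM P h (v (S i))) := by
  classical
  choose C hC using hv
  choose M hM using fun j => he.surj V le_rfl (v j)
  simp only [PicLib.resM_self] at hM
  have hCM : ∀ i i', X.evaluation V.1 y hy (∑ j, C i j * M j i') = if i = i' then 1 else 0 := fun i i' => by
    have h0 : ∑ k, ((∑ j, C i j * M j k) - if i = k then 1 else 0) • e k = 0 := by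
      simp only [sub_smul, Finset.sum_sub_distrib, ← comb_comb, hM, hC, ite_smul, one_smul, zero_smul,
        Finset.sum_ite_eq, Finset.mem_univ, if_true, sub_self]
    have h1 := (he.ker V le_rfl _).1 (by simp only [PicLib.resM_self]; exact h0) i'
    have h2 := evaluation_eq_zero_of_mem J V hy hJ h1
    rw [map_sub, sub_eq_zero] at h2
    rw [h2]
    split_ifs <;> simp
  let χ : Γ(X, V.1) →+* X.residueField y := (X.evaluation V.1 y hy).hom
  let M' : Matrix κ ι Γ(X, V.1) := Matrix.of M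
  let C' : Matrix ι κ Γ(X, V.1) := Matrix.of C
  obtain ⟨S, hSi, hS⟩ := exists_det_ne_zero (M'.map χ) (C'.map χ) (by
    rw [← Matrix.map_mul]
    ext i i'
    show χ (∑ j, C i j * M j i') = _
    rw [Matrix.one_apply]
    exact hCM i i')
  let d : Γ(X, V.1) := (M'.submatrix S id).det
  have hd : y ∈ X.basicOpen d := (Scheme.evaluation_ne_zero_iff_mem_basicOpen (X := X) y hy d).1 (by
    show χ d ≠ 0
    rw [RingHom.map_det]
    exact hS)
  let W : X.affineOpens := ⟨X.basicOpen d, V.2.basicOpen d⟩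
  have hW : W.1 ≤ V.1 := X.basicOpen_le d
  let N : Matrix ι ι Γ(X, W.1) := (M'.submatrix S id).map (X.presheaf.map (homOfLE hW).op).hom
  have hN : IsUnit N.det := by
    have h := isUnit_res_basicOpen' d
    rw [show N = (X.presheaf.map (homOfLE hW).op).hom.mapMatrix (M'.submatrix S id) from rfl, ← RingHom.map_det]
    exact h
  refine ⟨W, hW, hd, S, hSi, (he.restrict hW).of_matrix N N⁻¹ (Matrix.nonsing_inv_mul _ hN)
    (Matrix.mul_nonsing_inv _ hN) fun i => ?_⟩
  conv_lhs => rw [← hM (S i)]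
  rw [map_sum]
  exact Finset.sum_congr rfl fun k _ => resM_smul P hW _ _

/-- A family reducing to a frame is a frame near the zero set. -/
theorem Frame.exists_lift (he : Frame P J V.1 e) (φ : P ⟶ P') (he' : Frame P' J' V.1 (fun i => φ.app V.1 (e i)))
    {κ : Type u} [Fintype κ] (v : κ → Γ(P, V.1)) (hv : Frame P' J' V.1 (fun j => φ.app V.1 (v j)))
    {y : X} (hy : y ∈ V.1) (hJ : y ∈ J'.support) :
    ∃ (W : X.affineOpens) (h : W.1 ≤ V.1), y ∈ W.1 ∧ Frame P J W.1 (fun j => resM P h (v j)) := by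
  classical
  choose M hM using fun j => he.surj V le_rfl (v j)
  choose C hC using fun i => hv.surj V le_rfl (φ.app V.1 (e i))
  simp only [PicLib.resM_self] at hM hC
  let χ : Γ(X, V.1) →+* X.residueField y := (X.evaluation V.1 y hy).hom
  let M' : Matrix κ ι Γ(X, V.1) := Matrix.of M
  let C' : Matrix ι κ Γ(X, V.1) := Matrix.of C
  have hM' : ∀ j, ∑ i, M j i • φ.app V.1 (e i) = φ.app V.1 (v j) := fun j => by
    rw [← hM j, map_sum]
    exact Finset.sum_congr rfl fun i _ => (Scheme.Modules.Hom.app_smul _ _ _).symm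
  have h1 : (C' * M').map χ = 1 := by
    ext i i'
    show χ (∑ j, C i j * M j i') = _
    have h0 : ∑ k, ((∑ j, C i j * M j k) - if i = k then 1 else 0) • φ.app V.1 (e k) = 0 := by
      simp only [sub_smul, Finset.sum_sub_distrib, ← comb_comb, hM', hC, ite_smul, one_smul, zero_smul,
        Finset.sum_ite_eq, Finset.mem_univ, if_true, sub_self]
    have h2 := evaluation_eq_zero_of_mem J' V hy hJ ((he'.ker V le_rfl _).1 (by simp only [PicLib.resM_self]; exact h0) i')
    rw [map_sub, sub_eq_zero] at h2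
    rw [Matrix.one_apply]
    refine h2.trans ?_
    split_ifs <;> simp
  have h2 : (M' * C').map χ = 1 := by
    ext j j'
    show χ (∑ i, M j i * C i j') = _
    have h0 : ∑ k, ((∑ i, M j i * C i k) - if j = k then 1 else 0) • φ.app V.1 (v k) = 0 := by
      simp only [sub_smul, Finset.sum_sub_distrib, ← comb_comb, hC, hM', ite_smul, one_smul, zero_smul,
        Finset.sum_ite_eq, Finset.mem_univ, if_true, sub_self]
    have h2 := evaluation_eq_zero_of_mem J' V hy hJ ((hv.ker V le_rfl _).1 (by simp only [PicLib.resM_self]; exact h0) j')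
    rw [map_sub, sub_eq_zero] at h2
    rw [Matrix.one_apply]
    refine h2.trans ?_
    split_ifs <;> simp
  let d : Γ(X, V.1) := (C' * M').det * (M' * C').det
  have hd : y ∈ X.basicOpen d := (Scheme.evaluation_ne_zero_iff_mem_basicOpen (X := X) y hy d).1 (by
    show χ d ≠ 0
    rw [map_mul, RingHom.map_det, RingHom.map_det, RingHom.mapMatrix_apply, RingHom.mapMatrix_apply, h1, h2,
      Matrix.det_one, Matrix.det_one, one_mul]
    exact one_ne_zero)
  let W : X.affineOpens := ⟨X.basicOpen d, V.2.basicOpen d⟩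
  have hW : W.1 ≤ V.1 := X.basicOpen_le d
  let ρ : Γ(X, V.1) →+* Γ(X, W.1) := (X.presheaf.map (homOfLE hW).op).hom
  have hu : IsUnit (ρ d) := isUnit_res_basicOpen' d
  rw [map_mul, IsUnit.mul_iff, RingHom.map_det, RingHom.map_det, RingHom.mapMatrix_apply, RingHom.mapMatrix_apply,
    Matrix.map_mul, Matrix.map_mul] at hu
  let N : Matrix κ ι Γ(X, W.1) := M'.map ρ
  let D : Matrix ι κ Γ(X, W.1) := C'.map ρ
  have hL : (D * N)⁻¹ * D * N = 1 := by rw [Matrix.mul_assoc]; exact Matrix.nonsing_inv_mul _ hu.1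
  have hR : N * (D * (N * D)⁻¹) = 1 := by rw [← Matrix.mul_assoc]; exact Matrix.mul_nonsing_inv _ hu.2
  have hLR : (D * N)⁻¹ * D = D * (N * D)⁻¹ := by
    have h := congrArg (fun T : Matrix ι ι Γ(X, W.1) => T * (D * (N * D)⁻¹)) hL
    simp only [Matrix.one_mul] at h
    rw [Matrix.mul_assoc ((D * N)⁻¹ * D), hR, Matrix.mul_one] at h
    exact h
  refine ⟨W, hW, hd, (he.restrict hW).of_matrix N ((D * N)⁻¹ * D) hL (by rw [hLR]; exact hR) fun j => ?_⟩
  conv_lhs => rw [← hM j]
  rw [map_sum]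
  exact Finset.sum_congr rfl fun k _ => resM_smul P hW _ _

omit [Fintype ι] in
theorem one_mem_ideal (J : X.IdealSheafData) (B : X.affineOpens) (h : ∀ y ∈ B.1, y ∉ J.support) :
    (1 : Γ(X, B.1)) ∈ J.ideal B := by
  rw [mem_ideal_iff]
  have hbot : J.subschemeι ⁻¹ᵁ B.1 = ⊥ :=
    le_bot_iff.1 fun w hw => absurd (J.range_subschemeι.subset ⟨w, rfl⟩) (h _ hw)
  haveI : Subsingleton Γ(J.subscheme, J.subschemeι ⁻¹ᵁ B.1) := by
    rw [hbot]
    exact CommRingCat.subsingleton_of_isTerminal J.subscheme.sheaf.isTerminalOfEmpty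
  exact Subsingleton.elim _ _

omit [Fintype ι] in
/-- Away from the zero set the empty family is a frame. -/
theorem frame_off (hP : Killed P J) (B : X.affineOpens) (h : ∀ y ∈ B.1, y ∉ J.support) :
    Frame P J B.1 (fun i : PEmpty.{u + 1} => i.elim) := by
  refine ⟨fun C hC z => ⟨fun i => i.elim, ?_⟩, fun C hC r => ⟨fun _ i => i.elim, fun _ => Finset.sum_of_isEmpty _⟩⟩
  rw [Finset.univ_eq_empty, Finset.sum_empty, ← one_smul Γ(X, C.1) z]
  exact (hP C 1 (one_mem_ideal J C fun y hy => h y (hC hy)) z).symm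

omit [Fintype ι] in
theorem exists_off {y : X} (hy : y ∉ J.support) :
    ∃ B : X.affineOpens, y ∈ B.1 ∧ ∀ w ∈ B.1, w ∉ J.support := by
  obtain ⟨B, hyB, hB⟩ := exists_affine_le (U := (⟨(J.support : Set X)ᶜ, J.support.2.isOpen_compl⟩ : X.Opens)) hy
  exact ⟨B, hyB, fun w hw => hB hw⟩

theorem MapsFrame.exists_frame {φ : P ⟶ P'} (h : MapsFrame φ J J') (hJ : J ≤ J') {V : X.Opens} {e : ι → Γ(P, V)}
    (he : Frame P J V e) {y : X} (hy : y ∈ V) :
    ∃ (C : X.affineOpens) (hC : C.1 ≤ V), y ∈ C.1 ∧ Frame P' J' C.1 (fun i => resM P' hC (φ.app V (e i))) := by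
  obtain ⟨W, hyW, κ, _, f, hf, hf'⟩ := h y
  obtain ⟨C, hyC, hC⟩ := exists_affine_le (U := V ⊓ W.1) (y := y) ⟨hy, hyW⟩
  have h1 := hf'.restrict (hC.trans inf_le_right)
  simp only [← app_resM] at h1
  have h2 := (he.restrict (hC.trans inf_le_left)).map_of_map (hf.restrict (hC.trans inf_le_right)) φ h1 hJ
  simp only [app_resM] at h2
  exact ⟨C, hC.trans inf_le_left, hyC, h2⟩

/-- The kernel frame of a partial frame. -/
theorem frame_kernel {Q : X.Modules} {ψ : Q ⟶ P} {κ : Type u} [Fintype κ] {W : X.Opens} {g : κ → Γ(Q, W)}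
    (hg : Frame Q J W g) {S : ι → κ} (hS : Function.Injective S)
    (hψ : Frame P J W (fun i => ψ.app W (g (S i)))) [Fintype {j // j ∉ Set.range S}]
    (c : {j // j ∉ Set.range S} → ι → Γ(X, W)) (k : {j // j ∉ Set.range S} → Γ(kernel ψ, W))
    (hk : ∀ j, (kernel.ι ψ).app W (k j) = g j - ∑ s, c j s • g (S s)) : Frame (kernel ψ) J W k := by
  classical
  have split : ∀ {M : Type u} [AddCommGroup M] (F : κ → M),
      ∑ j, F j = ∑ j : {j // j ∉ Set.range S}, F j + ∑ s, F (S s) := fun F => by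
    rw [← Fintype.sum_subtype_add_sum_subtype (fun j => j ∉ Set.range S) F]
    refine congrArg₂ (· + ·) (Finset.sum_congr (by ext; simp) fun _ _ => rfl) ?_
    refine (Fintype.sum_equiv ((Equiv.ofInjective S hS).trans (Equiv.subtypeEquivRight fun j => (not_not).symm))
      (fun s => F (S s)) _ fun s => rfl).symm
  have hι : ∀ (B : X.Opens) (h : B ≤ W) (r : {j // j ∉ Set.range S} → Γ(X, B)),
      (kernel.ι ψ).app B (∑ j, r j • resM (kernel ψ) h (k j)) =
        ∑ j, r j • resM Q h (g j) - ∑ s, (∑ j, r j * PicLib.res h (c j s)) • resM Q h (g (S s)) := fun B h r => by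
    rw [app_comb]
    simp only [hk, map_sub, map_sum, resM_smul, smul_sub, Finset.sum_sub_distrib]
    rw [← comb_comb]
  refine ⟨fun B h z => ?_, fun B h r => ?_⟩
  · obtain ⟨R, hR⟩ := hg.surj B h ((kernel.ι ψ).app B.1 z)
    let r : {j // j ∉ Set.range S} → Γ(X, B.1) := fun j => R j
    let r' : ι → Γ(X, B.1) := fun s => R (S s) + ∑ j, r j * PicLib.res h (c j s)
    have h1 : (kernel.ι ψ).app B.1 z = (kernel.ι ψ).app B.1 (∑ j, r j • resM (kernel ψ) h (k j)) +
        ∑ s, r' s • resM Q h (g (S s)) := by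
      rw [hι, ← hR, split (fun j => R j • resM Q h (g j))]
      simp only [r', add_smul, Finset.sum_add_distrib]
      show _ = ∑ j : {j // j ∉ Set.range S}, R j • resM Q h (g j) - _ + _
      abel
    have h2 := congrArg (ψ.app B.1) h1
    rw [map_add, kernel_ι_app_zero, kernel_ι_app_zero, zero_add, app_comb] at h2
    have h3 : ∑ s, r' s • resM Q h (g (S s)) = 0 :=
      Finset.sum_eq_zero fun s _ => hg.killed B h ((hψ.ker B h r').1 h2.symm s) _
    exact ⟨r, app_injective_of_mono (kernel.ι ψ) B.1 (by rw [h1, h3, add_zero])⟩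
  · refine ⟨fun h0 j => ?_, fun hr => ?_⟩
    · have h1 := congrArg ((kernel.ι ψ).app B.1) h0
      rw [hι, map_zero] at h1
      let R : κ → Γ(X, B.1) := fun i => if hi : i ∉ Set.range S then r ⟨i, hi⟩ else
        - ∑ j, r j * PicLib.res h (c j (Classical.choose (not_not.1 hi)))
      have hRj : ∀ j : {j // j ∉ Set.range S}, R j = r j := fun j => dif_pos j.2
      have hRS : ∀ s, R (S s) = - ∑ j, r j * PicLib.res h (c j s) := fun s => by
        have hn : ¬ S s ∉ Set.range S := not_not.2 ⟨s, rfl⟩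
        show (dite _ _ _) = _
        rw [dif_neg hn, hS (Classical.choose_spec (not_not.1 hn))]
      have h2 : ∑ i, R i • resM Q h (g i) = 0 := by
        rw [split (fun i => R i • resM Q h (g i))]
        simp only [hRj, hRS, neg_smul, Finset.sum_neg_distrib, ← sub_eq_add_neg]
        exact h1
      have := (hg.ker B h R).1 h2 j
      rwa [hRj] at this
    · refine Finset.sum_eq_zero fun j _ => app_injective_of_mono (kernel.ι ψ) B.1 ?_
      rw [map_zero, Scheme.Modules.Hom.app_smul]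
      exact hg.killed B h (hr j) _

/-! ### Kernels of presentations of systems -/

variable {I : X.IdealSheafData} [IsLocallyNoetherian X] (S : FSys I) {G : X.Modules}
  (hG : FlatMod.IsFinLocFree G) (φ : ∀ m, G ⟶ S.P m)

/-- The factorisation through the reductions. -/
def psi (m : ℕ) : CohB1.tensorMod G (ClSub.quotMod (I ^ (m + 1))) ⟶ S.P m :=
  (exists_factor G hG (S.killed m) (φ m)).choose

omit [IsLocallyNoetherian X] in
theorem toQ_psi (m : ℕ) : toQ G (I ^ (m + 1)) ≫ psi S hG φ m = φ m :=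
  (exists_factor G hG (S.killed m) (φ m)).choose_spec

theorem psi_app_toQ (m : ℕ) (U : X.Opens) (g : Γ(G, U)) :
    (psi S hG φ m).app U ((toQ G (I ^ (m + 1))).app U g) = (φ m).app U g := by
  conv_rhs => rw [← toQ_psi S hG φ m, Scheme.Modules.Hom.comp_app, ConcreteCategory.comp_apply]

variable (hφ : ∀ m, φ (m + 1) ≫ S.q m = φ m)

include hφ in
theorem psi_q (m : ℕ) : psi S hG φ (m + 1) ≫ S.q m =
    tE G (Lef.quotMap (Lef.pow_succ_le I m)) ≫ psi S hG φ m := by
  haveI := epi_toQ G (I ^ (m + 1 + 1))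
  rw [← cancel_epi (toQ G (I ^ (m + 1 + 1))), ← Category.assoc, toQ_psi, hφ, ← Category.assoc, toQ_quotMap, toQ_psi]

include hφ in
omit [IsLocallyNoetherian X] in
theorem phi_r : ∀ m, φ m ≫ S.r m = φ 0
  | 0 => Category.comp_id _
  | m + 1 => by
    show φ (m + 1) ≫ S.q m ≫ S.r m = φ 0
    rw [← Category.assoc, hφ, phi_r m]

variable (h0 : Epi (φ 0))

include hG hφ h0 in
/-- **Selection**: near the zero set, part of a basis of `G` maps to frames. -/
theorem exists_sel (m : ℕ) {y : X} (hy : y ∈ I.support) :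
    ∃ V : X.affineOpens, y ∈ V.1 ∧ ∃ (κ : Type u) (_ : Fintype κ) (g : κ → Γ(G, V.1)), IsBasisOn G V.1 g ∧
      ∃ (ι : Type u) (_ : Fintype ι) (S' : ι → κ), Function.Injective S' ∧
        Frame (S.P m) (I ^ (m + 1)) V.1 (fun i => (φ m).app V.1 (g (S' i))) := by
  haveI := (CohBC.isCoh_of_isFinLocFree hG).1
  haveI := (S.coh 0).1
  obtain ⟨V₀, hy₀, ι, _, e, he, he0⟩ := S.maps_r m y
  obtain ⟨V, hyV, hV, κ, _, g, hg⟩ := exists_basis_affine hG hy₀
  have he' := he.restrict hV
  have he0' := he0.restrict hV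
  simp only [← app_resM] at he0'
  have hv : ∀ i, ∃ c : κ → Γ(X, V.1), ∑ j, c j • (φ 0).app V.1 (g j) = (S.r m).app V.1 (resM _ hV (e i)) := fun i => by
    obtain ⟨x, hx⟩ := Existence.app_surjective_of_epi (φ 0) V.2 ((S.r m).app V.1 (resM _ hV (e i)))
    obtain ⟨c, hc⟩ := (hg le_rfl).2 x
    refine ⟨c, ?_⟩
    rw [← hx, ← hc]
    refine Eq.trans ?_ (app_comb (φ 0) le_rfl c g).symm
    simp only [PicLib.resM_self]
  have hy1 : y ∈ (I ^ 1).support := by rw [pow_one]; exact hy
  obtain ⟨W, hWV, hyW, S', hS', hW⟩ := he0'.exists_select (fun j => (φ 0).app V.1 (g j)) hv hyV hy1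
  have hr : ∀ j, (S.r m).app W.1 ((φ m).app W.1 (resM G hWV (g j))) = resM _ hWV ((φ 0).app V.1 (g j)) := fun j => by
    rw [← app_resM, ← phi_r S φ hφ m, Scheme.Modules.Hom.comp_app, ConcreteCategory.comp_apply]
  have h1 := he0'.restrict hWV
  simp only [← app_resM] at h1
  obtain ⟨W', hW', hyW', hF⟩ := (he'.restrict hWV).exists_lift (S.r m) h1
    (fun i => (φ m).app W.1 (resM G hWV (g (S' i)))) (by simp only [hr]; exact hW) hyW hy1
  refine ⟨W', hyW', κ, inferInstance, _, isBasisOn_restrict hg (hW'.trans hWV), ι, inferInstance, S', hS', ?_⟩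
  simp only [← app_resM, resM_resM] at hF
  exact hF

include hφ h0 in
theorem surj_psi (m : ℕ) : Surj (psi S hG φ m) := fun y => by
  by_cases hy : y ∈ I.support
  · obtain ⟨V, hyV, κ, _, g, -, ι, _, S', -, hF⟩ := exists_sel S hG φ hφ h0 m hy
    refine ⟨V, hyV, fun B hB z => ?_⟩
    obtain ⟨r, rfl⟩ := hF.surj B hB z
    refine ⟨∑ i, r i • resM _ hB ((toQ G (I ^ (m + 1))).app V.1 (g (S' i))), ?_⟩
    rw [app_comb]
    exact Finset.sum_congr rfl fun i _ => by rw [psi_app_toQ]
  · obtain ⟨B₀, hyB, hoff⟩ := exists_off (J := I ^ (m + 1)) (y := y) (by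
      rw [Scheme.IdealSheafData.support_pow_succ]; exact hy)
    refine ⟨B₀, hyB, fun B hB z => ⟨0, ?_⟩⟩
    rw [map_zero, ← one_smul Γ(X, B.1) z]
    exact (S.killed m B 1 (one_mem_ideal _ B fun w hw => hoff w (hB hw)) z).symm

/-- The transition map of the kernels. -/
def kerQ (m : ℕ) : kernel (psi S hG φ (m + 1)) ⟶ kernel (psi S hG φ m) :=
  kernel.map _ _ (tE G (Lef.quotMap (Lef.pow_succ_le I m))) (S.q m) (psi_q S hG φ hφ m)

theorem kerQ_ι (m : ℕ) : kerQ S hG φ hφ m ≫ kernel.ι (psi S hG φ m) =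
    kernel.ι (psi S hG φ (m + 1)) ≫ tE G (Lef.quotMap (Lef.pow_succ_le I m)) :=
  kernel.lift_ι _ _ _

omit [Fintype ι] [IsLocallyNoetherian X] in
theorem Killed.kernel {M : X.Modules} (hM : Killed M J) {N : X.Modules} (f : M ⟶ N) :
    Killed (CategoryTheory.Limits.kernel f) J := fun B r hr z =>
  app_injective_of_mono (kernel.ι f) B.1 (by
    rw [map_zero, Scheme.Modules.Hom.app_smul]
    exact hM B r hr _)

include h0 in
theorem mapsFrame_kerQ (m : ℕ) : MapsFrame (kerQ S hG φ hφ m) (I ^ (m + 1 + 1)) (I ^ (m + 1)) := fun y => by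
  classical
  have hQ := fun n => (locFrame_toQ G hG (I ^ (n + 1))).killed
  by_cases hy : y ∈ I.support
  · obtain ⟨V₀, hy₀, κ, _, g₀, hg₀, ι, _, S', hS', hF₀⟩ := exists_sel S hG φ hφ h0 (m + 1) hy
    obtain ⟨V, hV, hyV, hFm⟩ := (S.maps m).exists_frame (thick_le I (by omega)) hF₀ hy₀
    let g : κ → Γ(G, V.1) := fun j => resM G hV (g₀ j)
    have hg : IsBasisOn G V.1 g := isBasisOn_restrict hg₀ hV
    have hF := hF₀.restrict hV
    simp only [← app_resM] at hF hFm
    have hFm' : Frame (S.P m) (I ^ (m + 1)) V.1 (fun i => (φ m).app V.1 (g (S' i))) := by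
      rw [← hφ m]
      exact hFm
    let t := (toQ G (I ^ (m + 1 + 1)))
    have hFψ : Frame (S.P (m + 1)) (I ^ (m + 1 + 1)) V.1
        (fun i => (psi S hG φ (m + 1)).app V.1 (t.app V.1 (g (S' i)))) := by
      simp only [t, psi_app_toQ]
      exact hF
    have hFψm : Frame (S.P m) (I ^ (m + 1)) V.1
        (fun i => (psi S hG φ m).app V.1 ((toQ G (I ^ (m + 1))).app V.1 (g (S' i)))) := by
      simp only [psi_app_toQ]
      exact hFm'
    choose c hc using fun j : {j // j ∉ Set.range S'} => hF.surj V le_rfl ((φ (m + 1)).app V.1 (g j))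
    have hker : ∀ j : {j // j ∉ Set.range S'}, ∃ k, (kernel.ι (psi S hG φ (m + 1))).app V.1 k =
        t.app V.1 (g j) - ∑ s, c j s • t.app V.1 (g (S' s)) := fun j => by
      refine kernel_sections_exact _ _ ?_
      rw [map_sub, map_sum, sub_eq_zero]
      simp only [Scheme.Modules.Hom.app_smul, t, psi_app_toQ]
      have := hc j
      simp only [PicLib.resM_self] at this
      exact this.symm
    choose k hk using hker
    refine ⟨V, hyV, _, inferInstance, k, frame_kernel (frame_toQ G _ hg) hS' hFψ c k hk,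
      frame_kernel (frame_toQ G _ hg) hS' hFψm c _ fun j => ?_⟩
    rw [← ConcreteCategory.comp_apply, ← Scheme.Modules.Hom.comp_app, kerQ_ι, Scheme.Modules.Hom.comp_app,
      ConcreteCategory.comp_apply, hk, map_sub, map_sum]
    simp only [Scheme.Modules.Hom.app_smul, t, ← ConcreteCategory.comp_apply, ← Scheme.Modules.Hom.comp_app,
      toQ_quotMap]
  · obtain ⟨B, hyB, hoff⟩ := exists_off (J := I) hy
    have hs : ∀ n, ∀ w ∈ B.1, w ∉ (I ^ (n + 1)).support := fun n w hw => by
      rw [Scheme.IdealSheafData.support_pow_succ]; exact hoff w hw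
    refine ⟨B, hyB, _, inferInstance, _, frame_off ((hQ (m + 1)).kernel _) B (hs (m + 1)), ?_⟩
    convert frame_off ((hQ m).kernel (psi S hG φ m)) B (hs m) using 1
    exact funext fun i => i.elim

/-- The system of kernels of a presentation. -/
def kerSys (h0 : Epi (φ 0)) : FSys I where
  P m := kernel (psi S hG φ m)
  coh m := isCoh_kernel _ ((FSys.ofModule (I := I) G hG).coh m) (S.coh m).1
  q m := kerQ S hG φ hφ m
  maps m := mapsFrame_kerQ S hG φ hφ h0 m

end Groth.Agent.Lef23
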