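import Groth.Agent.Lef23.FibPd
import Groth.Agent.AbCubeLib.ProjEmbedding
import Groth.Agent.EulerLib.InvClass
import Groth.Agent.Coherent.ProjFormula
import Groth.Agent.PnEmb.Ample
import Groth.Agent.H0Growth23.Ztwist

/-!
# Large negative twists of a module with fibres of large depth
-/

set_option autoImplicit false
set_option linter.style.haveILetI false
set_option backward.isDefEq.respectTransparency.types false

universe u

open CategoryTheory CategoryTheory.Limits AlgebraicGeometry Opposite TopologicalSpace IsLocalRing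
open Groth.Agent.Coherent Groth.Agent.PicLib Groth.Agent.AmpleLib Groth.Agent.SerreDual Groth.Agent.EulerLib

namespace Groth.Agent.Lef23

variable {X : Scheme.{u}}

/-- A tensor inverse of an invertible module is invertible. -/
theorem isInvertible_inverse {L M : X.Modules} (hL : PicF.IsInvertible L) (h : ClSub.IsInverseOf L M) :
    PicF.IsInvertible M :=
  H0Growth23.isInvertible_of_isInverseOf hL h

/-- Twists by invertible modules do not change stalks. -/
theorem nonempty_twist_stalk {L : X.Modules} (hL : PicF.IsInvertible L) (F : X.Modules) (x : X) :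
    Nonempty (F.presheaf.stalk x ≃ₗ[X.presheaf.stalk x] (CohB1.tensorMod F L).presheaf.stalk x) := by
  obtain ⟨W, hx, g, hg⟩ := PicLib.exists_isGen hL x
  exact ⟨(EulerLib.twistStalkIso hx hg F).toLinearEquiv⟩

theorem isFlatOver_twist {S : Scheme.{u}} (f : X ⟶ S) {L : X.Modules} (hL : PicF.IsInvertible L) {F : X.Modules}
    (hF : FlatMod.IsFlatOver f F) : FlatMod.IsFlatOver f (CohB1.tensorMod F L) := fun x => by
  obtain ⟨e⟩ := nonempty_twist_stalk hL F x
  letI := FlatMod.moduleStalkOver f F x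
  letI := FlatMod.moduleStalkOver f (CohB1.tensorMod F L) x
  haveI : Module.Flat (S.presheaf.stalk (f.base x)) (F.presheaf.stalk x) := hF x
  exact Module.Flat.of_linearEquiv
    ({ e.symm.toAddEquiv with map_smul' := fun b m => e.symm.map_smul ((f.stalkMap x).hom b) m } :
      (CohB1.tensorMod F L).presheaf.stalk x ≃ₗ[S.presheaf.stalk (f.base x)] F.presheaf.stalk x)

/-- Depth of the fibre at a closed point. -/
theorem le_depth_quotient {S : Scheme.{u}} (f : X ⟶ S) (F : X.Modules) (b : ℕ)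
    (hdepth : ∀ x : X, IsClosed ({f.asFiber x} : Set ↥(f.fiber (f.base x))) →
      (b : ℕ∞) ≤ LocCoh.depth (CInt.fiberStalk f x)
        ((CohIII.fiberMod f F (f.base x)).presheaf.stalk (f.asFiber x)))
    (x : X) (hx : IsClosed ({x} : Set X)) :
    (b : ℕ∞) ≤ LocCoh.depth (X.presheaf.stalk x) (F.presheaf.stalk x ⧸
      (fibIdeal f x • (⊤ : Submodule (X.presheaf.stalk x) (F.presheaf.stalk x)))) := by
  have h : (f.fiberι (f.base x)).base (f.asFiber x) = x := f.fiberι_asFiber x
  rw [← depth_fibre_stalk f F (f.base x) (f.asFiber x) x h]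
  refine hdepth x ?_
  have h1 := hx.preimage (f.fiberι (f.base x)).continuous
  have h2 : (f.fiberι (f.base x)).base ⁻¹' {x} = {f.asFiber x} := by
    ext z
    refine ⟨fun hz => ?_, fun hz => ?_⟩
    · exact (f.fiberι (f.base x)).isEmbedding.injective ((show (f.fiberι (f.base x)).base z = x from hz).trans h.symm)
    · rw [Set.mem_singleton_iff] at hz
      subst hz
      exact h
  rwa [h2] at h1

theorem depth_quotient_twist {S : Scheme.{u}} (f : X ⟶ S) {L : X.Modules} (hL : PicF.IsInvertible L)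
    (F : X.Modules) (x : X) :
    LocCoh.depth (X.presheaf.stalk x) ((CohB1.tensorMod F L).presheaf.stalk x ⧸
        (fibIdeal f x • (⊤ : Submodule (X.presheaf.stalk x) ((CohB1.tensorMod F L).presheaf.stalk x)))) =
      LocCoh.depth (X.presheaf.stalk x) (F.presheaf.stalk x ⧸
        (fibIdeal f x • (⊤ : Submodule (X.presheaf.stalk x) (F.presheaf.stalk x)))) := by
  obtain ⟨e⟩ := nonempty_twist_stalk hL F x
  exact (CAlgH3.depth_congr (Submodule.Quotient.equiv _ _ e (by
    rw [Submodule.map_smul'', Submodule.map_top, LinearEquiv.range]))).symm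

variable {A : Type u} [CommRing A] [IsNoetherianRing A] {N : ℕ}

/-- Vanishing on a scheme embedded in projective space. -/
theorem exists_vanishing_embedded (ι : X ⟶ CohB1.ProjSpace N A) [IsClosedImmersion ι] (G : X.Modules)
    (hG : Coh.IsCoh G) (hflat : FlatMod.IsFlatOver (ι ≫ CohB1.ProjSpace.toSpec N A) G) (b : ℕ)
    (hdepth : ∀ x : X, IsClosed ({x} : Set X) →
      (b : ℕ∞) ≤ LocCoh.depth (X.presheaf.stalk x) (G.presheaf.stalk x ⧸
        (fibIdeal (ι ≫ CohB1.ProjSpace.toSpec N A) x • (⊤ : Submodule (X.presheaf.stalk x) (G.presheaf.stalk x))))) :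
    ∃ q₀ : ℕ, ∀ q : ℕ, q₀ ≤ q → ∀ j : ℕ, j < b → Subsingleton (Coh.HH X
      (CohB1.tensorMod G ((Scheme.Modules.pullback ι).obj (Twist.twistProjSpace N A (-(q : ℤ))))) j) := by
  have hc : Coh.IsCoh ((Coh.push ι).obj G) := isCoh_push_finite ι hG
  obtain ⟨q₀, hq⟩ : NegVan ((Scheme.Modules.pushforward ι).obj G) b := by
    rcases lt_or_ge N b with hb | hb
    · exact negVan_of_pd_zero _ hc (fun y hy => (pd_stalk_push ι G hG hflat b hdepth y hy).1 hb) b
    · exact negVan_of_pd (N - b) b _ hc (by omega) fun y hy => (pd_stalk_push ι G hG hflat b hdepth y hy).2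
  refine ⟨q₀, fun q hq' j hj => ?_⟩
  let E := Twist.twistProjSpace N A (-(q : ℤ))
  have hE : FlatMod.IsFinLocFree E := isFinLocFree_of_invertible (isInvertible_O (-(q : ℤ)))
  haveI := isIso_projHom (f := ι) hE G
  haveI : Coh.IsQCoh G := hG.1
  haveI : Coh.IsQCoh ((Scheme.Modules.pullback ι).obj E) :=
    (CohBC.isCoh_of_isFinLocFree (isFinLocFree_of_invertible (PicLoc.isInvertible_pullback ι (isInvertible_O _)))).1
  haveI : Coh.IsQCoh (CohB1.tensorMod (pullE ι E) G) := Coherent.isQCoh_tensorMod _ G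
  have h1 : Subsingleton (Coh.HH (CohB1.ProjSpace N A)
      ((Scheme.Modules.pushforward ι).obj (CohB1.tensorMod (pullE ι E) G)) j) :=
    subsingleton_HH_iso (tensorComm _ _ ≪≫ asIso (projHom ι E G)) j (hq q hq' j hj)
  haveI : Subsingleton (Coh.HH (CohB1.ProjSpace N A) ((Coh.push ι).obj (CohB1.tensorMod (pullE ι E) G)) j) := h1
  exact subsingleton_HH_iso (tensorComm _ _) j (HHAffinePushEquiv ι (CohB1.tensorMod (pullE ι E) G) j).toEquiv.subsingleton

/-- Pullbacks of twists as classes. -/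
theorem mk_pull_twist (ι : X ⟶ CohB1.ProjSpace N A) {c d : InvCl X}
    (h1 : InvCl.mk _ (PicLoc.isInvertible_pullback ι (isInvertible_O (n := N) (R := A) 1)) = c) (hcd : c * d = 1)
    (q : ℕ) :
    InvCl.mk _ (PicLoc.isInvertible_pullback ι (isInvertible_O (n := N) (R := A) (-(q : ℤ)))) = d ^ q := by
  have hO := fun a => isInvertible_O (n := N) (R := A) a
  obtain ⟨t⟩ := TwistLib.nonempty_twist_pow_iso (𝒜 := CohB1.polyGrading N A) hcov q
  let t' : Twist.twistProjSpace N A (q : ℤ) ≅ CohB1.tensorPow (Twist.twistProjSpace N A 1) q := t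
  obtain ⟨f, -⟩ := exists_pullPowIso ι (hO 1) q
  have hq : InvCl.mk _ (PicLoc.isInvertible_pullback ι (hO (q : ℤ))) = c ^ q := by
    rw [← h1, ← InvCl.mk_tensorPow]
    exact InvCl.mk_eq _ _ ((Scheme.Modules.pullback ι).mapIso t' ≪≫ f)
  obtain ⟨e⟩ := nonempty_O_inv (n := N) (R := A) (q : ℤ)
  obtain ⟨e₁⟩ := exists_pullTensorIso ι (hO (q : ℤ)) (hO (-(q : ℤ)))
  obtain ⟨e₂⟩ := exists_pullStructureIso ι
  have h : c ^ q * InvCl.mk _ (PicLoc.isInvertible_pullback ι (hO (-(q : ℤ)))) = 1 := by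
    rw [← hq, InvCl.mk_mul]
    exact InvCl.mk_eq _ isInvertible_structureModule (e₁.symm ≪≫ (Scheme.Modules.pullback ι).mapIso e ≪≫ e₂)
  refine (left_inv_eq_right_inv ?_ h).symm
  rw [← mul_pow, mul_comm d c, hcd, one_pow]

/-- Iterated twists combine. -/
theorem nonempty_twist_twist (F : X.Modules) {P Q R' : X.Modules} (hP : PicF.IsInvertible P)
    (hQ : PicF.IsInvertible Q) (hR : PicF.IsInvertible R')
    (h : InvCl.mk P hP * InvCl.mk Q hQ = InvCl.mk R' hR) :
    Nonempty (CohB1.tensorMod (CohB1.tensorMod F P) Q ≅ CohB1.tensorMod F R') := by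
  obtain ⟨a⟩ := exists_assocIso' F hP hQ
  rw [InvCl.mk_mul] at h
  obtain ⟨e⟩ := Quotient.exact h
  exact ⟨a ≪≫ AmpleLib.tensorIso (Iso.refl F) e⟩

omit [IsNoetherianRing A] in
/-- A power of an ample module is the pullback of `O(1)` along a closed immersion. -/
theorem exists_embedding (q : X ⟶ Spec (CommRingCat.of A)) [IsProper q] {L : X.Modules} (hL : CohB1.IsAmple L) :
    ∃ (N e : ℕ) (ι : X ⟶ CohB1.ProjSpace N A), 0 < e ∧ IsClosedImmersion ι ∧
      ι ≫ CohB1.ProjSpace.toSpec N A = q ∧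
      InvCl.mk _ (PicLoc.isInvertible_pullback ι (isInvertible_O (n := N) (R := A) 1)) = InvCl.mk L hL.1 ^ e := by
  obtain ⟨n₀, hn₀⟩ := PnEmb.eventually_isRelVeryAmplePn q hL (isInvertible_structureModule (X := X))
  have hN := isInvertible_tensorMod (isInvertible_tensorPow hL.1 (n₀ + 1)) (isInvertible_structureModule (X := X))
  obtain ⟨r, ι, hι, hιq, ⟨e⟩⟩ := AbCubeLib.exists_isClosedImmersion_projSpace q hN (hn₀ (n₀ + 1) (Nat.le_succ _))
  refine ⟨r, n₀ + 1, ι, Nat.succ_pos _, hι, hιq, ?_⟩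
  rw [← InvCl.mk_tensorPow hL.1]
  exact InvCl.mk_eq _ _ (e ≪≫ AmpleLib.tensorComm _ _ ≪≫ unitTensorIso _)

/-- **Large negative twists**: a module flat over `A` whose fibres have depth at least `b` at their closed
points has no cohomology below degree `b` after twisting by a large power of an anti-ample module. -/
theorem exists_vanishing [X.Over (Spec (CommRingCat.of A))] [IsProper (X ↘ Spec (CommRingCat.of A))]
    {L M : X.Modules} (hLM : ClSub.IsInverseOf L M) (hamp : CohB1.IsAmple L) (F : X.Modules) (hF : Coh.IsCoh F)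
    (hflat : FlatMod.IsFlatOver (X ↘ Spec (CommRingCat.of A)) F) (b : ℕ)
    (hdepth : ∀ x : X, IsClosed ({((X ↘ Spec (CommRingCat.of A))).asFiber x} :
        Set ↥(((X ↘ Spec (CommRingCat.of A))).fiber (((X ↘ Spec (CommRingCat.of A))).base x))) →
      (b : ℕ∞) ≤ LocCoh.depth (CInt.fiberStalk (X ↘ Spec (CommRingCat.of A)) x)
        ((CohIII.fiberMod (X ↘ Spec (CommRingCat.of A)) F (((X ↘ Spec (CommRingCat.of A))).base x)).presheaf.stalk
          (((X ↘ Spec (CommRingCat.of A))).asFiber x))) :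
    ∃ m₀ : ℕ, ∀ m : ℕ, m₀ ≤ m → ∀ j : ℕ, j < b →
      Subsingleton (Coh.HH X (CohB1.tensorMod F (CohB1.tensorPow M m)) j) := by
  haveI : IsLocallyNoetherian X := LocallyOfFiniteType.isLocallyNoetherian (X ↘ Spec (CommRingCat.of A))
  have hM := isInvertible_inverse hamp.1 hLM
  have hMr := fun r => isInvertible_tensorPow hM r
  obtain ⟨u⟩ := hLM
  have hαβ : InvCl.mk L hamp.1 * InvCl.mk M hM = 1 := InvCl.mk_eq _ _ u
  obtain ⟨N, e, ι, he, hι, hιq, h1⟩ := exists_embedding (X ↘ Spec (CommRingCat.of A)) hamp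
  haveI := hι
  have hcd : InvCl.mk L hamp.1 ^ e * InvCl.mk M hM ^ e = 1 := by rw [← mul_pow, hαβ, one_pow]
  have hv : ∀ r : Fin e, ∃ q₀ : ℕ, ∀ q : ℕ, q₀ ≤ q → ∀ j : ℕ, j < b → Subsingleton (Coh.HH X
      (CohB1.tensorMod (CohB1.tensorMod F (CohB1.tensorPow M r))
        ((Scheme.Modules.pullback ι).obj (Twist.twistProjSpace N A (-(q : ℤ))))) j) := fun r => by
    refine exists_vanishing_embedded ι _ (isCoh_twist (hMr r) hF) ?_ b fun x hx => ?_
    · exact hιq ▸ isFlatOver_twist _ (hMr r) hflat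
    · rw [hιq, depth_quotient_twist _ (hMr r)]
      exact le_depth_quotient _ F b hdepth x hx
  choose q₀ hq using hv
  refine ⟨e * (Finset.univ.sup q₀ + 1), fun m hm j hj => ?_⟩
  have hle : q₀ ⟨m % e, Nat.mod_lt _ he⟩ ≤ m / e := le_trans (Finset.le_sup (Finset.mem_univ _))
    ((Nat.le_div_iff_mul_le he).2 (by rw [mul_comm]; exact le_trans (Nat.mul_le_mul_left _ (Nat.le_succ _)) hm))
  obtain ⟨c⟩ := nonempty_twist_twist F (hMr (m % e)) (PicLoc.isInvertible_pullback ι (isInvertible_O (-((m / e : ℕ) : ℤ))))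
    (hMr m) (by
      rw [mk_pull_twist ι h1 hcd (m / e), InvCl.mk_tensorPow hM, InvCl.mk_tensorPow hM, ← pow_mul, ← pow_add,
        Nat.mod_add_div])
  exact subsingleton_HH_iso c j (hq ⟨m % e, Nat.mod_lt _ he⟩ (m / e) hle j hj)

end Groth.Agent.Lef23
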