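import Groth.Agent.Lef23.FrameKernel
import Groth.Agent.Lef23.Neg
import Groth.Agent.FlatMor12.FreeLocusBC
import Groth.Agent.Coherent.ProjFormula
import Groth.Agent.Coherent.CohBC.HomSheaf
import Groth.Agent.Coherent.Serre.Vanishing
import Groth.Agent.CAlgH3.Depth
import Groth.Agent.AmpleLib.Ample
import Groth.Agent.AmpleLib.Relative
import Groth.Agent.FlatMorAdm.LocFreeApps

/-!
# Lifting sections of large twists over an affine base
-/

set_option autoImplicit false
set_option linter.style.haveILetI false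
set_option backward.isDefEq.respectTransparency.types false

universe u

open CategoryTheory CategoryTheory.Limits AlgebraicGeometry Opposite TopologicalSpace
open Groth.Agent.Coherent Groth.Agent.PicLib Groth.Agent.AmpleLib Groth.Agent.EulerLib Groth.Agent.SerreDual

noncomputable section

namespace Groth.Agent.Lef23

/-- A chain of surjections out of a Noetherian module is eventually bijective. -/
theorem eventually_injective {A : Type u} [CommRing A] [IsNoetherianRing A] (H : ℕ → Type u)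
    [∀ n, AddCommGroup (H n)] [∀ n, Module A (H n)] [Module.Finite A (H 0)]
    (f : ∀ n, H n →ₗ[A] H (n + 1)) (hf : ∀ n, Function.Surjective (f n)) :
    ∃ N, ∀ n, N ≤ n → Function.Injective (f n) := by
  haveI : IsNoetherian A (H 0) := isNoetherian_of_isNoetherianRing_of_finite A (H 0)
  let g : ∀ n, H 0 →ₗ[A] H n := fun n =>
    Nat.rec (motive := fun n => H 0 →ₗ[A] H n) LinearMap.id (fun n g => (f n).comp g) n
  have hg : ∀ n, Function.Surjective (g n) := fun n => by
    induction n with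
    | zero => exact Function.surjective_id
    | succ n ih => exact (hf n).comp ih
  let K : ℕ →o Submodule A (H 0) := ⟨fun n => LinearMap.ker (g n), monotone_nat_of_le_succ fun n x hx => by
    rw [LinearMap.mem_ker] at hx ⊢
    show f n (g n x) = 0
    rw [hx, map_zero]⟩
  obtain ⟨N, hN⟩ := monotone_stabilizes_iff_noetherian.2 inferInstance K
  refine ⟨N, fun n hn => (injective_iff_map_eq_zero (f n)).2 fun x hx => ?_⟩
  obtain ⟨y, rfl⟩ := hg n x
  have h1 : y ∈ K (n + 1) := LinearMap.mem_ker.2 hx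
  rw [← hN (n + 1) (hn.trans n.le_succ), hN n hn] at h1
  exact LinearMap.mem_ker.1 h1

variable {A : Type u} [CommRing A] [IsNoetherianRing A] {X : Scheme.{u}} [X.Over (Spec (CommRingCat.of A))]
  [IsProper (X ↘ Spec (CommRingCat.of A))] [IsLocallyNoetherian X]

variable (A) in
include A in
/-- **Lifting of sections over a Noetherian base.** -/
theorem exists_lift_sections' {𝓘 : X.IdealSheafData} (hI : BlowUp.IsEffCartierIdeal 𝓘) {L : X.Modules}
    (hL : ClSub.IsInverseOf L (ClSub.idealMod 𝓘)) (hamp : CohB1.IsAmple L) (S : FSys 𝓘) (j₀ i₀ : ℕ)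
    (hA : ∀ n, j₀ ≤ n → Subsingleton (Coh.HH X (CohB1.tensorMod (CohB1.tensorPow L n) (S.P 0)) 1))
    (hB : ∀ i, i₀ ≤ i →
      Subsingleton (Coh.HH X (CohB1.tensorMod (CohB1.tensorPow (ClSub.idealMod 𝓘) i) (S.P 0)) 1)) :
    ∃ J : ℕ, ∀ j, J ≤ j → ∀ t : Γ(CohB1.tensorMod (CohB1.tensorPow L j) (S.P 0), ⊤),
      ∃ y : ∀ m, Γ(CohB1.tensorMod (CohB1.tensorPow L j) (S.P m), ⊤),
        y 0 = t ∧ ∀ m, (tE (CohB1.tensorPow L j) (S.q m)).app ⊤ (y (m + 1)) = y m := by
  let T : ℕ → X.Modules → X.Modules := fun j P => CohB1.tensorMod (CohB1.tensorPow L j) P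
  let φ := baseHom A X
  have hTl : ∀ j, FlatMod.IsFinLocFree (CohB1.tensorPow L j) := fun j =>
    Coherent.isFinLocFree_of_invertible (isInvertible_tensorPow hamp.1 j)
  haveI : ∀ m, Epi (S.r m) := fun m => (S.maps_r m).surj.epi
  haveI : ∀ m, Epi (S.q m) := fun m => (S.maps m).surj.epi
  have hSA := fun j m => shortExact_tE (hTl j) (shortExact_kernel (S.r m))
  have hSB := fun j m => shortExact_tE (hTl j) (shortExact_kernel (S.q m))
  have eA : ∀ j m, Nonempty (T (j + 1) (kernel (S.r (m + 1))) ≅ T j (S.P m)) := fun j m => by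
    obtain ⟨e⟩ := exists_kernel_iso_frame_pow 𝓘 hI 1 (m + 1) (m + 1 + 1) (by omega) (S.maps_r (m + 1)) (S.maps m)
    obtain ⟨e'⟩ := nonempty_twist_ideal hI hL hamp (S.P m) (a := j + 1) (b := 1) (c := j) (d := 0) (by omega)
    let a₁ : T (j + 1) (kernel (S.r (m + 1))) ≅ T (j + 1) (CohB1.tensorMod (ClSub.idealMod (𝓘 ^ 1)) (S.P m)) :=
      AmpleLib.tensorIso (Iso.refl (CohB1.tensorPow L (j + 1))) e
    let a₃ : CohB1.tensorMod (CohB1.tensorPow L j) (CohB1.tensorPow (ClSub.idealMod 𝓘) 0) ≅ CohB1.tensorPow L j :=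
      AmpleLib.tensorComm (CohB1.tensorPow L j) (Coh.structureModule X) ≪≫ unitTensorIso (CohB1.tensorPow L j)
    exact ⟨a₁ ≪≫ e' ≪≫ AmpleLib.tensorIso a₃ (Iso.refl (S.P m))⟩
  have hB' : ∀ j m, j + i₀ ≤ m + 1 → Subsingleton (Coh.HH X (T j (kernel (S.q m))) 1) := fun j m hjm => by
    obtain ⟨e⟩ := exists_kernel_iso_frame_pow 𝓘 hI (m + 1) 1 (m + 1 + 1) rfl (S.maps m) (S.maps_r (m + 1))
    obtain ⟨e'⟩ := nonempty_twist_ideal hI hL hamp (S.P 0) (a := j) (b := m + 1) (c := 0) (d := m + 1 - j) (by omega)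
    let a₁ : T j (kernel (S.q m)) ≅ T j (CohB1.tensorMod (ClSub.idealMod (𝓘 ^ (m + 1))) (S.P 0)) :=
      AmpleLib.tensorIso (Iso.refl (CohB1.tensorPow L j)) e
    let a₃ : CohB1.tensorMod (CohB1.tensorPow L 0) (CohB1.tensorPow (ClSub.idealMod 𝓘) (m + 1 - j)) ≅
        CohB1.tensorPow (ClSub.idealMod 𝓘) (m + 1 - j) :=
      unitTensorIso (CohB1.tensorPow (ClSub.idealMod 𝓘) (m + 1 - j))
    exact subsingleton_HH_iso (a₁ ≪≫ e' ≪≫ AmpleLib.tensorIso a₃ (Iso.refl (S.P 0))).symm 1 (hB (m + 1 - j) (by omega))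
  -- the chain
  let H : ℕ → Type u := fun t => HA φ (T (j₀ + t) (S.P (i₀ + (j₀ + t)))) (⊤ : X.Opens) 1
  let f : ∀ t, H t →ₗ[A] H (t + 1) := fun t =>
    (postA φ (tE (CohB1.tensorPow L (j₀ + t + 1)) (kernel.ι (S.r (i₀ + (j₀ + t) + 1)))) ⊤ 1).comp
      (isoA φ (eA (j₀ + t) (i₀ + (j₀ + t))).some.symm ⊤ 1).toLinearMap
  have hf : ∀ t, Function.Surjective (f t) := fun t => by
    haveI := hA (j₀ + t + 1) (by omega)
    haveI : Subsingleton (HA φ (T (j₀ + t + 1) (S.P 0)) (⊤ : X.Opens) 1) :=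
      (HHBaseEquiv A (T (j₀ + t + 1) (S.P 0)) 1).symm.toEquiv.subsingleton
    intro y
    obtain ⟨x, hx⟩ := (exact_postA φ (hSA (j₀ + t + 1) (i₀ + (j₀ + t) + 1)) ⊤ 1 y).1 (Subsingleton.elim _ _)
    refine ⟨(isoA φ (eA (j₀ + t) (i₀ + (j₀ + t))).some.symm ⊤ 1).symm x, ?_⟩
    exact (congrArg _ (LinearEquiv.apply_symm_apply _ x)).trans hx
  haveI : Module.Finite A (H 0) :=
    finCoh_of_isProper (X ↘ Spec (CommRingCat.of A)) _ (isCoh_pow_tensor hamp (S.coh _) _) 1
  obtain ⟨N, hN⟩ := eventually_injective H f hf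
  refine ⟨j₀ + N + 1, fun j hj t => ?_⟩
  obtain ⟨s, hs, rfl⟩ : ∃ s, N ≤ s ∧ j = j₀ + s + 1 := ⟨j - j₀ - 1, by omega, by omega⟩
  let M := i₀ + (j₀ + s) + 1
  have hinj : Function.Injective (hm (tE (CohB1.tensorPow L (j₀ + s + 1)) (kernel.ι (S.r M))) 1) := by
    have h1 : Function.Injective (postA φ (tE (CohB1.tensorPow L (j₀ + s + 1)) (kernel.ι (S.r M))) ⊤ 1) := by
      intro a b hab
      let e := isoA φ (eA (j₀ + s) (i₀ + (j₀ + s))).some.symm ⊤ 1
      obtain ⟨a', rfl⟩ := e.surjective a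
      obtain ⟨b', rfl⟩ := e.surjective b
      exact congrArg e (hN s hs hab)
    intro a b hab
    refine (HHTopEquiv _ 1).injective (h1 ?_)
    exact (hm_top _ 1 a).symm.trans ((congrArg (HHTopEquiv _ 1) hab).trans (hm_top _ 1 b))
  obtain ⟨z, hz⟩ := surjective_app_top (hSA (j₀ + s + 1) M) hinj t
  have hsurj : ∀ m, M ≤ m → Function.Surjective ((tE (CohB1.tensorPow L (j₀ + s + 1)) (S.q m)).app ⊤) :=
    fun m hm' => surjective_app_top (hSB _ m) fun a b _ => by
      haveI := hB' (j₀ + s + 1) m (by omega)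
      exact Subsingleton.elim a b
  obtain ⟨y, hy0, hy⟩ := exists_compatible M (fun m => Γ(T (j₀ + s + 1) (S.P m), ⊤))
    (fun m => (tE (CohB1.tensorPow L (j₀ + s + 1)) (S.q m)).app ⊤) hsurj z
  refine ⟨y, ?_, hy⟩
  have hr : ∀ m, (tE (CohB1.tensorPow L (j₀ + s + 1)) (S.r m)).app ⊤ (y m) = y 0 := fun m => by
    induction m with
    | zero =>
      show ((tensE (CohB1.tensorPow L (j₀ + s + 1))).map (𝟙 (S.P 0))).app ⊤ (y 0) = y 0
      rw [CategoryTheory.Functor.map_id]
      rfl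
    | succ m ih =>
      show ((tensE (CohB1.tensorPow L (j₀ + s + 1))).map (S.q m ≫ S.r m)).app ⊤ (y (m + 1)) = y 0
      rw [Functor.map_comp, Scheme.Modules.Hom.comp_app, ConcreteCategory.comp_apply]
      exact (congrArg _ (hy m)).trans ih
  rw [← hr M, hy0]
  exact hz

omit [IsLocallyNoetherian X] in
/-- Large negative twists of locally free modules on a flat closed subscheme with deep fibres. -/
theorem exists_vanishing_bottom {Z : Scheme.{u}} (t : Z ⟶ X) [IsClosedImmersion t]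
    [Flat (t ≫ (X ↘ Spec (CommRingCat.of A)))]
    (hdepth : ∀ z : Z, IsClosed ({(t ≫ (X ↘ Spec (CommRingCat.of A))).asFiber z} :
        Set ↥((t ≫ (X ↘ Spec (CommRingCat.of A))).fiber ((t ≫ (X ↘ Spec (CommRingCat.of A))).base z))) →
      (2 : ℕ∞) ≤ LocCoh.depth ↑(CInt.fiberStalk (t ≫ (X ↘ Spec (CommRingCat.of A))) z)
        ↑(CInt.fiberStalk (t ≫ (X ↘ Spec (CommRingCat.of A))) z))
    {N : Z.Modules} (hN : FlatMod.IsFinLocFree N) {L M : X.Modules} (hLM : ClSub.IsInverseOf L M)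
    (hamp : CohB1.IsAmple L) :
    ∃ i₀ : ℕ, ∀ i, i₀ ≤ i →
      Subsingleton (Coh.HH X (CohB1.tensorMod (CohB1.tensorPow M i) ((Scheme.Modules.pushforward t).obj N)) 1) := by
  letI : Z.Over (Spec (CommRingCat.of A)) := ⟨t ≫ (X ↘ Spec (CommRingCat.of A))⟩
  haveI : IsProper (Z ↘ Spec (CommRingCat.of A)) :=
    inferInstanceAs (IsProper (t ≫ (X ↘ Spec (CommRingCat.of A))))
  haveI : IsLocallyNoetherian X := LocallyOfFiniteType.isLocallyNoetherian (X ↘ Spec (CommRingCat.of A))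
  haveI : IsLocallyNoetherian Z := LocallyOfFiniteType.isLocallyNoetherian t
  have hM := isInvertible_inverse hamp.1 hLM
  obtain ⟨u⟩ := hLM
  obtain ⟨e₁⟩ := exists_pullTensorIso t hamp.1 hM
  obtain ⟨e₂⟩ := exists_pullStructureIso t
  have hLM' : ClSub.IsInverseOf ((Scheme.Modules.pullback t).obj L) ((Scheme.Modules.pullback t).obj M) :=
    ⟨e₁.symm ≪≫ (Scheme.Modules.pullback t).mapIso u ≪≫ e₂⟩
  have hcoh : Coh.IsCoh N := CohBC.isCoh_of_isFinLocFree hN
  haveI := hcoh.1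
  have hflat : FlatMod.IsFlatOver (Z ↘ Spec (CommRingCat.of A)) N :=
    haveI : Flat (Z ↘ Spec (CommRingCat.of A)) := inferInstanceAs (Flat (t ≫ (X ↘ Spec (CommRingCat.of A))))
    CohBC.isFlatOver_of_isFinLocFree _ hN
  obtain ⟨i₀, hi₀⟩ := exists_vanishing hLM' (isAmple_pullback_of_isAffineHom t hamp) N hcoh hflat 2 fun z hz => by
    let g := Z ↘ Spec (CommRingCat.of A)
    haveI : LocallyOfFiniteType g := inferInstanceAs (LocallyOfFiniteType (Z ↘ Spec (CommRingCat.of A)))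
    haveI : LocallyOfFiniteType (g.fiberToSpecResidueField (g.base z)) := MorphismProperty.pullback_snd _ _ inferInstance
    haveI : IsLocallyNoetherian (g.fiber (g.base z)) :=
      LocallyOfFiniteType.isLocallyNoetherian (g.fiberToSpecResidueField (g.base z))
    let w := g.asFiber z
    let R := (g.fiber (g.base z)).presheaf.stalk w
    let F := CohIII.fiberMod g N (g.base z)
    haveI : Module.Free R (F.presheaf.stalk w) :=
      FlatMor12.FreeLocusBC.free_stalk_pullback _ N w (Props12.free_stalk_of_isFinLocFree N hN _)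
    haveI : Coh.IsQCoh F := (CohBC.isCoh_of_isFinLocFree
      (FlatMorAdm.isFinLocFree_pullback (g.fiberι (g.base z)) hN)).1
    haveI : Module.Finite R (F.presheaf.stalk w) := Props12.finite_stalk_of_isFT F
      (CohBC.isCoh_of_isFinLocFree (FlatMorAdm.isFinLocFree_pullback (g.fiberι (g.base z)) hN)).2 w
    rcases subsingleton_or_nontrivial (F.presheaf.stalk w) with hs | hs
    · exact le_top.trans_eq (CAlgH3.depth_eq_top_of_subsingleton (R := R) (M := F.presheaf.stalk w)).symm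
    · rw [CAlgH3.depth_free (R := R) (F.presheaf.stalk w)]
      exact hdepth z hz
  refine ⟨i₀, fun i hi => ?_⟩
  have hMi := isInvertible_tensorPow hM i
  have hE : FlatMod.IsFinLocFree (CohB1.tensorPow M i) := Coherent.isFinLocFree_of_invertible hMi
  haveI := isIso_projHom (f := t) hE N
  obtain ⟨eP, -⟩ := exists_pullPowIso t hM i
  let W := CohB1.tensorMod (pullE t (CohB1.tensorPow M i)) N
  haveI : Coh.IsQCoh (pullE t (CohB1.tensorPow M i)) :=
    (CohBC.isCoh_of_isFinLocFree (Coherent.isFinLocFree_of_invertible (PicLoc.isInvertible_pullback t hMi))).1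
  haveI : Coh.IsQCoh W := Coherent.isQCoh_tensorMod _ N
  have h1 : Subsingleton (Coh.HH Z W 1) :=
    subsingleton_HH_iso (AmpleLib.tensorComm _ _ ≪≫ AmpleLib.tensorIso eP.symm (Iso.refl N)) 1
      (hi₀ i hi 1 one_lt_two)
  haveI := h1
  exact subsingleton_HH_iso (asIso (projHom t (CohB1.tensorPow M i) N)).symm 1
    (HHAffinePushEquiv t W 1).symm.toEquiv.subsingleton

omit [IsLocallyNoetherian X] in
variable (A) in
include A in
/-- Positive twists. -/
theorem exists_vanishing_top {L : X.Modules} (hamp : CohB1.IsAmple L) {P : X.Modules} (hP : Coh.IsCoh P) :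
    ∃ j₀ : ℕ, ∀ n, j₀ ≤ n → Subsingleton (Coh.HH X (CohB1.tensorMod (CohB1.tensorPow L n) P) 1) := by
  obtain ⟨n₀, hn₀⟩ := Coherent.Serre.exists_subsingleton_HH_twist A hamp P hP
  exact ⟨n₀, fun n hn => subsingleton_HH_iso (AmpleLib.tensorComm _ _) 1 (hn₀ n hn 1 one_pos)⟩

end Groth.Agent.Lef23
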