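import Groth.Agent.Lef23.FrameKernel
import Groth.Agent.QCohLoc.Basic
import Groth.Agent.Props12.FinLocFree
import Groth.Agent.Coherent.CohBC.LocalModules
import Groth.Agent.Coherent.CohOps

/-!
# The algebraized module is locally free near the zero set
-/

set_option autoImplicit false
set_option linter.style.haveILetI false
set_option backward.isDefEq.respectTransparency.types false

universe u

open CategoryTheory CategoryTheory.Limits AlgebraicGeometry Opposite TopologicalSpace IsLocalRing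
open Groth.Agent.Coherent Groth.Agent.PicLib Groth.Agent.AmpleLib Groth.Agent.EulerLib Groth.Agent.SerreDual

noncomputable section

namespace Groth.Agent.Lef23

variable {X : Scheme.{u}}

theorem germ_resM (M : X.Modules) {U V : X.Opens} (h : U ≤ V) {y : X} (hy : y ∈ U) (s : Γ(M, V)) :
    M.presheaf.germ U y hy (resM M h s) = M.presheaf.germ V y (h hy) s :=
  M.presheaf.germ_res_apply (homOfLE h) y hy s

theorem germ_res' {U V : X.Opens} (h : U ≤ V) {y : X} (hy : y ∈ U) (r : Γ(X, V)) :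
    X.presheaf.germ U y hy (PicLib.res h r) = X.presheaf.germ V y (h hy) r :=
  X.presheaf.germ_res_apply (homOfLE h) y hy r

theorem germ_comb (M : X.Modules) {U : X.Opens} {y : X} (hy : y ∈ U) {ι : Type u} [Fintype ι]
    (r : ι → Γ(X, U)) (e : ι → Γ(M, U)) :
    M.presheaf.germ U y hy (∑ i, r i • e i) =
      ∑ i, X.presheaf.germ U y hy (r i) • M.presheaf.germ U y hy (e i) := by
  rw [map_sum]
  exact Finset.sum_congr rfl fun i _ => QCohLoc.germ_smul' (M := M) hy (r i) (e i)

theorem map_germ_ideal (J : X.IdealSheafData) {C V : X.affineOpens} (h : C.1 ≤ V.1) {y : X} (hy : y ∈ C.1) :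
    (J.ideal C).map (X.presheaf.germ C.1 y hy).hom = (J.ideal V).map (X.presheaf.germ V.1 y (h hy)).hom := by
  rw [← J.map_ideal (U := C) (V := V) h, Ideal.map_map]
  congr 1
  exact RingHom.ext fun r => germ_res' h hy r

variable {I : X.IdealSheafData} [IsLocallyNoetherian X] (S : FSys I) {G : X.Modules}
  (hG : FlatMod.IsFinLocFree G) (φ : ∀ m, G ⟶ S.P m) (hφ : ∀ m, φ (m + 1) ≫ S.q m = φ m) (h0 : Epi (φ 0))
  {G' : X.Modules} (φ' : ∀ m, G' ⟶ (kerSys S hG φ hφ h0).P m) (h0' : Epi (φ' 0)) (h : G' ⟶ G)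
  (hh : ∀ m, h ≫ toQ G (I ^ (m + 1)) = φ' m ≫ kernel.ι (psi S hG φ m))

include hh in
theorem h_comp_phi (m : ℕ) : h ≫ φ m = 0 := by
  rw [← toQ_psi S hG φ m, ← Category.assoc, hh, Category.assoc]
  exact (congrArg (φ' m ≫ ·) (kernel.condition _)).trans comp_zero

/-- The map from the algebraization to a level. -/
def alpha (m : ℕ) : cokernel h ⟶ S.P m :=
  cokernel.desc h (φ m) (h_comp_phi S hG φ hφ h0 φ' h hh m)

include hφ h0 h0' hh in
theorem free_stalk_cokernel (hG' : Coh.IsCoh G') {y : X} (hy : y ∈ I.support) :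
    Module.Free (X.presheaf.stalk y) ((cokernel h).presheaf.stalk y) := by
  classical
  haveI := hG'.1
  have hGc : Coh.IsCoh G := CohBC.isCoh_of_isFinLocFree hG
  haveI := hGc.1
  have hE : Coh.IsCoh (cokernel h) := isCoh_cokernel h hG'.1 hGc
  haveI := hE.1
  let R := X.presheaf.stalk y
  let M := (cokernel h).presheaf.stalk y
  let π := cokernel.π h
  obtain ⟨V, hyV, κ, _, g, hg, ι, _, S', hS', hF₀⟩ := exists_sel S hG φ hφ h0 0 hy
  let v : ι → M := fun i => (cokernel h).presheaf.germ V.1 y hyV (π.app V.1 (g (S' i)))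
  let 𝔞 : Ideal R := (I.ideal V).map (X.presheaf.germ V.1 y hyV).hom
  have ha : 𝔞 ≤ maximalIdeal R := Ideal.map_le_iff_le_comap.2 fun r hr => by
    rw [Ideal.mem_comap, mem_maximalIdeal, mem_nonunits_iff]
    intro hu
    have h1 := evaluation_eq_zero_of_mem I V hyV hy hr
    exact (Scheme.evaluation_eq_zero_iff_notMem_basicOpen (X := X) y hyV r).1 h1 ((X.mem_basicOpen r y hyV).2 hu)
  have hy1 : ∀ n, y ∈ (I ^ (n + 1)).support := fun n => by rw [Scheme.IdealSheafData.support_pow_succ]; exact hy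
  -- frames at all levels
  have hframe : ∀ m, ∃ (W : X.affineOpens) (hW : W.1 ≤ V.1), y ∈ W.1 ∧
      Frame (S.P m) (I ^ (m + 1)) W.1 (fun i => (φ m).app W.1 (resM G hW (g (S' i)))) := fun m => by
    obtain ⟨V₁, hy₁, ν, _, e, he, he0⟩ := S.maps_r m y
    obtain ⟨W, hyW, hW⟩ := exists_affine_le (U := V.1 ⊓ V₁.1) (y := y) ⟨hyV, hy₁⟩
    have hWV : W.1 ≤ V.1 := hW.trans inf_le_left
    have h1 := he0.restrict (hW.trans inf_le_right)
    simp only [← app_resM] at h1
    have h2 := hF₀.restrict hWV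
    simp only [← app_resM] at h2
    have hr : ∀ i, (S.r m).app W.1 ((φ m).app W.1 (resM G hWV (g (S' i)))) = (φ 0).app W.1 (resM G hWV (g (S' i))) :=
      fun i => by rw [← phi_r S φ hφ m, Scheme.Modules.Hom.comp_app, ConcreteCategory.comp_apply]
    obtain ⟨W', hW', hyW', hF⟩ := (he.restrict (hW.trans inf_le_right)).exists_lift (S.r m) h1
      (fun i => (φ m).app W.1 (resM G hWV (g (S' i)))) (by simp only [hr]; exact h2) hyW
      (show y ∈ (I ^ 1).support from hy1 0)
    refine ⟨W', hW'.trans hWV, hyW', ?_⟩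
    simp only [← app_resM, resM_resM] at hF
    exact hF
  have hli : LinearIndependent R v := by
    rw [Fintype.linearIndependent_iff]
    intro a ha0 i
    choose U hU r hr using fun j => X.presheaf.exists_germ_eq (a j)
    obtain ⟨B, hyB, hB⟩ := exists_affine_le (U := V.1 ⊓ Finset.univ.inf U) (y := y)
      ⟨hyV, Finset.inf_induction (p := fun O : X.Opens => y ∈ O) trivial (fun _ h _ h' => ⟨h, h'⟩) fun j _ => hU j⟩
    have hBV : B.1 ≤ V.1 := hB.trans inf_le_left
    have hBU : ∀ j, B.1 ≤ U j := fun j => hB.trans (inf_le_right.trans (Finset.inf_le (Finset.mem_univ j)))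
    let z : Γ(cokernel h, B.1) := ∑ j, PicLib.res (hBU j) (r j) • resM _ hBV (π.app V.1 (g (S' j)))
    have hz : (cokernel h).presheaf.germ B.1 y hyB z = (cokernel h).presheaf.germ B.1 y hyB 0 := by
      rw [map_zero, germ_comb]
      refine (Finset.sum_congr rfl fun j _ => ?_).trans ha0
      rw [germ_res', germ_resM]
      exact congrArg (· • v j) (hr j)
    obtain ⟨O, hyO, iO, iO', hO⟩ := (cokernel h).presheaf.germ_eq y hyB hyB _ _ hz
    rw [map_zero] at hO
    have hzero : ∀ m, a i ∈ 𝔞 ^ (m + 1) := fun m => by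
      obtain ⟨W, hWV, hyW, hF⟩ := hframe m
      obtain ⟨C, hyC, hC⟩ := exists_affine_le (U := O ⊓ W.1) (y := y) ⟨hyO, hyW⟩
      have hCO : C.1 ≤ O := hC.trans inf_le_left
      have hCW : C.1 ≤ W.1 := hC.trans inf_le_right
      have hCB : C.1 ≤ B.1 := hCO.trans iO.le
      have h1 : resM (cokernel h) hCB z = 0 := by
        rw [← resM_resM (cokernel h) iO.le hCO]
        exact (congrArg (resM _ hCO) hO).trans (map_zero _)
      have h2 := congrArg ((alpha S hG φ hφ h0 φ' h hh m).app C.1) h1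
      rw [map_zero] at h2
      have h3 : ∑ j, PicLib.res hCB (PicLib.res (hBU j) (r j)) •
          resM (S.P m) hCW ((φ m).app W.1 (resM G hWV (g (S' j)))) = 0 := by
        refine Eq.trans (Finset.sum_congr rfl fun j _ => ?_) ((map_sum _ _ _).symm.trans ((congrArg _ (map_sum _ _ _).symm).trans h2))
        rw [resM_smul, Scheme.Modules.Hom.app_smul, resM_resM]
        refine congrArg (_ • ·) ?_
        rw [← app_resM (φ m) hCW, resM_resM, app_resM (φ m), app_resM (alpha S hG φ hφ h0 φ' h hh m)]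
        refine congrArg (resM _ _) ?_
        show (φ m).app V.1 (g (S' j)) = (π ≫ alpha S hG φ hφ h0 φ' h hh m).app V.1 (g (S' j))
        rw [show π ≫ alpha S hG φ hφ h0 φ' h hh m = φ m from cokernel.π_desc _ _ _]
      have h4 := ((hF.ker C hCW _).1 h3) i
      rw [Scheme.IdealSheafData.ideal_pow, Pi.pow_apply] at h4
      have h5 := Ideal.mem_map_of_mem (X.presheaf.germ C.1 y hyC).hom h4
      rw [Ideal.map_pow, map_germ_ideal I (hCB.trans hBV) hyC] at h5
      rw [← hr i]
      rw [germ_res', germ_res'] at h5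
      exact h5
    have hmem : a i ∈ ⨅ n : ℕ, 𝔞 ^ n := Ideal.mem_iInf.2 fun n => by
      rcases n with _ | n
      · rw [pow_zero, Ideal.one_eq_top]; trivial
      · exact hzero n
    rw [Ideal.iInf_pow_eq_bot_of_isLocalRing 𝔞 fun ht => (maximalIdeal.isMaximal R).ne_top (top_le_iff.1 (ht ▸ ha))] at hmem
    exact hmem
  have hspan : (⊤ : Submodule R M) ≤ Submodule.span R (Set.range v) := by
    haveI : Module.Finite R M := Props12.finite_stalk_of_isFT (cokernel h) hE.2 y
    refine Submodule.le_of_le_smul_of_le_jacobson_bot Module.Finite.fg_top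
      (ha.trans (maximalIdeal_le_jacobson _)) fun x _ => ?_
    obtain ⟨U, hyU, s, rfl⟩ := (cokernel h).presheaf.exists_germ_eq x
    obtain ⟨W, hWV, hyW, hF⟩ := hframe 0
    obtain ⟨B, hyB, hB⟩ := exists_affine_le (U := U ⊓ W.1) (y := y) ⟨hyU, hyW⟩
    have hBW : B.1 ≤ W.1 := hB.trans inf_le_right
    have hBV : B.1 ≤ V.1 := hBW.trans hWV
    obtain ⟨w, hw⟩ := Existence.app_surjective_of_epi π B.2 (resM _ (hB.trans inf_le_left) s)
    obtain ⟨r, hr⟩ := hF.surj B hBW ((φ 0).app B.1 w)
    let w' : Γ(G, B.1) := w - ∑ j, r j • resM G hBV (g (S' j))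
    have hw' : (psi S hG φ 0).app B.1 ((toQ G (I ^ (0 + 1))).app B.1 w') = 0 := by
      rw [psi_app_toQ, map_sub, map_sum, sub_eq_zero]
      refine hr.symm.trans (Finset.sum_congr rfl fun j _ => ?_)
      rw [Scheme.Modules.Hom.app_smul, app_resM, app_resM, resM_resM]
    obtain ⟨k, hk⟩ := kernel_sections_exact (psi S hG φ 0) _ hw'
    haveI : Coh.IsQCoh ((kerSys S hG φ hφ h0).P 0) := ((kerSys S hG φ hφ h0).coh 0).1
    haveI := h0'
    obtain ⟨t, rfl⟩ := Existence.app_surjective_of_epi (φ' 0) B.2 k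
    have hk' : (φ' 0 ≫ kernel.ι (psi S hG φ 0)).app B.1 t = (toQ G (I ^ (0 + 1))).app B.1 w' := hk
    rw [← hh 0, Scheme.Modules.Hom.comp_app, ConcreteCategory.comp_apply] at hk'
    let w'' : Γ(G, B.1) := w' - h.app B.1 t
    have hw'' : (toQ G (I ^ (0 + 1))).app B.1 w'' = 0 := by rw [map_sub, hk', sub_self]
    obtain ⟨c, hc⟩ := (hg hBV).2 w''
    replace hc : ∑ i, c i • resM G hBV (g i) = w'' := hc
    have hcI : ∀ j, c j ∈ (I ^ (0 + 1)).ideal B := by
      refine ((frame_toQ G (I ^ (0 + 1)) hg).ker B hBV c).1 ?_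
      rw [← app_comb]
      exact (congrArg _ hc).trans hw''
    have hπh : ∀ t' : Γ(G', B.1), π.app B.1 (h.app B.1 t') = 0 := fun t' =>
      congrArg (fun f => Scheme.Modules.Hom.app f B.1 t') (cokernel.condition h)
    have hπw : π.app B.1 w = ∑ j, r j • resM _ hBV (π.app V.1 (g (S' j))) +
        ∑ j, c j • resM _ hBV (π.app V.1 (g j)) := by
      rw [← app_comb, ← app_comb, hc, ← map_add]
      have : w = ∑ j, r j • resM G hBV (g (S' j)) + w'' + h.app B.1 t := by
        simp only [w'', w']; abel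
      conv_lhs => rw [this]
      rw [map_add, hπh, add_zero]
    have hgerm : (cokernel h).presheaf.germ U y hyU s = (cokernel h).presheaf.germ B.1 y hyB (π.app B.1 w) := by
      rw [hw, germ_resM]
    rw [hgerm, hπw, map_add, germ_comb, germ_comb]
    refine Submodule.add_mem_sup (Submodule.sum_mem _ fun j _ => Submodule.smul_mem _ _ ?_)
      (Submodule.sum_mem _ fun j _ => Submodule.smul_mem_smul ?_ Submodule.mem_top)
    · rw [germ_resM]
      exact Submodule.subset_span ⟨j, rfl⟩
    · have h5 := Ideal.mem_map_of_mem (X.presheaf.germ B.1 y hyB).hom (hcI j)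
      rw [zero_add, pow_one, map_germ_ideal I hBV hyB] at h5
      exact h5
  exact Module.Free.of_basis (Module.Basis.mk hli hspan)

include hφ h0 h0' hh in
/-- The algebraization is free near every point of the zero set. -/
theorem exists_free_cokernel (hG' : Coh.IsCoh G') :
    ∃ U : X.Opens, (I.support : Set X) ⊆ (U : Set X) ∧ FlatMod.IsFinLocFree ((cokernel h).restrict U.ι) := by
  have hE : Coh.IsCoh (cokernel h) := isCoh_cokernel h hG'.1 (CohBC.isCoh_of_isFinLocFree hG)
  haveI := hE.1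
  let U : X.Opens := ⨆ (W : X.Opens) (_ : ∃ n, Nonempty ((cokernel h).restrict W.ι ≅ FlatMod.freeMod W.toScheme n)), W
  have hmem : ∀ x, x ∈ U → ∃ (W : X.Opens) (n : ℕ), x ∈ W ∧
      Nonempty ((cokernel h).restrict W.ι ≅ FlatMod.freeMod W.toScheme n) := fun x hx => by
    simp only [U, Opens.mem_iSup, exists_prop] at hx
    obtain ⟨W, ⟨n, hn⟩, hxW⟩ := hx
    exact ⟨W, n, hxW, hn⟩
  refine ⟨U, fun y hy => ?_, CohBC.isFinLocFree_restrict _ U hmem⟩
  obtain ⟨W, n, hyW, hW⟩ := Props12.exists_nhd_free (cokernel h) ((isCoh_iff_isFP _).1 hE) y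
    (free_stalk_cokernel S hG φ hφ h0 φ' h0' h hh hG' hy)
  simp only [U, SetLike.mem_coe, Opens.mem_iSup, exists_prop]
  exact ⟨W, ⟨n, hW⟩, hyW⟩

end Groth.Agent.Lef23
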