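import Groth.Agent.Lef23.TowerSys
import Groth.Agent.Lef23.Neg
import Groth.Agent.ExtSS.ProjFormula

/-!
# Sections of large twists lift to the whole formal system
-/

set_option autoImplicit false
set_option linter.style.haveILetI false
set_option backward.isDefEq.respectTransparency.types false

universe u

open CategoryTheory CategoryTheory.Limits AlgebraicGeometry Opposite TopologicalSpace
open Groth.Agent.Coherent Groth.Agent.PicLib Groth.Agent.AmpleLib Groth.Agent.EulerLib Groth.Agent.SerreDual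

noncomputable section

namespace Groth.Agent.Lef23

variable {X : Scheme.{u}}

/-- Tensoring a short exact sequence with a locally free module. -/
theorem shortExact_tE {E : X.Modules} (hE : FlatMod.IsFinLocFree E) {S : ShortComplex X.Modules} (hS : S.ShortExact) :
    (ShortComplex.mk (tE E S.f) (tE E S.g)
      (by rw [show tE E S.f ≫ tE E S.g = (tensE E).map S.f ≫ (tensE E).map S.g from rfl, ← Functor.map_comp, S.zero]
          haveI : (tensE E).Additive := DCoh.additive_tensorBi_obj E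
          exact Functor.map_zero _ _ _)).ShortExact := by
  haveI : PreservesColimitsOfSize.{0, 0} (tensE E) := (tensorHomAdj E).leftAdjoint_preservesColimits
  haveI : (tensE E).Additive := DCoh.additive_tensorBi_obj E
  haveI := hS.mono_f
  haveI : Epi S.g := hS.epi_g
  exact { exact := ShortComplex.exact_of_g_is_cokernel _
            (CokernelCofork.mapIsColimit _ hS.gIsCokernel (tensE E))
          mono_f := mono_tensE_map hE S.f
          epi_g := (inferInstance : Epi ((tensE E).map S.g)) }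

/-- Two-parameter descent to a constant. -/
theorem exists_constant (D : ℕ → ℕ → ℕ) (j₀ i₀ : ℕ)
    (hd : ∀ j m, j₀ ≤ j + 1 → D (j + 1) (m + 1) ≤ D j m) (hv : ∀ j m, j + i₀ ≤ m + 1 → D j (m + 1) ≤ D j m) :
    ∃ J M, j₀ ≤ J ∧ J + i₀ ≤ M ∧ ∀ t s, D (J + t) (M + s + t) = D J M := by
  classical
  have hne : ∃ c, ∃ J M, j₀ ≤ J ∧ J + i₀ ≤ M ∧ D J M = c := ⟨_, j₀, j₀ + i₀, le_rfl, le_rfl, rfl⟩
  obtain ⟨J, M, hJ, hM, hc⟩ := Nat.find_spec hne
  refine ⟨J, M, hJ, hM, fun t s => le_antisymm ?_ ?_⟩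
  · have h1 : ∀ s, D J (M + s) ≤ D J M := fun s => by
      induction s with
      | zero => exact le_rfl
      | succ s ih => exact (hv J (M + s) (by omega)).trans ih
    induction t with
    | zero => exact h1 s
    | succ t ih => exact (hd (J + t) (M + s + t) (by omega)).trans ih
  · rw [hc]
    exact Nat.find_le ⟨J + t, M + s + t, by omega, by omega, rfl⟩

variable (k : Type u) [Field k] [X.Over (Spec (CommRingCat.of k))]

/-- The dimension of `H¹`. -/
def h1 (M : X.Modules) : ℕ := Module.finrank k (HA (baseHom k X) M (⊤ : X.Opens) 1)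

theorem h1_congr {M N : X.Modules} (e : M ≅ N) : h1 k M = h1 k N :=
  (isoA (baseHom k X) e ⊤ 1).finrank_eq

variable [IsProper (X ↘ Spec (CommRingCat.of k))]

theorem h1_right_le {S : ShortComplex X.Modules} (hS : S.ShortExact) (h1' : Coh.IsCoh S.X₁)
    (h3 : Subsingleton (Coh.HH X S.X₃ 1)) : h1 k S.X₂ ≤ h1 k S.X₁ := by
  haveI := finCoh_of_isProper (X ↘ Spec (CommRingCat.of k)) S.X₁ h1' 1
  haveI : Subsingleton (HA (baseHom k X) S.X₃ (⊤ : X.Opens) 1) :=
    (HHBaseEquiv k S.X₃ 1).symm.toEquiv.subsingleton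
  refine LinearMap.finrank_le_finrank_of_surjective (f := postA (baseHom k X) S.f ⊤ 1) fun y => ?_
  exact (exact_postA (baseHom k X) hS ⊤ 1 y).1 (Subsingleton.elim _ _)

theorem h1_left_le {S : ShortComplex X.Modules} (hS : S.ShortExact) (h3' : Coh.IsCoh S.X₃)
    (h1'' : Subsingleton (Coh.HH X S.X₁ 1)) : h1 k S.X₂ ≤ h1 k S.X₃ := by
  haveI := finCoh_of_isProper (X ↘ Spec (CommRingCat.of k)) S.X₃ h3' 1
  haveI : Subsingleton (HA (baseHom k X) S.X₁ (⊤ : X.Opens) 1) :=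
    (HHBaseEquiv k S.X₁ 1).symm.toEquiv.subsingleton
  refine LinearMap.finrank_le_finrank_of_injective (f := postA (baseHom k X) S.g ⊤ 1) ?_
  refine (injective_iff_map_eq_zero _).2 fun y hy => ?_
  obtain ⟨x, rfl⟩ := (exact_postA (baseHom k X) hS ⊤ 1 y).1 hy
  rw [Subsingleton.elim x 0, map_zero]

theorem injective_of_h1_eq {S : ShortComplex X.Modules} (hS : S.ShortExact) (h1' : Coh.IsCoh S.X₁)
    (h2' : Coh.IsCoh S.X₂) (h3 : Subsingleton (Coh.HH X S.X₃ 1)) (he : h1 k S.X₁ = h1 k S.X₂) :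
    Function.Injective (hm S.f 1) := by
  haveI := finCoh_of_isProper (X ↘ Spec (CommRingCat.of k)) S.X₁ h1' 1
  haveI := finCoh_of_isProper (X ↘ Spec (CommRingCat.of k)) S.X₂ h2' 1
  haveI : Subsingleton (HA (baseHom k X) S.X₃ (⊤ : X.Opens) 1) :=
    (HHBaseEquiv k S.X₃ 1).symm.toEquiv.subsingleton
  have hsurj : Function.Surjective (postA (baseHom k X) S.f ⊤ 1) := fun y =>
    (exact_postA (baseHom k X) hS ⊤ 1 y).1 (Subsingleton.elim _ _)
  have hinj := (LinearMap.injective_iff_surjective_of_finrank_eq_finrank he).2 hsurj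
  intro a b hab
  refine (HHTopEquiv S.X₁ 1).injective (hinj ?_)
  exact (hm_top S.f 1 a).symm.trans ((congrArg (HHTopEquiv S.X₂ 1) hab).trans (hm_top S.f 1 b))

variable {𝓘 : X.IdealSheafData} (hI : BlowUp.IsEffCartierIdeal 𝓘) {L : X.Modules}
  (hL : ClSub.IsInverseOf L (ClSub.idealMod 𝓘)) (hamp : CohB1.IsAmple L)
include hI hL hamp

omit [X.Over (Spec (CommRingCat.of k))] [IsProper (X ↘ Spec (CommRingCat.of k))] in
/-- Twists of ideal powers by powers of the ample module. -/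
theorem nonempty_twist_ideal (P : X.Modules) {a b c d : ℕ} (hab : a + d = b + c) :
    Nonempty (CohB1.tensorMod (CohB1.tensorPow L a)
        (CohB1.tensorMod (ClSub.idealMod (𝓘 ^ b)) P) ≅
      CohB1.tensorMod (CohB1.tensorMod (CohB1.tensorPow L c) (CohB1.tensorPow (ClSub.idealMod 𝓘) d)) P) := by
  have hM := isInvertible_inverse hamp.1 hL
  obtain ⟨u⟩ := hL
  have hαβ : InvCl.mk L hamp.1 * InvCl.mk (ClSub.idealMod 𝓘) hM = 1 := InvCl.mk_eq _ _ u
  obtain ⟨e⟩ := nonempty_idealMod_pow 𝓘 hI b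
  have hA := isInvertible_tensorPow hamp.1 a
  have hB : PicF.IsInvertible (ClSub.idealMod (𝓘 ^ b)) := KLLib.isInvertible_of_iso e.symm (isInvertible_tensorPow hM b)
  have hC := isInvertible_tensorPow hamp.1 c
  have hD := isInvertible_tensorPow hM d
  obtain ⟨e'⟩ := H0Growth23.nonempty_iso_of_mk_eq (hL := isInvertible_tensorMod hA hB)
    (hN := isInvertible_tensorMod hC hD) (by
      rw [← InvCl.mk_mul hA hB, ← InvCl.mk_mul hC hD, InvCl.mk_eq hB (isInvertible_tensorPow hM b) e,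
        InvCl.mk_tensorPow hamp.1, InvCl.mk_tensorPow hamp.1, InvCl.mk_tensorPow hM, InvCl.mk_tensorPow hM]
      have hz : ∀ n : ℕ, InvCl.mk L hamp.1 ^ n * InvCl.mk (ClSub.idealMod 𝓘) hM ^ n = 1 := fun n => by
        rw [← mul_pow, hαβ, one_pow]
      calc InvCl.mk L hamp.1 ^ a * InvCl.mk (ClSub.idealMod 𝓘) hM ^ b
          = InvCl.mk L hamp.1 ^ a * InvCl.mk (ClSub.idealMod 𝓘) hM ^ b *
              (InvCl.mk L hamp.1 ^ d * InvCl.mk (ClSub.idealMod 𝓘) hM ^ d) := by rw [hz, mul_one]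
        _ = InvCl.mk L hamp.1 ^ (a + d) * (InvCl.mk (ClSub.idealMod 𝓘) hM ^ b * InvCl.mk (ClSub.idealMod 𝓘) hM ^ d) := by
              rw [pow_add, mul_mul_mul_comm]
        _ = InvCl.mk L hamp.1 ^ c * (InvCl.mk L hamp.1 ^ b * InvCl.mk (ClSub.idealMod 𝓘) hM ^ b) *
              InvCl.mk (ClSub.idealMod 𝓘) hM ^ d := by
              rw [hab, pow_add, mul_comm (InvCl.mk L hamp.1 ^ b) (InvCl.mk L hamp.1 ^ c)]
              simp only [mul_assoc]
        _ = _ := by rw [hz, mul_one])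
  exact ⟨((tensECompIso _ _).app P).symm ≪≫ AmpleLib.tensorIso e' (Iso.refl P)⟩

variable [IsLocallyNoetherian X]

omit hI hL [X.Over (Spec (CommRingCat.of k))] [IsProper (X ↘ Spec (CommRingCat.of k))] in
theorem isCoh_pow_tensor {P : X.Modules} (hP : Coh.IsCoh P) (n : ℕ) :
    Coh.IsCoh (CohB1.tensorMod (CohB1.tensorPow L n) P) :=
  isCoh_iso (AmpleLib.tensorComm _ _) (isCoh_twist (isInvertible_tensorPow hamp.1 n) hP)

include k in
/-- **Lifting of sections**: all sections of a large twist of the bottom of a system lift to the system. -/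
theorem exists_lift_sections (S : Sys 𝓘) (j₀ i₀ : ℕ)
    (hA : ∀ n, j₀ ≤ n → Subsingleton (Coh.HH X (CohB1.tensorMod (CohB1.tensorPow L n) (S.P 0)) 1))
    (hB : ∀ i, i₀ ≤ i →
      Subsingleton (Coh.HH X (CohB1.tensorMod (CohB1.tensorPow (ClSub.idealMod 𝓘) i) (S.P 0)) 1)) :
    ∃ J : ℕ, ∀ j, J ≤ j → ∀ t : Γ(CohB1.tensorMod (CohB1.tensorPow L j) (S.P 0), ⊤),
      ∃ y : ∀ m, Γ(CohB1.tensorMod (CohB1.tensorPow L j) (S.P m), ⊤),
        y 0 = t ∧ ∀ m, (tE (CohB1.tensorPow L j) (S.q m)).app ⊤ (y (m + 1)) = y m := by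
  let T : ℕ → X.Modules → X.Modules := fun j P => CohB1.tensorMod (CohB1.tensorPow L j) P
  have hTl : ∀ j, FlatMod.IsFinLocFree (CohB1.tensorPow L j) := fun j =>
    Coherent.isFinLocFree_of_invertible (isInvertible_tensorPow hamp.1 j)
  haveI : ∀ m, Epi (S.r m) := fun m => (S.surj_r m).epi
  haveI : ∀ m, Epi (S.q m) := fun m => (S.surj m).epi
  -- the two families of sequences
  have hSA := fun j m => shortExact_tE (hTl j) (shortExact_kernel (S.r m))
  have hSB := fun j m => shortExact_tE (hTl j) (shortExact_kernel (S.q m))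
  have eA : ∀ j m, Nonempty (T (j + 1) (kernel (S.r (m + 1))) ≅ T j (S.P m)) := fun j m => by
    obtain ⟨e⟩ := exists_kernel_iso_pow 𝓘 hI 1 (m + 1) (m + 1 + 1) (by omega) (S.cyc (m + 1))
      (show Cyc (S.P 0) (𝓘 ^ 1) from S.cyc 0) (S.cyc m) (S.r (m + 1)) (S.q m) (S.surj_r (m + 1)) (S.surj m)
    obtain ⟨e'⟩ := nonempty_twist_ideal hI hL hamp (S.P m) (a := j + 1) (b := 1) (c := j) (d := 0) (by omega)
    let a₁ : T (j + 1) (kernel (S.r (m + 1))) ≅ T (j + 1) (CohB1.tensorMod (ClSub.idealMod (𝓘 ^ 1)) (S.P m)) :=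
      AmpleLib.tensorIso (Iso.refl (CohB1.tensorPow L (j + 1))) e
    let a₃ : CohB1.tensorMod (CohB1.tensorPow L j) (CohB1.tensorPow (ClSub.idealMod 𝓘) 0) ≅ CohB1.tensorPow L j :=
      AmpleLib.tensorComm (CohB1.tensorPow L j) (Coh.structureModule X) ≪≫ unitTensorIso (CohB1.tensorPow L j)
    exact ⟨a₁ ≪≫ e' ≪≫ AmpleLib.tensorIso a₃ (Iso.refl (S.P m))⟩
  have hB' : ∀ j m, j + i₀ ≤ m + 1 → Subsingleton (Coh.HH X (T j (kernel (S.q m))) 1) := fun j m hjm => by
    obtain ⟨e⟩ := exists_kernel_iso_pow 𝓘 hI (m + 1) 1 (m + 1 + 1) rfl (S.cyc (m + 1)) (S.cyc m)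
      (show Cyc (S.P 0) (𝓘 ^ 1) from S.cyc 0) (S.q m) (S.r (m + 1)) (S.surj m) (S.surj_r (m + 1))
    obtain ⟨e'⟩ := nonempty_twist_ideal hI hL hamp (S.P 0) (a := j) (b := m + 1) (c := 0) (d := m + 1 - j) (by omega)
    let a₁ : T j (kernel (S.q m)) ≅ T j (CohB1.tensorMod (ClSub.idealMod (𝓘 ^ (m + 1))) (S.P 0)) :=
      AmpleLib.tensorIso (Iso.refl (CohB1.tensorPow L j)) e
    let a₃ : CohB1.tensorMod (CohB1.tensorPow L 0) (CohB1.tensorPow (ClSub.idealMod 𝓘) (m + 1 - j)) ≅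
        CohB1.tensorPow (ClSub.idealMod 𝓘) (m + 1 - j) :=
      unitTensorIso (CohB1.tensorPow (ClSub.idealMod 𝓘) (m + 1 - j))
    exact subsingleton_HH_iso (a₁ ≪≫ e' ≪≫ AmpleLib.tensorIso a₃ (Iso.refl (S.P 0))).symm 1 (hB (m + 1 - j) (by omega))
  have hcoh := fun j m => isCoh_pow_tensor hamp (S.coh m) j
  have hcohA : ∀ j m, Coh.IsCoh (T (j + 1) (kernel (S.r (m + 1)))) := fun j m =>
    isCoh_iso (eA j m).some.symm (hcoh j m)
  obtain ⟨D, hD⟩ : ∃ D : ℕ → ℕ → ℕ, ∀ j m, h1 k (T j (S.P m)) = D j m := ⟨_, fun _ _ => rfl⟩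
  have hd : ∀ j m, j₀ ≤ j + 1 → h1 k (T (j + 1) (S.P (m + 1))) ≤ h1 k (T j (S.P m)) := fun j m hj => by
    have h₁ := h1_right_le k (hSA (j + 1) (m + 1)) (hcohA j m) (hA (j + 1) hj)
    exact le_of_le_of_eq h₁ (h1_congr k (eA j m).some)
  have hv : ∀ j m, j + i₀ ≤ m + 1 → h1 k (T j (S.P (m + 1))) ≤ h1 k (T j (S.P m)) := fun j m hjm => by
    have h₁ := h1_left_le k (hSB j m) (hcoh j m) (hB' j m hjm)
    exact h₁
  obtain ⟨J, M, hJ, hM, hc⟩ := exists_constant D j₀ i₀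
    (fun j m hj => by rw [← hD, ← hD]; exact hd j m hj) (fun j m hjm => by rw [← hD, ← hD]; exact hv j m hjm)
  refine ⟨J + 1, fun j hj t => ?_⟩
  obtain ⟨s, rfl⟩ : ∃ s, j = J + s + 1 := ⟨j - J - 1, by omega⟩
  have hh : h1 k (T (J + s + 1) (kernel (S.r (M + s + 1)))) = h1 k (T (J + s + 1) (S.P (M + s + 1))) := by
    rw [h1_congr k (eA (J + s) (M + s)).some, hD, hD, show J + s + 1 = J + (s + 1) from rfl,
      show M + s + 1 = M + (s + 1) from rfl]
    have h₁ := hc s 0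
    have h₂ := hc (s + 1) 0
    rw [add_zero] at h₁ h₂
    rw [h₁, h₂]
  have hinj := injective_of_h1_eq k (hSA (J + s + 1) (M + s + 1)) (hcohA (J + s) (M + s))
    (hcoh (J + s + 1) (M + s + 1)) (hA (J + s + 1) (by omega)) hh
  obtain ⟨z, hz⟩ := surjective_app_top (hSA (J + s + 1) (M + s + 1)) hinj t
  have hsurj : ∀ m, M + s + 1 ≤ m → Function.Surjective ((tE (CohB1.tensorPow L (J + s + 1)) (S.q m)).app ⊤) :=
    fun m hm' => surjective_app_top (hSB _ m) fun a b _ => by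
      haveI := hB' (J + s + 1) m (by omega)
      exact Subsingleton.elim a b
  obtain ⟨y, hy0, hy⟩ := exists_compatible (M + s + 1) (fun m => Γ(T (J + s + 1) (S.P m), ⊤))
    (fun m => (tE (CohB1.tensorPow L (J + s + 1)) (S.q m)).app ⊤) hsurj z
  refine ⟨y, ?_, hy⟩
  have hr : ∀ m, (tE (CohB1.tensorPow L (J + s + 1)) (S.r m)).app ⊤ (y m) = y 0 := fun m => by
    induction m with
    | zero =>
      show ((tensE (CohB1.tensorPow L (J + s + 1))).map (𝟙 (S.P 0))).app ⊤ (y 0) = y 0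
      rw [CategoryTheory.Functor.map_id]
      rfl
    | succ m ih =>
      show ((tensE (CohB1.tensorPow L (J + s + 1))).map (S.q m ≫ S.r m)).app ⊤ (y (m + 1)) = y 0
      rw [Functor.map_comp, Scheme.Modules.Hom.comp_app, ConcreteCategory.comp_apply]
      exact (congrArg _ (hy m)).trans ih
  rw [← hr (M + s + 1), hy0]
  exact hz

end Groth.Agent.Lef23
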