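import Groth.Agent.Lef23.FormalTower
import Groth.Agent.Coherent.FinitePres
import Groth.Agent.SerreDual.ExtShTensor
import Groth.Agent.Coherent.DevissageApps

/-!
# Formal systems on the ambient scheme
-/

set_option autoImplicit false
set_option linter.style.haveILetI false
set_option backward.isDefEq.respectTransparency.types false

universe u

open CategoryTheory CategoryTheory.Limits AlgebraicGeometry Opposite TopologicalSpace
open Groth.Agent.Coherent Groth.Agent.PicLib Groth.Agent.AmpleLib Groth.Agent.EulerLib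

noncomputable section

namespace Groth.Agent.Lef23

variable {X : Scheme.{u}}

/-- A system of cyclic modules on the thickenings. -/
structure Sys (I : X.IdealSheafData) where
  P : ℕ → X.Modules
  coh : ∀ m, Coh.IsCoh (P m)
  cyc : ∀ m, Cyc (P m) (I ^ (m + 1))
  q : ∀ m, P (m + 1) ⟶ P m
  surj : ∀ m, Surj (q m)

variable {I : X.IdealSheafData}

/-- The maps down to the bottom of a system. -/
def Sys.r (S : Sys I) : ∀ m, S.P m ⟶ S.P 0
  | 0 => 𝟙 _
  | m + 1 => S.q m ≫ S.r m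

theorem Sys.surj_r (S : Sys I) : ∀ m, Surj (S.r m)
  | 0 => Surj.of_isIso (𝟙 _)
  | m + 1 => (S.surj m).comp (S.surj_r m)

theorem surj_push {Z : Scheme.{u}} (t : Z ⟶ X) [IsClosedImmersion t] {A B : Z.Modules} {φ : A ⟶ B}
    (hA : PicF.IsInvertible A) {J : Z.IdealSheafData} (hB : Cyc B J) (hφ : Surj φ) :
    Surj ((Scheme.Modules.pushforward t).map φ) := fun x => by
  by_cases hx : x ∈ Set.range t
  · obtain ⟨z, rfl⟩ := hx
    obtain ⟨Q, hzQ, s, hs⟩ := exists_isGen hA z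
    obtain ⟨W, hzW, hW⟩ := hφ z
    obtain ⟨V₀, hV₀, e⟩ := t.isEmbedding.isInducing.isOpen_iff.1 (Q ⊓ W.1).2
    obtain ⟨V, hV, hzV, hVV₀⟩ := exists_isAffineOpen_mem_and_subset (x := t z) (U := ⟨V₀, hV₀⟩)
      (show t z ∈ V₀ by have := e.ge (show z ∈ Q ⊓ W.1 from ⟨hzQ, hzW⟩); exact this)
    refine ⟨⟨V, hV⟩, hzV, fun B hB => ?_⟩
    exact hW ⟨t ⁻¹ᵁ B.1, B.2.preimage t⟩ fun w hw => (e.le (hVV₀ (hB hw))).2
  · obtain ⟨V, hV, hxV, hVr⟩ := exists_isAffineOpen_mem_and_subset (x := x)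
      (U := ⟨(Set.range t)ᶜ, t.isClosedEmbedding.isClosed_range.isOpen_compl⟩) hx
    refine ⟨⟨V, hV⟩, hxV, fun C hC w => ⟨0, ?_⟩⟩
    refine sec_ext B _ w fun y hy => absurd ⟨y, rfl⟩ (hVr (hC hy))

/-- The map of direct images over a step. -/
def stepPush {Z Z' : Scheme.{u}} (h : Z ⟶ Z') (ι' : Z' ⟶ X) (ι : Z ⟶ X) (e : h ≫ ι' = ι) {N : Z.Modules}
    {N' : Z'.Modules} (u : N' ⟶ (Scheme.Modules.pushforward h).obj N) :
    (Scheme.Modules.pushforward ι').obj N' ⟶ (Scheme.Modules.pushforward ι).obj N :=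
  (Scheme.Modules.pushforward ι').map u ≫ (Scheme.Modules.pushforwardComp h ι').hom.app _ ≫
    (Scheme.Modules.pushforwardCongr e).hom.app _

theorem stepPush_app {Z Z' : Scheme.{u}} (h : Z ⟶ Z') (ι' : Z' ⟶ X) (ι : Z ⟶ X) (e : h ≫ ι' = ι) {N : Z.Modules}
    {N' : Z'.Modules} (u : N' ⟶ (Scheme.Modules.pushforward h).obj N) (U : X.Opens)
    (hle : ι ⁻¹ᵁ U ≤ h ⁻¹ᵁ (ι' ⁻¹ᵁ U)) (a : Γ(N', ι' ⁻¹ᵁ U)) :
    (show Γ(N, ι ⁻¹ᵁ U) from (stepPush h ι' ι e u).app U a) =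
      resM N hle (show Γ(N, h ⁻¹ᵁ (ι' ⁻¹ᵁ U)) from u.app (ι' ⁻¹ᵁ U) a) := rfl

theorem surj_stepPush {Z Z' : Scheme.{u}} (h : Z ⟶ Z') (ι' : Z' ⟶ X) (ι : Z ⟶ X) (e : h ≫ ι' = ι)
    [IsClosedImmersion h] [IsClosedImmersion ι'] {N : Z.Modules} (hN : PicF.IsInvertible N) {N' : Z'.Modules}
    (hN' : PicF.IsInvertible N') (u : N' ⟶ (Scheme.Modules.pushforward h).obj N) (hu : Surj u) :
    Surj (stepPush h ι' ι e u) :=
  (surj_push ι' hN' (cyc_push h hN) hu).comp ((Surj.of_isIso _).comp (Surj.of_isIso _))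

theorem incl_ι (m : ℕ) : incl I m ≫ (I ^ (m + 1 + 1)).subschemeι = (I ^ (m + 1)).subschemeι :=
  Scheme.IdealSheafData.inclusion_subschemeι _

theorem cyc_pushZ (m : ℕ) {N : (Zs I m).Modules} (hN : PicF.IsInvertible N) :
    Cyc ((Scheme.Modules.pushforward (I ^ (m + 1)).subschemeι).obj N) (I ^ (m + 1)) := by
  have h := cyc_push (I ^ (m + 1)).subschemeι hN
  rwa [Scheme.IdealSheafData.ker_subschemeι] at h

variable [IsLocallyNoetherian X]

theorem isCoh_pushZ (m : ℕ) {N : (Zs I m).Modules} (hN : PicF.IsInvertible N) :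
    Coh.IsCoh ((Scheme.Modules.pushforward (I ^ (m + 1)).subschemeι).obj N) :=
  isCoh_push_finite (I ^ (m + 1)).subschemeι (CohBC.isCoh_of_isFinLocFree (isFinLocFree_of_invertible hN))

/-- The system of the modules `N`. -/
def Tower.sysN (T : Tower I) : Sys I where
  P m := (Scheme.Modules.pushforward (I ^ (m + 1)).subschemeι).obj (T.level m).N
  coh m := isCoh_pushZ m (T.level m).hN
  cyc m := cyc_pushZ m (T.level m).hN
  q m := stepPush (incl I m) _ _ (incl_ι m) (T.step m).u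
  surj m :=
    haveI := isClosedImmersion_incl I m
    surj_stepPush (incl I m) _ _ (incl_ι m) (T.level m).hN (T.level (m + 1)).hN _ (T.step m).hu

/-- The system of the inverses. -/
def Tower.sysM (T : Tower I) : Sys I where
  P m := (Scheme.Modules.pushforward (I ^ (m + 1)).subschemeι).obj (T.level m).M
  coh m := isCoh_pushZ m (T.level m).hM
  cyc m := cyc_pushZ m (T.level m).hM
  q m := stepPush (incl I m) _ _ (incl_ι m) (T.step m).v
  surj m :=
    haveI := isClosedImmersion_incl I m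
    surj_stepPush (incl I m) _ _ (incl_ι m) (T.level m).hM (T.level (m + 1)).hM _ (T.step m).hv

/-- The pairing of direct images. -/
def pushPair {Z : Scheme.{u}} (ι : Z ⟶ X) (l : Level Z) :
    Bilin ((Scheme.Modules.pushforward ι).obj l.N) ((Scheme.Modules.pushforward ι).obj l.M)
      ((Scheme.Modules.pushforward ι).obj (Coh.structureModule Z)) where
  app U a b := l.pair (ι ⁻¹ᵁ U) (show Γ(l.N, ι ⁻¹ᵁ U) from a) (show Γ(l.M, ι ⁻¹ᵁ U) from b)
  add_left U a a' b := (congrArg _ (tmul_add_left _ _ _)).trans (map_add _ _ _)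
  add_right U a b b' := (congrArg _ (tmul_add_right _ _ _)).trans (map_add _ _ _)
  smul_left U r a b := (congrArg _ (tmul_smul_left (ι.app U r)
      (show Γ(l.N, ι ⁻¹ᵁ U) from a) (show Γ(l.M, ι ⁻¹ᵁ U) from b))).trans (Scheme.Modules.Hom.app_smul _ _ _)
  smul_right U r a b := (congrArg _ (tmul_smul_right (ι.app U r)
      (show Γ(l.N, ι ⁻¹ᵁ U) from a) (show Γ(l.M, ι ⁻¹ᵁ U) from b))).trans (Scheme.Modules.Hom.app_smul _ _ _)
  res U V hle a b := by
    refine (app_resM l.ε.hom (ι.preimage_mono hle) _).symm.trans ?_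
    rw [resM_tmul]
    rfl

omit [IsLocallyNoetherian X] in
theorem pushPair_compat {Z Z' : Scheme.{u}} (h : Z ⟶ Z') (ι' : Z' ⟶ X) (ι : Z ⟶ X) (e : h ≫ ι' = ι)
    {l : Level Z} {l' : Level Z'} (st : Step h l l') (U : X.Opens) (a : Γ(l'.N, ι' ⁻¹ᵁ U)) (b : Γ(l'.M, ι' ⁻¹ᵁ U)) :
    (stepPush h ι' ι e (ClSub.unitToPush h)).app U ((pushPair ι' l').app U a b) =
      (pushPair ι l).app U ((stepPush h ι' ι e st.u).app U a) ((stepPush h ι' ι e st.v).app U b) := by
  have hle : ι ⁻¹ᵁ U ≤ h ⁻¹ᵁ (ι' ⁻¹ᵁ U) := le_of_eq (by rw [← Scheme.Hom.comp_preimage, e])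
  show Z.presheaf.map (homOfLE hle).op (h.app (ι' ⁻¹ᵁ U) (l'.pair _ a b)) =
    l.ε.hom.app (ι ⁻¹ᵁ U) (tmul (resM l.N hle (st.u.app _ a)) (resM l.M hle (st.v.app _ b)))
  rw [st.compat, ← resM_tmul, app_resM]
  rfl

/-- The pairing on a thickening. -/
def Tower.π (T : Tower I) (m : ℕ) : Bilin (T.sysN.P m) (T.sysM.P m) (ClSub.quotMod (I ^ (m + 1))) :=
  pushPair (I ^ (m + 1)).subschemeι (T.level m)

theorem quotMap_eq_stepPush (m : ℕ) : Lef.quotMap (Lef.pow_succ_le I m) =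
    stepPush (incl I m) (I ^ (m + 1 + 1)).subschemeι (I ^ (m + 1)).subschemeι (incl_ι m) (ClSub.unitToPush (incl I m)) := rfl

theorem Tower.π_compat (T : Tower I) (m : ℕ) (U : X.Opens) (a : Γ(T.sysN.P (m + 1), U)) (b : Γ(T.sysM.P (m + 1), U)) :
    (Lef.quotMap (Lef.pow_succ_le I m)).app U ((T.π (m + 1)).app U a b) =
      (T.π m).app U ((T.sysN.q m).app U a) ((T.sysM.q m).app U b) := by
  rw [quotMap_eq_stepPush]
  exact pushPair_compat (incl I m) (I ^ (m + 1 + 1)).subschemeι (I ^ (m + 1)).subschemeι (incl_ι m) (T.step m) U a b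

/-- Gen goes to gen under the pairing. -/
theorem Tower.gen_π (T : Tower I) (m : ℕ) {U : X.Opens}
    {a : Γ((T.level m).N, (I ^ (m + 1)).subschemeι ⁻¹ᵁ U)} (ha : IsGen (T.level m).N _ a)
    {b : Γ((T.level m).M, (I ^ (m + 1)).subschemeι ⁻¹ᵁ U)} (hb : IsGen (T.level m).M _ b) :
    Gen (ClSub.quotMod (I ^ (m + 1))) (I ^ (m + 1)) U ((T.π m).app U a b) := by
  have h := gen_push (I ^ (m + 1)).subschemeι (Coh.structureModule (Zs I m)) (isGen_map_iso (T.level m).ε (isGen_tmul ha hb))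
  rw [Scheme.IdealSheafData.ker_subschemeι] at h
  exact h

end Groth.Agent.Lef23
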