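import Groth.Agent.Lef23.Frames
import Groth.Agent.Lef23.TowerSys
import Groth.Agent.Lef23.SectionsLift
import Groth.Agent.Coherent.TensorBasis
import Groth.Agent.Coherent.TensorQcoh
import Groth.Agent.Coherent.Existence.SysKernel
import Groth.Prelude.Def_LefX

/-!
# Systems of modules locally free over the thickenings
-/

set_option autoImplicit false
set_option linter.style.haveILetI false
set_option backward.isDefEq.respectTransparency.types false

universe u

open CategoryTheory CategoryTheory.Limits AlgebraicGeometry Opposite TopologicalSpace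
open Groth.Agent.Coherent Groth.Agent.PicLib Groth.Agent.AmpleLib Groth.Agent.EulerLib Groth.Agent.SerreDual

noncomputable section

namespace Groth.Agent.Lef23

variable {X : Scheme.{u}}

/-- A system of modules, locally free over the thickenings. -/
structure FSys (I : X.IdealSheafData) where
  P : ℕ → X.Modules
  coh : ∀ m, Coh.IsCoh (P m)
  q : ∀ m, P (m + 1) ⟶ P m
  maps : ∀ m, MapsFrame (q m) (I ^ (m + 1 + 1)) (I ^ (m + 1))

variable {I : X.IdealSheafData}

theorem thick_le (I : X.IdealSheafData) {a b : ℕ} (h : a ≤ b) : I ^ b ≤ I ^ a :=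
  pow_le_pow_of_le_one bot_le le_top h

theorem FSys.loc (S : FSys I) : ∀ m, LocFrame (S.P m) (I ^ (m + 1))
  | 0 => (S.maps 0).locFrame_right
  | m + 1 => (S.maps m).locFrame

theorem FSys.killed (S : FSys I) (m : ℕ) : Killed (S.P m) (I ^ (m + 1)) := (S.loc m).killed

/-- The maps to the bottom. -/
def FSys.r (S : FSys I) : ∀ m, S.P m ⟶ S.P 0
  | 0 => 𝟙 _
  | m + 1 => S.q m ≫ S.r m

theorem FSys.maps_r (S : FSys I) : ∀ m, MapsFrame (S.r m) (I ^ (m + 1)) (I ^ 1)
  | 0 => MapsFrame.id (S.loc 0)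
  | m + 1 => (S.maps m).comp (S.maps_r m) (thick_le I (by omega))

/-! ### The system of a system of modules on the completion -/

/-- The step map of direct images carries frames to frames. -/
theorem mapsFrame_step {Z Z' : Scheme.{u}} (h : Z ⟶ Z') (ι' : Z' ⟶ X) (ι : Z ⟶ X) (e : h ≫ ι' = ι)
    [IsClosedImmersion ι'] [IsClosedImmersion ι] (J' J : X.IdealSheafData) (hJ' : ι'.ker = J') (hJ : ι.ker = J)
    {N' : Z'.Modules} (hN' : FlatMod.IsFinLocFree N') {N : Z.Modules}
    (ψ : (Scheme.Modules.pullback h).obj N' ≅ N) :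
    MapsFrame (stepPush h ι' ι e (toPushOf h ψ)) J' J := fun x => by
  subst hJ' hJ
  obtain ⟨V, hxV, κ, _, b, hb⟩ := exists_basis_preimage ι' hN' x
  have hle : ι ⁻¹ᵁ V.1 ≤ h ⁻¹ᵁ (ι' ⁻¹ᵁ V.1) := le_of_eq (by rw [← Scheme.Hom.comp_preimage, e])
  exact ⟨V, hxV, κ, inferInstance, b, Frame.of_basis ι' N' hb,
    Frame.of_basis ι N (isBasisOn_restrict (isBasisOn_map_iso ψ (hb.pull h)) hle)⟩

variable [IsLocallyNoetherian X]

/-- The system on `X` of a levelwise locally free system on the completion. -/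
def FSys.ofModSys (𝔐 : FSch.ModSys (FSch.completionAlong X I)) (h𝔐 : LefX.LevelwiseFinLocFree 𝔐) : FSys I where
  P m := (Scheme.Modules.pushforward (I ^ (m + 1)).subschemeι).obj (𝔐.F m)
  coh m := isCoh_push_finite (I ^ (m + 1)).subschemeι (CohBC.isCoh_of_isFinLocFree (h𝔐 m))
  q m := stepPush (incl I m) _ _ (incl_ι m) (toPushOf (incl I m) (𝔐.e m))
  maps m := mapsFrame_step (incl I m) _ _ (incl_ι m) _ _ (Scheme.IdealSheafData.ker_subschemeι _)
    (Scheme.IdealSheafData.ker_subschemeι _) (h𝔐 (m + 1)) (𝔐.e m)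

/-! ### The system of a locally free module -/

variable (G : X.Modules)

/-- `G ≅ G ⊗ O`. -/
def unitR : G ≅ CohB1.tensorMod G (Coh.structureModule X) :=
  (AmpleLib.tensorComm G (Coh.structureModule X) ≪≫ unitTensorIso G).symm

omit [IsLocallyNoetherian X] in
theorem unitR_inv_tmul (U : X.Opens) (g : Γ(G, U)) (r : Γ(X, U)) :
    (unitR G).inv.app U (tmul g (show Γ(Coh.structureModule X, U) from r)) = r • g := by
  show (unitBilin G).desc.app U ((AmpleLib.tensorSwap G (Coh.structureModule X)).app U (tmul g r)) = r • g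
  unfold AmpleLib.tensorSwap
  rw [Bilin.desc_tmul]
  exact Bilin.desc_tmul _ _ _ _

omit [IsLocallyNoetherian X] in
theorem unitR_hom_app (U : X.Opens) (g : Γ(G, U)) :
    (unitR G).hom.app U g = tmul g (show Γ(Coh.structureModule X, U) from (1 : Γ(X, U))) := by
  refine app_injective_of_mono (unitR G).inv U ?_
  rw [unitR_inv_tmul, one_smul, ← ConcreteCategory.comp_apply, ← Scheme.Modules.Hom.comp_app, Iso.hom_inv_id]
  rfl

/-- The reduction `G → G ⊗ O/J`. -/
def toQ (J : X.IdealSheafData) : G ⟶ CohB1.tensorMod G (ClSub.quotMod J) :=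
  (unitR G).hom ≫ tE G (ClSub.toSubscheme J)

omit [IsLocallyNoetherian X] in
theorem toQ_app (J : X.IdealSheafData) (U : X.Opens) (g : Γ(G, U)) :
    (toQ G J).app U g =
      tmul g ((ClSub.toSubscheme J).app U (show Γ(Coh.structureModule X, U) from (1 : Γ(X, U)))) := by
  rw [toQ, Scheme.Modules.Hom.comp_app, ConcreteCategory.comp_apply, unitR_hom_app]
  exact tensE_map_tmul _ _ _ _ _

omit [IsLocallyNoetherian X] in
theorem toQ_quotMap {J K : X.IdealSheafData} (h : J ≤ K) : toQ G J ≫ tE G (Lef.quotMap h) = toQ G K := by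
  rw [toQ, Category.assoc]
  refine congrArg ((unitR G).hom ≫ ·) ?_
  show (tensE G).map _ ≫ (tensE G).map _ = (tensE G).map _
  rw [← Functor.map_comp, toSubscheme_quotMap]

omit [IsLocallyNoetherian X] in
theorem epi_toQ (J : X.IdealSheafData) : Epi (toQ G J) := by
  haveI : PreservesColimitsOfSize.{0, 0} (tensE G) := (tensorHomAdj G).leftAdjoint_preservesColimits
  haveI := CurveRR24.epi_toSubscheme J
  haveI : Epi (tE G (ClSub.toSubscheme J)) := (tensE G).map_epi _
  exact epi_comp _ _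

omit [IsLocallyNoetherian X] in
/-- A basis of `G` gives a frame of `G ⊗ O/J`. -/
theorem frame_toQ (J : X.IdealSheafData) {V : X.Opens} {κ : Type u} [Fintype κ] {g : κ → Γ(G, V)}
    (hg : IsBasisOn G V g) : Frame (CohB1.tensorMod G (ClSub.quotMod J)) J V (fun i => (toQ G J).app V (g i)) := by
  have key : ∀ (B : X.Opens) (h : B ≤ V) (r : κ → Γ(X, B)),
      ∑ i, r i • resM _ h ((toQ G J).app V (g i)) =
        ∑ i, tmul (resM G h (g i)) (r i • resM (ClSub.quotMod J) h
          ((ClSub.toSubscheme J).app V (show Γ(Coh.structureModule X, V) from (1 : Γ(X, V))))) := fun B h r =>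
    Finset.sum_congr rfl fun i _ => by rw [toQ_app, resM_tmul, tmul_smul_right]
  have hq := gen_quot J V
  refine ⟨fun B h z => ?_, fun B h r => ?_⟩
  · obtain ⟨t, rfl⟩ := (bijective_sum_tmul hg (ClSub.quotMod J) B.1 h).2 z
    choose r hr using fun i => hq.surj B h (t i)
    exact ⟨r, by rw [key]; exact Finset.sum_congr rfl fun i _ => by rw [hr]⟩
  · rw [key]
    refine ⟨fun h0 i => (hq.ker B h _).1 ?_, fun hr => Finset.sum_eq_zero fun i _ => by
      rw [(hq.ker B h _).2 (hr i)]; exact Coherent.tmul_zero_right _⟩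
    refine congrFun ((bijective_sum_tmul hg (ClSub.quotMod J) B.1 h).1
      (a₁ := fun i => r i • resM (ClSub.quotMod J) h
        ((ClSub.toSubscheme J).app V (show Γ(Coh.structureModule X, V) from (1 : Γ(X, V))))) (a₂ := 0) ?_) i
    exact h0.trans (Finset.sum_eq_zero fun i _ => Coherent.tmul_zero_right _).symm

omit [IsLocallyNoetherian X] in
theorem exists_basis_affine {G : X.Modules} (hG : FlatMod.IsFinLocFree G) {x : X} {U : X.Opens} (hx : x ∈ U) :
    ∃ V : X.affineOpens, x ∈ V.1 ∧ V.1 ≤ U ∧ ∃ (κ : Type u) (_ : Fintype κ) (g : κ → Γ(G, V.1)),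
      IsBasisOn G V.1 g := by
  obtain ⟨W, n, e, hxW, he⟩ := exists_isBasisOn hG x
  obtain ⟨V, hxV, hV⟩ := exists_affine_le (U := U ⊓ W) (y := x) ⟨hx, hxW⟩
  exact ⟨V, hxV, hV.trans inf_le_left, _, inferInstance, _, isBasisOn_restrict he (hV.trans inf_le_right)⟩

omit [IsLocallyNoetherian X] in
theorem locFrame_toQ (hG : FlatMod.IsFinLocFree G) (J : X.IdealSheafData) :
    LocFrame (CohB1.tensorMod G (ClSub.quotMod J)) J := fun x => by
  obtain ⟨V, hxV, -, κ, _, g, hg⟩ := exists_basis_affine hG (x := x) (U := ⊤) trivial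
  exact ⟨V, hxV, κ, inferInstance, _, frame_toQ G J hg⟩

/-- The system of the reductions of `G`. -/
def FSys.ofModule (hG : FlatMod.IsFinLocFree G) : FSys I where
  P m := CohB1.tensorMod G (ClSub.quotMod (I ^ (m + 1)))
  coh m := by
    have h1 : Coh.IsCoh G := CohBC.isCoh_of_isFinLocFree hG
    have h2 : Coh.IsCoh (ClSub.quotMod (I ^ (m + 1))) :=
      isCoh_push_finite _ (CohBC.isCoh_of_isFinLocFree (CohBC.isFinLocFree_structureModule _))
    haveI := h1.1
    haveI := h2.1
    exact ⟨Coherent.isQCoh_tensorMod _ _, Coherent.isFT_tensorMod _ _ h1.2 h2.2⟩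
  q m := tE G (Lef.quotMap (Lef.pow_succ_le I m))
  maps m x := by
    obtain ⟨V, hxV, -, κ, _, g, hg⟩ := exists_basis_affine hG (x := x) (U := ⊤) trivial
    refine ⟨V, hxV, κ, inferInstance, _, frame_toQ G _ hg, ?_⟩
    have h := frame_toQ G (I ^ (m + 1)) hg
    rw [← toQ_quotMap G (Lef.pow_succ_le I m)] at h
    exact h

omit [IsLocallyNoetherian X] in
/-- Maps to modules killed by `J` factor through `G ⊗ O/J`. -/
theorem exists_factor (hG : FlatMod.IsFinLocFree G) {J : X.IdealSheafData} {H : X.Modules} (hH : Killed H J)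
    (φ : G ⟶ H) : ∃ ψ : CohB1.tensorMod G (ClSub.quotMod J) ⟶ H, toQ G J ≫ ψ = φ := by
  haveI := CurveRR24.epi_toSubscheme J
  have hS := shortExact_tE hG (shortExact_kernel (ClSub.toSubscheme J))
  haveI := hS.epi_g
  have h0 : tE G (kernel.ι (ClSub.toSubscheme J)) ≫ (unitR G).inv ≫ φ = 0 := by
    refine AmpleLib.hom_ext fun U a b => ?_
    rw [Scheme.Modules.Hom.comp_app, ConcreteCategory.comp_apply, Scheme.Modules.Hom.comp_app,
      ConcreteCategory.comp_apply, tensE_map_tmul]
    let r : Γ(X, U) := (kernel.ι (ClSub.toSubscheme J)).app U b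
    show φ.app U ((unitR G).inv.app U (tmul a (show Γ(Coh.structureModule X, U) from r))) = 0
    rw [unitR_inv_tmul, Scheme.Modules.Hom.app_smul]
    refine ext_affine fun y hy => ?_
    obtain ⟨B, hyB, hB⟩ := exists_affine_le hy
    refine ⟨B, hyB, hB, ?_⟩
    rw [map_zero, resM_smul]
    refine hH B _ ?_ _
    rw [mem_ideal_iff, ← mem_range_idealModι]
    exact ⟨resM _ hB b, app_resM (kernel.ι (ClSub.toSubscheme J)) hB b⟩
  refine ⟨hS.gIsCokernel.desc (CokernelCofork.ofπ _ h0), ?_⟩
  have h1 : tE G (ClSub.toSubscheme J) ≫ hS.gIsCokernel.desc (CokernelCofork.ofπ _ h0) = (unitR G).inv ≫ φ :=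
    hS.gIsCokernel.fac _ WalkingParallelPair.one
  rw [toQ, Category.assoc, h1, Iso.hom_inv_id_assoc]

end Groth.Agent.Lef23
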