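import Groth.Agent.Lef23.Cyc
import Groth.Agent.PicLib.BasisOn
import Groth.Agent.AmpleLib.FTIdeal

/-!
# Modules locally free over the quotient by an ideal sheaf

A frame of `P` over `O/J` on `V` is a finite family of sections generating `P` on the affine opens inside `V` whose
relations are exactly the families with entries in `J`.
-/

set_option autoImplicit false
set_option linter.style.haveILetI false
set_option backward.isDefEq.respectTransparency.types false

universe u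

open CategoryTheory CategoryTheory.Limits AlgebraicGeometry Opposite TopologicalSpace
open Groth.Agent.Coherent Groth.Agent.PicLib Groth.Agent.AmpleLib

noncomputable section

namespace Groth.Agent.Lef23

variable {X : Scheme.{u}}

/-- A frame of `P` over `O/J`. -/
structure Frame (P : X.Modules) (J : X.IdealSheafData) (V : X.Opens) {ι : Type u} [Fintype ι]
    (e : ι → Γ(P, V)) : Prop where
  surj : ∀ (B : X.affineOpens) (h : B.1 ≤ V) (z : Γ(P, B.1)),
    ∃ r : ι → Γ(X, B.1), ∑ i, r i • resM P h (e i) = z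
  ker : ∀ (B : X.affineOpens) (h : B.1 ≤ V) (r : ι → Γ(X, B.1)),
    ∑ i, r i • resM P h (e i) = 0 ↔ ∀ i, r i ∈ J.ideal B

/-- `J` annihilates `P`. -/
def Killed (P : X.Modules) (J : X.IdealSheafData) : Prop :=
  ∀ (B : X.affineOpens) (r : Γ(X, B.1)), r ∈ J.ideal B → ∀ z : Γ(P, B.1), r • z = 0

/-- Locally `P` has frames. -/
def LocFrame (P : X.Modules) (J : X.IdealSheafData) : Prop :=
  ∀ x : X, ∃ V : X.affineOpens, x ∈ V.1 ∧ ∃ (ι : Type u) (_ : Fintype ι) (e : ι → Γ(P, V.1)), Frame P J V.1 e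

/-- Locally some frame maps to a frame. -/
def MapsFrame {P P' : X.Modules} (φ : P ⟶ P') (J J' : X.IdealSheafData) : Prop :=
  ∀ x : X, ∃ V : X.affineOpens, x ∈ V.1 ∧ ∃ (ι : Type u) (_ : Fintype ι) (e : ι → Γ(P, V.1)),
    Frame P J V.1 e ∧ Frame P' J' V.1 (fun i => φ.app V.1 (e i))

theorem app_comb {P P' : X.Modules} (φ : P ⟶ P') {V B : X.Opens} (h : B ≤ V) {ι : Type u} [Fintype ι]
    (r : ι → Γ(X, B)) (e : ι → Γ(P, V)) :
    φ.app B (∑ i, r i • resM P h (e i)) = ∑ i, r i • resM P' h (φ.app V (e i)) := by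
  rw [map_sum]
  exact Finset.sum_congr rfl fun i _ => by rw [Scheme.Modules.Hom.app_smul, app_resM]

theorem comb_comb {R M : Type*} [CommRing R] [AddCommGroup M] [Module R M] {ι κ : Type*} [Fintype ι] [Fintype κ]
    (c : κ → R) (N : κ → ι → R) (e : ι → M) :
    ∑ j, c j • ∑ i, N j i • e i = ∑ i, (∑ j, c j * N j i) • e i := by
  simp only [Finset.smul_sum, Finset.sum_smul, smul_smul]
  exact Finset.sum_comm

theorem ext_affine {P : X.Modules} {U : X.Opens} {a b : Γ(P, U)}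
    (h : ∀ y ∈ U, ∃ B : X.affineOpens, y ∈ B.1 ∧ ∃ hB : B.1 ≤ U, resM P hB a = resM P hB b) : a = b :=
  sec_ext _ _ _ fun y hy => let ⟨B, hyB, hB, e⟩ := h y hy; ⟨B.1, hB, hyB, e⟩

theorem exists_affine_le {U : X.Opens} {y : X} (hy : y ∈ U) : ∃ B : X.affineOpens, y ∈ B.1 ∧ B.1 ≤ U := by
  obtain ⟨B, hB, hyB, hle⟩ := exists_isAffineOpen_mem_and_subset (x := y) (U := U) hy
  exact ⟨⟨B, hB⟩, hyB, hle⟩

namespace Frame

variable {P P' : X.Modules} {J J' : X.IdealSheafData} {V : X.Opens} {ι : Type u} [Fintype ι] {e : ι → Γ(P, V)}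

theorem restrict (he : Frame P J V e) {W : X.Opens} (h : W ≤ V) : Frame P J W (fun i => resM P h (e i)) where
  surj B hB z := by
    obtain ⟨r, hr⟩ := he.surj B (hB.trans h) z
    exact ⟨r, by simp only [resM_resM]; exact hr⟩
  ker B hB r := by simp only [resM_resM]; exact he.ker B (hB.trans h) r

theorem killed (he : Frame P J V e) (B : X.affineOpens) (h : B.1 ≤ V) {r : Γ(X, B.1)} (hr : r ∈ J.ideal B)
    (z : Γ(P, B.1)) : r • z = 0 := by
  obtain ⟨c, rfl⟩ := he.surj B h z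
  rw [Finset.smul_sum]
  simp only [smul_smul]
  exact (he.ker B h _).2 fun i => Ideal.mul_mem_right _ _ hr

/-- A map carrying one frame to a frame carries every frame to a frame. -/
theorem map_of_map (he : Frame P J V e) {κ : Type u} [Fintype κ] {f : κ → Γ(P, V)} (hf : Frame P J V f)
    (φ : P ⟶ P') (hφ : Frame P' J' V (fun j => φ.app V (f j))) (hJ : J ≤ J') :
    Frame P' J' V (fun i => φ.app V (e i)) where
  surj B h z := by
    obtain ⟨c, rfl⟩ := hφ.surj B h z
    choose N hN using fun j => he.surj B h (resM P h (f j))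
    refine ⟨fun i => ∑ j, c j * N j i, ?_⟩
    rw [← app_comb, ← comb_comb]
    simp only [hN]
    rw [app_comb]
  ker B h r := by
    refine ⟨fun h0 => ?_, fun hr => Finset.sum_eq_zero fun i _ => hφ.killed B h (hr i) _⟩
    obtain ⟨c, hc⟩ := hf.surj B h (∑ i, r i • resM P h (e i))
    have h1 : ∀ j, c j ∈ J'.ideal B := (hφ.ker B h c).1 (by rw [← app_comb, hc, app_comb]; exact h0)
    choose N hN using fun j => he.surj B h (resM P h (f j))
    have h2 : ∑ i, (r i - ∑ j, c j * N j i) • resM P h (e i) = 0 := by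
      simp only [sub_smul, Finset.sum_sub_distrib, ← comb_comb, hN, hc, sub_self]
    intro i
    have h3 := hJ B ((he.ker B h _).1 h2 i)
    have h4 : ∑ j, c j * N j i ∈ J'.ideal B := Ideal.sum_mem _ fun j _ => Ideal.mul_mem_right _ _ (h1 j)
    have h5 := Ideal.add_mem _ h3 h4
    rwa [sub_add_cancel] at h5

/-- Change of frame by an invertible matrix. -/
theorem of_matrix (he : Frame P J V e) {κ : Type u} [Fintype κ] [DecidableEq ι] [DecidableEq κ]
    {v : κ → Γ(P, V)} (M : Matrix κ ι Γ(X, V)) (L : Matrix ι κ Γ(X, V)) (h1 : L * M = 1) (h2 : M * L = 1)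
    (hv : ∀ j, v j = ∑ i, M j i • e i) : Frame P J V v := by
  have key : ∀ (B : X.affineOpens) (h : B.1 ≤ V) (c : κ → Γ(X, B.1)),
      ∑ j, c j • resM P h (v j) =
        ∑ i, (Matrix.vecMul c (M.map (X.presheaf.map (homOfLE h).op).hom)) i • resM P h (e i) := fun B h c => by
    have hres : ∀ j, resM P h (v j) = ∑ i, (M.map (X.presheaf.map (homOfLE h).op).hom) j i • resM P h (e i) :=
      fun j => by
        rw [hv, map_sum]
        exact Finset.sum_congr rfl fun i _ => resM_smul P h _ _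
    simp only [hres, comb_comb]
    rfl
  refine ⟨fun B h z => ?_, fun B h c => ?_⟩
  · obtain ⟨r, rfl⟩ := he.surj B h z
    refine ⟨Matrix.vecMul r (L.map (X.presheaf.map (homOfLE h).op).hom), ?_⟩
    rw [key, Matrix.vecMul_vecMul, ← Matrix.map_mul, h1, Matrix.map_one _ (map_zero _) (map_one _),
      Matrix.vecMul_one]
  · rw [key, he.ker]
    refine ⟨fun hc j => ?_, fun hc i => Ideal.sum_mem _ fun j _ => Ideal.mul_mem_right _ _ (hc j)⟩
    have hcc : c = Matrix.vecMul (Matrix.vecMul c (M.map (X.presheaf.map (homOfLE h).op).hom))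
        (L.map (X.presheaf.map (homOfLE h).op).hom) := by
      rw [Matrix.vecMul_vecMul, ← Matrix.map_mul, h2, Matrix.map_one _ (map_zero _) (map_one _), Matrix.vecMul_one]
    rw [hcc]
    exact Ideal.sum_mem _ fun i _ => Ideal.mul_mem_right _ _ (hc i)

end Frame

variable {P P' P'' : X.Modules} {J J' J'' : X.IdealSheafData}

theorem MapsFrame.locFrame {φ : P ⟶ P'} (h : MapsFrame φ J J') : LocFrame P J := fun x =>
  let ⟨V, hxV, ι, _, e, he, _⟩ := h x
  ⟨V, hxV, ι, ‹_›, e, he⟩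

theorem MapsFrame.locFrame_right {φ : P ⟶ P'} (h : MapsFrame φ J J') : LocFrame P' J' := fun x =>
  let ⟨V, hxV, ι, _, e, _, he⟩ := h x
  ⟨V, hxV, ι, ‹_›, _, he⟩

theorem LocFrame.killed (h : LocFrame P J) : Killed P J := fun B r hr z =>
  ext_affine fun y hy => by
    obtain ⟨V, hyV, ι, _, e, he⟩ := h y
    obtain ⟨C, hyC, hC⟩ := exists_affine_le (U := B.1 ⊓ V.1) ⟨hy, hyV⟩
    have hCB : C.1 ≤ B.1 := hC.trans inf_le_left
    refine ⟨C, hyC, hCB, ?_⟩
    rw [map_zero, resM_smul]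
    exact he.killed C (hC.trans inf_le_right) (J.ideal_le_comap_ideal hCB hr) _

theorem MapsFrame.id (h : LocFrame P J) : MapsFrame (𝟙 P) J J := fun x => by
  obtain ⟨V, hxV, ι, _, e, he⟩ := h x
  refine ⟨V, hxV, ι, inferInstance, e, he, ?_⟩
  rw [show (fun i => (𝟙 P : P ⟶ P).app V.1 (e i)) = e from rfl]
  exact he

theorem MapsFrame.comp {φ : P ⟶ P'} {ψ : P' ⟶ P''} (hφ : MapsFrame φ J J') (hψ : MapsFrame ψ J' J'')
    (hJ : J' ≤ J'') : MapsFrame (φ ≫ ψ) J J'' := fun x => by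
  obtain ⟨V, hxV, ι, _, e, he, hφe⟩ := hφ x
  obtain ⟨W, hxW, κ, _, f, hf, hψf⟩ := hψ x
  obtain ⟨C, hxC, hC⟩ := exists_affine_le (U := V.1 ⊓ W.1) (y := x) ⟨hxV, hxW⟩
  have hCV : C.1 ≤ V.1 := hC.trans inf_le_left
  have hCW : C.1 ≤ W.1 := hC.trans inf_le_right
  refine ⟨C, hxC, ι, inferInstance, _, he.restrict hCV, ?_⟩
  have h1 := hφe.restrict hCV
  have h2 := hψf.restrict hCW
  simp only [← app_resM] at h1 h2
  exact h1.map_of_map (hf.restrict hCW) ψ h2 hJ

theorem MapsFrame.surj {φ : P ⟶ P'} (h : MapsFrame φ J J') : Surj φ := fun x => by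
  obtain ⟨V, hxV, ι, _, e, -, hφe⟩ := h x
  refine ⟨V, hxV, fun B hB z => ?_⟩
  obtain ⟨r, rfl⟩ := hφe.surj B hB z
  exact ⟨_, app_comb φ hB r e⟩

/-- A map matching frames over the same ideal is an isomorphism. -/
theorem MapsFrame.isIso {φ : P ⟶ P'} (h : MapsFrame φ J J) : IsIso φ := by
  refine TwistLib.G.isIso_of_bijective_on_basis φ (fun B => ∃ hB : IsAffineOpen B, ∃ (ι : Type u) (_ : Fintype ι)
    (e : ι → Γ(P, B)), Frame P J B e ∧ Frame P' J B (fun i => φ.app B (e i))) (fun U y hy => ?_) ?_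
  · obtain ⟨V, hyV, ι, _, e, he, he'⟩ := h y
    obtain ⟨C, hyC, hC⟩ := exists_affine_le (U := U ⊓ V.1) (y := y) ⟨hy, hyV⟩
    have hCV : C.1 ≤ V.1 := hC.trans inf_le_right
    have h1 := he'.restrict hCV
    simp only [← app_resM] at h1
    exact ⟨C.1, ⟨C.2, ι, inferInstance, _, he.restrict hCV, h1⟩, hyC, hC.trans inf_le_left⟩
  · rintro B ⟨hB, ι, _, e, he, he'⟩
    refine ⟨(injective_iff_map_eq_zero (φ.app B).hom).2 fun z hz => ?_, fun z => ?_⟩
    · obtain ⟨r, rfl⟩ := he.surj ⟨B, hB⟩ le_rfl z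
      exact (he.ker ⟨B, hB⟩ le_rfl r).2 ((he'.ker ⟨B, hB⟩ le_rfl r).1 ((app_comb φ le_rfl r e).symm.trans hz))
    · obtain ⟨r, rfl⟩ := he'.surj ⟨B, hB⟩ le_rfl z
      exact ⟨_, app_comb φ le_rfl r e⟩

/-- **The kernel of a map matching frames.** -/
theorem exists_kernel_iso_frame {A : X.Modules} (hA : PicF.IsInvertible A) (a : A ⟶ Coh.structureModule X) [Mono a]
    {q : P ⟶ P'} {p : P ⟶ P''} (hq : MapsFrame q J J') (hp : MapsFrame p J J'') (hJJ' : J ≤ J')
    (hJ : ∀ (V : X.affineOpens) (g : Γ(A, V.1)), IsGen A V.1 g →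
      J'.ideal V = Ideal.span {(show Γ(X, V.1) from a.app V.1 g)} ∧
      J.ideal V = Ideal.span {(show Γ(X, V.1) from a.app V.1 g)} * J''.ideal V) :
    Nonempty (kernel q ≅ CohB1.tensorMod A P'') := by
  let μ : CohB1.tensorMod A P ⟶ P := (actBilin a P).desc
  let Nice : X.Opens → Prop := fun B => ∃ hB : IsAffineOpen B, ∃ (g : Γ(A, B)) (ι : Type u) (_ : Fintype ι)
    (e : ι → Γ(P, B)), IsGen A B g ∧ Frame P J B e ∧ Frame P' J' B (fun i => q.app B (e i)) ∧
      Frame P'' J'' B (fun i => p.app B (e i))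
  have hbasis : ∀ (U : X.Opens) (y : X), y ∈ U → ∃ B, Nice B ∧ y ∈ B ∧ B ≤ U := fun U y hy => by
    obtain ⟨V, hyV, ι, _, e, he, hpe⟩ := hp y
    obtain ⟨W, hyW, κ, _, f, hf, hqf⟩ := hq y
    obtain ⟨W₁, hyW₁, g, hg⟩ := exists_isGen hA y
    obtain ⟨C, hyC, hC⟩ := exists_affine_le (U := U ⊓ V.1 ⊓ W.1 ⊓ W₁) (y := y) ⟨⟨⟨hy, hyV⟩, hyW⟩, hyW₁⟩
    have hCV : C.1 ≤ V.1 := hC.trans (inf_le_left.trans (inf_le_left.trans inf_le_right))
    have hCW : C.1 ≤ W.1 := hC.trans (inf_le_left.trans inf_le_right)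
    have h1 := hpe.restrict hCV
    have h2 := hqf.restrict hCW
    simp only [← app_resM] at h1 h2
    exact ⟨C.1, ⟨C.2, _, ι, inferInstance, _, hg.restrict (hC.trans inf_le_right), he.restrict hCV,
      (he.restrict hCV).map_of_map (hf.restrict hCW) q h2 hJJ', h1⟩, hyC,
      hC.trans (inf_le_left.trans (inf_le_left.trans inf_le_left))⟩
  have hext : ∀ {M : X.Modules} (f g : CohB1.tensorMod A P ⟶ M),
      (∀ B, Nice B → ∀ z, f.app B z = g.app B z) → f = g := fun f g h => by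
    refine Scheme.Modules.hom_ext _ _ fun U => ConcreteCategory.hom_ext _ _ fun z => ?_
    refine sec_ext _ _ _ fun y hy => ?_
    obtain ⟨B, hB, hyB, hle⟩ := hbasis U y hy
    exact ⟨B, hle, hyB, by rw [← app_resM, ← app_resM]; exact h B hB _⟩
  have hμ : ∀ (B : X.Opens) (g : Γ(A, B)) (z : Γ(P, B)),
      μ.app B (tmul g z) = (show Γ(X, B) from a.app B g) • z := fun B g z => Bilin.desc_tmul _ B g z
  have hzero : μ ≫ q = 0 := hext _ _ fun B ⟨hB, g, ι, _, e, hg, he, heq, hep⟩ z => by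
    obtain ⟨m, rfl⟩ := (bijective_tmul_left hg P le_rfl).2 z
    simp only [PicLib.resM_self]
    rw [Scheme.Modules.Hom.comp_app, ConcreteCategory.comp_apply, hμ, Scheme.Modules.Hom.app_smul]
    refine (heq.killed ⟨B, hB⟩ le_rfl ?_ _).trans rfl
    rw [(hJ ⟨B, hB⟩ g hg).1]
    exact Ideal.mem_span_singleton_self _
  let μ' : CohB1.tensorMod A P ⟶ kernel q := kernel.lift q μ hzero
  haveI : Epi p := hp.surj.epi
  let π : CohB1.tensorMod A P ⟶ CohB1.tensorMod A P'' := tE A p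
  haveI : PreservesColimitsOfSize.{0, 0} (tensE A) := (tensorHomAdj A).leftAdjoint_preservesColimits
  haveI : Epi π := (tensE A).map_epi p
  have hπ : ∀ (B : X.Opens) (g : Γ(A, B)) (z : Γ(P, B)), π.app B (tmul g z) = tmul g (p.app B z) :=
    fun B g z => tensE_map_tmul A p B g z
  have hkern : kernel.ι π ≫ μ' = 0 := by
    refine Scheme.Modules.hom_ext _ _ fun U => ConcreteCategory.hom_ext _ _ fun w => ?_
    refine sec_ext _ _ _ fun y hy => ?_
    obtain ⟨B, ⟨hB, g, ι, _, e, hg, he, heq, hep⟩, hyB, hle⟩ := hbasis U y hy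
    refine ⟨B, hle, hyB, ?_⟩
    rw [← app_resM, ← app_resM]
    let w' := resM _ hle w
    apply app_injective_of_mono (kernel.ι q) B
    show (kernel.ι q).app B (μ'.app B ((kernel.ι π).app B w')) = (kernel.ι q).app B 0
    rw [map_zero, ← ConcreteCategory.comp_apply, ← Scheme.Modules.Hom.comp_app, kernel.lift_ι]
    have h0 := kernel_ι_app_zero π B w'
    obtain ⟨m, hm⟩ := (bijective_tmul_left hg P le_rfl).2 ((kernel.ι π).app B w')
    obtain ⟨r, rfl⟩ := he.surj ⟨B, hB⟩ le_rfl m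
    simp only [PicLib.resM_self] at hm
    rw [← hm, hπ] at h0
    have h1 : p.app B (∑ i, r i • e i) = 0 := (bijective_tmul_left hg P'' le_rfl).1 (by
      simp only [PicLib.resM_self]
      rw [h0, tmul_zero_right])
    have hr : ∀ i, r i ∈ J''.ideal ⟨B, hB⟩ := (hep.ker ⟨B, hB⟩ le_rfl r).1 (by
      rw [← app_comb]; simp only [PicLib.resM_self]; exact h1)
    rw [← hm, hμ, Finset.smul_sum]
    refine Finset.sum_eq_zero fun i _ => ?_
    rw [smul_smul]
    refine he.killed ⟨B, hB⟩ le_rfl ?_ _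
    rw [(hJ ⟨B, hB⟩ g hg).2]
    exact Ideal.mul_mem_mul (Ideal.mem_span_singleton_self _) (hr i)
  let ν : CohB1.tensorMod A P'' ⟶ kernel q := Abelian.epiDesc π μ' hkern
  have hν : π ≫ ν = μ' := Abelian.comp_epiDesc π μ' hkern
  haveI : IsIso ν := by
    refine TwistLib.G.isIso_of_bijective_on_basis ν Nice hbasis fun B ⟨hB, g, ι, _, e, hg, he, heq, hep⟩ => ?_
    have hval : ∀ r : ι → Γ(X, B), (kernel.ι q).app B (ν.app B (tmul g (p.app B (∑ i, r i • e i)))) =
        ∑ i, ((show Γ(X, B) from a.app B g) * r i) • e i := fun r => by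
      rw [← hπ, ← ConcreteCategory.comp_apply (π.app B), ← Scheme.Modules.Hom.comp_app, hν,
        ← ConcreteCategory.comp_apply (μ'.app B), ← Scheme.Modules.Hom.comp_app, kernel.lift_ι, hμ, Finset.smul_sum]
      simp only [smul_smul]
    have hpre : ∀ z : Γ(CohB1.tensorMod A P'', B), ∃ r : ι → Γ(X, B), tmul g (p.app B (∑ i, r i • e i)) = z :=
      fun z => by
        obtain ⟨m, rfl⟩ := (bijective_tmul_left hg P'' le_rfl).2 z
        obtain ⟨r, rfl⟩ := hep.surj ⟨B, hB⟩ le_rfl m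
        refine ⟨r, ?_⟩
        rw [← app_comb]
        simp only [PicLib.resM_self]
    refine ⟨(injective_iff_map_eq_zero (ν.app B).hom).2 fun z hz => ?_, fun y => ?_⟩
    · obtain ⟨r, rfl⟩ := hpre z
      have h1 := (hval r).symm.trans ((congrArg ((kernel.ι q).app B) hz).trans (map_zero _))
      have h2 := (he.ker ⟨B, hB⟩ le_rfl _).1 (by simp only [PicLib.resM_self]; exact h1)
      have h3 : ∀ i, r i ∈ J''.ideal ⟨B, hB⟩ := fun i => by
        have h4 := h2 i
        rw [(hJ ⟨B, hB⟩ g hg).2, Ideal.mem_span_singleton_mul] at h4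
        obtain ⟨c, hc, hcr⟩ := h4
        have hrc : r i = c := by
          refine (hg B le_rfl).1 (app_injective_of_mono a B ?_)
          simp only [PicLib.resM_self, Scheme.Modules.Hom.app_smul]
          show r i * (show Γ(X, B) from a.app B g) = c * (show Γ(X, B) from a.app B g)
          rw [mul_comm (r i), ← hcr, mul_comm c]
        exact hrc ▸ hc
      have h5 := (hep.ker ⟨B, hB⟩ le_rfl r).2 h3
      rw [← app_comb] at h5
      simp only [PicLib.resM_self] at h5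
      rw [h5, tmul_zero_right]
    · obtain ⟨c, hc⟩ := he.surj ⟨B, hB⟩ le_rfl ((kernel.ι q).app B y)
      have h1 : ∀ i, c i ∈ J'.ideal ⟨B, hB⟩ := (heq.ker ⟨B, hB⟩ le_rfl c).1 (by
        rw [← app_comb, hc]; exact kernel_ι_app_zero q B y)
      have h2 : ∀ i, ∃ r : Γ(X, B), r * (show Γ(X, B) from a.app B g) = c i := fun i => by
        have h3 := h1 i
        rw [(hJ ⟨B, hB⟩ g hg).1, Ideal.mem_span_singleton'] at h3
        exact h3
      choose r hr using h2
      refine ⟨tmul g (p.app B (∑ i, r i • e i)), app_injective_of_mono (kernel.ι q) B ?_⟩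
      rw [hval, ← hc]
      refine Finset.sum_congr rfl fun i _ => ?_
      rw [PicLib.resM_self, mul_comm, hr]
  exact ⟨(asIso ν).symm⟩

/-- The kernel between two thickenings. -/
theorem exists_kernel_iso_frame_pow (I : X.IdealSheafData) (hI : BlowUp.IsEffCartierIdeal I) (a b n : ℕ)
    (hn : n = a + b) {q : P ⟶ P'} {p : P ⟶ P''} (hq : MapsFrame q (I ^ n) (I ^ a)) (hp : MapsFrame p (I ^ n) (I ^ b)) :
    Nonempty (kernel q ≅ CohB1.tensorMod (ClSub.idealMod (I ^ a)) P'') := by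
  have hA : PicF.IsInvertible (ClSub.idealMod (I ^ a)) := by
    obtain ⟨e⟩ := nonempty_idealMod_pow I hI a
    exact KLLib.isInvertible_of_iso e.symm (isInvertible_tensorPow ((Groth.Agent.S8914.result I).2 hI) a)
  haveI := AmpleLib.mono_idealModι (I ^ a)
  refine exists_kernel_iso_frame hA (ClSub.idealModι (I ^ a)) hq hp (pow_le_pow_of_le_one bot_le le_top (by omega)) fun V g hg => ⟨ideal_pow_gen I a V hg, ?_⟩
  rw [← ideal_pow_gen I a V hg, hn, pow_add, Scheme.IdealSheafData.ideal_mul]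
  rfl

/-! ### Frames from bases on closed subschemes -/

theorem isBasisOn_empty {Z : Scheme.{u}} (N : Z.Modules) {U : Z.Opens} (hU : U = ⊥) {ι : Type u} [Fintype ι]
    [IsEmpty ι] (e : ι → Γ(N, U)) : IsBasisOn N U e := fun V hV => by
  refine ⟨fun a b _ => funext fun i => isEmptyElim i, fun z => ⟨isEmptyElim, ?_⟩⟩
  exact sec_ext N _ z fun y hy => by
    have h := hV hy
    rw [hU] at h
    exact h.elim

theorem isBasisOn_restrict {Z : Scheme.{u}} {N : Z.Modules} {U : Z.Opens} {ι : Type u} [Fintype ι]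
    {e : ι → Γ(N, U)} (he : IsBasisOn N U e) {W : Z.Opens} (h : W ≤ U) :
    IsBasisOn N W (fun i => resM N h (e i)) := fun V hV => by
  simp only [resM_resM]
  exact he (hV.trans h)

theorem isBasisOn_map_iso {Z : Scheme.{u}} {N N' : Z.Modules} (φ : N ≅ N') {U : Z.Opens} {ι : Type u} [Fintype ι]
    {e : ι → Γ(N, U)} (he : IsBasisOn N U e) : IsBasisOn N' U (fun i => φ.hom.app U (e i)) := fun V hV => by
  have h := (ConcreteCategory.bijective_of_isIso (φ.hom.app V)).comp (he hV)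
  convert h using 1
  funext c
  exact (app_comb φ.hom hV c e).symm

theorem Frame.of_basis {Z : Scheme.{u}} (t : Z ⟶ X) [IsClosedImmersion t] (N : Z.Modules) {V : X.Opens} {ι : Type u}
    [Fintype ι] {e : ι → Γ(N, t ⁻¹ᵁ V)} (he : IsBasisOn N (t ⁻¹ᵁ V) e) :
    Frame ((Scheme.Modules.pushforward t).obj N) t.ker V e := by
  refine ⟨fun B h z => ?_, fun B h r => ?_⟩
  · obtain ⟨c, hc⟩ := (he (t.preimage_mono h)).2 z
    choose r hr using fun i => t.app_surjective B.1 B.2 (c i)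
    refine ⟨r, Eq.trans (Finset.sum_congr rfl fun i _ => ?_) hc⟩
    show t.app B.1 (r i) • resM N (t.preimage_mono h) (e i) = _
    rw [hr]
  · rw [Scheme.Hom.ker_apply]
    show (∑ i, t.app B.1 (r i) • resM N (t.preimage_mono h) (e i) : Γ(N, t ⁻¹ᵁ B.1)) = 0 ↔ ∀ i, t.app B.1 (r i) = 0
    refine ⟨fun h0 i => congrFun ((he (t.preimage_mono h)).1 (a₁ := fun i => t.app B.1 (r i)) (a₂ := 0) ?_) i,
      fun h0 => Finset.sum_eq_zero fun i _ => by rw [h0, zero_smul]⟩
    refine h0.trans (Eq.symm (Finset.sum_eq_zero fun i _ => ?_))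
    exact zero_smul _ _

/-- Bases of a locally free module on a closed subscheme, on preimages of affine opens. -/
theorem exists_basis_preimage {Z : Scheme.{u}} (t : Z ⟶ X) [IsClosedImmersion t] {N : Z.Modules}
    (hN : FlatMod.IsFinLocFree N) (x : X) :
    ∃ V : X.affineOpens, x ∈ V.1 ∧ ∃ (ι : Type u) (_ : Fintype ι) (e : ι → Γ(N, t ⁻¹ᵁ V.1)),
      IsBasisOn N (t ⁻¹ᵁ V.1) e := by
  by_cases hx : x ∈ Set.range t
  · obtain ⟨z, rfl⟩ := hx
    obtain ⟨Q, n, e, hzQ, he⟩ := exists_isBasisOn hN z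
    obtain ⟨V₀, hV₀, eq⟩ := t.isEmbedding.isInducing.isOpen_iff.1 Q.2
    obtain ⟨V, hzV, hVV₀⟩ := exists_affine_le (U := (⟨V₀, hV₀⟩ : X.Opens)) (y := t z)
      (show t z ∈ V₀ by have := eq.ge hzQ; exact this)
    have hle : t ⁻¹ᵁ V.1 ≤ Q := fun w hw => eq.le (hVV₀ hw)
    exact ⟨V, hzV, _, inferInstance, _, isBasisOn_restrict he hle⟩
  · obtain ⟨V, hxV, hVr⟩ := exists_affine_le
      (U := (⟨(Set.range t)ᶜ, t.isClosedEmbedding.isClosed_range.isOpen_compl⟩ : X.Opens)) (y := x) hx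
    have hbot : t ⁻¹ᵁ V.1 = ⊥ := le_bot_iff.1 fun w hw => hVr hw ⟨w, rfl⟩
    exact ⟨V, hxV, PEmpty.{u + 1}, inferInstance, fun i => i.elim, isBasisOn_empty N hbot _⟩

end Groth.Agent.Lef23
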