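import Mathlib.RingTheory.Filtration
import Mathlib.RingTheory.Nakayama
import Mathlib.LinearAlgebra.Dimension.Free
import Mathlib.LinearAlgebra.TensorProduct.Tower
import Mathlib.LinearAlgebra.TensorProduct.Quotient
import Mathlib.Algebra.Module.SpanRank
import Mathlib.RingTheory.TensorProduct.Finite
import Mathlib.RingTheory.OrzechProperty
import Mathlib.LinearAlgebra.Dimension.OrzechProperty
import Mathlib.LinearAlgebra.Dimension.Finite

/-!
# Finite modules free modulo all powers of an ideal are free
-/

set_option autoImplicit false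
set_option linter.style.haveILetI false
universe u

open TensorProduct IsLocalRing

namespace Groth.Agent.Lef23

variable {R : Type u} [CommRing R] [IsLocalRing R] {M : Type u} [AddCommGroup M] [Module R M] [Module.Finite R M]

/-- Elements generating after base change along a surjection with small kernel generate. -/
theorem top_le_span_of_surjective (S : Type u) [CommRing S] [Algebra R S]
    (hsurj : Function.Surjective (algebraMap R S))
    (hker : RingHom.ker (algebraMap R S) ≤ maximalIdeal R) {ι : Type*} (v : ι → M)
    (hv : Submodule.span S (Set.range fun i => (1 : S) ⊗ₜ[R] v i) = ⊤) :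
    (⊤ : Submodule R M) ≤ Submodule.span R (Set.range v) := by
  let N := Submodule.span R (Set.range v)
  refine Submodule.le_of_le_smul_of_le_jacobson_bot Module.Finite.fg_top
    (hker.trans (maximalIdeal_le_jacobson _)) fun x _ => ?_
  have hx : (1 : S) ⊗ₜ[R] x ∈ Submodule.span R (Set.range fun i => (1 : S) ⊗ₜ[R] v i) := by
    rw [← Submodule.restrictScalars_span R S hsurj]
    show (1 : S) ⊗ₜ[R] x ∈ Submodule.span S _
    rw [hv]
    trivial
  rw [show (Set.range fun i => (1 : S) ⊗ₜ[R] v i) = (TensorProduct.mk R S M 1) '' Set.range v from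
    Set.range_comp (TensorProduct.mk R S M 1) v, ← Submodule.map_span] at hx
  obtain ⟨n, hn, hnx⟩ := hx
  refine Submodule.mem_sup.2 ⟨n, hn, x - n, ?_, by abel⟩
  let ψ : S ⊗[R] M ≃ₗ[R] (R ⧸ RingHom.ker (algebraMap R S)) ⊗[R] M :=
    TensorProduct.congr (AlgEquiv.ofBijective (Ideal.Quotient.liftₐ (RingHom.ker (algebraMap R S)) (Algebra.ofId R S)
      fun a ha => ha) ⟨by
        rw [injective_iff_map_eq_zero]
        intro z hz
        obtain ⟨a, rfl⟩ := Ideal.Quotient.mk_surjective z
        exact Ideal.Quotient.eq_zero_iff_mem.2 hz, fun z => by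
        obtain ⟨a, rfl⟩ := hsurj z
        exact ⟨Ideal.Quotient.mk _ a, rfl⟩⟩).symm.toLinearEquiv (LinearEquiv.refl R M)
  have h0 : (1 : S) ⊗ₜ[R] (x - n) = 0 := by
    rw [TensorProduct.tmul_sub]
    exact sub_eq_zero.2 hnx.symm
  have h1 : TensorProduct.quotTensorEquivQuotSMul M (RingHom.ker (algebraMap R S)) (ψ ((1 : S) ⊗ₜ[R] (x - n))) = 0 := by
    rw [h0, map_zero, map_zero]
  simp only [ψ, TensorProduct.congr_tmul, AlgEquiv.toLinearEquiv_apply, map_one, LinearEquiv.refl_apply] at h1
  rw [← map_one (Ideal.Quotient.mk (RingHom.ker (algebraMap R S)))] at h1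
  rw [TensorProduct.quotTensorEquivQuotSMul_mk_tmul, one_smul] at h1
  exact (Submodule.Quotient.mk_eq_zero _).1 h1

/-- A finite module that is free modulo all powers of an ideal in the maximal ideal is free. -/
theorem free_of_levels [IsNoetherianRing R] (J : Ideal R) (hJ : J ≠ ⊤) (S : ℕ → Type u)
    [∀ n, CommRing (S n)] [∀ n, Algebra R (S n)] (hsurj : ∀ n, Function.Surjective (algebraMap R (S n)))
    (hker : ∀ n, RingHom.ker (algebraMap R (S n)) = J ^ (n + 1))
    (hfree : ∀ n, Module.Free (S n) (S n ⊗[R] M)) : Module.Free R M := by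
  classical
  let r := (⊤ : Submodule R M).spanFinrank
  obtain ⟨s, hsc, hsp⟩ := Submodule.FG.exists_span_finset_card_eq_spanFinrank (p := (⊤ : Submodule R M)) Module.Finite.fg_top
  let v : s → M := fun i => i.1
  have hspan : Submodule.span R (Set.range v) = ⊤ := by
    rw [show Set.range v = (s : Set M) from Subtype.range_coe]
    exact hsp
  have hli : LinearIndependent R v := by
    rw [Fintype.linearIndependent_iff]
    intro a ha i
    have hle : ∀ n, J ^ (n + 1) ≤ maximalIdeal R := fun n =>
      (Ideal.pow_le_self (Nat.succ_ne_zero n)).trans (IsLocalRing.le_maximalIdeal hJ)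
    have hmem : ∀ n, a i ∈ J ^ (n + 1) := fun n => by
      haveI := hfree n
      haveI : Nontrivial (S n) := by
        refine ⟨0, 1, fun e => (maximalIdeal.isMaximal R).ne_top ((Ideal.eq_top_iff_one _).2 (hle n ?_))⟩
        rw [← hker n, RingHom.mem_ker, map_one, e]
      let P := S n ⊗[R] M
      let w : s → P := fun j => (1 : S n) ⊗ₜ[R] v j
      have hw : Submodule.span (S n) (Set.range w) = ⊤ := by
        rw [show Set.range w = (TensorProduct.mk R (S n) M 1) '' Set.range v from Set.range_comp (TensorProduct.mk R (S n) M 1) v,
          ← Submodule.baseChange_span, hspan, Submodule.baseChange_top]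
      have hle1 : Module.finrank (S n) P ≤ Fintype.card s := by
        have := finrank_range_le_card (R := S n) (M := P) w
        rw [Set.finrank, hw, finrank_top] at this
        exact this
      have hle2 : Fintype.card s ≤ Module.finrank (S n) P := by
        let b := Module.finBasis (S n) P
        have hlift : ∀ j, ∃ m : M, (1 : S n) ⊗ₜ[R] m = b j := fun j => by
          obtain ⟨m, hm⟩ := TensorProduct.mk_surjective R M (S n) (hsurj n) (b j)
          exact ⟨m, hm⟩
        choose m hm using hlift
        have hgen := top_le_span_of_surjective (S n) (hsurj n) ((hker n).le.trans (hle n)) m (by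
          rw [show (fun j => (1 : S n) ⊗ₜ[R] m j) = ⇑b from funext hm]
          exact b.span_eq)
        rw [Fintype.card_coe, hsc]
        calc (⊤ : Submodule R M).spanFinrank = (Submodule.span R (Set.range m)).spanFinrank := by
              rw [top_le_iff.1 hgen]
          _ ≤ (Set.range m).ncard := Submodule.spanFinrank_span_le_ncard_of_finite (Set.finite_range m)
          _ ≤ Module.finrank (S n) P := by
              rw [← Set.image_univ]
              exact (Set.ncard_image_le Set.finite_univ).trans (by rw [Set.ncard_univ, Nat.card_fin])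
      have hlin : LinearIndependent (S n) w :=
        linearIndependent_of_top_le_span_of_card_eq_finrank hw.ge (le_antisymm hle2 hle1)
      have h0 : ∑ j, algebraMap R (S n) (a j) • w j = 0 := by
        have := congrArg (TensorProduct.mk R (S n) M 1) ha
        rw [map_sum, map_zero] at this
        refine Eq.trans (Finset.sum_congr rfl fun j _ => ?_) this
        show algebraMap R (S n) (a j) • ((1 : S n) ⊗ₜ[R] v j) = (1 : S n) ⊗ₜ[R] (a j • v j)
        rw [TensorProduct.tmul_smul, algebraMap_smul]
      have := Fintype.linearIndependent_iff.1 hlin (fun j => algebraMap R (S n) (a j)) h0 i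
      rw [← hker n]
      exact this
    have : a i ∈ ⨅ n : ℕ, J ^ n := Ideal.mem_iInf.2 fun n => by
      rcases n with _ | n
      · rw [pow_zero, Ideal.one_eq_top]; trivial
      · exact hmem n
    rw [Ideal.iInf_pow_eq_bot_of_isLocalRing J hJ] at this
    exact this
  exact Module.Free.of_basis (Module.Basis.mk hli hspan.ge)

end Groth.Agent.Lef23
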