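import Groth.Agent.Lef23.LefCondition
import Groth.Agent.Lef23.Connected
import Groth.Agent.Coherent.TensorFinLoc
import Groth.Agent.AmpleLib.GenLocus
import Groth.Agent.PnEmb.Ample
import Groth.Agent.Coherent.ProjSpaceBC
import Groth.Agent.H0Growth23.Basic
import Groth.Agent.ExtSS.ProjFormula

/-!
# Invertible modules trivial on a thickening, lifted to the whole open
-/

set_option autoImplicit false
set_option linter.style.haveILetI false
set_option backward.isDefEq.respectTransparency.types false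

universe u

open CategoryTheory CategoryTheory.Limits AlgebraicGeometry Opposite TopologicalSpace
open Groth.Agent.Coherent Groth.Agent.PicLib Groth.Agent.AmpleLib Groth.Agent.EulerLib Groth.Agent.HenselLib

namespace Groth.Agent.Lef23

variable {W : Scheme.{u}}

/-- The kernel of `O/K^{m+2} → O/K^{m+1}` is killed by `K^{n+1}`. -/
theorem quotKer_smul_eq_zero (K : W.IdealSheafData) (n m : ℕ) {V : W.Opens} (hV : IsAffineOpen V)
    (z : Γ(ClSub.quotMod (K ^ (m + 2)), V)) (hz : (Lef.quotMap (Lef.pow_succ_le K m)).app V z = 0)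
    (a : Γ(W, V)) (ha : (K ^ (n + 1)).subschemeι.app V a = 0) : a • z = 0 := by
  obtain ⟨b, hb⟩ := (K ^ (m + 2)).subschemeι_app_surjective ⟨V, hV⟩ z
  have hb' : (K ^ (m + 1)).subschemeι.app V b = 0 := by
    have h1 := congrArg (fun g => g.app V b) (toSubscheme_quotMap (Lef.pow_succ_le K m))
    rw [Scheme.Modules.Hom.comp_app, ConcreteCategory.comp_apply] at h1
    refine h1.symm.trans (Eq.trans (congrArg _ ?_) hz)
    exact hb
  have ka : a ∈ (K ^ (n + 1)).ideal ⟨V, hV⟩ := by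
    rw [← Scheme.IdealSheafData.ker_subschemeι_app]
    exact ha
  have kb : b ∈ (K ^ (m + 1)).ideal ⟨V, hV⟩ := by
    rw [← Scheme.IdealSheafData.ker_subschemeι_app]
    exact hb'
  have kab : a * b ∈ (K ^ (m + 2)).ideal ⟨V, hV⟩ := by
    rw [Scheme.IdealSheafData.ideal_pow, Pi.pow_apply] at ka kb ⊢
    exact Ideal.pow_le_pow_right (by omega) (pow_add (K.ideal ⟨V, hV⟩) (n + 1) (m + 1) ▸ Ideal.mul_mem_mul ka kb)
  rw [← Scheme.IdealSheafData.ker_subschemeι_app] at kab
  subst hb
  exact ((map_mul ((K ^ (m + 2)).subschemeι.app V).hom a b).symm).trans kab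

/-- A module killed by `J` is its own tensor product with `O/J`. -/
theorem nonempty_tensor_quot (J : W.IdealSheafData) (F : W.Modules)
    (h : ∀ (V : W.Opens), IsAffineOpen V → ∀ (a : Γ(W, V)), J.subschemeι.app V a = 0 →
      ∀ z : Γ(F, V), a • z = 0) :
    Nonempty (CohB1.tensorMod F (ClSub.quotMod J) ≅ F) := by
  let u : CohB1.tensorMod F (Coh.structureModule W) ≅ F := AmpleLib.tensorComm _ _ ≪≫ unitTensorIso F
  have hzero : tE F (ClSub.idealModι J) = 0 := by
    rw [← cancel_mono u.hom, zero_comp]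
    refine AmpleLib.hom_ext fun V c g => ?_
    rw [Scheme.Modules.Hom.comp_app, ConcreteCategory.comp_apply]
    refine (app_ideal_tmul J F (r := (ClSub.idealModι J).app V g) rfl c).trans ?_
    refine sec_ext F _ 0 fun y hy => ?_
    obtain ⟨B, hB, hyB, hle⟩ := exists_isAffineOpen_mem_and_subset (x := y) (U := V) hy
    refine ⟨B, hle, hyB, ?_⟩
    rw [map_zero, resM_smul]
    refine h B hB _ ?_ _
    refine (mem_range_idealModι J B _).1 ⟨resM _ hle g, ?_⟩
    rw [app_resM]
    rfl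
  haveI : PreservesColimitsOfSize.{0, 0} (tensE F) := (tensorHomAdj F).leftAdjoint_preservesColimits
  haveI : (tensE F).Additive := DCoh.additive_tensorBi_obj F
  have hS := CurveRR24.shortExact_ideal J
  let hc := CokernelCofork.mapIsColimit _ hS.gIsCokernel (tensE F)
  obtain ⟨l, hl⟩ := CokernelCofork.IsColimit.desc' hc (𝟙 ((tensE F).obj (Coh.structureModule W)))
    (by show tE F (ClSub.idealModι J) ≫ _ = 0; rw [hzero, zero_comp])
  have hl' : tE F (ClSub.toSubscheme J) ≫ l = 𝟙 _ := hl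
  haveI := CurveRR24.epi_toSubscheme J
  haveI : Epi (tE F (ClSub.toSubscheme J)) := (tensE F).map_epi _
  refine ⟨Iso.trans ⟨l, tE F (ClSub.toSubscheme J), ?_, hl'⟩ u⟩
  rw [← cancel_epi (tE F (ClSub.toSubscheme J)), reassoc_of% hl', Category.comp_id]
  exact Category.id_comp _

/-- Tensor products with a module having no sections on small opens have none either. -/
theorem subsingleton_tensor {M : W.Modules} (hM : FlatMod.IsFinLocFree M) (N : W.Modules) (V : W.Opens)
    (h : ∀ V' : W.Opens, V' ≤ V → ∀ z : Γ(N, V'), z = 0) (t : Γ(CohB1.tensorMod M N, V)) : t = 0 := by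
  refine sec_ext _ _ _ fun y hy => ?_
  obtain ⟨B, k, e, hyB, hle, he⟩ := exists_basis_nhd hM y V hy
  refine ⟨B, hle, hyB, ?_⟩
  obtain ⟨m, hm⟩ := (bijective_sum_tmul he N B le_rfl).2 (resM _ hle t)
  rw [map_zero, ← hm]
  exact Finset.sum_eq_zero fun i _ => by rw [h B hle (m i), tmul_zero_right]

/-- A sequence with surjective steps from some stage has compatible families through every element there. -/
theorem exists_compatible : ∀ (n : ℕ) (T : ℕ → Type u) (f : ∀ m, T (m + 1) → T m),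
    (∀ m, n ≤ m → Function.Surjective (f m)) → ∀ t : T n, ∃ y : ∀ m, T m, y n = t ∧ ∀ m, f m (y (m + 1)) = y m
  | 0, T, f, hf, t => by
    choose g hg using fun m => hf m (Nat.zero_le m)
    exact ⟨fun m => Nat.rec (motive := fun m => T m) t (fun m a => g m a) m, rfl, fun m => hg m _⟩
  | n + 1, T, f, hf, t => by
    obtain ⟨y, hy0, hy⟩ := exists_compatible n (fun m => T (m + 1)) (fun m => f (m + 1))
      (fun m hm => hf (m + 1) (Nat.succ_le_succ hm)) t
    refine ⟨fun m => match m with | 0 => f 0 (y 0) | m + 1 => y m, hy0, fun m => ?_⟩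
    match m with
    | 0 => rfl
    | m + 1 => exact hy m

/-- The action of the functions on a thickening on the pullback of a module. -/
noncomputable def thickBilin (M : W.Modules) (J : W.IdealSheafData) :
    Bilin M (ClSub.quotMod J)
      ((Scheme.Modules.pushforward J.subschemeι).obj ((Scheme.Modules.pullback J.subschemeι).obj M)) where
  app V a r := (show Γ((Scheme.Modules.pullback J.subschemeι).obj M, J.subschemeι ⁻¹ᵁ V) from
    (show Γ(J.subscheme, J.subschemeι ⁻¹ᵁ V) from r) • pullSec J.subschemeι a)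
  add_left V a a' r := by
    show (show Γ(J.subscheme, J.subschemeι ⁻¹ᵁ V) from r) • pullSec J.subschemeι (a + a') = _
    rw [show pullSec J.subschemeι (a + a') = pullSec J.subschemeι a + pullSec J.subschemeι a' from
      map_add _ a a', smul_add]
    rfl
  add_right V a r r' := add_smul (show Γ(J.subscheme, J.subschemeι ⁻¹ᵁ V) from r)
    (show Γ(J.subscheme, J.subschemeι ⁻¹ᵁ V) from r') (pullSec J.subschemeι a)
  smul_left V x a r := by
    show (show Γ(J.subscheme, J.subschemeι ⁻¹ᵁ V) from r) • pullSec J.subschemeι (x • a) = _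
    rw [pullSec_smul, ← mul_smul, mul_comm, mul_smul]
    rfl
  smul_right V x a r := mul_smul (J.subschemeι.app V x) (show Γ(J.subscheme, J.subschemeι ⁻¹ᵁ V) from r)
    (pullSec J.subschemeι a)
  res V V' h a r := by
    show resM ((Scheme.Modules.pullback J.subschemeι).obj M) (J.subschemeι.preimage_mono h) _ = _
    rw [resM_smul, resM_pullSec]
    rfl

/-- `M ⊗ O/J` is the direct image of the pullback. -/
theorem isIso_thickBilin {M : W.Modules} (hM : PicF.IsInvertible M) (J : W.IdealSheafData) :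
    IsIso (thickBilin M J).desc := by
  refine TwistLib.G.isIso_of_bijective_on_basis _ (fun V => ∃ g, IsGen M V g) (fun V y hy => ?_)
    fun V ⟨g, hg⟩ => ?_
  · obtain ⟨V₀, hy₀, g, hg⟩ := exists_isGen hM y
    exact ⟨V₀ ⊓ V, ⟨_, hg.restrict inf_le_left⟩, ⟨hy₀, hy⟩, inf_le_right⟩
  · have hp := isGen_pullSec J.subschemeι hg hM
    constructor
    · intro z z' hzz
      obtain ⟨r, hr⟩ := (bijective_tmul_gen (M := ClSub.quotMod J)
        (L := M) hg V le_rfl).2 ((AmpleLib.tensorComm M (ClSub.quotMod J)).hom.app V z)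
      obtain ⟨r', hr'⟩ := (bijective_tmul_gen (M := ClSub.quotMod J)
        (L := M) hg V le_rfl).2 ((AmpleLib.tensorComm M (ClSub.quotMod J)).hom.app V z')
      have key : ∀ (z : Γ(CohB1.tensorMod M (ClSub.quotMod J), V)) (r : Γ(ClSub.quotMod J, V)),
          tmul r (resM M le_rfl g) = (AmpleLib.tensorComm M (ClSub.quotMod J)).hom.app V z → z = tmul g r :=
        fun z r hz => by
          refine app_injective_of_mono (AmpleLib.tensorComm M (ClSub.quotMod J)).hom V (hz.symm.trans ?_)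
          rw [PicLib.resM_self]
          exact (show (AmpleLib.tensorSwap M (ClSub.quotMod J)).app V (tmul g r) = tmul r g from
            Bilin.desc_tmul _ V g r).symm
      rw [key z r hr, key z' r' hr'] at hzz ⊢
      rw [Bilin.desc_tmul, Bilin.desc_tmul] at hzz
      have := (hp _ le_rfl).1 (a₁ := (show Γ(J.subscheme, J.subschemeι ⁻¹ᵁ V) from r))
        (a₂ := (show Γ(J.subscheme, J.subschemeι ⁻¹ᵁ V) from r')) (by rw [PicLib.resM_self]; exact hzz)
      exact congrArg (tmul g) this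
    · intro x
      obtain ⟨r, hr⟩ := (hp _ le_rfl).2 (show Γ((Scheme.Modules.pullback J.subschemeι).obj M, J.subschemeι ⁻¹ᵁ V) from x)
      refine ⟨tmul g (show Γ(ClSub.quotMod J, V) from r), ?_⟩
      rw [Bilin.desc_tmul]
      simp only [PicLib.resM_self] at hr
      exact hr

theorem unit_thickBilin (M : W.Modules) (J : W.IdealSheafData) (s : Γ(M, ⊤)) :
    (thickBilin M J).desc.app ⊤
      ((tE M (ClSub.toSubscheme J)).app ⊤ (tmul s (show Γ(Coh.structureModule W, ⊤) from (1 : Γ(W, ⊤))))) =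
      pullSec J.subschemeι s := by
  rw [tensE_map_tmul, Bilin.desc_tmul]
  show ((J.subschemeι.app ⊤).hom 1) • pullSec J.subschemeι s = _
  rw [map_one, one_smul]

/-- The transition map of the thickenings, with the indices of a sequence. -/
noncomputable abbrev stepMap (K : W.IdealSheafData) (m : ℕ) :
    ClSub.quotMod (K ^ (m + 1 + 1)) ⟶ ClSub.quotMod (K ^ (m + 1)) :=
  Lef.quotMap (Lef.pow_succ_le K m)

/-- Sections of `M ⊗ N` as homomorphisms out of the dual. -/
theorem exists_sections_formal {M : W.Modules} (hM : PicF.IsInvertible M) (K : W.IdealSheafData)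
    (hK : ∀ D : W.Modules, FlatMod.IsFinLocFree D → Lef.HomToFormalBijective K D)
    (y : ∀ m, Γ(CohB1.tensorMod M (ClSub.quotMod (K ^ (m + 1))), ⊤))
    (hy : ∀ m, (tE M (stepMap K m)).app ⊤ (y (m + 1)) = y m) :
    ∃ x : Γ(CohB1.tensorMod M (Coh.structureModule W), ⊤),
      ∀ m, (tE M (ClSub.toSubscheme (K ^ (m + 1)))).app ⊤ x = y m := by
  have hMl := Coherent.isFinLocFree_of_invertible hM
  let D := internalHom M (Coh.structureModule W)
  have hD : FlatMod.IsFinLocFree D := CohBC.isFinLocFree_internalHom hMl (CohBC.isFinLocFree_structureModule W)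
  obtain ⟨v⟩ := ExtSS.nonempty_dual_dual (E := M) hMl
  let Φ : ∀ N : W.Modules, (D ⟶ N) ≃+ Γ(CohB1.tensorMod M N, ⊤) := fun N =>
    (CohBC.homEquivSec D hD N).trans (CohBC.secEquiv (AmpleLib.tensorIso v (Iso.refl N)))
  have hΦ : ∀ {N N' : W.Modules} (f : N ⟶ N') (φ : D ⟶ N), Φ N' (φ ≫ f) = (tE M f).app ⊤ (Φ N φ) := fun {N N'} f φ => by
    show (AmpleLib.tensorIso v (Iso.refl N')).hom.app ⊤ (CohBC.homEquivSec D hD N' (φ ≫ f)) = _
    rw [CohBC.homEquivSec_natural]
    refine (ConcreteCategory.congr_hom (congrArg (fun t => Scheme.Modules.Hom.app t ⊤) (AmpleLib.hom_ext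
      (φ := tE (internalHom D (Coh.structureModule W)) f ≫ (AmpleLib.tensorIso v (Iso.refl N')).hom)
      (ψ := (AmpleLib.tensorIso v (Iso.refl N)).hom ≫ tE M f) fun V a b => ?_))
      (CohBC.homEquivSec D hD N φ))
    show (AmpleLib.tensorIso v (Iso.refl N')).hom.app V ((tE _ f).app V (tmul a b)) =
      (tE M f).app V ((AmpleLib.tensorIso v (Iso.refl N)).hom.app V (tmul a b))
    rw [tensE_map_tmul]
    refine (tensorMap_tmul _ _ _ _).trans ?_
    refine Eq.trans ?_ (congrArg ((tE M f).app V) (tensorMap_tmul _ _ _ _)).symm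
    rw [tensE_map_tmul]
    rfl
  obtain ⟨φ, hφ⟩ := (hK D hD).2 (fun m => (Φ _).symm (y m)) fun m => (Φ _).injective (by
    rw [hΦ, AddEquiv.apply_symm_apply, AddEquiv.apply_symm_apply, hy m])
  exact ⟨Φ _ φ, fun m => (hΦ _ φ).symm.trans ((congrArg (Φ _) (hφ m)).trans ((Φ _).apply_symm_apply _))⟩

/-- A function nonvanishing on `Y` is a unit. -/
theorem basicOpen_eq_top_of_formal (K : W.IdealSheafData)
    (h : Lef.HomToFormalBijective K (Coh.structureModule W)) (c : Γ(W, ⊤))
    (hc : (K.support : Set W) ⊆ (W.basicOpen c : Set W)) : W.basicOpen c = ⊤ := by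
  have hu : ∀ m, IsUnit ((K ^ (m + 1)).subschemeι.appTop.hom c) := fun m => by
    let Z := (K ^ (m + 1)).subscheme
    have : Z.basicOpen ((K ^ (m + 1)).subschemeι.appTop.hom c) = ⊤ := by
      rw [← Scheme.preimage_basicOpen_top, eq_top_iff]
      intro z _
      have hz : (K ^ (m + 1)).subschemeι z ∈ ((K ^ (m + 1)).support : Set W) := by
        rw [← Scheme.IdealSheafData.range_subschemeι]
        exact ⟨z, rfl⟩
      rw [Scheme.IdealSheafData.support_pow_succ] at hz
      exact hc hz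
    refine Z.toRingedSpace.isUnit_of_isUnit_germ ⊤ _ fun z hz => ?_
    exact (Scheme.mem_basicOpen Z _ z hz).1 (this.ge hz)
  have heq : ∀ a b : Γ(W, ⊤), (∀ m, (K ^ (m + 1)).subschemeι.appTop.hom a = (K ^ (m + 1)).subschemeι.appTop.hom b) →
      a = b := fun a b hab => by
    have := h.1 (mulHom a) (mulHom b) fun m => by rw [reduce_eq, reduce_eq, hab m]
    rw [← mulHom_app_top a, ← mulHom_app_top b, this]
  obtain ⟨φ, hφ⟩ := h.2 (fun m => secTo (K ^ (m + 1)) ((hu m).unit⁻¹).val) fun m => by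
    rw [secTo_quotMap]
    refine congrArg (secTo _) ((hu m).mul_left_cancel ?_)
    rw [(hu m).mul_val_inv]
    have e : (Scheme.IdealSheafData.inclusion (Lef.pow_succ_le K m)).appTop.hom
        ((K ^ (m + 1 + 1)).subschemeι.appTop.hom c) = (K ^ (m + 1)).subschemeι.appTop.hom c := by
      rw [← CommRingCat.comp_apply, ← Scheme.Hom.comp_appTop, Scheme.IdealSheafData.inclusion_subschemeι]
    rw [← e, ← map_mul, (hu (m + 1)).mul_val_inv, map_one]
  let v : Γ(W, ⊤) := φ.app ⊤ (1 : Γ(W, ⊤))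
  have hv : ∀ m, (K ^ (m + 1)).subschemeι.appTop.hom v = ((hu m).unit⁻¹).val := fun m => by
    refine ((congrArg (fun g => g.app ⊤ (1 : Γ(W, ⊤))) (hφ m)) : _).trans ?_
    show (mulHom ((hu m).unit⁻¹).val).app ⊤ ((K ^ (m + 1)).subschemeι.appTop.hom 1) = _
    rw [map_one, mulHom_app_top]
  have hcv : c * v = 1 := heq _ _ fun m => by rw [map_mul, hv m, (hu m).mul_val_inv, map_one]
  exact W.basicOpen_of_isUnit (IsUnit.of_mul_eq_one _ hcv)

variable {X : Scheme.{u}} (U : X.Opens) (𝓘 : X.IdealSheafData)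

/-- **Lifting one step**: sections of `M ⊗ O/K^{m+1}` lift when `H¹` of the graded piece vanishes. -/
theorem surjective_step (hU : (𝓘.support : Set X) ⊆ (U : Set X)) {M : (U : Scheme.{u}).Modules}
    (hM : PicF.IsInvertible M) (n m : ℕ)
    (a : CohB1.tensorMod M (ClSub.quotMod (𝓘.comap U.ι ^ (n + 1))) ≅ ClSub.quotMod (𝓘.comap U.ι ^ (n + 1)))
    (hH1 : Subsingleton (Coh.HH X (kernel (Lef.quotMap (Lef.pow_succ_le 𝓘 m))) 1)) :
    Function.Surjective ((tE M (stepMap (𝓘.comap U.ι) m)).app ⊤) := by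
  let K := 𝓘.comap U.ι
  let q := stepMap K m
  let P := kernel q
  have hMl := Coherent.isFinLocFree_of_invertible hM
  haveI hq : Epi q := by
    haveI := CurveRR24.epi_toSubscheme (K ^ (m + 1))
    exact epi_of_epi_fac (toSubscheme_quotMap (Lef.pow_succ_le K m))
  let S : ShortComplex (U : Scheme.{u}).Modules := ShortComplex.mk (kernel.ι q) q (kernel.condition q)
  have hS : S.ShortExact :=
    { exact := ShortComplex.exact_of_f_is_kernel _ (kernelIsKernel q), mono_f := inferInstance, epi_g := hq }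
  obtain ⟨k₁⟩ := nonempty_tensor_quot (K ^ (n + 1)) P fun V hV r hr z => by
    refine app_injective_of_mono (kernel.ι q) V ?_
    rw [Scheme.Modules.Hom.app_smul, map_zero]
    exact quotKer_smul_eq_zero K n m hV _ (kernel_ι_app_zero q V z) r hr
  let eP : CohB1.tensorMod M P ≅ P :=
    AmpleLib.tensorIso (Iso.refl M) (k₁.symm ≪≫ AmpleLib.tensorComm _ _) ≪≫ CohBC.assocMod M _ P ≪≫
      AmpleLib.tensorIso a (Iso.refl P) ≪≫ AmpleLib.tensorComm _ _ ≪≫ k₁
  have hT := exact_tensE_map hMl hS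
  let T := S.map (tensE M)
  let R := Scheme.Modules.pushforward U.ι
  haveI : PreservesLimitsOfSize.{0, 0} R := (Scheme.Modules.restrictAdjunction U.ι).rightAdjoint_preservesLimits
  haveI : R.Additive := Functor.additive_of_preserves_binary_products R
  let Sx := T.map R
  have hsupp : ∀ j, ((𝓘 ^ (j + 1)).support : Set X) ⊆ (U : Set X) := fun j => by
    rw [Scheme.IdealSheafData.support_pow_succ]
    exact hU
  haveI hTepi : Epi T.g := hT.epi_g
  have hSx : Sx.ShortExact := by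
    haveI := hT.mono_f
    haveI : Mono Sx.f := inferInstanceAs (Mono (R.map T.f))
    refine { exact := ?_, epi_g := ?_ }
    · exact ShortComplex.exact_of_f_is_kernel _ (KernelFork.mapIsLimit _ hT.fIsKernel R)
    · refine epi_of_locally_surjective _ fun V x y hy => ?_
      by_cases hyU : y ∈ U
      · obtain ⟨V₁, hV₁, hyV₁, b, hb⟩ := exists_lift_of_epi T.g (U.ι ⁻¹ᵁ V) x ⟨y, hyU⟩ hy
        have hV' : U.ι ''ᵁ V₁ ≤ V := (U.ι.image_mono hV₁).trans (U.ι.image_preimage_le V)
        refine ⟨U.ι ''ᵁ V₁, hV', ⟨⟨y, hyU⟩, hyV₁, rfl⟩, resM T.X₂ (U.ι.preimage_image_eq V₁).le b, ?_⟩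
        show T.g.app _ (resM T.X₂ _ b) = resM T.X₃ (U.ι.preimage_mono hV') x
        rw [app_resM, hb, resM_resM]
      · let V₁ : X.Opens := V ⊓ ⟨(𝓘.support : Set X)ᶜ, 𝓘.support.2.isOpen_compl⟩
        refine ⟨V₁, inf_le_left, ⟨hy, fun h' => hyU (hU h')⟩, 0, ?_⟩
        rw [map_zero]
        refine (subsingleton_tensor hMl (ClSub.quotMod (K ^ (m + 1))) (U.ι ⁻¹ᵁ V₁) (fun V' hV' z => ?_) _).symm
        have hbot : (K ^ (m + 1)).subschemeι ⁻¹ᵁ V' = ⊥ := Opens.ext (Set.eq_empty_of_forall_notMem fun w hw => by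
          have hw' : (K ^ (m + 1)).subschemeι w ∈ ((K ^ (m + 1)).support : Set (U : Scheme.{u})) := by
            rw [← Scheme.IdealSheafData.range_subschemeι]
            exact ⟨w, rfl⟩
          rw [Scheme.IdealSheafData.support_pow_succ, Scheme.IdealSheafData.support_comap] at hw'
          exact (hV' hw).2 hw')
        haveI : Subsingleton Γ((K ^ (m + 1)).subscheme, (K ^ (m + 1)).subschemeι ⁻¹ᵁ V') := by
          rw [hbot]
          exact CommRingCat.subsingleton_of_isTerminal (K ^ (m + 1)).subscheme.sheaf.isTerminalOfEmpty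
        exact Subsingleton.elim (α := Γ((K ^ (m + 1)).subscheme, (K ^ (m + 1)).subschemeι ⁻¹ᵁ V')) z 0
  -- the kernel on `X`
  choose θ hθ using fun j => exists_quotIso U (𝓘 ^ (j + 1)) (hsupp j) (K ^ (j + 1)) (FSchLib.comap_pow U.ι 𝓘 (j + 1))
  have hqX : (θ (m + 1)).hom ≫ q = resHom U (Lef.quotMap (Lef.pow_succ_le 𝓘 m)) ≫ (θ m).hom := by
    haveI := CurveRR24.epi_toSubscheme (𝓘 ^ (m + 1 + 1))
    haveI : Epi (resHom U (ClSub.toSubscheme (𝓘 ^ (m + 1 + 1)))) :=
      (Scheme.Modules.restrictFunctor U.ι).map_epi _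
    rw [← cancel_epi (resHom U (ClSub.toSubscheme (𝓘 ^ (m + 1 + 1)))), ← Category.assoc, hθ (m + 1),
      Category.assoc, toSubscheme_quotMap, ← hθ m, ← Category.assoc]
    refine congrArg (· ≫ (θ m).hom) ?_
    rw [← toSubscheme_quotMap (Lef.pow_succ_le 𝓘 m)]
    exact Functor.map_comp _ _ _
  let adj := Scheme.Modules.restrictAdjunction U.ι
  haveI := fun j => isIso_unit_quot U (𝓘 ^ (j + 1)) (hsupp j)
  let τ := fun j => asIso (adj.unit.app (ClSub.quotMod (𝓘 ^ (j + 1)))) ≪≫ R.mapIso (θ j)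
  have hτ : Lef.quotMap (Lef.pow_succ_le 𝓘 m) ≫ (τ m).hom = (τ (m + 1)).hom ≫ R.map q := by
    simp only [τ, Iso.trans_hom, asIso_hom, Functor.mapIso_hom, Category.assoc]
    rw [← Functor.map_comp, hqX, Functor.map_comp, ← Category.assoc]
    refine (congrArg (· ≫ R.map (θ m).hom) ?_).trans (Category.assoc _ _ _)
    exact adj.unit.naturality (Lef.quotMap (Lef.pow_succ_le 𝓘 m))
  have hX1 : Subsingleton (Coh.HH X Sx.X₁ (0 + 1)) :=
    subsingleton_HH_iso (R.mapIso eP ≪≫ PreservesKernel.iso R q ≪≫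
      (kernel.mapIso (Lef.quotMap (Lef.pow_succ_le 𝓘 m)) (R.map q) (τ (m + 1)) (τ m) hτ).symm).symm 1 hH1
  intro x
  obtain ⟨z, hz⟩ := hm_surjective hSx 0 hX1 ((Existence.hSec Sx.X₃).symm x)
  exact ⟨Existence.hSec Sx.X₂ z, (Existence.hSec_map Sx.g z).symm.trans
    ((congrArg (Existence.hSec Sx.X₃) hz).trans ((Existence.hSec Sx.X₃).apply_symm_apply x))⟩

/-- A section generating `M` on `Y` exists when `M` is trivial on some thickening and the obstructions vanish. -/
theorem exists_section_gen (h : Lef.LefCond X 𝓘) (hU : (𝓘.support : Set X) ⊆ (U : Set X))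
    {M : (U : Scheme.{u}).Modules} (hM : PicF.IsInvertible M) (n : ℕ)
    (hH1 : ∀ m, n ≤ m → Subsingleton (Coh.HH X (kernel (Lef.quotMap (Lef.pow_succ_le 𝓘 m))) 1))
    (e : (Scheme.Modules.pullback (𝓘.comap U.ι ^ (n + 1)).subschemeι).obj M ≅
      Coh.structureModule (𝓘.comap U.ι ^ (n + 1)).subscheme) :
    ∃ s : Γ(M, ⊤), ((𝓘.comap U.ι).support : Set (U : Scheme.{u})) ⊆ (glocus M s : Set (U : Scheme.{u})) := by
  let K := 𝓘.comap U.ι
  let ι := (K ^ (n + 1)).subschemeι
  haveI := isIso_thickBilin hM (K ^ (n + 1))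
  let β := asIso (thickBilin M (K ^ (n + 1))).desc
  let a : CohB1.tensorMod M (ClSub.quotMod (K ^ (n + 1))) ≅ ClSub.quotMod (K ^ (n + 1)) :=
    β ≪≫ (Scheme.Modules.pushforward ι).mapIso e
  let gn : Γ((Scheme.Modules.pullback ι).obj M, ⊤) := e.inv.app ⊤ (oneSec ⊤)
  obtain ⟨y, hyn, hy⟩ := exists_compatible n (fun m => Γ(CohB1.tensorMod M (ClSub.quotMod (K ^ (m + 1))), ⊤))
    (fun m => (tE M (stepMap K m)).app ⊤)
    (fun m hm => surjective_step U 𝓘 hU hM n m a (hH1 m hm))
    (β.inv.app ⊤ gn)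
  obtain ⟨x, hx⟩ := exists_sections_formal hM K (fun D hD => h U hU D hD) y hy
  let unit : CohB1.tensorMod M (Coh.structureModule (U : Scheme.{u})) ≅ M :=
    AmpleLib.tensorComm _ _ ≪≫ unitTensorIso M
  let s : Γ(M, ⊤) := unit.hom.app ⊤ x
  have hxs : x = tmul s (show Γ(Coh.structureModule (U : Scheme.{u}), ⊤) from (1 : Γ((U : Scheme.{u}), ⊤))) := by
    refine app_injective_of_mono unit.hom ⊤ ?_
    exact ((unit_app_tmul M ⊤ s (show Γ(Coh.structureModule (U : Scheme.{u}), ⊤) from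
      (1 : Γ((U : Scheme.{u}), ⊤)))).trans (one_smul Γ((U : Scheme.{u}), ⊤) s)).symm
  have hps : pullSec ι s = gn := by
    refine (unit_thickBilin M (K ^ (n + 1)) s).symm.trans ?_
    rw [← hxs, hx n, hyn]
    exact ConcreteCategory.congr_hom (congrArg (fun t => Scheme.Modules.Hom.app t ⊤) β.inv_hom_id) gn
  refine ⟨s, fun z hz => ?_⟩
  rw [← Scheme.IdealSheafData.support_pow_succ _ n, ← Scheme.IdealSheafData.range_subschemeι] at hz
  obtain ⟨w, rfl⟩ := hz
  have hw : glocus ((Scheme.Modules.pullback ι).obj M) (pullSec ι s) = ⊤ := by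
    rw [hps]
    show glocus _ (e.symm.hom.app ⊤ (oneSec ⊤)) = ⊤
    rw [glocus_map_iso, glocus_oneSec]
  rw [glocus_pullSec ι hM] at hw
  exact hw.ge (show w ∈ (⊤ : (K ^ (n + 1)).subscheme.Opens) from trivial)

/-- **Invertible modules isomorphic on a thickening are isomorphic** on the whole open. -/
theorem nonempty_iso_of_thick (h : Lef.LefCond X 𝓘) (hU : (𝓘.support : Set X) ⊆ (U : Set X)) (n : ℕ)
    (hH1 : ∀ m, n ≤ m → Subsingleton (Coh.HH X (kernel (Lef.quotMap (Lef.pow_succ_le 𝓘 m))) 1))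
    {L L' : (U : Scheme.{u}).Modules} (hL : PicF.IsInvertible L) (hL' : PicF.IsInvertible L')
    (e : (Scheme.Modules.pullback (𝓘.comap U.ι ^ (n + 1)).subschemeι).obj L ≅
      (Scheme.Modules.pullback (𝓘.comap U.ι ^ (n + 1)).subschemeι).obj L') : Nonempty (L ≅ L') := by
  let K := 𝓘.comap U.ι
  let ι := (K ^ (n + 1)).subschemeι
  have hK : ∀ D, FlatMod.IsFinLocFree D → Lef.HomToFormalBijective K D := fun D hD => h U hU D hD
  obtain ⟨Li, ⟨eL⟩⟩ := VarietyLib.exists_isInverseOf hL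
  obtain ⟨Li', ⟨eL'⟩⟩ := VarietyLib.exists_isInverseOf hL'
  have hLi := isInvertible_inverse hL ⟨eL⟩
  have hLi' := isInvertible_inverse hL' ⟨eL'⟩
  let M := CohB1.tensorMod L' Li
  let M' := CohB1.tensorMod L Li'
  have hM : PicF.IsInvertible M := isInvertible_tensorMod hL' hLi
  have hM' : PicF.IsInvertible M' := isInvertible_tensorMod hL hLi'
  have triv : ∀ (A B Bi : (U : Scheme.{u}).Modules) (hA : PicF.IsInvertible A) (hB : PicF.IsInvertible B)
      (hBi : PicF.IsInvertible Bi) (eB : CohB1.tensorMod B Bi ≅ Coh.structureModule (U : Scheme.{u}))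
      (f : (Scheme.Modules.pullback ι).obj A ≅ (Scheme.Modules.pullback ι).obj B),
      Nonempty ((Scheme.Modules.pullback ι).obj (CohB1.tensorMod A Bi) ≅ Coh.structureModule (K ^ (n + 1)).subscheme) :=
    fun A B Bi hA hB hBi eB f => by
      obtain ⟨e₁⟩ := exists_pullTensorIso ι hA hBi
      obtain ⟨e₂⟩ := exists_pullTensorIso ι hB hBi
      obtain ⟨e₃⟩ := exists_pullStructureIso ι
      exact ⟨e₁ ≪≫ AmpleLib.tensorIso f (Iso.refl _) ≪≫ e₂.symm ≪≫ (Scheme.Modules.pullback ι).mapIso eB ≪≫ e₃⟩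
  obtain ⟨f⟩ := triv L' L Li hL' hL hLi eL e.symm
  obtain ⟨f'⟩ := triv L L' Li' hL hL' hLi' eL' e
  obtain ⟨s, hs⟩ := exists_section_gen U 𝓘 h hU hM n hH1 f
  obtain ⟨t, ht⟩ := exists_section_gen U 𝓘 h hU hM' n hH1 f'
  have hm : InvCl.mk _ hM * InvCl.mk _ hM' = InvCl.mk _ (isInvertible_structureModule (X := (U : Scheme.{u}))) := by
    rw [← InvCl.mk_mul hL' hLi, ← InvCl.mk_mul hL hLi']
    have h1 : InvCl.mk L hL * InvCl.mk Li hLi = 1 := by
      rw [InvCl.mk_mul]
      exact InvCl.mk_eq _ _ eL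
    have h2 : InvCl.mk L' hL' * InvCl.mk Li' hLi' = 1 := by
      rw [InvCl.mk_mul]
      exact InvCl.mk_eq _ _ eL'
    rw [mul_comm (InvCl.mk L hL), mul_mul_mul_comm, mul_comm (InvCl.mk Li hLi), h1, h2, one_mul]
    rfl
  rw [InvCl.mk_mul] at hm
  obtain ⟨eM⟩ := H0Growth23.nonempty_iso_of_mk_eq hm
  let c : Γ((U : Scheme.{u}), ⊤) := eM.hom.app ⊤ (tmul s t)
  have hc : (U : Scheme.{u}).basicOpen c = glocus M s ⊓ glocus M' t := by
    rw [← glocus_tmul hM hM' s t, ← glocus_map_iso eM, AmpleLib.glocus_structureModule]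
  have htop : glocus M s = ⊤ := by
    have := basicOpen_eq_top_of_formal K (hK _ (CohBC.isFinLocFree_structureModule _)) c
      fun z hz => hc.ge ⟨hs hz, ht hz⟩
    rw [hc] at this
    exact eq_top_iff.2 (this.ge.trans inf_le_left)
  have hg := isGen_glocus s
  rw [htop, PicLib.resM_self] at hg
  obtain ⟨g⟩ := PnEmb.nonempty_iso_of_isGen_top hg
  have hM1 : InvCl.mk _ hM = 1 := InvCl.mk_eq _ _ g
  rw [← InvCl.mk_mul hL' hLi] at hM1
  have h1 : InvCl.mk L hL * InvCl.mk Li hLi = 1 := by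
    rw [InvCl.mk_mul]
    exact InvCl.mk_eq _ _ eL
  exact H0Growth23.nonempty_iso_of_mk_eq (left_inv_eq_right_inv h1 (by rwa [mul_comm] at hM1))

end Groth.Agent.Lef23
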