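import Groth.Agent.Lef23.Cyc
import Groth.Agent.Lef23.PicLift
import Groth.Agent.S2944

/-!
# The graded pieces of the thickenings of a divisor, and injectivity on Picard groups
-/

set_option autoImplicit false
set_option linter.style.haveILetI false
set_option backward.isDefEq.respectTransparency.types false

universe u

open CategoryTheory CategoryTheory.Limits AlgebraicGeometry Opposite TopologicalSpace
open Groth.Agent.Coherent Groth.Agent.PicLib Groth.Agent.AmpleLib

noncomputable section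

namespace Groth.Agent.Lef23

variable {X : Scheme.{u}}

theorem surj_toSubscheme (J : X.IdealSheafData) : Surj (ClSub.toSubscheme J) := fun x => by
  obtain ⟨V, hV, hxV, -⟩ := exists_isAffineOpen_mem_and_subset (x := x) (U := ⊤) trivial
  exact ⟨⟨V, hV⟩, hxV, fun B _ => J.subschemeι.app_surjective B.1 B.2⟩

theorem surj_quotMap {J K : X.IdealSheafData} (h : J ≤ K) : Surj (Lef.quotMap h) := fun x => by
  obtain ⟨V, hV, hxV, -⟩ := exists_isAffineOpen_mem_and_subset (x := x) (U := ⊤) trivial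
  refine ⟨⟨V, hV⟩, hxV, fun B _ z => ?_⟩
  obtain ⟨r, rfl⟩ := K.subschemeι.app_surjective B.1 B.2 z
  exact ⟨(ClSub.toSubscheme J).app B.1 r,
    congrArg (fun g => Scheme.Modules.Hom.app g B.1 r) (toSubscheme_quotMap h)⟩

/-- The graded piece as a tensor product. -/
theorem exists_kernel_quotMap_iso (I : X.IdealSheafData) (hI : BlowUp.IsEffCartierIdeal I) (m : ℕ) :
    Nonempty (kernel (Lef.quotMap (Lef.pow_succ_le I m)) ≅
      CohB1.tensorMod (CohB1.tensorPow (ClSub.idealMod I) (m + 1)) (ClSub.quotMod I)) := by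
  have hle : I ^ (m + 2) ≤ I := by
    rw [pow_succ]
    exact mul_le_of_le_one_left' le_top
  obtain ⟨e⟩ := exists_kernel_iso_pow I hI (m + 1) 1 (m + 1 + 1) rfl (cyc_quot _) (cyc_quot _)
    (P'' := ClSub.quotMod I) (by rw [pow_one]; exact cyc_quot I) (Lef.quotMap (Lef.pow_succ_le I m))
    (Lef.quotMap hle) (surj_quotMap _) (surj_quotMap _)
  obtain ⟨e'⟩ := nonempty_idealMod_pow I hI (m + 1)
  exact ⟨e ≪≫ AmpleLib.tensorIso e' (Iso.refl _)⟩

theorem subsingleton_kernel_quotMap (I : X.IdealSheafData) (hI : BlowUp.IsEffCartierIdeal I)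
    (hH : ∀ m : ℕ, 1 ≤ m → ∀ i : ℕ, (i = 1 ∨ i = 2) →
      Subsingleton (Coh.HH X ((DCoh.tensorBi.obj (CohB1.tensorPow (ClSub.idealMod I) m)).obj (ClSub.quotMod I)) i))
    (m i : ℕ) (hi : i = 1 ∨ i = 2) :
    Subsingleton (Coh.HH X (kernel (Lef.quotMap (Lef.pow_succ_le I m))) i) := by
  obtain ⟨e⟩ := exists_kernel_quotMap_iso I hI m
  let T := CohB1.tensorPow (ClSub.idealMod I) (m + 1)
  let F := ClSub.quotMod I
  let s₁ : (DCoh.tensorBi.obj T).obj F ≅ CohB1.tensorMod F T := swapIso T F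
  let s₂ : CohB1.tensorMod F T ≅ CohB1.tensorMod T F := AmpleLib.tensorComm F T
  exact subsingleton_HH_iso (s₁ ≪≫ s₂ ≪≫ e.symm) i (hH (m + 1) (by omega) i hi)

/-- Invertible modules with isomorphic restrictions to the divisor are isomorphic. -/
theorem nonempty_iso_of_restrict (𝓘 : X.IdealSheafData) [IsLocallyNoetherian X] (h : Lef.LefCond X 𝓘)
    (hH1 : ∀ m, Subsingleton (Coh.HH X (kernel (Lef.quotMap (Lef.pow_succ_le 𝓘 m))) 1))
    {M M' : X.Modules} (hM : PicF.IsInvertible M) (hM' : PicF.IsInvertible M')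
    (e : (Scheme.Modules.pullback 𝓘.subschemeι).obj M ≅ (Scheme.Modules.pullback 𝓘.subschemeι).obj M') :
    Nonempty (M ≅ M') := by
  let j := (⊤ : X.Opens).ι
  let K := (𝓘.comap j) ^ (0 + 1)
  have hle : 𝓘 ≤ (K.subschemeι ≫ j).ker := by
    rw [← Scheme.IdealSheafData.map_ker, Scheme.IdealSheafData.ker_subschemeι,
      Scheme.IdealSheafData.le_map_iff_comap_le]
    show 𝓘.comap j ≤ (𝓘.comap j) ^ (0 + 1)
    rw [zero_add, pow_one]
  let c := IsClosedImmersion.lift 𝓘.subschemeι (K.subschemeι ≫ j) (by rwa [Scheme.IdealSheafData.ker_subschemeι])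
  have hc : c ≫ 𝓘.subschemeι = K.subschemeι ≫ j := IsClosedImmersion.lift_fac _ _ _
  let τ : ∀ P : X.Modules, (Scheme.Modules.pullback K.subschemeι).obj ((Scheme.Modules.pullback j).obj P) ≅
      (Scheme.Modules.pullback c).obj ((Scheme.Modules.pullback 𝓘.subschemeι).obj P) := fun P =>
    (Scheme.Modules.pullbackComp K.subschemeι j).app P ≪≫ (Scheme.Modules.pullbackCongr hc.symm).app P ≪≫
      ((Scheme.Modules.pullbackComp c 𝓘.subschemeι).app P).symm
  obtain ⟨i⟩ := nonempty_iso_of_thick (⊤ : X.Opens) 𝓘 h (by simp) 0 (fun m _ => hH1 m)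
    (PicLoc.isInvertible_pullback j hM) (PicLoc.isInvertible_pullback j hM')
    (τ M ≪≫ (Scheme.Modules.pullback c).mapIso e ≪≫ (τ M').symm)
  haveI : IsIso j := (inferInstance : IsIso X.topIso.hom)
  let g := inv j
  let ρ : ∀ P : X.Modules, P ≅ (Scheme.Modules.pullback g).obj ((Scheme.Modules.pullback j).obj P) := fun P =>
    ((Scheme.Modules.pullbackComp g j).app P ≪≫ (Scheme.Modules.pullbackCongr (IsIso.inv_hom_id j)).app P ≪≫
      (Scheme.Modules.pullbackId X).app P).symm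
  exact ⟨ρ M ≪≫ (Scheme.Modules.pullback g).mapIso i ≪≫ (ρ M').symm⟩

end Groth.Agent.Lef23
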