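import Groth.Agent.Lef23.PureExtend
import Groth.Agent.Lef23.Connected
import Groth.Agent.FEtFF.PurityTransfer
import Groth.Agent.FEtFF.HenselPair

/-!
# Pure pairs and the effective Lefschetz condition on punctured spectra
-/

set_option autoImplicit false
set_option linter.style.haveILetI false
set_option backward.isDefEq.respectTransparency.types false

universe u

open CategoryTheory CategoryTheory.Limits AlgebraicGeometry Opposite TopologicalSpace IsLocalRing
open Groth.Agent.FEtFF

noncomputable section

namespace Groth.Agent.Lef23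

variable {X : Scheme.{u}}

/-- Restriction along a factorization with an equivalence on the right. -/
theorem restrict_isEquivalence_of_comp_left {A B C : Scheme.{u}} (i : A ⟶ B) (j : B ⟶ C)
    [(FEt.restrict j).IsEquivalence] [(FEt.restrict (i ≫ j)).IsEquivalence] : (FEt.restrict i).IsEquivalence := by
  haveI : (FEt.restrict j ⋙ FEt.restrict i).IsEquivalence :=
    Functor.isEquivalence_of_iso (restrictCompIso i j _ rfl)
  exact Functor.isEquivalence_of_comp_left (FEt.restrict j) (FEt.restrict i)

theorem restrict_isEquivalence_comp {A B C : Scheme.{u}} (i : A ⟶ B) (j : B ⟶ C) (k : A ⟶ C) (h : k = i ≫ j)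
    [(FEt.restrict j).IsEquivalence] [(FEt.restrict i).IsEquivalence] : (FEt.restrict k).IsEquivalence :=
  Functor.isEquivalence_of_iso (restrictCompIso i j k h).symm

/-- A pure pair restricts covers of the whole equivalently. -/
theorem restrict_isEquivalence_of_isPurePair {V : X.Opens} (h : SGA2.IsPurePair X V) :
    (FEt.restrict V.ι).IsEquivalence := by
  let j : ((⊤ ⊓ V : X.Opens) : Scheme.{u}) ⟶ ((⊤ : X.Opens) : Scheme.{u}) :=
    X.homOfLE (inf_le_left : (⊤ : X.Opens) ⊓ V ≤ ⊤)
  let a : (V : Scheme.{u}) ⟶ ((⊤ ⊓ V : X.Opens) : Scheme.{u}) := X.homOfLE (le_inf le_top le_rfl)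
  haveI : IsIso a := ⟨X.homOfLE inf_le_right, by simp [a], by simp [a]⟩
  haveI : IsIso (⊤ : X.Opens).ι := X.topIso.isIso_hom
  haveI := h ⊤
  haveI := BiratPurity.restrict_isEquivalence_of_isIso a
  haveI := BiratPurity.restrict_isEquivalence_of_isIso (⊤ : X.Opens).ι
  haveI := restrict_isEquivalence_comp j (⊤ : X.Opens).ι _ rfl
  exact restrict_isEquivalence_comp a (j ≫ (⊤ : X.Opens).ι) V.ι (by simp [a, j])

/-- The punctured spectrum gives a pure pair as soon as restriction to it is an equivalence. -/
theorem isPurePair_punctured (R : Type u) [CommRing R] [IsLocalRing R]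
    (h : (FEt.restrict (FEt.puncturedSpec R).ι).IsEquivalence) :
    SGA2.IsPurePair (Spec (CommRingCat.of R)) (FEt.puncturedSpec R) := by
  intro V
  let P := Spec (CommRingCat.of R)
  let U := FEt.puncturedSpec R
  by_cases hc : IsLocalRing.closedPoint R ∈ V
  · have hV : V = ⊤ := by
      refine eq_top_iff.2 fun p _ => ?_
      exact (IsLocalRing.specializes_closedPoint p).mem_open V.2 hc
    subst hV
    haveI : IsIso (⊤ : P.Opens).ι := P.topIso.isIso_hom
    let a : ((⊤ ⊓ U : P.Opens) : Scheme.{u}) ⟶ (U : Scheme.{u}) := P.homOfLE inf_le_right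
    haveI : IsIso a := ⟨P.homOfLE (le_inf le_top le_rfl), by simp [a], by simp [a]⟩
    haveI := h
    haveI := BiratPurity.restrict_isEquivalence_of_isIso a
    haveI := BiratPurity.restrict_isEquivalence_of_isIso (⊤ : P.Opens).ι
    haveI : (FEt.restrict (P.homOfLE (inf_le_left : (⊤ : P.Opens) ⊓ U ≤ ⊤) ≫ (⊤ : P.Opens).ι)).IsEquivalence :=
      restrict_isEquivalence_comp a U.ι _ (by simp [a, P, U])
    exact restrict_isEquivalence_of_comp_left _ (⊤ : P.Opens).ι
  · have hle : V ≤ V ⊓ U := le_inf le_rfl fun p hp hcp => hc ((Set.mem_singleton_iff.1 hcp) ▸ hp)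
    haveI : IsIso (P.homOfLE (inf_le_left : V ⊓ U ≤ V)) := ⟨P.homOfLE hle, by simp, by simp⟩
    exact BiratPurity.restrict_isEquivalence_of_isIso _

/-- The punctured spectrum of a pure local ring is connected. -/
theorem connectedSpace_punctured (R : Type u) [CommRing R] [IsLocalRing R]
    (h : SGA2.IsPurePair (Spec (CommRingCat.of R)) (FEt.puncturedSpec R)) :
    ConnectedSpace ↥(FEt.puncturedSpec R) := by
  let P := Spec (CommRingCat.of R)
  let U := FEt.puncturedSpec R
  haveI := restrict_isEquivalence_of_isPurePair h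
  haveI hne : Nonempty ↥U := by
    by_contra hemp
    rw [not_nonempty_iff] at hemp
    haveI : IsEmpty (U : Scheme.{u}) := hemp
    haveI : IsFinite (Scheme.emptyTo P) := inferInstance
    haveI : Etale (Scheme.emptyTo P) := inferInstance
    let E : FEt.Cat P := MorphismProperty.Over.mk ⊤ (Scheme.emptyTo P) ⟨inferInstance, inferInstance⟩
    let T : FEt.Cat P := MorphismProperty.Over.mk ⊤ (𝟙 P) ⟨inferInstance, inferInstance⟩
    haveI : IsEmpty ↥((FEt.restrict U.ι).obj E).left :=
      Function.isEmpty (β := ↥(U : Scheme.{u})) (fun x => ((FEt.restrict U.ι).obj E).hom x)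
    haveI : IsEmpty ↥((FEt.restrict U.ι).obj T).left :=
      Function.isEmpty (β := ↥(U : Scheme.{u})) (fun x => ((FEt.restrict U.ι).obj T).hom x)
    let m : (FEt.restrict U.ι).obj T ⟶ (FEt.restrict U.ι).obj E :=
      MorphismProperty.Over.homMk (isInitialOfIsEmpty.to _) (isInitialOfIsEmpty.hom_ext _ _)
    obtain ⟨g, -⟩ := (FEt.restrict U.ι).map_surjective m
    exact IsEmpty.elim (inferInstanceAs (IsEmpty (∅ : Scheme.{u}))) (g.left (IsLocalRing.closedPoint R))
  have hpre : PreconnectedSpace ↥U := by
    refine preconnectedSpace_iff_clopen.2 fun W hW => ?_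
    let W' : (U : Scheme.{u}).Opens := ⟨W, hW.2⟩
    haveI : IsClosedImmersion W'.ι := IsClosedImmersion.of_isPreimmersion _
      (by rw [Scheme.Opens.range_ι]; exact hW.1)
    let Rw : FEt.Cat (U : Scheme.{u}) := MorphismProperty.Over.mk ⊤ W'.ι ⟨inferInstance, inferInstance⟩
    let Q := (FEt.restrict U.ι).objPreimage Rw
    let e := (FEt.restrict U.ι).objObjPreimageIso Rw
    haveI : IsFinite Q.hom := Q.prop.1
    haveI : Etale Q.hom := Q.prop.2
    have hcl : IsClopen (Set.range Q.hom) :=
      ⟨Q.hom.isClosedMap.isClosed_range, Q.hom.isOpenMap.isOpen_range⟩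
    have hW' : W = U.ι ⁻¹' Set.range Q.hom := by
      have h1 : Set.range ((FEt.restrict U.ι).obj Q).hom = W := by
        have hw : ((FEt.restrict U.ι).obj Q).hom = e.hom.left ≫ W'.ι := (FEtQuot.hom_w e.hom).symm
        haveI : IsIso e.hom.left := ⟨e.inv.left, congrArg (fun k => k.left) e.hom_inv_id,
          congrArg (fun k => k.left) e.inv_hom_id⟩
        rw [hw, Scheme.Hom.comp_base, TopCat.coe_comp, Set.range_comp,
          Set.range_eq_univ.2 e.hom.left.surjective, Set.image_univ]
        exact Scheme.Opens.range_ι W'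
      rw [← h1]
      exact Scheme.Pullback.range_snd Q.hom U.ι
    by_cases hc : IsLocalRing.closedPoint R ∈ Set.range Q.hom
    · right
      rw [hW']
      exact Set.eq_univ_of_forall fun p => (IsLocalRing.specializes_closedPoint (U.ι p)).mem_open hcl.2 hc
    · left
      rw [hW']
      refine Set.eq_empty_of_forall_notMem fun p hp => hc ?_
      exact (IsLocalRing.specializes_closedPoint (U.ι p)).mem_closed hcl.1 hp
  exact { toNonempty := hne }

variable (A : Type u) [CommRing A] [IsLocalRing A] (I : Ideal A) [IsLocalRing (A ⧸ I)]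

local notation "q" => Spec.map (CommRingCat.ofHom (Ideal.Quotient.mk I))
local notation "U" => FEt.puncturedSpec A
set_option quotPrecheck false in
local notation "J" => ((Spec.map (CommRingCat.ofHom (Ideal.Quotient.mk I))).ker.comap (FEt.puncturedSpec A).ι)

/-- The punctured spectrum of the quotient is the trace of `V(I)` on the punctured spectrum. -/
theorem exists_punctured_quotient_iso :
    ∃ w : (FEt.puncturedSpec (A ⧸ I) : Scheme.{u}) ⟶ (J).subscheme, IsIso w ∧
      w ≫ (J).subschemeι ≫ (U).ι = (FEt.puncturedSpec (A ⧸ I)).ι ≫ q := by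
  haveI : IsLocalHom (Ideal.Quotient.mk I) := .of_surjective _ Ideal.Quotient.mk_surjective
  obtain ⟨k, HU⟩ := PurityTransfer.exists_punctured_square (Ideal.Quotient.mk I) (by
    refine le_trans ?_ Ideal.le_radical
    intro b hb
    obtain ⟨a, rfl⟩ := Ideal.Quotient.mk_surjective b
    refine Ideal.mem_map_of_mem _ ?_
    rw [IsLocalRing.mem_maximalIdeal, mem_nonunits_iff] at hb ⊢
    exact fun h => hb (h.map _))
  haveI : IsClosedImmersion q := IsClosedImmersion.spec_of_surjective _ Ideal.Quotient.mk_surjective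
  let m : pullback (U).ι q ⟶ pullback (U).ι (q).ker.subschemeι :=
    pullback.map _ _ _ _ (𝟙 _) (q).toImage (𝟙 _) (by simp) (by simp)
  haveI : IsIso m := by
    haveI : IsIso (q).toImage := inferInstance
    infer_instance
  refine ⟨HU.isoPullback.hom ≫ m ≫ ((q).ker.comapIso (U).ι).inv, inferInstance, ?_⟩
  rw [Category.assoc, Category.assoc, Scheme.IdealSheafData.comapIso_inv_subschemeι_assoc]
  simp only [m, pullback.lift_fst_assoc, Category.comp_id, IsPullback.isoPullback_hom_fst_assoc]
  exact HU.w

/-- **Pure quotients from Leff and purity away from `V(I)`.** -/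
theorem restrict_isEquivalence_quotient_of_leff [IsNoetherianRing A] [IsAdicComplete I A]
    (hleff : LefX.LeffCond (↑(U) : Scheme.{u}) J)
    (hpure : ∀ V : (Spec (CommRingCat.of A)).Opens,
      ((q).ker.support : Set ↥(Spec (CommRingCat.of A))) ∩ (U : Set ↥(Spec (CommRingCat.of A))) ⊆
        (V : Set ↥(Spec (CommRingCat.of A))) → SGA2.IsPurePair (Spec (CommRingCat.of A)) V) :
    (FEt.restrict (FEt.puncturedSpec (A ⧸ I)).ι).IsEquivalence := by
  haveI : IsNoetherian (Spec (CommRingCat.of A)) := inferInstance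
  haveI := restrict_isEquivalence_of_isPurePair (hpure U Set.inter_subset_right)
  obtain ⟨hfull, hfaith⟩ := restrict_full_faithful_of_lefCond J hleff.1
  haveI : (FEt.restrict ((J).subschemeι ≫ (U).ι)).IsEquivalence := by
    let e := restrictCompIso (J).subschemeι (U).ι _ rfl
    haveI : (FEt.restrict ((J).subschemeι ≫ (U).ι)).Full := Functor.Full.of_iso e.symm
    haveI : (FEt.restrict ((J).subschemeι ≫ (U).ι)).Faithful := Functor.Faithful.of_iso e.symm
    haveI : (FEt.restrict ((J).subschemeι ≫ (U).ι)).EssSurj := ⟨fun R => by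
      obtain ⟨V, R', hV, hR'⟩ := exists_nhd_extension J hleff R
      let V' : (Spec (CommRingCat.of A)).Opens := (U).ι ''ᵁ V
      have hsub : ((q).ker.support : Set ↥(Spec (CommRingCat.of A))) ∩ (U : Set ↥(Spec (CommRingCat.of A))) ⊆
          (V' : Set ↥(Spec (CommRingCat.of A))) := by
        rintro p ⟨hp, hpU⟩
        refine ⟨⟨p, hpU⟩, hV ?_, rfl⟩
        rw [Scheme.IdealSheafData.support_comap]
        exact hp
      haveI := restrict_isEquivalence_of_isPurePair (hpure V' hsub)
      let b : (V : Scheme.{u}) ⟶ (V' : Scheme.{u}) := ((U).ι.isoImage V).hom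
      haveI := BiratPurity.restrict_isEquivalence_of_isIso b
      haveI := restrict_isEquivalence_comp b V'.ι (V.ι ≫ (U).ι) (by simp [b, V'])
      let i : (J).subscheme ⟶ V := IsOpenImmersion.lift V.ι (J).subschemeι (by
        rw [Scheme.Opens.range_ι, (J).range_subschemeι]; exact hV)
      have hi : i ≫ V.ι = (J).subschemeι := IsOpenImmersion.lift_fac _ _ _
      obtain ⟨e'⟩ := hR' i hi
      exact ⟨(FEt.restrict (V.ι ≫ (U).ι)).objPreimage R', ⟨(restrictCompIso i (V.ι ≫ (U).ι) _
          (by rw [reassoc_of% hi])).app _ ≪≫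
        (FEt.restrict i).mapIso ((FEt.restrict (V.ι ≫ (U).ι)).objObjPreimageIso R') ≪≫ e'⟩⟩⟩
    exact { }
  obtain ⟨w, hw, hwe⟩ := exists_punctured_quotient_iso A I
  haveI := hw
  haveI := BiratPurity.restrict_isEquivalence_of_isIso w
  haveI : (FEt.restrict ((FEt.puncturedSpec (A ⧸ I)).ι ≫ q)).IsEquivalence :=
    restrict_isEquivalence_comp w ((J).subschemeι ≫ (U).ι) _ hwe.symm
  haveI : (FEt.restrict q).IsEquivalence := HenselPair.restrict_isEquivalence (I := I)
  exact restrict_isEquivalence_of_comp_left _ q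

omit [IsLocalRing (A ⧸ I)] in
/-- `V(I)` minus the closed point is connected if `A` is pure and Leff holds. -/
theorem isConnected_of_pure_leff
    (hpure : SGA2.IsPurePair (Spec (CommRingCat.of A)) U) (hleff : LefX.LeffCond (↑(U) : Scheme.{u}) J) :
    _root_.IsConnected (((q).ker.support : Set ↥(Spec (CommRingCat.of A))) ∩ (U : Set ↥(Spec (CommRingCat.of A)))) := by
  let K := J
  haveI := connectedSpace_punctured A hpure
  haveI : ConnectedSpace ↥(⊤ : (U : Scheme.{u}).Opens) :=
    (Homeomorph.Set.univ ↥(U)).symm.surjective.connectedSpace (Homeomorph.Set.univ ↥(U)).symm.continuous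
  have h1 : ConnectedSpace ↥((K.support : Set (U : Scheme.{u}))) :=
    (connected_iff (U : Scheme.{u}) K hleff.1 ⊤ (fun _ _ => trivial)).2 ‹ConnectedSpace ↥(⊤ : (U : Scheme.{u}).Opens)›
  have h2 : _root_.IsConnected (K.support : Set (U : Scheme.{u})) := isConnected_iff_connectedSpace.2 h1
  have h3 := h2.image (U).ι (U).ι.continuous.continuousOn
  convert h3 using 1
  rw [Scheme.IdealSheafData.support_comap]
  rw [TopologicalSpace.Closeds.coe_preimage, Set.image_preimage_eq_inter_range, Scheme.Opens.range_ι]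

end Groth.Agent.Lef23
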