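import Groth.Agent.Lef23.GrFree
import Groth.Agent.Lef23.PurePair
import Groth.Agent.FEtFF.PurityTransfer
import Groth.Agent.CAlgH.ParaGrFlat
import Groth.Agent.CAlgH3.DT.CompletionDepth
import Groth.Agent.Matlis6.Completion

/-!
# Purity along an ideal with free graded pieces
-/

set_option autoImplicit false
set_option linter.style.haveILetI false
set_option backward.isDefEq.respectTransparency false

universe u

open CategoryTheory CategoryTheory.Limits AlgebraicGeometry IsLocalRing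
open scoped TensorProduct
open Groth.Agent.CAlgH.ParaGr (Gr idealTensorEquiv)
open Groth.Agent.FEtFF

namespace Groth.Agent.Lef23.GrPurity

theorem free_gr_baseChange {A B : Type u} [CommRing A] [IsLocalRing A] [CommRing B] [Algebra A B] [Module.Flat A B] (I : Ideal A) (n : ℕ)
    [Module.Free (A ⧸ I) (Gr I n)] :
    Module.Free (B ⧸ I.map (algebraMap A B)) (Gr (I.map (algebraMap A B)) n) := by
  let J := I.map (algebraMap A B)
  let B0 := B ⧸ J
  let P := ↥(I ^ n)
  haveI : Module.Free (A ⧸ I) ((A ⧸ I) ⊗[A] P) := Module.Free.of_equiv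
    (LinearEquiv.extendScalarsOfSurjective Ideal.Quotient.mk_surjective (TensorProduct.quotTensorEquivQuotSMul P I)).symm
  haveI : Module.Free B0 (B0 ⊗[A] P) := Module.Free.of_equiv
    (TensorProduct.AlgebraTensorModule.cancelBaseChange A (A ⧸ I) B0 B0 P)
  let e1 : Gr J n ≃ₗ[B] (B ⧸ J) ⊗[B] ↥(J ^ n) := (TensorProduct.quotTensorEquivQuotSMul _ J).symm
  let e2 : (B ⧸ J) ⊗[B] ↥(J ^ n) ≃ₗ[B0] B0 ⊗[A] P :=
    TensorProduct.AlgebraTensorModule.congr (LinearEquiv.refl B0 B0)
      ((LinearEquiv.ofEq (J ^ n) ((I ^ n).map (algebraMap A B)) (Ideal.map_pow _ _ _).symm) ≪≫ₗ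
        (idealTensorEquiv A B (I ^ n)).symm) ≪≫ₗ
    TensorProduct.AlgebraTensorModule.cancelBaseChange A B B0 B0 P
  exact Module.Free.of_equiv (LinearEquiv.extendScalarsOfSurjective Ideal.Quotient.mk_surjective e1 ≪≫ₗ e2).symm

/-- Purity for a complete ring from purity of the quotient. -/
theorem purityHolds_of_complete (A : Type u) [CommRing A] [IsLocalRing A] [IsNoetherianRing A] (J : Ideal A)
    (hJ : J ≠ ⊤) [IsLocalRing (A ⧸ J)] (hd : (3 : ℕ∞) ≤ _root_.LocCoh.depth (A ⧸ J) (A ⧸ J))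
    (hgr : ∀ n, Module.Free (A ⧸ J) (Gr J n)) [IsAdicComplete J A] (h0 : FEt.PurityHolds (A ⧸ J)) :
    FEt.PurityHolds A := by
  let K := (Spec.map (CommRingCat.ofHom (Ideal.Quotient.mk J))).ker.comap (FEt.puncturedSpec A).ι
  let q := Spec.map (CommRingCat.ofHom (Ideal.Quotient.mk J))
  obtain ⟨hfull, hfaith⟩ := restrict_full_faithful_of_formal K fun D hD => GrFree.formalBijective A J hJ hd hgr D hD
  obtain ⟨w, hw, hwe⟩ := exists_punctured_quotient_iso A J
  haveI := hw
  haveI := BiratPurity.restrict_isEquivalence_of_isIso w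
  haveI : (FEt.restrict q).IsEquivalence := HenselPair.restrict_isEquivalence (I := J)
  haveI : (FEt.restrict (FEt.puncturedSpec (A ⧸ J)).ι).EssSurj := h0
  let e : FEt.restrict (FEt.puncturedSpec A).ι ⋙ FEt.restrict K.subschemeι ⋙ FEt.restrict w ≅
      FEt.restrict q ⋙ FEt.restrict (FEt.puncturedSpec (A ⧸ J)).ι :=
    (Functor.associator _ _ _).symm ≪≫
      Functor.isoWhiskerRight (restrictCompIso K.subschemeι (FEt.puncturedSpec A).ι _ rfl).symm _ ≪≫
      (restrictCompIso w (K.subschemeι ≫ (FEt.puncturedSpec A).ι) _ rfl).symm ≪≫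
      eqToIso (congrArg FEt.restrict hwe) ≪≫ restrictCompIso (FEt.puncturedSpec (A ⧸ J)).ι q _ rfl
  refine ⟨fun E => ?_⟩
  let G := (FEt.restrict K.subschemeι ⋙ FEt.restrict w)
  let P := (FEt.restrict q ⋙ FEt.restrict (FEt.puncturedSpec (A ⧸ J)).ι).objPreimage (G.obj E)
  exact ⟨P, ⟨G.preimageIso (e.app P ≪≫
    (FEt.restrict q ⋙ FEt.restrict (FEt.puncturedSpec (A ⧸ J)).ι).objObjPreimageIso (G.obj E))⟩⟩

/-- Purity from purity of the quotient. -/
theorem purityHolds (A : Type u) [CommRing A] [IsLocalRing A] [IsNoetherianRing A] (J : Ideal A)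
    (hJ : J ≠ ⊤) [IsLocalRing (A ⧸ J)] (hd : (3 : ℕ∞) ≤ _root_.LocCoh.depth (A ⧸ J) (A ⧸ J))
    (hgr : ∀ n, Module.Free (A ⧸ J) (Gr J n)) (h0 : FEt.PurityHolds (A ⧸ J)) : FEt.PurityHolds A := by
  haveI := Matlis6.isNoetherianRing_adicCompletion J
  obtain ⟨hloc, hmax⟩ := CAlgH3.DT.isLocalRing_adicCompletion J hJ
  haveI := hloc
  let B := AdicCompletion J A
  let JB := J.map (algebraMap A B)
  haveI : IsAdicComplete JB B := AdicCompletion.isAdicComplete_self _ (IsNoetherian.noetherian _)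
  haveI : Module.Flat A B := AdicCompletion.flat_of_isNoetherian J
  haveI : IsLocalHom (algebraMap A B) := ((IsLocalRing.local_hom_TFAE (algebraMap A B)).out 0 2).2 hmax.ge
  haveI : Module.FaithfullyFlat A B := Module.FaithfullyFlat.of_flat_of_isLocalHom
  have hker : RingHom.ker (AdicCompletion.evalOneₐ J).toRingHom = JB :=
    AdicCompletion.ker_evalOneₐ_eq_map J (IsNoetherian.noetherian _)
  let e : A ⧸ J ≃+* B ⧸ JB :=
    ((Ideal.quotEquivOfEq hker.symm).trans
      (RingHom.quotientKerEquivOfSurjective (f := (AdicCompletion.evalOneₐ J).toRingHom) fun y => by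
        obtain ⟨a, rfl⟩ := Ideal.Quotient.mk_surjective y
        exact ⟨algebraMap A B a, congrArg (fun f : A →+* A ⧸ J => f a)
          (AdicCompletion.evalOneₐ_comp_algebraMap_eq_mk J)⟩)).symm
  haveI : IsLocalRing (B ⧸ JB) := e.isLocalRing
  have hJB : JB ≠ ⊤ := fun h => by
    haveI : Subsingleton (B ⧸ JB) := Ideal.Quotient.subsingleton_iff.2 h
    exact not_nontrivial (B ⧸ JB) (inferInstance)
  refine PurityTransfer.purityHolds_of_faithfullyFlat (A := A) (B := B) ?_
    (le_trans (by decide) (CAlgH.ParaGr.le_depth hgr hJ (r := 3) hd)) ?_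
  · rw [hmax]
    exact Ideal.le_radical
  · refine purityHolds_of_complete B JB hJB (hd.trans_eq (CAlgH3.depth_ringEquiv e)) (fun n => ?_)
      (PurityTransfer.purityHolds_of_ringEquiv e h0)
    haveI := hgr n
    exact free_gr_baseChange J n

end Groth.Agent.Lef23.GrPurity
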