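import Groth.Agent.Coherent.Existence.HomAffine
import Groth.Agent.Coherent.Serre.Kill
import Groth.Agent.Props12.FinLocFree
import Groth.Agent.Coherent.Existence.SysKernel
import Groth.Agent.EulerLib.Twist

/-!
# Powers of a section factor a module, locally free off its zeros, through a presentation
-/

set_option autoImplicit false
set_option linter.style.haveILetI false
set_option backward.isDefEq.respectTransparency.types false

universe u

open CategoryTheory CategoryTheory.Limits AlgebraicGeometry Opposite TopologicalSpace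
open Groth.Agent.Coherent Groth.Agent.PicLib Groth.Agent.AmpleLib Groth.Agent.Coherent.Serre

namespace Groth.Agent.Lef23

variable {X : Scheme.{u}}

/-- A morphism as a global section of the internal Hom. -/
noncomputable def secOfHom {K H : X.Modules} (φ : K ⟶ H) : Γ(internalHom K H, ⊤) :=
  (show locHom K H ⊤ from
    ⟨fun W _ => AddMonoidHom.mk' (fun a => φ.app W a) (fun a b => map_add _ a b),
      fun W _ r a => Scheme.Modules.Hom.app_smul φ r a,
      fun W W' _ h a => (app_resM φ h a).symm⟩)

theorem ev_secOfHom {K H : X.Modules} (φ : K ⟶ H) (W : X.Opens) (hW : W ≤ ⊤) (a : Γ(K, W)) :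
    ev (secHom (secOfHom φ)) W hW a = φ.app W a := rfl

/-- A global section of the internal Hom as a morphism. -/
noncomputable def homOfSec {K H : X.Modules} (ξ : Γ(internalHom K H, ⊤)) : K ⟶ H :=
  ⟨PresheafOfModules.homMk
    { app := fun W => AddCommGrpCat.ofHom ((secHom ξ).1 W.unop le_top)
      naturality := fun W W' g => ConcreteCategory.hom_ext _ _ fun a => by
        rw [show g = (homOfLE (leOfHom g.unop)).op from Subsingleton.elim _ _]
        exact ((secHom ξ).2.2 W.unop W'.unop le_top (leOfHom g.unop) a).symm }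
    fun W r a => (secHom ξ).2.1 W.unop le_top r a⟩

theorem homOfSec_app {K H : X.Modules} (ξ : Γ(internalHom K H, ⊤)) (W : X.Opens) (a : Γ(K, W)) :
    (homOfSec ξ).app W a = ev (secHom ξ) W le_top a := rfl

/-- `Hom(K, E) ⊗ T → Hom(K, E ⊗ T)`. -/
noncomputable def homTensor (K E T : X.Modules) :
    Bilin (internalHom K E) T (internalHom K (CohB1.tensorMod E T)) where
  app U φ t := (show locHom K (CohB1.tensorMod E T) U from
    ⟨fun W hW => AddMonoidHom.mk' (fun x => tmul (ev (secHom φ) W hW x) (resM T hW t))
        (fun x x' => by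
          rw [show ev (secHom φ) W hW (x + x') = ev (secHom φ) W hW x + ev (secHom φ) W hW x' from
            map_add ((secHom φ).1 W hW) x x', tmul_add_left]),
      fun W hW r x => by
        show tmul (ev (secHom φ) W hW (r • x)) (resM T hW t) = r • tmul (ev (secHom φ) W hW x) (resM T hW t)
        rw [ev_smul_arg, tmul_smul_left],
      fun W W' hW h x => by
        show resM _ h (tmul (ev (secHom φ) W hW x) (resM T hW t)) =
          tmul (ev (secHom φ) W' (h.trans hW) (resM K h x)) (resM T (h.trans hW) t)
        rw [resM_tmul, ev_res, resM_resM]⟩)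
  add_left U φ φ' t := locHom_ext fun W hW x => by
    show tmul (ev (secHom φ) W hW x + ev (secHom φ') W hW x) (resM T hW t) =
      tmul (ev (secHom φ) W hW x) (resM T hW t) + tmul (ev (secHom φ') W hW x) (resM T hW t)
    rw [tmul_add_left]
  add_right U φ t t' := locHom_ext fun W hW x => by
    show tmul (ev (secHom φ) W hW x) (resM T hW (t + t')) =
      tmul (ev (secHom φ) W hW x) (resM T hW t) + tmul (ev (secHom φ) W hW x) (resM T hW t')
    rw [map_add, tmul_add_right]
  smul_left U r φ t := locHom_ext fun W hW x => by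
    show tmul (X.presheaf.map (homOfLE hW).op r • ev (secHom φ) W hW x) (resM T hW t) =
      X.presheaf.map (homOfLE hW).op r • tmul (ev (secHom φ) W hW x) (resM T hW t)
    rw [tmul_smul_left]
  smul_right U r φ t := locHom_ext fun W hW x => by
    show tmul (ev (secHom φ) W hW x) (resM T hW (r • t)) =
      X.presheaf.map (homOfLE hW).op r • tmul (ev (secHom φ) W hW x) (resM T hW t)
    rw [resM_smul, tmul_smul_right]
  res U V h φ t := locHom_ext fun W hW x => by
    show tmul (ev (secHom φ) W (hW.trans h) x) (resM T (hW.trans h) t) =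
      tmul (ev (secHom φ) W (hW.trans h) x) (resM T hW (resM T h t))
    rw [resM_resM]

theorem ev_homTensor {K E T : X.Modules} {U : X.Opens} (φ : Γ(internalHom K E, U)) (t : Γ(T, U))
    (W : X.Opens) (hW : W ≤ U) (x : Γ(K, W)) :
    ev (secHom ((homTensor K E T).desc.app U (tmul φ t))) W hW x = tmul (ev (secHom φ) W hW x) (resM T hW t) := by
  rw [Bilin.desc_tmul]
  rfl

/-- Sections of a coherent module over an affine open on which its stalks are flat form a projective module. -/
theorem projective_sections [IsLocallyNoetherian X] (K : X.Modules) (hK : Coh.IsCoh K) {U : X.Opens}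
    (hU : IsAffineOpen U) (h : ∀ x ∈ U, Module.Flat (X.presheaf.stalk x) (K.presheaf.stalk x)) :
    Module.Projective Γ(X, U) Γ(K, U) := by
  haveI := hK.1
  haveI : IsNoetherianRing Γ(X, U) := IsLocallyNoetherian.component_noetherian ⟨U, hU⟩
  haveI : Module.Finite Γ(X, U) Γ(K, U) := ((isCoh_iff_finite_sections K).1 hK).2 U hU
  haveI : Module.FinitePresentation Γ(X, U) Γ(K, U) := Module.finitePresentation_of_finite _ _
  haveI : Module.Flat Γ(X, U) Γ(K, U) := by
    refine Module.flat_of_localized_maximal _ ?_
    intro P hP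
    obtain ⟨⟨x, hx⟩, hxP⟩ : ∃ x : U, (hU.primeIdealOf x).asIdeal = P :=
      ⟨⟨hU.fromSpec ⟨P, inferInstance⟩, by
        rw [← SetLike.mem_coe, ← hU.range_fromSpec]; exact ⟨_, rfl⟩⟩, by
          exact congrArg PrimeSpectrum.asIdeal (hU.fromSpec.isOpenEmbedding.injective
            (hU.fromSpec_primeIdealOf _))⟩
    subst hxP
    let _ := (X.presheaf.germ U x hx).hom.toAlgebra
    let _ := Module.compHom (K.presheaf.stalk x) (X.presheaf.germ U x hx).hom
    have : IsScalarTower Γ(X, U) (X.presheaf.stalk x) (K.presheaf.stalk x) :=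
      IsScalarTower.of_algebraMap_smul fun _ _ => rfl
    let φ : Γ(K, U) →ₗ[Γ(X, U)] K.presheaf.stalk x :=
      { toFun := K.presheaf.germ U x hx
        map_add' := map_add _
        map_smul' := QCohLoc.germ_smul' (M := K) hx }
    have := EGA43.QcohFP.isLocalizedModule_germ K hU hx φ fun _ => rfl
    have := hU.isLocalization_stalk ⟨x, hx⟩
    have : Module.Flat (X.presheaf.stalk x) (K.presheaf.stalk x) := h x hx
    have : Module.Flat Γ(X, U) (X.presheaf.stalk x) :=
      IsLocalization.flat (X.presheaf.stalk x) (hU.primeIdealOf ⟨x, hx⟩).asIdeal.primeCompl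
    have : Module.Flat Γ(X, U) (K.presheaf.stalk x) := Module.Flat.trans _ (X.presheaf.stalk x) _
    exact Module.Flat.of_linearEquiv (IsLocalizedModule.iso _ φ)
  exact Module.Flat.projective_of_finitePresentation

variable [CompactSpace X] [X.IsSeparated] [IsLocallyNoetherian X] {L : X.Modules} (hL : PicF.IsInvertible L)
  (s : Γ(L, ⊤))
include hL

/-- Morphisms equal where `s` is invertible become equal after multiplication by a power of `s`. -/
theorem exists_rightMul_eq {K H : X.Modules} (hK : Coh.IsCoh K) (hH : Coh.IsCoh H) (φ ψ : K ⟶ H)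
    (h : ∀ (W : X.Opens), W ≤ glocus L s → ∀ a, φ.app W a = ψ.app W a) :
    ∃ m : ℕ, φ ≫ rightMul H (powSec s m) = ψ ≫ rightMul H (powSec s m) := by
  haveI := (Existence.isCoh_internalHom hK hH).1
  let z : Γ(internalHom K H, ⊤) := secOfHom φ - secOfHom ψ
  have hev : ∀ (W : X.Opens) (hW : W ≤ ⊤) a, ev (secHom z) W hW a = φ.app W a - ψ.app W a := fun W hW a => rfl
  have hz : resM _ (le_top : glocus L s ≤ ⊤) z = 0 := locHom_ext fun W hW a => by
    show ev (secHom (resM _ le_top z)) W hW a = 0
    rw [resM_internalHom, hev, h W hW, sub_self]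
  obtain ⟨m, hm⟩ := exists_tmul_powSec_eq_zero _ s hL z hz
  refine ⟨m, Scheme.Modules.hom_ext _ _ fun W => ConcreteCategory.hom_ext _ _ fun a => ?_⟩
  have h1 := ev_homTensor z (powSec s m) W le_top a
  rw [hm, map_zero, hev] at h1
  refine sub_eq_zero.1 (Eq.trans ?_ h1.symm)
  show tmul (φ.app W a) (resM _ le_top (powSec s m)) - tmul (ψ.app W a) (resM _ le_top (powSec s m)) = _
  rw [sub_eq_iff_eq_add, ← tmul_add_left, sub_add_cancel]

/-- A power of `s` factors a coherent module, locally free where `s` is invertible, through any module mapping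
onto it. -/
theorem exists_factor_rightMul (hU : IsAffineOpen (glocus L s)) {E K : X.Modules} (hE : Coh.IsCoh E)
    (hK : Coh.IsCoh K) (p : E ⟶ K) [Epi p]
    (hfree : ∀ x ∈ glocus L s, Module.Flat (X.presheaf.stalk x) (K.presheaf.stalk x)) :
    ∃ (m : ℕ) (a : K ⟶ CohB1.tensorMod E (CohB1.tensorPow L m)),
      a ≫ tensorMap p (𝟙 _) = rightMul K (powSec s m) := by
  haveI := hK.1
  haveI := hE.1
  haveI := (Existence.isCoh_internalHom hK hE).1
  let U := glocus L s
  haveI := projective_sections K hK hU hfree
  let pl : Γ(E, U) →ₗ[Γ(X, U)] Γ(K, U) :=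
    { toFun := p.app U, map_add' := map_add _, map_smul' := fun r a => Scheme.Modules.Hom.app_smul p r a }
  obtain ⟨σl, hσl⟩ := Module.projective_lifting_property pl LinearMap.id
    (show Function.Surjective pl from Existence.app_surjective_of_epi p hU)
  obtain ⟨σ, hσ⟩ := Existence.exists_locHom hU σl
  have hpσ : ∀ (W : X.Opens) (hW : W ≤ U) a, p.app W (ev σ W hW a) = a := by
    let c : locHom K K U :=
      ⟨fun W hW => AddMonoidHom.mk' (fun a => p.app W (ev σ W hW a)) (fun a b => by
          rw [show ev σ W hW (a + b) = ev σ W hW a + ev σ W hW b from map_add (σ.1 W hW) a b, map_add]),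
        fun W hW r a => by
          show p.app W (ev σ W hW (r • a)) = r • p.app W (ev σ W hW a)
          rw [ev_smul_arg, Scheme.Modules.Hom.app_smul],
        fun W W' hW h a => by
          show resM K h (p.app W (ev σ W hW a)) = p.app W' (ev σ W' _ (resM K h a))
          rw [← app_resM, ev_res]⟩
    let d : locHom K K U :=
      ⟨fun W _ => AddMonoidHom.id _, fun _ _ _ _ => rfl, fun _ _ _ _ _ => rfl⟩
    have hcd : c = d := Existence.locHom_ext_affine hU fun a => by
      show p.app U (ev σ U le_rfl a) = a
      rw [hσ]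
      exact LinearMap.congr_fun hσl a
    exact fun W hW a => congrArg (fun e : locHom K K U => ev e W hW a) hcd
  obtain ⟨n, t, ht⟩ := exists_extend (internalHom K E) s hL (show Γ(internalHom K E, U) from σ)
  let a₀ : K ⟶ CohB1.tensorMod E (CohB1.tensorPow L n) := homOfSec ((homTensor K E _).desc.app ⊤ t)
  have hloc : ∀ (W : X.Opens), W ≤ U → ∀ a, (a₀ ≫ tensorMap p (𝟙 _)).app W a = (rightMul K (powSec s n)).app W a := by
    intro W hW a
    have h1 : a₀.app W a = tmul (ev σ W hW a) (resM _ le_top (powSec s n)) := by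
      show ev (secHom ((homTensor K E _).desc.app ⊤ t)) W le_top a = _
      rw [← resM_internalHom (le_top : U ≤ ⊤) _ W hW a, ← app_resM, ht, ev_homTensor, ← resM_powSec, resM_resM]
      rfl
    show (tensorMap p (𝟙 _)).app W (a₀.app W a) = tmul a (resM _ le_top (powSec s n))
    rw [h1, tensorMap_tmul, hpσ]
    rfl
  obtain ⟨m, hm⟩ := exists_rightMul_eq hL s hK (EulerLib.isCoh_twist (isInvertible_tensorPow hL n) hK) _ _ hloc
  obtain ⟨γ, hγn, hγ⟩ := exists_addShift hL s n m
  refine ⟨n + m, a₀ ≫ rightMul _ (powSec s m) ≫ γ E, ?_⟩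
  have hP : rightMul K (powSec s n) ≫ rightMul _ (powSec s m) ≫ γ K = rightMul K (powSec s (n + m)) :=
    Scheme.Modules.hom_ext _ _ fun W => ConcreteCategory.hom_ext _ _ fun a => hγ K W a
  rw [← hP, ← Category.assoc (rightMul K (powSec s n)), ← hm]
  simp only [Category.assoc]
  rw [← hγn p, ← Category.assoc (rightMul (CohB1.tensorMod E (CohB1.tensorPow L n)) (powSec s m)),
    ← rightMul_naturality, Category.assoc]

end Groth.Agent.Lef23
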