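import Groth.Agent.Lef23.KillHom
import Groth.Agent.Lef23.NegPn
import Groth.Agent.WeilFin.Bundle
import Groth.Agent.EulerLib.Twist

/-!
# Large negative twists on projective space are killed by a section, off whose zeros `pd` is small
-/

set_option autoImplicit false
set_option linter.style.haveILetI false
set_option backward.isDefEq.respectTransparency.types false

universe u

open CategoryTheory CategoryTheory.Limits AlgebraicGeometry Opposite TopologicalSpace
open Groth.Agent.Coherent Groth.Agent.PicLib Groth.Agent.AmpleLib Groth.Agent.SerreDual Groth.Agent.EulerLib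
open Groth.Agent.Coherent.Serre

namespace Groth.Agent.Lef23

attribute [local instance] hasFiniteBiproducts

variable {R : Type u} [CommRing R] [IsNoetherianRing R] {n : ℕ} {L : (CohB1.ProjSpace n R).Modules}

/-- The multiplication `G(-m) → (G ⊗ L^k)(-m)` by the `k`-th power of `s`. -/
noncomputable abbrev negMul (G : (CohB1.ProjSpace n R).Modules) (s : Γ(L, ⊤)) (k m : ℕ) :
    neg G m ⟶ neg (CohB1.tensorMod G (CohB1.tensorPow L k)) m :=
  (twistF (Twist.twistProjSpace n R (-(m : ℤ)))).map (rightMul G (powSec s k))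

/-- Multiplication by a power of `s` kills the cohomology in degree `i` of large negative twists of `G`. -/
def Kills (G : (CohB1.ProjSpace n R).Modules) (s : Γ(L, ⊤)) (i : ℕ) : Prop :=
  ∃ k m₀ : ℕ, ∀ m : ℕ, m₀ ≤ m → ∀ x : Coh.HH (CohB1.ProjSpace n R) (neg G m) i, hm (negMul G s k m) i x = 0

variable (hL : PicF.IsInvertible L) (s : Γ(L, ⊤)) (hU : IsAffineOpen (glocus L s))
include hL

/-- A coherent module vanishing where `s` is invertible is killed by a power of `s`. -/
theorem kills_of_zero {G : (CohB1.ProjSpace n R).Modules} (hG : Coh.IsCoh G)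
    (h : ∀ x ∈ glocus L s, Subsingleton (G.presheaf.stalk x)) (i : ℕ) : Kills G s i := by
  haveI := isLocallyNoetherian_projSpace (n := n) (R := R)
  haveI := compactSpace_projSpace (n := n) (R := R)
  haveI := isProper_projSpace_toSpec n R
  haveI : (CohB1.ProjSpace n R).IsSeparated := isSeparated_of_isProper (CohB1.ProjSpace.toSpec n R)
  obtain ⟨k, hk⟩ := exists_rightMul_eq hL s hG hG (𝟙 G) 0 fun W hW a =>
    TopCat.Presheaf.section_ext ⟨G.presheaf, G.isSheaf⟩ W _ _ fun x hx => by
      haveI := h x (hW hx)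
      exact Subsingleton.elim (α := G.presheaf.stalk x) _ _
  rw [Category.id_comp, zero_comp] at hk
  refine ⟨k, 0, fun m _ x => ?_⟩
  have h0 : negMul G s k m = 0 := by
    show (twistF _).map _ = 0
    rw [hk, Functor.map_zero]
  show hm (negMul G s k m) i x = 0
  rw [h0]
  refine (HHTopEquiv _ i).injective ?_
  rw [hm_top, map_zero]
  exact postA_zero (RingHom.id _) i _

include hU

/-- **Killing by a section**: if `pd < r + 1` where `s` is invertible, powers of `s` kill `H^i(G(-m))` for large
`m` and `i + r < n`. -/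
theorem kills_of_pd : ∀ (r : ℕ) (G : (CohB1.ProjSpace n R).Modules), Coh.IsCoh G →
    (∀ x ∈ glocus L s, CAlgH3.PD ((CohB1.ProjSpace n R).presheaf.stalk x) (r + 1) (G.presheaf.stalk x)) →
    ∀ i : ℕ, i + r < n → Kills G s i := by
  intro r
  haveI := isLocallyNoetherian_projSpace (n := n) (R := R)
  haveI := compactSpace_projSpace (n := n) (R := R)
  haveI := isProper_projSpace_toSpec n R
  haveI : (CohB1.ProjSpace n R).IsSeparated := isSeparated_of_isProper (CohB1.ProjSpace.toSpec n R)
  induction r with
  | zero =>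
    intro G hG hpd i hi
    obtain ⟨r', b, p, hp, hker, hproj⟩ := exists_presentation G hG
    haveI := hp
    haveI := isQCoh_twistProjSpace (n := n) (R := R) b
    let E : (CohB1.ProjSpace n R).Modules := ⨁ fun _ : Fin r' => Twist.twistProjSpace n R b
    have hE : Coh.IsCoh E :=
      isCoh_biproduct _ fun _ => CohBC.isCoh_of_isFinLocFree (isFinLocFree_of_invertible (isInvertible_O b))
    have hEl : FlatMod.IsFinLocFree E := isFinLocFree_of_pd_one hE fun x _ =>
      projective_iff_hasProjectiveDimensionLT_one.1 (hproj x)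
    haveI := hE.1
    haveI := hG.1
    obtain ⟨k, a, ha⟩ := exists_factor_rightMul hL s hU hE hG p fun x hx => by
      haveI := Props12.finite_stalk_of_isFT G hG.2 x
      haveI := CAlgH3.pd_one_iff.1 (hpd x hx)
      infer_instance
    have hF : FlatMod.IsFinLocFree (CohB1.tensorMod E (CohB1.tensorPow L k)) :=
      WeilFin.isFinLocFree_tensorMod hEl (isFinLocFree_of_invertible (isInvertible_tensorPow hL k))
    obtain ⟨m₀, hm₀⟩ := negVan_locFree n le_rfl _ hF
    refine ⟨k, m₀, fun m hm x => ?_⟩
    haveI := hm₀ m hm i (by omega)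
    let T := twistF (Twist.twistProjSpace n R (-(m : ℤ)))
    show Lef23.hm (T.map (rightMul G (powSec s k))) i x = 0
    rw [← ha, Functor.map_comp]
    refine (congrArg (fun t => Sheaf.H.map t i x) (Functor.map_comp _ _ _)).trans ?_
    rw [Sheaf.H.map_comp_apply, Subsingleton.elim (Sheaf.H.map _ i x) 0, map_zero]
  | succ r ih =>
    intro G hG hpd i hi
    obtain ⟨r', b, p, hp, hker, hproj⟩ := exists_presentation G hG
    haveI := hp
    haveI := isQCoh_twistProjSpace (n := n) (R := R) b
    let E : (CohB1.ProjSpace n R).Modules := ⨁ fun _ : Fin r' => Twist.twistProjSpace n R b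
    have hE : Coh.IsCoh E :=
      isCoh_biproduct _ fun _ => CohBC.isCoh_of_isFinLocFree (isFinLocFree_of_invertible (isInvertible_O b))
    have hEl : FlatMod.IsFinLocFree E := isFinLocFree_of_pd_one hE fun x _ =>
      projective_iff_hasProjectiveDimensionLT_one.1 (hproj x)
    let S : ShortComplex (CohB1.ProjSpace n R).Modules := ShortComplex.mk (kernel.ι p) p (kernel.condition p)
    have hS : S.ShortExact :=
      { exact := ShortComplex.exact_of_f_is_kernel _ (kernelIsKernel p), mono_f := inferInstance, epi_g := hp }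
    obtain ⟨k, m₁, hk⟩ := ih (kernel p) hker (fun x hx =>
      ((hS.map_of_exact (DerSch.stalkFunctor (CohB1.ProjSpace n R) x)).hasProjectiveDimensionLT_X₃_iff r
        (hproj x)).1 (hpd x hx)) (i + 1) (by omega)
    have hF : FlatMod.IsFinLocFree (CohB1.tensorMod E (CohB1.tensorPow L k)) :=
      WeilFin.isFinLocFree_tensorMod hEl (isFinLocFree_of_invertible (isInvertible_tensorPow hL k))
    obtain ⟨m₂, hm₂⟩ := negVan_locFree n le_rfl _ hF
    refine ⟨k, max m₁ m₂, fun m hm x => ?_⟩
    let T := twistF (Twist.twistProjSpace n R (-(m : ℤ)))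
    have hS₁ := hS.map_of_exact T
    have hS₂ := (twistSeq_shortExact (isInvertible_tensorPow hL k) hS).map_of_exact T
    let τ₀ : S ⟶ twistSeq S (CohB1.tensorPow L k) :=
      ⟨rightMul S.X₁ (powSec s k), rightMul S.X₂ (powSec s k), rightMul S.X₃ (powSec s k),
        (rightMul_naturality S.f _).symm, (rightMul_naturality S.g _).symm⟩
    let τ : S.map T ⟶ (twistSeq S (CohB1.tensorPow L k)).map T := T.mapShortComplex.map τ₀
    let φ := RingHom.id Γ(CohB1.ProjSpace n R, ⊤)
    let y : HA φ (S.map T).X₃ (⊤ : (CohB1.ProjSpace n R).Opens) i := HHTopEquiv (neg G m) i x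
    have hzero : postA φ τ.τ₁ ⊤ (i + 1) (deltaA φ hS₁ ⊤ i y) = 0 := by
      let d := (HHTopEquiv (neg (kernel p) m) (i + 1)).symm (deltaA φ hS₁ ⊤ i y)
      have h1 := congrArg (HHTopEquiv _ (i + 1)) (hk m (le_trans (le_max_left _ _) hm) d)
      rw [hm_top, map_zero, AddEquiv.apply_symm_apply] at h1
      exact h1
    rw [deltaA_natural φ hS₁ hS₂ τ i y] at hzero
    obtain ⟨w, hw⟩ := (exact_postA_deltaA φ hS₂ ⊤ i _).1 hzero
    haveI := subsingleton_HA (hm₂ m (le_trans (le_max_right _ _) hm) i (by omega))
    refine (HHTopEquiv _ i).injective ?_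
    rw [hm_top, map_zero]
    refine hw.symm.trans ?_
    have hw0 : w = (0 : HA φ ((twistSeq S (CohB1.tensorPow L k)).map T).X₂ (⊤ : (CohB1.ProjSpace n R).Opens) i) :=
      (subsingleton_HA (hm₂ m (le_trans (le_max_right _ _) hm) i (by omega))).elim _ _
    rw [hw0]
    exact map_zero _

end Groth.Agent.Lef23
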