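import Groth.Agent.Lef23.PuncturedDescendScheme
import Groth.Agent.Matlis6.CompletionNoetherian
import Mathlib.RingTheory.AdicCompletion.LocalRing
import Mathlib.RingTheory.AdicCompletion.AsTensorProduct
import Mathlib.RingTheory.AdicCompletion.Completeness

/-!
# Extensions over the closed point descend from the completion
-/

set_option autoImplicit false
set_option backward.isDefEq.respectTransparency false

universe u

open CategoryTheory CategoryTheory.Limits AlgebraicGeometry

namespace Groth.Agent.Lef23.Descend

theorem faithfullyFlat_completion (A : Type u) [CommRing A] [IsNoetherianRing A] [IsLocalRing A] :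
    Module.FaithfullyFlat A (AdicCompletion (IsLocalRing.maximalIdeal A) A) :=
  haveI : Module.Flat A (AdicCompletion (IsLocalRing.maximalIdeal A) A) := AdicCompletion.flat_of_isNoetherian _
  Module.FaithfullyFlat.of_flat_of_isLocalHom

theorem dense_completion (A : Type u) [CommRing A] [IsNoetherianRing A] [IsLocalRing A] (n : ℕ)
    (b : AdicCompletion (IsLocalRing.maximalIdeal A) A) : ∃ a : A,
    b - algebraMap A _ a ∈ ((IsLocalRing.maximalIdeal A) ^ n).map
      (algebraMap A (AdicCompletion (IsLocalRing.maximalIdeal A) A)) := by
  let I := IsLocalRing.maximalIdeal A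
  obtain ⟨a, ha⟩ := Submodule.mkQ_surjective _ (AdicCompletion.eval I A n b)
  refine ⟨a, ?_⟩
  rw [← Submodule.restrictScalars_mem A, ← Ideal.smul_top_eq_map,
    AdicCompletion.pow_smul_top_eq_ker_eval (IsNoetherian.noetherian I), LinearMap.mem_ker, map_sub, sub_eq_zero]
  exact ha.symm

end Groth.Agent.Lef23.Descend
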