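import Groth.Agent.Lef23.PuncturedClopenLocal
import Groth.Agent.Lef23.PuncturedDescendCompl
import Groth.Agent.FEtFF.HenselPair
import Groth.Agent.LocCoh.BaseChange
import Groth.Agent.CAlgMisc1.Basic
import Mathlib.RingTheory.Henselian

/-!
# Extending finite étale covers of a punctured spectrum from a hypersurface
-/

set_option autoImplicit false
set_option linter.style.haveILetI false
set_option backward.isDefEq.respectTransparency false

universe u

open CategoryTheory CategoryTheory.Limits AlgebraicGeometry TensorProduct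

noncomputable section

namespace Groth.Agent.Lef23.PuncturedExtend

/-- Base change along a composite. -/
def rComp {A B C : Scheme.{u}} (i : A ⟶ B) (j : B ⟶ C) (k : A ⟶ C) (h : k = i ≫ j) :
    FEt.restrict k ≅ FEt.restrict j ⋙ FEt.restrict i :=
  MorphismProperty.Over.pullbackComp (P := FEt.prop) (Q := ⊤) i j k h

/-- Over a henselian pair, covers extending on the hypersurface extend. -/
theorem extends_of_henselian {R : CommRingCat.{u}} [IsNoetherianRing R] (𝔞 : Ideal R) (f : R)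
    [HenselianRing R (Ideal.span ({f} : Set R))]
    (h1 : ∃ n : ℕ, ∀ x : _root_.LocCoh.H 𝔞 1 R, f ^ n • x = 0)
    (h2 : ∃ n : ℕ, ∀ x : _root_.LocCoh.H 𝔞 2 R, f ^ n • x = 0)
    (U : (Spec R).Opens) (hU : U = LocCoh.puncturedOpen R 𝔞) (V : FEt.Cat (U : Scheme.{u}))
    (hV : ∃ Y₀ : FEt.Cat (Spec (CommRingCat.of (R ⧸ Ideal.span ({f} : Set R)))),
      Nonempty ((FEt.restrict (pullback.snd U.ι
        (Spec.map (CommRingCat.ofHom (Ideal.Quotient.mk (Ideal.span ({f} : Set R))))))).obj Y₀ ≅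
        (FEt.restrict (pullback.fst U.ι
        (Spec.map (CommRingCat.ofHom (Ideal.Quotient.mk (Ideal.span ({f} : Set R))))))).obj V)) :
    ∃ Y : FEt.Cat (Spec R), Nonempty ((FEt.restrict U.ι).obj Y ≅ V) := by
  obtain ⟨Y₀, ⟨e⟩⟩ := hV
  let q := Spec.map (CommRingCat.ofHom (Ideal.Quotient.mk (Ideal.span ({f} : Set R))))
  haveI : IsClosedImmersion q := IsClosedImmersion.spec_of_surjective _ Ideal.Quotient.mk_surjective
  obtain ⟨hfull, hfaith⟩ := PuncturedClopen.restrict_fullyFaithful 𝔞 f h1 h2 U hU q (by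
    refine (range_comap_of_surjective _ _ Ideal.Quotient.mk_surjective).trans ?_
    rw [Ideal.mk_ker, PrimeSpectrum.zeroLocus_span]
    exact Set.ext fun p => Set.singleton_subset_iff)
  haveI := FEtFF.HenselPair.restrict_isEquivalence (Ideal.span ({f} : Set R))
  let Y : FEt.Cat (Spec R) := (FEt.restrict q).objPreimage Y₀
  refine ⟨Y, ⟨(FEt.restrict (pullback.fst U.ι q)).preimageIso ?_⟩⟩
  exact (rComp (pullback.fst U.ι q) U.ι _ rfl).symm.app Y ≪≫
    (rComp (pullback.snd U.ι q) q _ pullback.condition).app Y ≪≫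
    (FEt.restrict (pullback.snd U.ι q)).mapIso ((FEt.restrict q).objObjPreimageIso Y₀) ≪≫ e

theorem puncturedSpec_eq (A : Type u) [CommRing A] [IsLocalRing A] :
    FEt.puncturedSpec A = LocCoh.puncturedOpen (CommRingCat.of A) (IsLocalRing.maximalIdeal A) := by
  refine TopologicalSpace.Opens.ext (Set.ext fun p => not_congr ⟨fun h => ?_, fun h => ?_⟩)
  · rw [Set.mem_singleton_iff.1 h]
    exact le_refl (IsLocalRing.maximalIdeal A)
  · exact PrimeSpectrum.ext (le_antisymm (IsLocalRing.le_maximalIdeal p.2.ne_top) h)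

theorem extends_local (A : Type u) [CommRing A] [IsNoetherianRing A] [IsLocalRing A] (f : A)
    [HenselianRing A (Ideal.span {f})]
    (h1 : ∃ n : ℕ, ∀ x : _root_.LocCoh.H (IsLocalRing.maximalIdeal A) 1 A, f ^ n • x = 0)
    (h2 : ∃ n : ℕ, ∀ x : _root_.LocCoh.H (IsLocalRing.maximalIdeal A) 2 A, f ^ n • x = 0)
    (V : FEt.Cat (FEt.puncturedSpec A : Scheme.{u}))
    (hV : ∃ Y₀ : FEt.Cat (Spec (CommRingCat.of (A ⧸ Ideal.span {f}))),
      Nonempty ((FEt.restrict (pullback.snd (FEt.puncturedSpec A).ι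
        (Spec.map (CommRingCat.ofHom (Ideal.Quotient.mk (Ideal.span {f})))))).obj Y₀ ≅
        (FEt.restrict (pullback.fst (FEt.puncturedSpec A).ι
        (Spec.map (CommRingCat.ofHom (Ideal.Quotient.mk (Ideal.span {f})))))).obj V)) :
    ∃ Y : FEt.Cat (Spec (CommRingCat.of A)), Nonempty ((FEt.restrict (FEt.puncturedSpec A).ι).obj Y ≅ V) :=
  extends_of_henselian (R := CommRingCat.of A) (IsLocalRing.maximalIdeal A) f h1 h2 _ (puncturedSpec_eq A) V hV

theorem kills_baseChange {A B : Type u} [CommRing A] [IsNoetherianRing A] [CommRing B] [IsNoetherianRing B]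
    [Algebra A B] [Module.Flat A B] (I : Ideal A) (i : ℕ) (c : A)
    (h : ∀ x : _root_.LocCoh.H I i A, c • x = 0) (x : _root_.LocCoh.H (I.map (algebraMap A B)) i B) :
    algebraMap A B c • x = 0 := by
  obtain ⟨e⟩ := LocCoh.nonempty_H_baseChange A B (I := I) i A
  let r : ModuleCat.of B (B ⊗[A] A) ≅ ModuleCat.of B B :=
    (AlgebraTensorModule.rid A B B).toModuleIso
  let e' := e.trans ((localCohomology (I.map (algebraMap A B)) i).mapIso r).toLinearEquiv
  obtain ⟨y, rfl⟩ := e'.surjective x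
  rw [← map_smul, algebraMap_smul]
  suffices c • y = 0 by rw [this, map_zero]
  induction y with
  | zero => exact smul_zero _
  | tmul b z => rw [← TensorProduct.tmul_smul, h z, TensorProduct.tmul_zero]
  | add a b ha hb => rw [smul_add, ha, hb, add_zero]

theorem extends_of_torsion (A : Type u) [CommRing A] [IsNoetherianRing A] [IsLocalRing A] (f : A)
    (hf : f ∈ IsLocalRing.maximalIdeal A)
    (h1 : ∃ n : ℕ, ∀ x : _root_.LocCoh.H (IsLocalRing.maximalIdeal A) 1 A, f ^ n • x = 0)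
    (h2 : ∃ n : ℕ, ∀ x : _root_.LocCoh.H (IsLocalRing.maximalIdeal A) 2 A, f ^ n • x = 0)
    (V : FEt.Cat (FEt.puncturedSpec A : Scheme.{u}))
    (hV : ∃ Y₀ : FEt.Cat (Spec (CommRingCat.of (A ⧸ Ideal.span {f}))),
      Nonempty ((FEt.restrict (pullback.snd (FEt.puncturedSpec A).ι
        (Spec.map (CommRingCat.ofHom (Ideal.Quotient.mk (Ideal.span {f})))))).obj Y₀ ≅
        (FEt.restrict (pullback.fst (FEt.puncturedSpec A).ι
        (Spec.map (CommRingCat.ofHom (Ideal.Quotient.mk (Ideal.span {f})))))).obj V)) :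
    ∃ Y : FEt.Cat (Spec (CommRingCat.of A)), Nonempty ((FEt.restrict (FEt.puncturedSpec A).ι).obj Y ≅ V) := by
  let B := AdicCompletion (IsLocalRing.maximalIdeal A) A
  haveI : IsNoetherianRing B := Matlis6.isNoetherianRing_adicCompletion _
  haveI : Module.FaithfullyFlat A B := Descend.faithfullyFlat_completion A
  have hmB : IsLocalRing.maximalIdeal B = (IsLocalRing.maximalIdeal A).map (algebraMap A B) :=
    AdicCompletion.maximalIdeal_eq_map
  let f' : B := algebraMap A B f
  have hf' : f' ∈ IsLocalRing.maximalIdeal B := by rw [hmB]; exact Ideal.mem_map_of_mem _ hf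
  haveI : IsAdicComplete (Ideal.span {f'}) B := CAlgMisc1.isAdicComplete_of_le _ (IsLocalRing.maximalIdeal B)
    ((Ideal.span_singleton_le_iff_mem _).2 hf') (IsNoetherian.noetherian _) B
  haveI : HenselianRing B (Ideal.span {f'}) := IsAdicComplete.henselianRing B _
  obtain ⟨Y₀, ⟨e⟩⟩ := hV
  let U := FEt.puncturedSpec A
  let g := Descend.gq A B
  let U' := g ⁻¹ᵁ U
  let k' := g ∣_ U
  have hk : IsPullback k' U'.ι U.ι g := isPullback_morphismRestrict g U
  have hU' : U' = LocCoh.puncturedOpen (CommRingCat.of B) ((IsLocalRing.maximalIdeal A).map (algebraMap A B)) := by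
    show g ⁻¹ᵁ U = _
    rw [show U = _ from puncturedSpec_eq A]
    exact TopologicalSpace.Opens.ext (Set.ext fun p => not_congr Ideal.map_le_iff_le_comap.symm)
  let q := Spec.map (CommRingCat.ofHom (Ideal.Quotient.mk (Ideal.span ({f} : Set A))))
  let q' := Spec.map (CommRingCat.ofHom (Ideal.Quotient.mk (Ideal.span ({f'} : Set B))))
  have hle : Ideal.span ({f} : Set A) ≤ (Ideal.span ({f'} : Set B)).comap (algebraMap A B) := by
    rw [Ideal.span_le, Set.singleton_subset_iff, SetLike.mem_coe, Ideal.mem_comap]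
    exact Ideal.mem_span_singleton_self _
  let jQ : Spec (CommRingCat.of (B ⧸ Ideal.span ({f'} : Set B))) ⟶ Spec (CommRingCat.of (A ⧸ Ideal.span ({f} : Set A))) :=
    Spec.map (CommRingCat.ofHom (Ideal.quotientMap _ (algebraMap A B) hle))
  have hjQ : q' ≫ g = jQ ≫ q := by
    show Spec.map _ ≫ Spec.map _ = Spec.map _ ≫ Spec.map _
    rw [← Spec.map_comp, ← Spec.map_comp]
    rfl
  let w : pullback U'.ι q' ⟶ pullback U.ι q := pullback.lift (pullback.fst U'.ι q' ≫ k') (pullback.snd U'.ι q' ≫ jQ) (by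
    rw [Category.assoc, hk.w, Category.assoc, ← hjQ, ← Category.assoc, ← Category.assoc, pullback.condition])
  let V' : FEt.Cat (U' : Scheme.{u}) := (FEt.restrict k').obj V
  let e' : (FEt.restrict (pullback.snd U'.ι q')).obj ((FEt.restrict jQ).obj Y₀) ≅
      (FEt.restrict (pullback.fst U'.ι q')).obj V' :=
    (rComp (pullback.snd U'.ι q') jQ (w ≫ pullback.snd U.ι q) (pullback.lift_snd _ _ _)).symm.app Y₀ ≪≫
      (rComp w (pullback.snd U.ι q) _ rfl).app Y₀ ≪≫ (FEt.restrict w).mapIso e ≪≫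
      (rComp w (pullback.fst U.ι q) (pullback.fst U'.ι q' ≫ k') (pullback.lift_fst _ _ _).symm).symm.app V ≪≫
      (rComp (pullback.fst U'.ι q') k' _ rfl).app V
  have kill : ∀ i, (∃ n : ℕ, ∀ x : _root_.LocCoh.H (IsLocalRing.maximalIdeal A) i A, f ^ n • x = 0) →
      ∃ n : ℕ, ∀ x : _root_.LocCoh.H ((IsLocalRing.maximalIdeal A).map (algebraMap A B)) i B, f' ^ n • x = 0 := by
    rintro i ⟨n, hn⟩
    exact ⟨n, fun x => by rw [← map_pow]; exact kills_baseChange _ i _ hn x⟩
  obtain ⟨Y', ⟨eY⟩⟩ := extends_of_henselian (R := CommRingCat.of B) _ f' (kill 1 h1) (kill 2 h2) U' hU' V'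
    ⟨_, ⟨e'⟩⟩
  haveI : IsFinite V.hom := V.prop.1
  haveI : IsFinite Y'.hom := Y'.prop.1
  let t := hk.isoPullback
  let E : (FEt.restrict (pullback.fst U.ι g)).obj V ≅ (FEt.restrict (pullback.snd U.ι g)).obj Y' :=
    (rComp t.inv k' _ hk.isoPullback_inv_fst.symm).app V ≪≫ (FEt.restrict t.inv).mapIso eY.symm ≪≫
      (rComp t.inv U'.ι _ hk.isoPullback_inv_snd.symm).symm.app Y'
  obtain ⟨Y, y, hy, hyet, ⟨i, hi⟩, -⟩ := Descend.exists_extension A B (Descend.dense_completion A) V.hom Y'.hom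
    ((MorphismProperty.Over.forget _ _ _ ⋙ Over.forget _).mapIso E) (MorphismProperty.Over.w E.hom)
  exact ⟨MorphismProperty.Over.mk ⊤ y ⟨hy, hyet Y'.prop.2⟩, ⟨MorphismProperty.Over.isoMk i hi⟩⟩

end Groth.Agent.Lef23.PuncturedExtend
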