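import Groth.Agent.Lef23.PuncturedIdem
import Groth.Agent.Lef23.CoupleEt
import Groth.Agent.HenselLib.SectionsIdem
import Mathlib.AlgebraicGeometry.QuasiAffine
import Mathlib.AlgebraicGeometry.Morphisms.Flat
import Mathlib.RingTheory.Flat.EquationalCriterion

/-!
# Clopen subsets of finite étale covers of a punctured spectrum, for a henselian pair
-/

set_option autoImplicit false
set_option linter.style.haveILetI false
set_option backward.isDefEq.respectTransparency false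
set_option linter.unusedSectionVars false
set_option synthInstance.maxHeartbeats 100000

universe u

open CategoryTheory CategoryTheory.Limits AlgebraicGeometry Opposite TopologicalSpace
open Groth.Agent.Formal2Lib Groth.Agent.Coherent

noncomputable section

namespace Groth.Agent.Lef23.PuncturedClopen

variable {R : CommRingCat.{u}} (𝔞 : Ideal R) [IsNoetherianRing R] {Y : Scheme.{u}} (g : Y ⟶ Punct.US 𝔞)
  [IsFinite g] [Etale g] [Algebra R Γ(Y, ⊤)]
  (hα : ∀ r : R, algebraMap R Γ(Y, ⊤) r = (g ≫ Punct.jU 𝔞).appTop ((Scheme.ΓSpecIso R).inv r))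

local notation "U0" => LocCoh.puncturedOpen R 𝔞

/-- The part of the cover over a basic open. -/
abbrev W (a : R) : Y.Opens := Y.basicOpen (algebraMap R Γ(Y, ⊤) a)

/-- Restriction of global functions. -/
abbrev rU (U : Y.Opens) : Γ(Y, ⊤) →+* Γ(Y, U) := (Y.presheaf.map (homOfLE (le_top : U ≤ ⊤)).op).hom

omit [IsNoetherianRing R] [Algebra R Γ(Y, ⊤)] in
theorem map_rU {U V : Y.Opens} (h : V ≤ U) (x : Γ(Y, ⊤)) : Y.presheaf.map (homOfLE h).op (rU U x) = rU V x :=
  (ConcreteCategory.congr_hom (Y.presheaf.map_comp (homOfLE (le_top : U ≤ ⊤)).op (homOfLE h).op) x).symm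

include hα

theorem preimage_D (a : R) : (g ≫ Punct.jU 𝔞) ⁻¹ᵁ Punct.D a = W a := by
  show _ = Y.basicOpen _
  rw [hα, ← Scheme.preimage_basicOpen_top, basicOpen_eq_of_affine]

theorem exists_mem_W (y : Y) : ∃ a ∈ 𝔞, y ∈ W a := by
  obtain ⟨a, ha, hya⟩ : ∃ a ∈ 𝔞, a ∉ ((g ≫ Punct.jU 𝔞) y).asIdeal :=
    Set.not_subset.1 (show (g y).1 ∈ U0 from (g y).2)
  exact ⟨a, ha, (preimage_D 𝔞 g hα a).le hya⟩

theorem isAffineOpen_W {a : R} (ha : a ∈ 𝔞) : IsAffineOpen (W a : Y.Opens) := by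
  rw [← preimage_D 𝔞 g hα a]
  have hle : Punct.D a ≤ (Punct.jU 𝔞).opensRange := by
    rw [Scheme.Opens.opensRange_ι]; exact Punct.D_le 𝔞 ha
  exact ((IsAffineOpen.Spec_basicOpen a).preimage_of_isOpenImmersion _ hle).preimage g

theorem isQuasiAffine : Y.IsQuasiAffine := by
  haveI : CompactSpace (Punct.US 𝔞) := (Punct.isNoetherian_US 𝔞).toCompactSpace
  haveI : CompactSpace Y := QuasiCompact.compactSpace_of_compactSpace g
  exact .of_forall_exists_mem_basicOpen Y fun y =>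
    let ⟨a, ha, hy⟩ := exists_mem_W 𝔞 g hα y
    ⟨_, isAffineOpen_W 𝔞 g hα ha, hy⟩

theorem isLocalization_W (a : R) : IsLocalization.Away (algebraMap R Γ(Y, ⊤) a) Γ(Y, W a) :=
  haveI := isQuasiAffine 𝔞 g hα
  isLocalization_basicOpen_of_qcqs isCompact_univ isQuasiSeparated_univ _

omit hα in
theorem isUnit_rU {a : R} {U : Y.Opens} (hU : U ≤ W a) : IsUnit (rU U (algebraMap R Γ(Y, ⊤) a)) := by
  rw [← map_rU hU]
  exact (RingedSpace.isUnit_res_basicOpen Y.toRingedSpace (algebraMap R Γ(Y, ⊤) a)).map _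

theorem exists_pow_of_rU_eq_zero {a : R} {x : Γ(Y, ⊤)} (h : rU (W a) x = 0) : ∃ N : ℕ, a ^ N • x = 0 := by
  haveI := isLocalization_W 𝔞 g hα a
  obtain ⟨⟨_, N, rfl⟩, hN⟩ := (IsLocalization.map_eq_zero_iff
    (Submonoid.powers (algebraMap R Γ(Y, ⊤) a)) Γ(Y, W a) x).1 h
  exact ⟨N, by rw [Algebra.smul_def, map_pow]; exact hN⟩

omit hα in
theorem rU_eq_zero_of_pow {a : R} {U : Y.Opens} (hU : U ≤ W a) {x : Γ(Y, ⊤)} {N : ℕ} (h : a ^ N • x = 0) :
    rU U x = 0 := by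
  have h1 := congrArg (rU U) h
  rw [Algebra.smul_def, map_mul, map_pow, map_pow, map_zero] at h1
  exact ((isUnit_rU hU).pow N).mul_right_eq_zero.1 h1

theorem top_le_iSup : (⊤ : Y.Opens) ≤ ⨆ a : ↥(𝔞 : Set R), W (a : R) := fun y _ =>
  let ⟨a, ha, hy⟩ := exists_mem_W 𝔞 g hα y
  Opens.mem_iSup.2 ⟨⟨a, ha⟩, hy⟩

/-- Global functions of the cover are the sections of their module on the punctured spectrum. -/
theorem unit_bijective : Function.Bijective (SecU.unit U0 (PuncturedIdem.Bc (R := R) Γ(Y, ⊤))) := by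
  have hcov : U0 ≤ ⨆ a : ↥(𝔞 : Set R), Punct.D (a : R) :=
    Punct.le_iSup_D 𝔞 (t := (𝔞 : Set R)) (Ideal.span_eq 𝔞).ge
  let Bm := PuncturedIdem.Bc (R := R) Γ(Y, ⊤)
  suffices h : Function.Bijective (Misc15.Koszul.rho Bm U0) from
    (SecU.secV U0 (tilde Bm)).symm.bijective.comp h
  refine ⟨(injective_iff_map_eq_zero _).2 fun x hx => ?_, fun z => ?_⟩
  · refine TopCat.Sheaf.eq_of_locally_eq' Y.sheaf (fun a : ↥(𝔞 : Set R) => W (a : R)) ⊤ (fun a => homOfLE le_top)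
      (top_le_iSup 𝔞 g hα) _ _ fun a => ?_
    obtain ⟨N, hN⟩ := Misc15.Koszul.exists_pow_of_rho_eq_zero Bm (a : R) x
      (by rw [← Misc15.Koszul.rho_res Bm (Punct.D_le 𝔞 a.2), hx, map_zero])
    exact (rU_eq_zero_of_pow (a := (a : R)) (U := W (a : R)) le_rfl (x := x) hN).trans (map_zero _).symm
  · choose n x hx using fun a : ↥(𝔞 : Set R) =>
      Misc15.Koszul.exists_rho_eq Bm (a : R) (resM (tilde Bm) (Punct.D_le 𝔞 a.2) z)
    choose y hy using fun a : ↥(𝔞 : Set R) =>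
      ((isUnit_rU (a := (a : R)) (U := (W (a : R) : Y.Opens)) le_rfl).pow (n a)).dvd (a := rU (W (a : R)) (x a))
    obtain ⟨b, hb, -⟩ : ∃! b : Γ(Y, ⊤), ∀ a : ↥(𝔞 : Set R), rU (W (a : R)) b = y a := by
      refine Y.sheaf.existsUnique_gluing' (fun a : ↥(𝔞 : Set R) => W (a : R)) ⊤ (fun a => homOfLE le_top)
        (top_le_iSup 𝔞 g hα) y fun a b => ?_
      have hle : Punct.D (a : R) ⊓ Punct.D (b : R) ≤ specBasicOpen ((a : R) * (b : R)) := by
        rw [specBasicOpen, PrimeSpectrum.basicOpen_mul]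
      have h0 : Misc15.Koszul.rho Bm (specBasicOpen ((a : R) * (b : R)))
          ((b : R) ^ n b • x a - (a : R) ^ n a • x b) = 0 := by
        have h1 : specBasicOpen ((a : R) * (b : R)) ≤ Punct.D (a : R) := by
          rw [specBasicOpen, PrimeSpectrum.basicOpen_mul]; exact inf_le_left
        have h2 : specBasicOpen ((a : R) * (b : R)) ≤ Punct.D (b : R) := by
          rw [specBasicOpen, PrimeSpectrum.basicOpen_mul]; exact inf_le_right
        rw [map_sub, map_smul, map_smul]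
        conv_lhs => rw [← Misc15.Koszul.rho_res Bm h1 (x a), ← Misc15.Koszul.rho_res Bm h2 (x b)]
        rw [hx, hx, Misc15.Koszul.resM_smul_spec, Misc15.Koszul.resM_smul_spec, resM_resM, resM_resM, smul_comm, sub_self]
      obtain ⟨N, hN⟩ := Misc15.Koszul.exists_pow_of_rho_eq_zero Bm _ _ h0
      let U : Y.Opens := W (a : R) ⊓ W (b : R)
      have hua := isUnit_rU (a := (a : R)) (U := U) inf_le_left
      have hub := isUnit_rU (a := (b : R)) (U := U) inf_le_right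
      have hU : U ≤ W ((a : R) * (b : R)) := by
        show _ ≤ Y.basicOpen _
        rw [map_mul, Scheme.basicOpen_mul]
      have h3 : rU U ((b : R) ^ n b • (show Γ(Y, ⊤) from x a) - (a : R) ^ n a • (show Γ(Y, ⊤) from x b)) = 0 :=
        rU_eq_zero_of_pow hU hN
      rw [map_sub, sub_eq_zero, Algebra.smul_def, Algebra.smul_def, map_mul, map_mul, map_pow, map_pow, map_pow,
        map_pow, ← map_rU (inf_le_left : U ≤ W (a : R)) (x a), ← map_rU (inf_le_right : U ≤ W (b : R)) (x b),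
        hy, hy, map_mul, map_mul, map_pow, map_pow, map_rU, map_rU, ← mul_assoc, ← mul_assoc,
        mul_comm (rU U _ ^ n b)] at h3
      exact ((hua.pow (n a)).mul (hub.pow (n b))).mul_left_cancel h3
    refine ⟨b, Misc15.Koszul.sections_ext (tilde Bm) (fun a : ↥(𝔞 : Set R) => Punct.D (a : R))
      (fun a => Punct.D_le 𝔞 a.2) hcov _ _ fun a => ?_⟩
    refine (Scheme.Modules.isSMulRegular_of_le_basicOpen (le_refl (Punct.D (a : R)))).pow (n a) ?_
    show (a : R) ^ n a • resM _ _ (Misc15.Koszul.rho Bm U0 b) = (a : R) ^ n a • resM _ _ z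
    rw [← hx, Misc15.Koszul.rho_res, ← map_smul, ← sub_eq_zero, ← map_sub]
    have h4 : rU (W (a : R)) ((a : R) ^ n a • b - (show Γ(Y, ⊤) from x a)) = 0 := by
      rw [map_sub, Algebra.smul_def, map_mul, map_pow, map_pow, hb, hy, sub_self]
    obtain ⟨N, hN⟩ := exists_pow_of_rU_eq_zero 𝔞 g hα h4
    exact Misc15.Koszul.rho_eq_zero_of_pow Bm (a : R) le_rfl hN

/-- Local splitting data. -/
theorem exists_data {a : R} (ha : a ∈ 𝔞) : ∃ (k n : ℕ) (b : Fin k → Γ(Y, ⊤))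
    (G : Fin k → (Γ(Y, ⊤) →ₗ[R] Γ(Spec R, Punct.D a))), ∀ (x : Γ(Y, ⊤)) (P : ℕ) (c : Fin k → R),
      (∀ i, algebraMap R Γ(Spec R, Punct.D a) (c i) = a ^ P • G i x) →
      ∃ Q : ℕ, a ^ Q • (a ^ (P + n) • x - ∑ i, c i • b i) = 0 := by
  classical
  let h := g ≫ Punct.jU 𝔞
  have hpre := preimage_D 𝔞 g hα a
  have hD : IsAffineOpen (Punct.D a) := IsAffineOpen.Spec_basicOpen a
  let ψ := h.appLE (Punct.D a) (W a) hpre.ge
  have hψfin : ψ.hom.Finite := by
    have key : ∀ (V : Y.Opens) (e : V = h ⁻¹ᵁ Punct.D a), (h.appLE (Punct.D a) V e.le).hom.Finite := by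
      rintro V rfl
      rw [← Scheme.Hom.app_eq_appLE, Scheme.Hom.comp_app, CommRingCat.hom_comp]
      have hle : Punct.D a ≤ (Punct.jU 𝔞).opensRange := by
        rw [Scheme.Opens.opensRange_ι]; exact Punct.D_le 𝔞 ha
      haveI := (Punct.jU 𝔞).isIso_app (Punct.D a) hle
      exact (IsFinite.finite_app g _ (hD.preimage_of_isOpenImmersion _ hle)).comp
        (RingHom.Finite.of_surjective _ (ConcreteCategory.bijective_of_isIso ((Punct.jU 𝔞).app (Punct.D a))).2)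
    exact key _ hpre.symm
  have hψflat : ψ.hom.Flat :=
    HasRingHomProperty.appLE @Flat h inferInstance ⟨_, hD⟩ ⟨_, isAffineOpen_W 𝔞 g hα ha⟩ hpre.ge
  have hψα : ∀ r, ψ (algebraMap R Γ(Spec R, Punct.D a) r) = rU (W a) (algebraMap R Γ(Y, ⊤) r) := by
    intro r
    rw [IsAffineOpen.algebraMap_Spec_obj, hα]
    exact ConcreteCategory.congr_hom (h.map_appLE hpre.ge (homOfLE le_top : Punct.D a ⟶ ⊤).op)
      ((Scheme.ΓSpecIso R).inv r)
  algebraize [ψ.hom]
  haveI : Module.Finite Γ(Spec R, Punct.D a) Γ(Y, W a) := hψfin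
  haveI : Module.Flat Γ(Spec R, Punct.D a) Γ(Y, W a) := hψflat
  haveI : IsNoetherianRing Γ(Spec R, Punct.D a) := IsLocalization.isNoetherianRing (Submonoid.powers a) _ inferInstance
  haveI : Module.FinitePresentation Γ(Spec R, Punct.D a) Γ(Y, W a) := Module.finitePresentation_of_finite _ _
  haveI : Module.Projective Γ(Spec R, Punct.D a) Γ(Y, W a) := Module.Flat.projective_of_finitePresentation
  obtain ⟨k, F, G₀, -, -, hFG⟩ := Module.Finite.exists_comp_eq_id_of_projective Γ(Spec R, Punct.D a) Γ(Y, W a)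
  haveI := isLocalization_W 𝔞 g hα a
  have hw : ∀ i, ∃ (n : ℕ) (b : Γ(Y, ⊤)), rU (W a) b = rU (W a) (algebraMap R Γ(Y, ⊤) a) ^ n * F (Pi.single i 1) := by
    intro i
    obtain ⟨⟨b, _, n, rfl⟩, hb⟩ := IsLocalization.surj (Submonoid.powers (algebraMap R Γ(Y, ⊤) a)) (F (Pi.single i 1))
    exact ⟨n, b, by rw [← map_pow, mul_comm]; exact hb.symm⟩
  choose m b₀ hb₀ using hw
  let G : Fin k → (Γ(Y, ⊤) →ₗ[R] Γ(Spec R, Punct.D a)) := fun i =>
    { toFun := fun x => G₀ (rU (W a) x) i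
      map_add' := fun x y => by rw [map_add, map_add, Pi.add_apply]
      map_smul' := fun r x => by
        rw [RingHom.id_apply, Algebra.smul_def, map_mul, ← hψα r]
        show G₀ (algebraMap R Γ(Spec R, Punct.D a) r • rU (W a) x) i = _
        rw [map_smul, Pi.smul_apply, algebraMap_smul] }
  refine ⟨k, ∑ i, m i, fun i => a ^ ((∑ j, m j) - m i) • b₀ i, G, fun x P c hc => ?_⟩
  refine exists_pow_of_rU_eq_zero 𝔞 g hα ?_
  have hx : ∑ i, ψ (G i x) * F (Pi.single i 1) = rU (W a) x := by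
    conv_rhs => rw [show rU (W a) x = F (G₀ (rU (W a) x)) from (LinearMap.congr_fun hFG _).symm,
      ← Finset.univ_sum_single (G₀ (rU (W a) x)), map_sum]
    refine Finset.sum_congr rfl fun i _ => ?_
    show _ = F (Pi.single i (G₀ (rU (W a) x) i))
    rw [show Pi.single i (G₀ (rU (W a) x) i) = G₀ (rU (W a) x) i • (Pi.single i 1 : Fin k → Γ(Spec R, Punct.D a)) by
      rw [← Pi.single_smul', smul_eq_mul, mul_one], map_smul]
    rfl
  rw [map_sub, map_sum, sub_eq_zero, Algebra.smul_def, map_mul, ← hx, Finset.mul_sum]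
  refine Finset.sum_congr rfl fun i hi => ?_
  beta_reduce
  simp only [Algebra.smul_def, map_mul]
  rw [hb₀, ← hψα (c i), hc, Algebra.smul_def, map_mul, hψα,
    map_pow, map_pow, map_pow, map_pow, map_pow, map_pow]
  have hle : m i ≤ ∑ j, m j := Finset.single_le_sum (fun j _ => Nat.zero_le _) hi
  conv_lhs => rw [pow_add, ← Nat.sub_add_cancel hle, pow_add]
  ring

/-- A finite submodule of global functions with torsion quotient. -/
theorem exists_fg_torsion : ∃ M : Submodule R Γ(Y, ⊤), M.FG ∧ ∀ x, ∃ m : ℕ, ∀ c ∈ 𝔞 ^ m, c • x ∈ M := by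
  classical
  obtain ⟨t, ht⟩ := IsNoetherian.noetherian 𝔞
  have hta : ∀ a : t, (a : R) ∈ 𝔞 := fun a => ht ▸ Submodule.subset_span a.2
  choose k n b G hG using fun a : t => exists_data 𝔞 g hα (hta a)
  let M : Submodule R Γ(Y, ⊤) := ⨆ a : t, Submodule.span R (Set.range (b a))
  have hMfg : M.FG := Submodule.fg_iSup _ fun a => Submodule.fg_span (Set.finite_range _)
  have htor : ∀ x : Γ(Y, ⊤), ∃ m : ℕ, ∀ c ∈ 𝔞 ^ m, c • x ∈ M := fun x => by
    refine Punct.torsion_of_gens 𝔞 (t := (t : Set R)) (le_of_eq ht.symm) M x fun a ha => ?_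
    choose c hc using fun i => IsLocalization.surj (Submonoid.powers a) (G ⟨a, ha⟩ i x)
    choose p hp using fun i => (c i).2.2
    obtain ⟨Q, hQ⟩ := hG ⟨a, ha⟩ x (∑ i, p i) (fun i => a ^ ((∑ j, p j) - p i) * (c i).1) fun i => by
      rw [map_mul, ← hc i, ← show a ^ p i = ((c i).2 : R) from hp i, mul_comm (G ⟨a, ha⟩ i x), ← mul_assoc, ← map_mul, ← pow_add,
        Nat.sub_add_cancel (Finset.single_le_sum (fun j _ => Nat.zero_le _) (Finset.mem_univ i)), ← Algebra.smul_def]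
    refine ⟨Q + ((∑ i, p i) + n ⟨a, ha⟩), ?_⟩
    rw [smul_sub, sub_eq_zero, ← mul_smul, ← pow_add] at hQ
    rw [hQ]
    exact M.smul_mem _ (M.sum_mem fun i _ => M.smul_mem _
      (le_iSup (fun a : t => Submodule.span R (Set.range (b a))) ⟨a, ha⟩ (Submodule.subset_span ⟨i, rfl⟩)))
  exact ⟨M, hMfg, htor⟩

theorem bnd (f : R) (h1 : ∃ n : ℕ, ∀ x : _root_.LocCoh.H 𝔞 1 R, f ^ n • x = 0)
    (h2 : ∃ n : ℕ, ∀ x : _root_.LocCoh.H 𝔞 2 R, f ^ n • x = 0) :
    BoundedF.Bnd f (PuncturedIdem.Bc (R := R) Γ(Y, ⊤)) ∧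
      BoundedF.Bnd f (SecU.F U0 (PuncturedIdem.Bc (R := R) Γ(Y, ⊤)) 1) := by
  classical
  obtain ⟨M, hMfg, htor⟩ := exists_fg_torsion 𝔞 g hα
  haveI : Module.Finite R M := Module.Finite.iff_fg.2 hMfg
  let Mc : ModuleCat.{u} R := ModuleCat.of R M
  haveI : Module.Finite R Mc := ‹Module.Finite R M›
  have hM : ∀ (p : Ideal R) [p.IsPrime], ¬ 𝔞 ≤ p → ∃ (k : ℕ) (s : R) (α : Mc →ₗ[R] (Fin k → R))
      (β : (Fin k → R) →ₗ[R] Mc), s ∉ p ∧ ∀ x, β (α x) = s • x := by
    intro p _ hp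
    obtain ⟨a, ha, hap⟩ := Set.not_subset.1 hp
    obtain ⟨k', n', b', G', hG'⟩ := exists_data 𝔞 g hα ha
    haveI : Module.FinitePresentation R M := Module.finitePresentation_of_finite R M
    choose l s hl using fun i => Module.FinitePresentation.exists_lift_of_isLocalizedModule
      (Submonoid.powers a) (Algebra.linearMap R Γ(Spec R, Punct.D a)) ((G' i).comp M.subtype)
    choose e he using fun i => (s i).2
    choose m hm using fun i => htor (b' i)
    let P := ∑ i, e i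
    let q := ∑ i, m i
    have hq : ∀ i, a ^ q • b' i ∈ M := fun i => by
      show a ^ (∑ j, m j) • b' i ∈ M
      rw [← Nat.sub_add_cancel (Finset.single_le_sum (fun j _ => Nat.zero_le (m j)) (Finset.mem_univ i)), pow_add, mul_smul]
      exact M.smul_mem _ (hm i _ (Ideal.pow_mem_pow ha _))
    let α₀ : M →ₗ[R] (Fin k' → R) := LinearMap.pi fun i => a ^ (P - e i) • l i
    let β : (Fin k' → R) →ₗ[R] M := Fintype.linearCombination R fun i => (⟨a ^ q • b' i, hq i⟩ : M)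
    let Dm : M →ₗ[R] Γ(Y, ⊤) := M.subtype.comp (a ^ (q + (P + n')) • LinearMap.id - β.comp α₀)
    have hker : ∀ x : M, ∃ Q : ℕ, a ^ Q • Dm x = 0 := fun x => by
      obtain ⟨Q, hQ⟩ := hG' x.1 P (α₀ x) fun i => by
        have h3 : algebraMap R Γ(Spec R, Punct.D a) (l i x) = a ^ e i • G' i x.1 :=
          (LinearMap.congr_fun (hl i) x).trans (congrArg (fun r : R => r • G' i x.1) (he i).symm)
        show algebraMap R _ (a ^ (P - e i) • l i x) = _
        rw [smul_eq_mul, map_mul, h3, ← Algebra.smul_def, ← mul_smul, ← pow_add,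
          Nat.sub_add_cancel (Finset.single_le_sum (fun j _ => Nat.zero_le (e j)) (Finset.mem_univ i))]
      refine ⟨Q, ?_⟩
      have h4 : Dm x = a ^ q • (a ^ (P + n') • x.1 - ∑ i, α₀ x i • b' i) := by
        simp only [Dm, β, LinearMap.comp_apply, LinearMap.sub_apply, LinearMap.smul_apply, LinearMap.id_apply,
          Submodule.subtype_apply, Submodule.coe_sub, Submodule.coe_smul, Fintype.linearCombination_apply,
          Submodule.coe_sum, smul_sub, Finset.smul_sum, pow_add, mul_smul]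
        exact congrArg _ (Finset.sum_congr rfl fun i _ => smul_comm _ _ _)
      rw [h4, smul_comm, hQ, smul_zero]
    obtain ⟨S, hS⟩ := Module.Finite.fg_top (R := R) (M := M)
    choose Q hQ using hker
    let N := ∑ x ∈ S, Q x
    have hN : ∀ x : M, a ^ N • Dm x = 0 := by
      have : (⊤ : Submodule R M) ≤ LinearMap.ker (a ^ N • Dm) := by
        rw [← hS, Submodule.span_le]
        intro x hx
        show a ^ (∑ x ∈ S, Q x) • Dm x = 0
        rw [← Nat.sub_add_cancel (Finset.single_le_sum (fun j _ => Nat.zero_le (Q j)) hx), pow_add, mul_smul, hQ, smul_zero]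
      exact fun x => this (Submodule.mem_top (x := x))
    have hp' : p.IsPrime := inferInstance
    refine ⟨k', a ^ (N + (q + (P + n'))), a ^ N • α₀, β, fun h => hap (hp'.mem_of_pow_mem _ h), fun x => ?_⟩
    have h5 : a ^ N • (a ^ (q + (P + n')) • x - β (α₀ x)) = (0 : M) := Subtype.ext (hN x)
    rw [smul_sub, sub_eq_zero, ← mul_smul, ← pow_add] at h5
    show β (a ^ N • α₀ x) = _
    rw [map_smul, ← h5]
  obtain ⟨hF0, hF1⟩ := BoundedF.bnd_F 𝔞 f Mc hM h1 h2
  obtain ⟨hb0, -, hs1⟩ := BoundedF.F_map_torsion 𝔞 (M := Mc) (N := PuncturedIdem.Bc (R := R) Γ(Y, ⊤)) M.subtype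
    (fun x hx => ⟨0, fun c _ => by rw [show x = 0 from Subtype.ext hx, smul_zero]⟩)
    (fun y => by rw [Submodule.range_subtype]; exact htor y)
  refine ⟨?_, hF1.of_surjective _ (hs1 M.subtype_injective)⟩
  let eu := LinearEquiv.ofBijective _ (unit_bijective 𝔞 g hα)
  exact (hF0.of_surjective _ hb0.2).of_surjective eu.symm.toLinearMap eu.symm.surjective

/-- The point of the spectrum under a point of the cover. -/
theorem comap_toSpecΓ (y : Y) :
    PrimeSpectrum.comap (algebraMap R Γ(Y, ⊤)) (Y.toSpecΓ y) = (g ≫ Punct.jU 𝔞) y := by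
  have h1 : Y.toSpecΓ ≫ Spec.map ((Scheme.ΓSpecIso R).inv ≫ (g ≫ Punct.jU 𝔞).appTop) = g ≫ Punct.jU 𝔞 := by
    rw [Spec.map_comp, ← Scheme.toSpecΓ_naturality_assoc, ← SpecMap_ΓSpecIso_hom, ← Spec.map_comp,
      Iso.inv_hom_id, Spec.map_id, Category.comp_id]
  have h2 : algebraMap R Γ(Y, ⊤) = ((Scheme.ΓSpecIso R).inv ≫ (g ≫ Punct.jU 𝔞).appTop).hom := RingHom.ext hα
  rw [h2]
  exact (Scheme.Hom.comp_apply _ _ y).symm.trans (congrArg (fun k : Y ⟶ Spec R => k y) h1)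

theorem mem_range_toSpecΓ {q : PrimeSpectrum Γ(Y, ⊤)} (hq : ¬ 𝔞 ≤ q.asIdeal.comap (algebraMap R Γ(Y, ⊤))) :
    q ∈ Set.range Y.toSpecΓ := by
  obtain ⟨a, ha, haq⟩ := Set.not_subset.1 hq
  haveI := isLocalization_W 𝔞 g hα a
  obtain ⟨P, hP⟩ : q ∈ Set.range (PrimeSpectrum.comap (algebraMap Γ(Y, ⊤) Γ(Y, W a))) := by
    rw [PrimeSpectrum.localization_away_comap_range Γ(Y, W a) (algebraMap R Γ(Y, ⊤) a)]
    exact haq
  have hW := isAffineOpen_W 𝔞 g hα ha
  refine ⟨(W a : Y.Opens).ι (hW.isoSpec.inv P), ?_⟩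
  rw [← Scheme.Hom.comp_apply, ← Scheme.Opens.toSpecΓ_SpecMap_presheaf_map_top, ← Scheme.Hom.comp_apply,
    ← IsAffineOpen.isoSpec_hom hW, Iso.inv_hom_id_assoc]
  exact hP

/-- Clopen subsets of the part `f = 0` extend uniquely to the cover. -/
theorem existsUnique_clopen (f : R) [HenselianRing R (Ideal.span ({f} : Set R))]
    (h1 : ∃ n : ℕ, ∀ x : _root_.LocCoh.H 𝔞 1 R, f ^ n • x = 0)
    (h2 : ∃ n : ℕ, ∀ x : _root_.LocCoh.H 𝔞 2 R, f ^ n • x = 0)
    {P : Type u} [TopologicalSpace P] (p : P → Y) (hp : Topology.IsEmbedding p)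
    (hrange : Set.range p = {y | f ∈ ((g ≫ Punct.jU 𝔞) y).asIdeal}) {V : Set P} (hV : IsClopen V) :
    ∃! U : Set Y, IsClopen U ∧ p ⁻¹' U = V := by
  haveI := isQuasiAffine 𝔞 g hα
  let Z := PuncturedIdem.Zf 𝔞 f Γ(Y, ⊤)
  have hmem : ∀ y : Y, Y.toSpecΓ y ∈ Z ↔ f ∈ ((g ≫ Punct.jU 𝔞) y).asIdeal := fun y => by
    have hy : ¬ 𝔞 ≤ ((g ≫ Punct.jU 𝔞) y).asIdeal := fun h => (show (g y).1 ∈ U0 from (g y).2) h
    rw [← comap_toSpecΓ 𝔞 g hα y] at hy ⊢
    exact ⟨fun h => h.2, fun h => ⟨hy, h⟩⟩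
  let E : P → Z := fun x => ⟨Y.toSpecΓ (p x), (hmem _).2 (hrange.subset ⟨x, rfl⟩)⟩
  have hE : Topology.IsEmbedding E := (Y.toSpecΓ.isEmbedding.comp hp).codRestrict _ _
  have hEs : Function.Surjective E := fun q => by
    obtain ⟨y, hy⟩ := mem_range_toSpecΓ 𝔞 g hα q.2.1
    obtain ⟨x, hx⟩ := hrange.symm.subset ((hmem y).1 (hy ▸ q.2))
    exact ⟨x, Subtype.ext (by rw [← hy, ← hx])⟩
  let eH := hE.toHomeomorphOfSurjective hEs
  have hiff : ∀ (e : Γ(Y, ⊤)) (x : P), p x ∈ Y.basicOpen e ↔ (E x).1 ∈ PrimeSpectrum.basicOpen e := fun e x => by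
    rw [← Scheme.toSpecΓ_preimage_basicOpen]
    rfl
  have hu := unit_bijective 𝔞 g hα
  obtain ⟨hB, hB1⟩ := bnd 𝔞 g hα f h1 h2
  obtain ⟨e, he, heV⟩ := PuncturedIdem.exists_idempotent 𝔞 hu hB hB1 (hV.preimage eH.symm.continuous)
  have heV' : ∀ x, p x ∈ Y.basicOpen e ↔ x ∈ V := fun x => by
    rw [hiff, heV (E x)]
    show eH.symm (eH x) ∈ V ↔ _
    rw [eH.symm_apply_apply]
  refine ⟨Y.basicOpen e, ⟨HenselLib.SectionsIdem.isClopen_basicOpen he, Set.ext heV'⟩, ?_⟩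
  rintro U ⟨hU, hUV⟩
  obtain ⟨e', he', rfl⟩ := HenselLib.SectionsIdem.exists_idempotent hU
  have : e' = e := PuncturedIdem.eq_of_forall_mem 𝔞
    (HenselianRing.jac (I := Ideal.span ({f} : Set R)) (Ideal.mem_span_singleton_self f)) hu hB he' he fun q hq => by
    obtain ⟨x, hx⟩ := hEs ⟨q, hq⟩
    have hqx : (E x).1 = q := congrArg Subtype.val hx
    rw [← hqx, ← hiff, ← hiff, heV']
    exact Set.ext_iff.1 hUV x
  rw [this]

omit hα

/-- Restriction of finite étale covers to the part `f = 0` of the punctured spectrum is fully faithful. -/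
theorem restrict_fullyFaithful (f : R) [HenselianRing R (Ideal.span ({f} : Set R))]
    (h1 : ∃ n : ℕ, ∀ x : _root_.LocCoh.H 𝔞 1 R, f ^ n • x = 0)
    (h2 : ∃ n : ℕ, ∀ x : _root_.LocCoh.H 𝔞 2 R, f ^ n • x = 0)
    (U : (Spec R).Opens) (hU : U = LocCoh.puncturedOpen R 𝔞)
    {X : Scheme.{u}} (q : X ⟶ Spec R) [IsClosedImmersion q]
    (hq : Set.range q = {z | f ∈ z.asIdeal}) :
    (FEt.restrict (pullback.fst U.ι q)).Full ∧ (FEt.restrict (pullback.fst U.ι q)).Faithful := by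
  subst hU
  haveI : IsClosedImmersion (pullback.fst (Punct.jU 𝔞) q) := MorphismProperty.pullback_fst _ _ ‹IsClosedImmersion q›
  refine CoupleEt.restrict_full_faithful_of_couple (pullback.fst (Punct.jU 𝔞) q) fun Y' g' hfin het V hV => ?_
  haveI := hfin
  haveI := het
  letI : Algebra R Γ(Y', ⊤) := ((Scheme.ΓSpecIso R).inv ≫ (g' ≫ Punct.jU 𝔞).appTop).hom.toAlgebra
  haveI : IsClosedImmersion (pullback.fst g' (pullback.fst (Punct.jU 𝔞) q)) :=
    MorphismProperty.pullback_fst _ _ ‹IsClosedImmersion (pullback.fst (Punct.jU 𝔞) q)›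
  refine existsUnique_clopen 𝔞 g' (fun r => rfl) f h1 h2 _
    (pullback.fst g' (pullback.fst (Punct.jU 𝔞) q)).isEmbedding ?_ hV
  rw [Scheme.Pullback.range_fst, Scheme.Pullback.range_fst, hq]
  rfl

end Groth.Agent.Lef23.PuncturedClopen
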