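import Groth.Agent.Lef23.NhdFinite
import Groth.Agent.Lef23.PuncturedClopen

/-!
# Clopen subsets of covers near a hypersurface of a punctured spectrum
-/

set_option autoImplicit false
set_option linter.style.haveILetI false
set_option backward.isDefEq.respectTransparency false
set_option linter.unusedSectionVars false
set_option synthInstance.maxHeartbeats 100000

universe u

open CategoryTheory CategoryTheory.Limits AlgebraicGeometry Opposite TopologicalSpace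
open Groth.Agent.Formal2Lib Groth.Agent.Coherent

noncomputable section

namespace Groth.Agent.Lef23.NhdApply

variable {R : CommRingCat.{u}} [IsNoetherianRing R]

theorem eq_puncturedOpen (U : (Spec R).Opens) :
    U = LocCoh.puncturedOpen R (PrimeSpectrum.vanishingIdeal ((SetLike.coe U : Set (Spec R))ᶜ : Set (PrimeSpectrum R))) := by
  refine Opens.ext ?_
  show _ = (PrimeSpectrum.zeroLocus (R := R) _)ᶜ
  rw [PrimeSpectrum.zeroLocus_vanishingIdeal_eq_closure]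
  exact ((congrArg compl U.2.isClosed_compl.closure_eq).trans (compl_compl _)).symm

/-- Sections on `f = 0` of an open containing it. -/
theorem finite_hypersurface (m 𝔞 : Ideal R) (f : R)
    (h : LocCoh.puncturedOpen R 𝔞 ≤ LocCoh.puncturedOpen R m)
    (h' : ∀ p : PrimeSpectrum R, ¬ m ≤ p.asIdeal → f ∈ p.asIdeal → ¬ 𝔞 ≤ p.asIdeal)
    (h1 : Module.Finite R (_root_.LocCoh.H m 1 (ModuleCat.of R (R ⧸ Ideal.span ({f} : Set R))))) :
    Module.Finite R (SecU.F (LocCoh.puncturedOpen R 𝔞) (ModuleCat.of R (R ⧸ Ideal.span ({f} : Set R))) 0) := by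
  haveI : Module.Finite R (ModuleCat.of R (R ⧸ Ideal.span ({f} : Set R))) :=
    inferInstanceAs (Module.Finite R (R ⧸ Ideal.span ({f} : Set R)))
  refine NhdSections.finite_of_le (f := f) h (fun p hp => ?_) _ (fun x => ?_) (NhdSections.finite_punctured m _ h1)
  · by_cases hfp : f ∈ p.asIdeal
    · exact Or.inl (h' p hp hfp)
    · exact Or.inr hfp
  · obtain ⟨r, rfl⟩ := Submodule.Quotient.mk_surjective _ x
    exact (Submodule.Quotient.mk_eq_zero _).2 (Ideal.mem_span_singleton'.2 ⟨r, mul_comm _ _⟩)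

variable (𝔞 : Ideal R)

/-- Clopen subsets on the part `f = 0` extend to a neighbourhood. -/
theorem clopen_nhd (f : R) [IsAdicComplete (Ideal.span ({f} : Set R)) R] (hnz : ∀ x : R, f * x = 0 → x = 0)
    (hA : Module.Finite R (SecU.F (LocCoh.puncturedOpen R 𝔞) (ModuleCat.of R (R ⧸ Ideal.span ({f} : Set R))) 0))
    {X₀ : Scheme.{u}} (i : X₀ ⟶ Punct.US 𝔞) [IsPreimmersion i]
    (hi : Set.range i = {p | f ∈ (Punct.jU 𝔞 p).asIdeal})
    (Y : Scheme.{u}) (g : Y ⟶ Punct.US 𝔞) (hfin : IsFinite g) (het : Etale g) (V : Set ↥(pullback g i))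
    (hV : IsClopen V) :
    ∃ (U : (Punct.US 𝔞).Opens) (W : Set ↥Y), Set.range i ⊆ U ∧ IsClopen ((g ⁻¹ᵁ U).ι ⁻¹' W) ∧
      (pullback.fst g i).base ⁻¹' W = V := by
  haveI := hfin
  haveI := het
  letI : Algebra R Γ(Y, ⊤) := ((Scheme.ΓSpecIso R).inv ≫ (g ≫ Punct.jU 𝔞).appTop).hom.toAlgebra
  have hα : ∀ r : R, algebraMap R Γ(Y, ⊤) r = (g ≫ Punct.jU 𝔞).appTop ((Scheme.ΓSpecIso R).inv r) := fun r => rfl
  haveI := PuncturedClopen.isQuasiAffine 𝔞 g hα
  haveI : IsPreimmersion (pullback.fst g i) := MorphismProperty.pullback_fst _ _ ‹IsPreimmersion i›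
  let p := pullback.fst g i
  have hrange : Set.range p = {y | f ∈ ((g ≫ Punct.jU 𝔞) y).asIdeal} := by
    rw [Scheme.Pullback.range_fst, hi]
    rfl
  let Z := PuncturedIdem.Zf 𝔞 f Γ(Y, ⊤)
  have hmem : ∀ y : Y, Y.toSpecΓ y ∈ Z ↔ f ∈ ((g ≫ Punct.jU 𝔞) y).asIdeal := fun y => by
    have hy : ¬ 𝔞 ≤ ((g ≫ Punct.jU 𝔞) y).asIdeal :=
      fun h => (show (g y).1 ∈ LocCoh.puncturedOpen R 𝔞 from (g y).2) h
    rw [← PuncturedClopen.comap_toSpecΓ 𝔞 g hα y] at hy ⊢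
    exact ⟨fun h => h.2, fun h => ⟨hy, h⟩⟩
  let E : ↥(pullback g i) → Z := fun x => ⟨Y.toSpecΓ (p x), (hmem _).2 (hrange.subset ⟨x, rfl⟩)⟩
  have hE : Topology.IsEmbedding E := (Y.toSpecΓ.isEmbedding.comp p.isEmbedding).codRestrict _ _
  have hEs : Function.Surjective E := fun q => by
    obtain ⟨y, hy⟩ := PuncturedClopen.mem_range_toSpecΓ 𝔞 g hα q.2.1
    obtain ⟨x, hx⟩ := hrange.symm.subset ((hmem y).1 (hy ▸ q.2))
    exact ⟨x, Subtype.ext (by rw [← hy, ← hx])⟩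
  let eH := hE.toHomeomorphOfSurjective hEs
  obtain ⟨G, hG, hGt⟩ := PuncturedClopen.exists_fg_torsion 𝔞 g hα
  obtain ⟨U'', W, W', -, hS, hW, hW', hWW, hWV⟩ := NhdSections.exists_clopen_nhd 𝔞 (f := f) (B := Γ(Y, ⊤))
    (NhdFinite.nzd 𝔞 g hα hnz) (NhdFinite.finite_Q 𝔞 g hα f hA) G hG hGt (hV.preimage eH.symm.continuous)
  refine ⟨Punct.jU 𝔞 ⁻¹ᵁ U'', Y.toSpecΓ ⁻¹' W, ?_, ⟨?_, ?_⟩, Set.ext fun x => ?_⟩
  · intro x hx
    exact hS _ x.2 (hi.subset hx)
  · refine ⟨?_⟩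
    have : ((g ⁻¹ᵁ (Punct.jU 𝔞 ⁻¹ᵁ U'')).ι ⁻¹' (Y.toSpecΓ ⁻¹' W))ᶜ =
        (g ⁻¹ᵁ (Punct.jU 𝔞 ⁻¹ᵁ U'')).ι ⁻¹' (Y.toSpecΓ ⁻¹' W') := Set.ext fun v => by
      refine (hWW _ ?_).symm
      rw [PuncturedClopen.comap_toSpecΓ 𝔞 g hα]
      exact v.2
    rw [this]
    exact (hW'.preimage Y.toSpecΓ.continuous).preimage (Scheme.Hom.continuous _)
  · exact (hW.preimage Y.toSpecΓ.continuous).preimage (Scheme.Hom.continuous _)
  · refine (hWV (E x)).trans ?_
    show eH.symm (eH x) ∈ V ↔ _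
    rw [eH.symm_apply_apply]

end Groth.Agent.Lef23.NhdApply
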