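import Groth.Agent.Lef23.NhdDescent

/-!
# Full faithfulness on germs of neighbourhoods from lifting of clopen subsets
-/

set_option autoImplicit false
set_option linter.style.haveILetI false
set_option backward.isDefEq.respectTransparency false

universe u

open CategoryTheory CategoryTheory.Limits AlgebraicGeometry TopologicalSpace

namespace Groth.Agent.Lef23.NhdConclude

/-- The statement from lifting of clopen subsets. -/
theorem conclude {S : Scheme.{u}} (U' : S.Opens) {X₀ : Scheme.{u}} (u' : X₀ ⟶ (U' : Scheme.{u}))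
    (hN : NhdDescent.Lifts u') (V' W' : FEt.Cat (U' : Scheme.{u})) :
    (∀ φ₀ : (FEt.restrict u').obj V' ⟶ (FEt.restrict u').obj W',
      ∃ (U'' : S.Opens) (h : U'' ≤ U') (u'' : X₀ ⟶ (U'' : Scheme.{u})) (hu : u'' ≫ S.homOfLE h = u')
        (φ : (FEt.restrict (S.homOfLE h)).obj V' ⟶ (FEt.restrict (S.homOfLE h)).obj W'),
        (FEt.restrict u'').map φ =
          (MorphismProperty.Over.pullbackComp u'' (S.homOfLE h) u' hu.symm).inv.app V' ≫ φ₀ ≫
            (MorphismProperty.Over.pullbackComp u'' (S.homOfLE h) u' hu.symm).hom.app W') ∧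
    (∀ φ ψ : V' ⟶ W', (FEt.restrict u').map φ = (FEt.restrict u').map ψ →
      ∃ (U'' : S.Opens) (h : U'' ≤ U') (u'' : X₀ ⟶ (U'' : Scheme.{u})),
        u'' ≫ S.homOfLE h = u' ∧
        (FEt.restrict (S.homOfLE h)).map φ = (FEt.restrict (S.homOfLE h)).map ψ) := by
  have hlift : ∀ (U : (U' : Scheme.{u}).Opens), Set.range u' ⊆ U →
      ∃ (U'' : S.Opens) (h : U'' ≤ U') (u'' : X₀ ⟶ (U'' : Scheme.{u})),
        u'' ≫ S.homOfLE h = u' ∧ Set.range (S.homOfLE h) ⊆ U := by
    intro U hU
    let U'' : S.Opens := U'.ι ''ᵁ U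
    have h : U'' ≤ U' := by
      rintro _ ⟨v, -, rfl⟩
      exact v.2
    have hr : Set.range (u' ≫ U'.ι) ⊆ Set.range U''.ι := by
      rw [Scheme.Opens.range_ι]
      rintro _ ⟨x, rfl⟩
      exact ⟨u' x, hU ⟨x, rfl⟩, (Scheme.Hom.comp_apply _ _ x).symm⟩
    refine ⟨U'', h, IsOpenImmersion.lift U''.ι _ hr, ?_, ?_⟩
    · rw [← cancel_mono U'.ι, Category.assoc, Scheme.homOfLE_ι, IsOpenImmersion.lift_fac]
    · rintro _ ⟨v, rfl⟩
      obtain ⟨w, hw, hwv⟩ := v.2
      have : S.homOfLE h v = w := U'.ι.injective (by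
        rw [← Scheme.Hom.comp_apply, Scheme.homOfLE_ι]
        exact hwv.symm)
      rw [this]
      exact hw
  refine ⟨fun φ₀ => ?_, fun φ ψ hφψ => ?_⟩
  · obtain ⟨U, hU, hψ⟩ := NhdCouple.full_nhd u' hN φ₀
    obtain ⟨U'', h, u'', hu, hj⟩ := hlift U hU
    obtain ⟨ψ, hψ'⟩ := hψ (S.homOfLE h) hj
    refine ⟨U'', h, u'', hu, ψ, ?_⟩
    have key := hψ' u'' hu
    apply MorphismProperty.Over.Hom.ext
    apply pullback.hom_ext
    swap
    · exact (MorphismProperty.Over.w ((FEt.restrict u'').map ψ)).trans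
        (MorphismProperty.Over.w ((MorphismProperty.Over.pullbackComp u'' (S.homOfLE h) u' hu.symm).inv.app V' ≫ φ₀ ≫
          (MorphismProperty.Over.pullbackComp u'' (S.homOfLE h) u' hu.symm).hom.app W')).symm
    let j := S.homOfLE h
    let e := MorphismProperty.Over.pullbackComp (P := @IsFinite ⊓ @Etale) (Q := ⊤) u'' j u' hu.symm
    let M := e.inv.app V' ≫ φ₀ ≫ e.hom.app W'
    have hM : M.left ≫ pullback.snd (pullback.snd W'.hom j) u'' = pullback.snd (pullback.snd V'.hom j) u'' :=
      MorphismProperty.Over.w M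
    rw [CoupleEt.restrict_map_fst₀]
    show pullback.fst (pullback.snd V'.hom j) u'' ≫ ψ.left = M.left ≫ pullback.fst (pullback.snd W'.hom j) u''
    have hψw : ψ.left ≫ pullback.snd W'.hom j = pullback.snd V'.hom j := MorphismProperty.Over.w ψ
    apply pullback.hom_ext
    swap
    · rw [Category.assoc, Category.assoc, hψw, pullback.condition, pullback.condition (f := pullback.snd W'.hom j),
        ← Category.assoc M.left, hM]
    rw [Category.assoc, Category.assoc]
    have h1' : (e.hom.app W').left ≫ pullback.fst (pullback.snd W'.hom j) u'' ≫ pullback.fst W'.hom j =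
        pullback.fst W'.hom u' := by
      simp [e, MorphismProperty.Over.pullbackComp]
    have h2' : (e.inv.app V').left ≫ pullback.fst V'.hom u' =
        pullback.fst (pullback.snd V'.hom j) u'' ≫ pullback.fst V'.hom j := by
      simp [e, MorphismProperty.Over.pullbackComp]
    have h3' : (e.inv.app V').left ≫ pullback.snd V'.hom u' = pullback.snd (pullback.snd V'.hom j) u'' :=
      MorphismProperty.Over.w (e.inv.app V')
    have hMl : M.left = (e.inv.app V').left ≫ φ₀.left ≫ (e.hom.app W').left := rfl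
    have key' : φ₀.left ≫ pullback.fst W'.hom u' = pullback.lift (pullback.fst V'.hom u') (pullback.snd V'.hom u' ≫ u'')
          (by rw [Category.assoc, hu]; exact pullback.condition) ≫ ψ.left ≫ pullback.fst W'.hom j := key.symm
    rw [hMl, Category.assoc, Category.assoc, h1', key', ← Category.assoc (e.inv.app V').left]
    congr 1
    refine pullback.hom_ext ?_ ?_
    · rw [Category.assoc, pullback.lift_fst, h2']
    · rw [Category.assoc, pullback.lift_snd, ← Category.assoc, h3', pullback.condition]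
  · obtain ⟨U, hU, hab⟩ := NhdCouple.faithful_nhd u' φ ψ hφψ
    obtain ⟨U'', h, u'', hu, hj⟩ := hlift U hU
    exact ⟨U'', h, u'', hu, hab (S.homOfLE h) hj⟩

end Groth.Agent.Lef23.NhdConclude
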