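import Groth.Agent.Lef23.CoupleEt

/-!
# Restriction of covers to a closed part with lifting of clopen subsets to neighbourhoods
-/

set_option autoImplicit false
set_option linter.style.haveILetI false
set_option backward.isDefEq.respectTransparency.types false
set_option backward.isDefEq.respectTransparency false
universe u

open CategoryTheory CategoryTheory.Limits AlgebraicGeometry TopologicalSpace

namespace Groth.Agent.Lef23.NhdCouple

/-- An étale morphism is an isomorphism over an open avoiding the points with bad fibre. -/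
theorem isIso_snd {C Y X X'' : Scheme.{u}} (c : C ⟶ Y) [Etale c] (g : Y ⟶ X) (j : X'' ⟶ X) [IsOpenImmersion j]
    (h1 : ∀ y, g y ∈ Set.range j → y ∈ Set.range c)
    (h2 : ∀ z : ↥(pullback c c), (pullback.fst c c ≫ c ≫ g) z ∈ Set.range j → z ∈ Set.range (pullback.diagonal c)) :
    IsIso (pullback.snd c (pullback.fst g j)) := by
  let k := pullback.fst g j
  haveI : IsOpenImmersion k := inferInstanceAs (IsOpenImmersion (pullback.fst g j))
  let q := pullback.snd c k
  haveI : Etale q := MorphismProperty.pullback_snd _ _ ‹Etale c›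
  haveI : Surjective q := ⟨fun w => by
    obtain ⟨x, hx⟩ := h1 (k w) ⟨pullback.snd g j w, by
      rw [← Scheme.Hom.comp_apply, ← pullback.condition, Scheme.Hom.comp_apply]⟩
    obtain ⟨t, -, ht⟩ := Scheme.Pullback.exists_preimage_pullback (f := c) (g := k) x w hx
    exact ⟨t, ht⟩⟩
  haveI : UniversallyInjective q := by
    rw [UniversallyInjective.iff_diagonal]
    let m := pullback.map q q c c (pullback.fst c k) (pullback.fst c k) k pullback.condition.symm pullback.condition.symm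
    refine ⟨fun z => ?_⟩
    have h3 : m ≫ pullback.fst c c = pullback.fst q q ≫ pullback.fst c k := pullback.lift_fst _ _ _
    have e₀ : (pullback.fst q q ≫ q ≫ pullback.snd g j) ≫ j = m ≫ pullback.fst c c ≫ c ≫ g := by
      simp only [Category.assoc]
      rw [← pullback.condition (f := g) (g := j), ← Category.assoc m, h3, Category.assoc,
        pullback.condition_assoc (f := c) (g := k)]
    obtain ⟨x, hx⟩ := h2 (m z) ⟨(pullback.fst q q ≫ q ≫ pullback.snd g j) z, by
      rw [← Scheme.Hom.comp_apply, e₀, Scheme.Hom.comp_apply]⟩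
    let z₁ := pullback.fst q q z
    have hz₁ : pullback.fst c k z₁ = x := by
      show pullback.fst c k (pullback.fst q q z) = x
      rw [← Scheme.Hom.comp_apply, ← h3, Scheme.Hom.comp_apply, ← hx, ← Scheme.Hom.comp_apply,
        pullback.diagonal_fst]
      rfl
    refine ⟨z₁, m.isOpenEmbedding.injective ?_⟩
    have h4 : pullback.diagonal q ≫ m = pullback.fst c k ≫ pullback.diagonal c :=
      pullback.hom_ext (by simp [m, q]) (by simp [m, q])
    rw [← Scheme.Hom.comp_apply, h4, Scheme.Hom.comp_apply, hz₁, hx]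
  haveI := Groth.Agent.FEtLib.isOpenImmersion_of_etale_universallyInjective q
  haveI : Epi q.base := (TopCat.epi_iff_surjective _).mpr q.surjective
  exact IsOpenImmersion.isIso _

variable {X₀ X : Scheme.{u}} (i : X₀ ⟶ X)
  (hN : ∀ (Y : Scheme.{u}) (g : Y ⟶ X), IsFinite g → Etale g → ∀ V : Set ↥(pullback g i), IsClopen V →
    ∃ (U : X.Opens) (W : Set ↥Y), Set.range i ⊆ U ∧ IsClopen ((g ⁻¹ᵁ U).ι ⁻¹' W) ∧
      (pullback.fst g i).base ⁻¹' W = V)

/-- Morphisms agreeing on the closed part agree near it. -/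
theorem faithful_nhd {Y Z : FEt.Cat X} (a b : Y ⟶ Z) (h : (FEt.restrict i).map a = (FEt.restrict i).map b) :
    ∃ U : X.Opens, Set.range i ⊆ U ∧ ∀ {X'' : Scheme.{u}} (j : X'' ⟶ X) [IsOpenImmersion j], Set.range j ⊆ U →
      (FEt.restrict j).map a = (FEt.restrict j).map b := by
  haveI : IsFinite Y.hom := Y.prop.1
  haveI : Etale Y.hom := Y.prop.2
  haveI : IsFinite Z.hom := Z.prop.1
  haveI : Etale Z.hom := Z.prop.2
  let d : Y.left ⟶ pullback Z.hom Z.hom := pullback.lift a.left b.left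
    ((MorphismProperty.Over.w a).trans (MorphismProperty.Over.w b).symm)
  let Δ := pullback.diagonal Z.hom
  let q := pullback.fst d Δ
  haveI : Etale q := MorphismProperty.pullback_fst _ _ (inferInstance : Etale Δ)
  haveI : IsOpenImmersion Δ := inferInstance
  haveI : IsOpenImmersion q := inferInstanceAs (IsOpenImmersion (pullback.fst d Δ))
  have hq : q ≫ a.left = q ≫ b.left := by
    have h1 := congrArg (· ≫ pullback.fst Z.hom Z.hom) (pullback.condition (f := d) (g := Δ))
    have h2 := congrArg (· ≫ pullback.snd Z.hom Z.hom) (pullback.condition (f := d) (g := Δ))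
    simp only [d, Δ, Category.assoc, pullback.lift_fst, pullback.lift_snd, pullback.diagonal_fst,
      pullback.diagonal_snd, Category.comp_id] at h1 h2
    exact h1.trans h2.symm
  let ρ := pullback.fst Y.hom i
  have hρ : ρ ≫ a.left = ρ ≫ b.left := by
    rw [← CoupleEt.restrict_map_fst₀ i a, ← CoupleEt.restrict_map_fst₀ i b, h]
  let F : Set X := Y.hom '' (Set.range q)ᶜ
  have hF : IsClosed F := Y.hom.isClosedMap _ q.isOpenEmbedding.isOpen_range.isClosed_compl
  refine ⟨⟨Fᶜ, hF.isOpen_compl⟩, ?_, fun {X''} j _ hj => ?_⟩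
  · rintro _ ⟨x, rfl⟩ ⟨y, hy, hyx⟩
    obtain ⟨w, hw, -⟩ := Scheme.Pullback.exists_preimage_pullback (f := Y.hom) (g := i) y x hyx
    refine hy ⟨pullback.lift ρ (ρ ≫ a.left) (pullback.hom_ext (by simp [d, Δ]) (by simp [d, Δ, hρ])) w, ?_⟩
    rw [← Scheme.Hom.comp_apply, pullback.lift_fst]
    exact hw
  · have hr : Set.range (pullback.fst Y.hom j) ⊆ Set.range q := by
      rintro _ ⟨w, rfl⟩
      by_contra hw
      exact hj ⟨pullback.snd Y.hom j w, rfl⟩ ⟨_, hw, by
        rw [← Scheme.Hom.comp_apply, pullback.condition, Scheme.Hom.comp_apply]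
        rfl⟩
    apply MorphismProperty.Over.Hom.ext
    apply pullback.hom_ext
    · rw [CoupleEt.restrict_map_fst₀, CoupleEt.restrict_map_fst₀,
        ← IsOpenImmersion.lift_fac q (pullback.fst Y.hom j) hr, Category.assoc, Category.assoc, hq]
    · exact (MorphismProperty.Over.w ((FEt.restrict j).map a)).trans
        (MorphismProperty.Over.w ((FEt.restrict j).map b)).symm

include hN in
/-- Morphisms on the closed part extend near it. -/
theorem full_nhd {Y Z : FEt.Cat X} (φ : (FEt.restrict i).obj Y ⟶ (FEt.restrict i).obj Z) :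
    ∃ U : X.Opens, Set.range i ⊆ U ∧ ∀ {X'' : Scheme.{u}} (j : X'' ⟶ X) [IsOpenImmersion j], Set.range j ⊆ U →
      ∃ ψ : (FEt.restrict j).obj Y ⟶ (FEt.restrict j).obj Z, ∀ (i'' : X₀ ⟶ X'') (hi : i'' ≫ j = i),
        pullback.lift (pullback.fst Y.hom i) (pullback.snd Y.hom i ≫ i'')
          (by rw [Category.assoc, hi]; exact pullback.condition) ≫ ψ.left ≫ pullback.fst Z.hom j =
          φ.left ≫ pullback.fst Z.hom i := by
  haveI : IsFinite Y.hom := Y.prop.1
  haveI : Etale Y.hom := Y.prop.2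
  haveI : IsFinite Z.hom := Z.prop.1
  haveI : Etale Z.hom := Z.prop.2
  let pY := pullback.fst Y.hom Z.hom
  let pZ := pullback.snd Y.hom Z.hom
  haveI : IsFinite pY := MorphismProperty.pullback_fst _ _ ‹IsFinite Z.hom›
  haveI : Etale pY := MorphismProperty.pullback_fst _ _ ‹Etale Z.hom›
  let p := pullback.fst (pY ≫ Y.hom) i
  let fY := pullback.fst Y.hom i
  let q₀ : pullback (pY ≫ Y.hom) i ⟶ pullback Y.hom i :=
    pullback.lift (p ≫ pY) (pullback.snd _ _) (by rw [Category.assoc]; exact pullback.condition)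
  have hq : IsPullback p q₀ pY fY := by
    refine IsPullback.of_bot ?_ (pullback.lift_fst _ _ _).symm (IsPullback.of_hasPullback Y.hom i)
    simpa [q₀] using IsPullback.of_hasPullback (pY ≫ Y.hom) i
  haveI : IsFinite q₀ := MorphismProperty.of_isPullback hq ‹IsFinite pY›
  haveI : Etale q₀ := MorphismProperty.of_isPullback hq ‹Etale pY›
  have hφ : φ.left ≫ pullback.snd Z.hom i = pullback.snd Y.hom i := MorphismProperty.Over.w φ
  let γ : pullback Y.hom i ⟶ pullback (pY ≫ Y.hom) i :=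
    pullback.lift (pullback.lift fY (φ.left ≫ pullback.fst Z.hom i) (by
      show fY ≫ Y.hom = (φ.left ≫ pullback.fst Z.hom i) ≫ Z.hom
      rw [pullback.condition, Category.assoc, pullback.condition]
      exact (congrArg (· ≫ i) hφ).symm.trans (Category.assoc _ _ _)))
      (pullback.snd Y.hom i) (by simp only [pY, fY, pullback.lift_fst_assoc]; exact pullback.condition)
  have hγ : γ ≫ q₀ = 𝟙 _ := pullback.hom_ext (by simp [γ, q₀, p, pY, fY]) (by simp [γ, q₀])
  haveI : IsClosedImmersion (γ ≫ q₀) := by rw [hγ]; infer_instance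
  haveI : IsClosedImmersion γ := IsClosedImmersion.of_comp γ q₀
  haveI : Etale (γ ≫ q₀) := by rw [hγ]; infer_instance
  haveI : Etale γ := Etale.of_comp γ q₀
  haveI : IsOpenImmersion γ := IsOpenImmersion.of_flat_of_mono γ
  have hD : IsClopen (Set.range γ) := ⟨γ.isClosedEmbedding.isClosed_range, γ.isOpenEmbedding.isOpen_range⟩
  obtain ⟨U, W, hiU, hW, hsat₀⟩ := hN _ (pY ≫ Y.hom) inferInstance inferInstance _ hD
  let g' : (pullback Y.hom Z.hom).Opens := (pY ≫ Y.hom) ⁻¹ᵁ U
  let C : (pullback Y.hom Z.hom).Opens :=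
    ⟨(g' : Set ↥(pullback Y.hom Z.hom)) ∩ W, by
      rw [← Subtype.image_preimage_coe]
      exact g'.2.isOpenEmbedding_subtypeVal.isOpenMap _ hW.isOpen⟩
  have hsat : p ⁻¹' (C : Set _) = Set.range γ := by
    refine Eq.trans (Set.ext fun w => ?_) hsat₀
    refine ⟨fun h => h.2, fun h => ⟨?_, h⟩⟩
    show (pY ≫ Y.hom) (p w) ∈ U
    exact hiU ⟨pullback.snd (pY ≫ Y.hom) i w, by
      rw [← Scheme.Hom.comp_apply, ← Scheme.Hom.comp_apply, ← pullback.condition]
      rfl⟩
  have hCle : C ≤ g' := fun w h => h.1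
  let ιC := (pullback Y.hom Z.hom).homOfLE hCle
  haveI : IsClosedImmersion ιC := IsClosedImmersion.of_isPreimmersion _ (by
    have : Set.range ιC = g'.ι ⁻¹' W := Set.ext fun w => by
      constructor
      · rintro ⟨v, rfl⟩
        show (g'.ι (ιC v)) ∈ W
        rw [← Scheme.Hom.comp_apply, Scheme.homOfLE_ι]
        exact v.2.2
      · intro hw
        refine ⟨⟨g'.ι w, w.2, hw⟩, g'.ι.injective ?_⟩
        rw [← Scheme.Hom.comp_apply, Scheme.homOfLE_ι]
        rfl
    rw [this]
    exact hW.isClosed)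
  let c := C.ι ≫ pY
  obtain ⟨c', hc', hc'fin⟩ : ∃ c' : (C : Scheme) ⟶ ↑(Y.hom ⁻¹ᵁ U), c' ≫ (Y.hom ⁻¹ᵁ U).ι = c ∧ IsFinite c' := by
    haveI : IsFinite (pY ∣_ (Y.hom ⁻¹ᵁ U)) := IsZariskiLocalAtTarget.restrict ‹IsFinite pY› _
    refine ⟨ιC ≫ (pY ∣_ (Y.hom ⁻¹ᵁ U)), ?_, inferInstanceAs (IsFinite (ιC ≫ (pY ∣_ (Y.hom ⁻¹ᵁ U))))⟩
    show (ιC ≫ (pY ∣_ (Y.hom ⁻¹ᵁ U))) ≫ (Y.hom ⁻¹ᵁ U).ι = C.ι ≫ pY
    rw [Category.assoc, morphismRestrict_ι, ← Category.assoc]
    exact congrArg (· ≫ pY) (Scheme.homOfLE_ι _ hCle)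
  haveI := hc'fin
  haveI : Etale c := inferInstanceAs (Etale (C.ι ≫ pY))
  -- the graph over the closed part
  have hr : Set.range γ ⊆ Set.range (p ⁻¹ᵁ C).ι := by
    rw [Scheme.Opens.range_ι]
    exact hsat.symm.subset
  let l := IsOpenImmersion.lift (p ⁻¹ᵁ C).ι γ hr
  have hl : l ≫ (p ⁻¹ᵁ C).ι = γ := IsOpenImmersion.lift_fac _ _ _
  haveI : IsOpenImmersion (l ≫ (p ⁻¹ᵁ C).ι) := by rw [hl]; infer_instance
  haveI : IsOpenImmersion l := IsOpenImmersion.of_comp l (p ⁻¹ᵁ C).ι
  haveI : Epi l.base := by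
    rw [TopCat.epi_iff_surjective]
    intro z
    obtain ⟨y, hy⟩ := hsat.subset z.2
    refine ⟨y, (p ⁻¹ᵁ C).ι.injective ?_⟩
    rw [← Scheme.Hom.comp_apply, hl]
    exact hy
  haveI : IsIso l := IsOpenImmersion.isIso l
  have hsq : IsPullback (p ∣_ C) ((p ⁻¹ᵁ C).ι ≫ q₀) c fY := (isPullback_morphismRestrict p C).paste_vert hq
  haveI : IsIso ((p ⁻¹ᵁ C).ι ≫ q₀) := by
    have h1 : l ≫ ((p ⁻¹ᵁ C).ι ≫ q₀) = 𝟙 _ := by rw [← Category.assoc, hl, hγ]
    exact IsIso.of_isIso_fac_left h1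
  haveI : IsIso (pullback.snd c fY) := by
    rw [← hsq.isoPullback_inv_snd]
    infer_instance
  -- points with bad fibre
  let gU := Y.hom ∣_ U
  haveI : IsFinite gU := IsZariskiLocalAtTarget.restrict ‹IsFinite Y.hom› _
  let Δ := pullback.diagonal c'
  haveI : Etale (c' ≫ (Y.hom ⁻¹ᵁ U).ι) := by rw [hc']; infer_instance
  haveI : Etale c' := Etale.of_comp c' (Y.hom ⁻¹ᵁ U).ι
  haveI : IsFinite (pullback.fst c' c') := MorphismProperty.pullback_fst _ _ ‹IsFinite c'›
  let B : Set U := gU '' (Set.range c')ᶜ ∪ (pullback.fst c' c' ≫ c' ≫ gU) '' (Set.range Δ)ᶜ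
  have hB : IsClosed B := (gU.isClosedMap _ c'.isOpenMap.isOpen_range.isClosed_compl).union
    ((pullback.fst c' c' ≫ c' ≫ gU).isClosedMap _ Δ.isOpenMap.isOpen_range.isClosed_compl)
  let U₂ : X.Opens := U.ι ''ᵁ ⟨Bᶜ, hB.isOpen_compl⟩
  have hgU : gU ≫ U.ι = (Y.hom ⁻¹ᵁ U).ι ≫ Y.hom := morphismRestrict_ι _ _
  refine ⟨U₂, ?_, ?_⟩
  · rintro _ ⟨x, rfl⟩
    refine ⟨⟨i x, hiU ⟨x, rfl⟩⟩, ?_, rfl⟩
    rintro (⟨v, hv, hvx⟩ | ⟨z, hz, hzx⟩)
    · obtain ⟨w, hw, -⟩ := Scheme.Pullback.exists_preimage_pullback (f := Y.hom) (g := i)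
        ((Y.hom ⁻¹ᵁ U).ι v) x (by
          rw [← Scheme.Hom.comp_apply, ← hgU, Scheme.Hom.comp_apply, hvx]
          rfl)
      obtain ⟨t, ht⟩ := (pullback.snd c fY).surjective w
      refine hv ⟨pullback.fst c fY t, (Y.hom ⁻¹ᵁ U).ι.injective ?_⟩
      rw [← Scheme.Hom.comp_apply, hc', ← Scheme.Hom.comp_apply, pullback.condition, Scheme.Hom.comp_apply, ht]
      exact hw
    · let m := pullback.fst c' c' ≫ c' ≫ (Y.hom ⁻¹ᵁ U).ι
      obtain ⟨w, hw, -⟩ := Scheme.Pullback.exists_preimage_pullback (f := Y.hom) (g := i) (m z) x (by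
          have e : m ≫ Y.hom = (pullback.fst c' c' ≫ c' ≫ gU) ≫ U.ι := by simp only [m, Category.assoc, hgU]
          rw [← Scheme.Hom.comp_apply, e, Scheme.Hom.comp_apply, hzx]
          rfl)
      obtain ⟨s, hs, -⟩ := Scheme.Pullback.exists_preimage_pullback (f := m) (g := fY) z w hw.symm
      let a := pullback.fst m fY
      have hab : a ≫ pullback.fst c' c' ≫ c = pullback.snd m fY ≫ fY := by
        rw [← hc']
        exact pullback.condition
      have e : a ≫ pullback.fst c' c' = a ≫ pullback.snd c' c' := by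
        have hab' : a ≫ pullback.snd c' c' ≫ c = pullback.snd m fY ≫ fY := by
          rw [← hc', ← pullback.condition_assoc]
          exact pullback.condition
        rw [← pullback.lift_fst (f := c) (g := fY) (a ≫ pullback.fst c' c') (pullback.snd m fY)
            (by rw [Category.assoc, hab]),
          ← pullback.lift_fst (f := c) (g := fY) (a ≫ pullback.snd c' c') (pullback.snd m fY)
            (by rw [Category.assoc, hab'])]
        congr 1
        rw [← cancel_mono (pullback.snd c fY), pullback.lift_snd, pullback.lift_snd]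
      have e2 : a = (a ≫ pullback.fst c' c') ≫ Δ := pullback.hom_ext (by simp [Δ]) (by simp [Δ, e])
      refine hz ⟨(a ≫ pullback.fst c' c') s, ?_⟩
      rw [← hs]
      exact ((congrArg (fun k : pullback m fY ⟶ pullback c' c' => k s) e2).trans
          (Scheme.Hom.comp_apply _ _ _)).symm
  intro X'' j _ hj
  have hjB : ∀ v : U, U.ι v ∈ Set.range j → v ∉ B := fun v hv => by
    obtain ⟨v', hv', hvv⟩ := hj hv
    exact U.ι.injective hvv ▸ hv'
  haveI : IsIso (pullback.snd c (pullback.fst Y.hom j)) := by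
    refine isIso_snd c Y.hom j (fun y hy => ?_) (fun z hz => ?_)
    · obtain ⟨v, -, hv⟩ := hj hy
      let yU : ↥(Y.hom ⁻¹ᵁ U) := ⟨y, show Y.hom y ∈ U by rw [← hv]; exact v.2⟩
      by_contra hn
      refine hjB (gU yU) ?_ (Or.inl ⟨yU, fun ⟨t, ht⟩ => hn ⟨t, ?_⟩, rfl⟩)
      · rw [← Scheme.Hom.comp_apply, hgU]
        exact hy
      · rw [← hc', Scheme.Hom.comp_apply, ht]
        rfl
    · haveI : Mono (Y.hom ⁻¹ᵁ U).ι := inferInstance
      let e : pullback c' c' ⟶ pullback c c := pullback.map c' c' c c (𝟙 _) (𝟙 _) (Y.hom ⁻¹ᵁ U).ι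
        (by rw [hc', Category.id_comp]) (by rw [hc', Category.id_comp])
      let e' : pullback c c ⟶ pullback c' c' := pullback.lift (pullback.fst c c) (pullback.snd c c) (by
        rw [← cancel_mono (Y.hom ⁻¹ᵁ U).ι, Category.assoc, Category.assoc, hc']
        exact pullback.condition)
      have hee : e' ≫ e = 𝟙 _ := pullback.hom_ext (by simp [e, e']) (by simp [e, e'])
      have hfac : e' ≫ (pullback.fst c' c' ≫ c' ≫ gU) ≫ U.ι = pullback.fst c c ≫ c ≫ Y.hom := by
        rw [Category.assoc, Category.assoc, hgU, ← Category.assoc c', hc', pullback.lift_fst_assoc]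
      by_contra hn
      refine hjB ((pullback.fst c' c' ≫ c' ≫ gU) (e' z)) ?_ (Or.inr ⟨e' z, fun ⟨t, ht⟩ => hn ⟨t, ?_⟩, rfl⟩)
      · rw [← Scheme.Hom.comp_apply, ← Scheme.Hom.comp_apply, hfac]
        exact hz
      · have h5 : Δ ≫ e = pullback.diagonal c := pullback.hom_ext (by simp [e, Δ]) (by simp [e, Δ])
        rw [← h5, Scheme.Hom.comp_apply, ht, ← Scheme.Hom.comp_apply, hee]
        rfl
  let k := pullback.fst Y.hom j
  let ψ₀ : pullback Y.hom j ⟶ pullback Z.hom j :=
    pullback.lift (inv (pullback.snd c k) ≫ pullback.fst c k ≫ C.ι ≫ pZ) (pullback.snd Y.hom j) (by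
      rw [Category.assoc, Category.assoc, Category.assoc, ← pullback.condition (f := Y.hom) (g := j),
        IsIso.inv_comp_eq, ← pullback.condition_assoc (f := c) (g := k)]
      show pullback.fst c k ≫ C.ι ≫ pZ ≫ Z.hom = pullback.fst c k ≫ (C.ι ≫ pY) ≫ Y.hom
      rw [Category.assoc, pullback.condition])
  refine ⟨MorphismProperty.Over.homMk ψ₀ (pullback.lift_snd _ _ _), fun i'' hi => ?_⟩
  let t : pullback Y.hom i ⟶ pullback Y.hom j := pullback.lift fY (pullback.snd Y.hom i ≫ i'')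
    (by rw [Category.assoc, hi]; exact pullback.condition)
  show t ≫ ψ₀ ≫ pullback.fst Z.hom j = _
  let σ : pullback Y.hom i ⟶ pullback c k := pullback.lift (l ≫ (p ∣_ C)) t (by
    rw [Category.assoc, hsq.w, ← Category.assoc, ← Category.assoc, hl, hγ, Category.id_comp]
    exact (pullback.lift_fst _ _ _).symm)
  have hσ : t ≫ inv (pullback.snd c k) = σ := by rw [IsIso.comp_inv_eq, pullback.lift_snd]
  rw [pullback.lift_fst, ← Category.assoc t, hσ, pullback.lift_fst_assoc, Category.assoc, morphismRestrict_ι_assoc,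
    ← Category.assoc l, hl]
  simp [γ, p, pZ]

end Groth.Agent.Lef23.NhdCouple
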