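import Groth.Agent.Lef23.NhdCouple

/-!
# Lifting of clopen subsets to neighbourhoods descends along finite covers of the complement
-/

set_option autoImplicit false
set_option linter.style.haveILetI false
set_option backward.isDefEq.respectTransparency false

universe u

open CategoryTheory CategoryTheory.Limits AlgebraicGeometry TopologicalSpace

namespace Groth.Agent.Lef23.NhdDescent

/-- Clopen subsets on a closed part extend to neighbourhoods. -/
def Lifts {X₀ X : Scheme.{u}} (i : X₀ ⟶ X) : Prop :=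
  ∀ (Y : Scheme.{u}) (g : Y ⟶ X), IsFinite g → Etale g → ∀ V : Set ↥(pullback g i), IsClopen V →
    ∃ (U : X.Opens) (W : Set ↥Y), Set.range i ⊆ U ∧ IsClopen ((g ⁻¹ᵁ U).ι ⁻¹' W) ∧
      (pullback.fst g i).base ⁻¹' W = V

theorem closure_inter_subset {Z : Scheme.{u}} (O : Z.Opens) {W : Set Z} (hW : IsClosed (O.ι ⁻¹' W)) {z : Z}
    (hzO : z ∈ O) (hz : z ∈ closure W) : z ∈ W := by
  have h1 : (⟨z, hzO⟩ : O) ∈ O.ι ⁻¹' closure W := hz
  have h2 : IsOpenMap O.ι := O.ι.isOpenEmbedding.isOpenMap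
  rw [h2.preimage_closure_eq_closure_preimage O.ι.continuous, hW.closure_eq] at h1
  exact h1

/-- Descent of lifting along finite morphisms covering the complement of the closed part. -/
theorem lifts_of_finite {X₀ X : Scheme.{u}} (i : X₀ ⟶ X) [IsClosedImmersion i] {ι : Type u} [Finite ι]
    {X' : ι → Scheme.{u}} (π : ∀ k, X' k ⟶ X) (hπ : ∀ k, IsFinite (π k))
    (hcov : ∀ x : X, x ∈ Set.range i ∨ ∃ k, x ∈ Set.range (π k))
    (h : ∀ k, Lifts (pullback.fst (π k) i)) : Lifts i := by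
  intro Y g hfin het V hV
  haveI := hfin
  haveI := het
  let p := pullback.fst g i
  haveI : IsClosedImmersion p := MorphismProperty.pullback_fst _ _ ‹IsClosedImmersion i›
  have key : ∀ k, ∃ (Uk : (X' k).Opens) (W : Set ↥(pullback g (π k))), Set.range (pullback.fst (π k) i) ⊆ Uk ∧
      IsClopen ((pullback.snd g (π k) ⁻¹ᵁ Uk).ι ⁻¹' W) ∧
      ∀ w, pullback.fst g (π k) w ∈ Set.range p → (w ∈ W ↔ pullback.fst g (π k) w ∈ p '' V) := by
    intro k
    let g' := pullback.snd g (π k)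
    haveI : IsFinite g' := MorphismProperty.pullback_snd _ _ hfin
    haveI : Etale g' := MorphismProperty.pullback_snd _ _ het
    let iK := pullback.fst (π k) i
    let c : pullback g' iK ⟶ pullback g i :=
      pullback.lift (pullback.fst g' iK ≫ pullback.fst g (π k)) (pullback.snd g' iK ≫ pullback.snd (π k) i) (by
        rw [Category.assoc, pullback.condition, pullback.condition_assoc, Category.assoc, pullback.condition])
    obtain ⟨Uk, W, hU, hW, hWV⟩ := h k _ g' inferInstance inferInstance (c ⁻¹' V) (hV.preimage c.continuous)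
    refine ⟨Uk, W, hU, hW, fun w hw => ?_⟩
    obtain ⟨t, ht⟩ := hw
    obtain ⟨r, hr, -⟩ := Scheme.Pullback.exists_preimage_pullback (f := π k) (g := i)
      (g' w) (pullback.snd g i t) (by
        rw [← Scheme.Hom.comp_apply, ← pullback.condition, Scheme.Hom.comp_apply, ← ht, ← Scheme.Hom.comp_apply,
          pullback.condition, Scheme.Hom.comp_apply])
    obtain ⟨s, hs, -⟩ := Scheme.Pullback.exists_preimage_pullback (f := g') (g := iK) w r hr.symm
    have hsc : p (c s) = pullback.fst g (π k) w := by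
      rw [← Scheme.Hom.comp_apply, pullback.lift_fst, Scheme.Hom.comp_apply, hs]
    rw [← hsc, p.isClosedEmbedding.injective.mem_set_image, ← hs]
    exact Set.ext_iff.1 hWV s
  choose Uk W hUk hW hWV using key
  let U₁ : X.Opens := ⟨(⋃ k, π k '' (Uk k : Set (X' k))ᶜ)ᶜ,
    (isClosed_iUnion_of_finite fun k => haveI := hπ k; (π k).isClosedMap _ (Uk k).2.isClosed_compl).isOpen_compl⟩
  have hU₁ : ∀ k (v : X' k), π k v ∈ U₁ → v ∈ Uk k := fun k v hv => by_contra fun h' =>
    hv (Set.mem_iUnion.2 ⟨k, ⟨v, h', rfl⟩⟩)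
  let Ac : Set Y := p '' V ∪ ⋃ k, pullback.fst g (π k) '' closure (W k)
  let Bc : Set Y := p '' Vᶜ ∪ ⋃ k, pullback.fst g (π k) '' closure (W k)ᶜ
  have hclf : ∀ k (T : Set ↥(pullback g (π k))), IsClosed (pullback.fst g (π k) '' closure T) := fun k T => by
    haveI : IsFinite (pullback.fst g (π k)) := MorphismProperty.pullback_fst _ _ (hπ k)
    exact (pullback.fst g (π k)).isClosedMap _ isClosed_closure
  have hA : IsClosed Ac := (p.isClosedEmbedding.isClosedMap _ hV.isClosed).union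
    (isClosed_iUnion_of_finite fun k => hclf k _)
  have hB : IsClosed Bc := (p.isClosedEmbedding.isClosedMap _ hV.compl.isClosed).union
    (isClosed_iUnion_of_finite fun k => hclf k _)
  have hsnd : ∀ k (w : ↥(pullback g (π k))), g (pullback.fst g (π k) w) = π k (pullback.snd g (π k) w) := fun k w => by
    rw [← Scheme.Hom.comp_apply, pullback.condition, Scheme.Hom.comp_apply]
  have hin : ∀ k (w : ↥(pullback g (π k))), g (pullback.fst g (π k) w) ∈ U₁ →
      pullback.snd g (π k) w ∈ Uk k := fun k w hw => hU₁ k _ (hsnd k w ▸ hw)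
  have hi₁ : Set.range i ⊆ U₁ := by
    rintro _ ⟨x, rfl⟩ hx
    obtain ⟨k, v, hv, hvx⟩ := Set.mem_iUnion.1 hx
    obtain ⟨r, hr, -⟩ := Scheme.Pullback.exists_preimage_pullback (f := π k) (g := i) v x hvx
    exact hv (hUk k ⟨r, hr⟩)
  -- on the closed part the two sets are `V` and its complement
  have hAp : ∀ t, p t ∈ Ac → t ∈ V := fun t ht => by
    have hgt : g (p t) ∈ U₁ := hi₁ ⟨pullback.snd g i t, by
      rw [← Scheme.Hom.comp_apply, ← pullback.condition, Scheme.Hom.comp_apply]⟩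
    rcases ht with ht | ht
    · exact p.isClosedEmbedding.injective.mem_set_image.1 ht
    · obtain ⟨k, w, hw, hwt⟩ := Set.mem_iUnion.1 ht
      have hwO : w ∈ pullback.snd g (π k) ⁻¹ᵁ Uk k := hin k w (hwt.symm ▸ hgt)
      have hwW := closure_inter_subset _ (hW k).isClosed hwO hw
      have := (hWV k w ⟨t, hwt.symm⟩).1 hwW
      rw [hwt] at this
      exact p.isClosedEmbedding.injective.mem_set_image.1 this
  have hBp : ∀ t, p t ∈ Bc → t ∉ V := fun t ht htV => by
    have hgt : g (p t) ∈ U₁ := hi₁ ⟨pullback.snd g i t, by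
      rw [← Scheme.Hom.comp_apply, ← pullback.condition, Scheme.Hom.comp_apply]⟩
    rcases ht with ht | ht
    · exact p.isClosedEmbedding.injective.mem_set_image.1 ht htV
    · obtain ⟨k, w, hw, hwt⟩ := Set.mem_iUnion.1 ht
      have hwO : w ∈ pullback.snd g (π k) ⁻¹ᵁ Uk k := hin k w (hwt.symm ▸ hgt)
      have hwW : w ∈ (W k)ᶜ := closure_inter_subset _ (show IsClosed (_ ⁻¹' (W k)ᶜ) from (hW k).compl.isClosed) hwO hw
      exact hwW ((hWV k w ⟨t, hwt.symm⟩).2 ⟨t, htV, hwt.symm⟩)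
  let U : X.Opens := U₁ ⊓ ⟨(g '' (Ac ∩ Bc))ᶜ, (g.isClosedMap _ (hA.inter hB)).isOpen_compl⟩
  refine ⟨U, Ac, ?_, ⟨hA.preimage (Scheme.Hom.continuous _), ?_⟩, Set.ext fun t => ⟨hAp t, fun ht => Or.inl ⟨t, ht, rfl⟩⟩⟩
  · rintro _ ⟨x, rfl⟩
    refine ⟨hi₁ ⟨x, rfl⟩, ?_⟩
    rintro ⟨y, ⟨hyA, hyB⟩, hyx⟩
    obtain ⟨t, rfl, -⟩ := Scheme.Pullback.exists_preimage_pullback (f := g) (g := i) y x hyx
    exact hBp t hyB (hAp t hyA)
  · have hc : (g ⁻¹ᵁ U).ι ⁻¹' Ac = ((g ⁻¹ᵁ U).ι ⁻¹' Bc)ᶜ := Set.ext fun v => by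
      constructor
      · intro h1 h2
        exact (show g ((g ⁻¹ᵁ U).ι v) ∈ U from v.2).2 ⟨_, ⟨h1, h2⟩, rfl⟩
      · intro h1
        have hv : g ((g ⁻¹ᵁ U).ι v) ∈ U := v.2
        rcases hcov (g ((g ⁻¹ᵁ U).ι v)) with ⟨x, hx⟩ | ⟨k, x, hx⟩
        · obtain ⟨t, ht, -⟩ := Scheme.Pullback.exists_preimage_pullback (f := g) (g := i) _ x hx.symm
          by_cases htV : t ∈ V
          · exact Or.inl ⟨t, htV, ht⟩
          · exact absurd (show (g ⁻¹ᵁ U).ι v ∈ Bc from Or.inl ⟨t, htV, ht⟩) h1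
        · obtain ⟨w, hw, -⟩ := Scheme.Pullback.exists_preimage_pullback (f := g) (g := π k) _ x hx.symm
          by_cases hwW : w ∈ W k
          · exact Or.inr (Set.mem_iUnion.2 ⟨k, w, subset_closure hwW, hw⟩)
          · exact absurd (show (g ⁻¹ᵁ U).ι v ∈ Bc from Or.inr (Set.mem_iUnion.2 ⟨k, w, subset_closure hwW, hw⟩)) h1
    rw [hc]
    exact (hB.preimage (Scheme.Hom.continuous _)).isOpen_compl

end Groth.Agent.Lef23.NhdDescent
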