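import Groth.Agent.CAlgH3.DT.Stab
import Groth.Agent.LocCoh.IdealTransform
import Groth.Agent.LocCoh.Finiteness
import Groth.Agent.CommAlg6.DepthOne
import Mathlib.RingTheory.Localization.FractionRing

/-!
# Making the hypersurface `f = 0` of a component free of small associated primes

For a prime `P` not containing `f` with quotient of dimension at least three, the elements of the fraction field
carried into the quotient by powers of the product of the small associated primes of `(A ⧸ P) ⧸ f` form a finite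
algebra whose reduction modulo `f` has finite first local cohomology.
-/

set_option autoImplicit false
set_option backward.isDefEq.respectTransparency false
set_option linter.style.haveILetI false
set_option synthInstance.maxHeartbeats 100000

universe u

attribute [local instance] HasDerivedCategory.standard

noncomputable section

namespace Groth.Agent.Lef23.NhdTransform

open Groth.Agent.DualLib Groth.Agent.CAlgH3.DT

section sub

variable {A : Type u} [CommRing A] (D : Type u) [CommRing D] [Algebra A D] (K : Type u) [CommRing K] [Algebra A K]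
  [Algebra D K] [IsScalarTower A D K] (J : Ideal A)

theorem mem_pow_smul {n m : ℕ} {x y : K} (hx : ∀ r ∈ J ^ n, r • x ∈ (algebraMap D K).range)
    (hy : ∀ r ∈ J ^ m, r • y ∈ (algebraMap D K).range) (r : A) (hr : r ∈ J ^ n * J ^ m) :
    r • (x * y) ∈ (algebraMap D K).range := by
  induction hr using Submodule.mul_induction_on' with
  | mem_mul_mem a ha b hb =>
    rw [show (a * b) • (x * y) = (a • x) * (b • y) by rw [smul_mul_smul_comm]]
    exact mul_mem (hx a ha) (hy b hb)
  | add a _ b _ iha ihb => rw [add_smul]; exact add_mem iha ihb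

/-- Elements carried into `D` by a power of `J`. -/
def T : Subalgebra A K where
  carrier := {x | ∃ n : ℕ, ∀ r ∈ J ^ n, r • x ∈ (algebraMap D K).range}
  mul_mem' := by
    rintro x y ⟨n, hx⟩ ⟨m, hy⟩
    exact ⟨n + m, fun r hr => mem_pow_smul D K J hx hy r (by rwa [← pow_add])⟩
  add_mem' := by
    rintro x y ⟨n, hx⟩ ⟨m, hy⟩
    refine ⟨n + m, fun r hr => ?_⟩
    rw [smul_add]
    exact add_mem (hx r (Ideal.pow_le_pow_right (Nat.le_add_right n m) hr))
      (hy r (Ideal.pow_le_pow_right (Nat.le_add_left m n) hr))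
  algebraMap_mem' a := ⟨0, fun r _ => ⟨algebraMap A D (r * a), by
    rw [← IsScalarTower.algebraMap_apply, Algebra.smul_def, map_mul]⟩⟩

end sub

variable {A : Type u} [CommRing A] [IsNoetherianRing A] [IsLocalRing A] {ω : Dual.D A} (hω : Dual.IsDualizing A ω)
include hω

omit [IsLocalRing A] in
theorem deg_le_of_le {p q : PrimeSpectrum A} (h : p ≤ q) : deg hω p ≤ deg hω q := deg_mono hω h

theorem dim_quotient (p : PrimeSpectrum A) : ringKrullDim (A ⧸ p.asIdeal) =
    (((deg hω (IsLocalRing.closedPoint A) - deg hω p).toNat : ℕ) : WithBot ℕ∞) := by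
  have htop : ∀ q : PrimeSpectrum A, q ≤ IsLocalRing.closedPoint A := fun q => IsLocalRing.le_maximalIdeal q.2.ne_top
  rw [← krullDim_Icc hω (htop p), ringKrullDim_quotient]
  exact Order.krullDim_eq_of_orderIso
    (OrderIso.setCongr _ _ (Set.ext fun q => ⟨fun h => ⟨h, htop q⟩, fun h => h.1⟩))

omit [IsLocalRing A] in
theorem cond_two {M : Type u} [AddCommGroup M] [Module A M] {p q : PrimeSpectrum A} (hpq : p ≤ q)
    (h : deg hω p + 2 ≤ deg hω q) :
    ((1 : ℕ) : WithBot ℕ∞) < ((depthAt M p : ℕ∞) : WithBot ℕ∞) + Order.krullDim (Set.Icc p q) := by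
  rw [krullDim_Icc hω hpq]
  refine lt_of_lt_of_le ?_ (add_le_add (WithBot.coe_le_coe.2 bot_le) le_rfl)
  rw [show ((⊥ : ℕ∞) : WithBot ℕ∞) = 0 from rfl, zero_add]
  exact Nat.cast_lt.2 (by omega)

omit [IsLocalRing A] in
theorem cond_notMem {M : Type u} [AddCommGroup M] [Module A M] [Module.Finite A M] {p q : PrimeSpectrum A}
    (hpq : p ≤ q) (hne : p ≠ q) (hp : p.asIdeal ∉ associatedPrimes A M) :
    ((1 : ℕ) : WithBot ℕ∞) < ((depthAt M p : ℕ∞) : WithBot ℕ∞) + Order.krullDim (Set.Icc p q) := by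
  rw [krullDim_Icc hω hpq]
  have h1 : (1 : ℕ∞) ≤ depthAt M p := (CommAlg6.one_le_depth_localized_iff p.asIdeal).2 hp
  have hlt := deg_lt hω (lt_of_le_of_ne hpq hne)
  refine lt_of_lt_of_le ?_ (add_le_add (WithBot.coe_le_coe.2 h1) (Nat.cast_le.2 (show 1 ≤ (deg hω q - deg hω p).toNat by omega)))
  norm_num

/-- A product of the small associated primes. -/
theorem exists_J (f : A) (P : Ideal A) [P.IsPrime] (hfP : f ∉ P)
    (hdim : (3 : WithBot ℕ∞) ≤ ringKrullDim (A ⧸ P)) :
    ∃ J : Ideal A, ¬ J ≤ P ∧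
      (∀ p ∈ associatedPrimes A ((A ⧸ P) ⧸ Ideal.span ({algebraMap A (A ⧸ P) f} : Set (A ⧸ P))),
        ringKrullDim (A ⧸ p) ≤ 1 → J ≤ p) ∧
      ∃ k : ℕ, ∀ a ∈ J ^ k, ∀ x : _root_.LocCoh.H J 1 (A ⧸ P), a • x = 0 := by
  classical
  let D := A ⧸ P
  let m : PrimeSpectrum A := IsLocalRing.closedPoint A
  let P' : PrimeSpectrum A := ⟨P, inferInstance⟩
  have htop : ∀ q : PrimeSpectrum A, q ≤ m := fun q => IsLocalRing.le_maximalIdeal q.2.ne_top
  have hdegP : deg hω P' + 3 ≤ deg hω m := by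
    have h := (dim_quotient hω P').symm.trans_ge hdim
    have h' : 3 ≤ (deg hω m - deg hω P').toNat := by exact_mod_cast h
    omega
  let fD : Ideal D := Ideal.span {algebraMap A D f}
  let S : Set (Ideal A) := {q | q ∈ associatedPrimes A (D ⧸ fD) ∧ ringKrullDim (A ⧸ q) ≤ 1}
  have hSfin : S.Finite := (associatedPrimes.finite A (D ⧸ fD)).subset fun q hq => hq.1
  have hSprime : ∀ q ∈ S, q.IsPrime := fun q hq => IsAssociatedPrime.isPrime hq.1
  have hSP : ∀ q ∈ S, P ≤ q ∧ f ∈ q := fun q hq => by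
    obtain ⟨-, x, hx⟩ := (isAssociatedPrime_iff (R := A)).mp hq.1
    obtain ⟨d, rfl⟩ := Submodule.Quotient.mk_surjective _ x
    obtain ⟨a, rfl⟩ := Ideal.Quotient.mk_surjective d
    constructor
    · intro r hr
      rw [hx, Submodule.mem_colon_singleton, Submodule.mem_bot, ← Submodule.Quotient.mk_smul]
      rw [show r • (Ideal.Quotient.mk P a : D) = 0 from Ideal.Quotient.eq_zero_iff_mem.2 (P.mul_mem_right a hr)]
      exact Submodule.Quotient.mk_zero _
    · rw [hx, Submodule.mem_colon_singleton, Submodule.mem_bot, ← Submodule.Quotient.mk_smul,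
        Submodule.Quotient.mk_eq_zero, Algebra.smul_def]
      exact fD.mul_mem_right _ (Ideal.subset_span rfl)
  let J : Ideal A := ∏ q ∈ hSfin.toFinset, q
  have hJP : ¬ J ≤ P := fun h => by
    obtain ⟨q, hq, hqP⟩ := (Ideal.IsPrime.prod_le ‹P.IsPrime›).1 h
    exact hfP (hqP ((hSP q (hSfin.mem_toFinset.1 hq)).2))
  haveI : Module.Finite A D := Module.Finite.of_surjective P.mkQ (Submodule.mkQ_surjective _)
  have hassD : ∀ p : Ideal A, p ∈ associatedPrimes A D → p = P := fun p hp => by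
    obtain ⟨hpp, x, hx⟩ := (isAssociatedPrime_iff (R := A)).mp hp
    obtain ⟨a, rfl⟩ := Ideal.Quotient.mk_surjective x
    have ha : a ∉ P := fun ha => hpp.ne_top (hx.trans (eq_top_iff.2 fun r _ => by
      rw [Submodule.mem_colon_singleton, Submodule.mem_bot]
      exact Ideal.Quotient.eq_zero_iff_mem.2 (P.mul_mem_left r ha)))
    refine le_antisymm (fun r hr => ?_) (fun r hr => ?_)
    · rw [hx, Submodule.mem_colon_singleton, Submodule.mem_bot] at hr
      exact (‹P.IsPrime›.mem_or_mem (Ideal.Quotient.eq_zero_iff_mem.1 hr)).resolve_right ha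
    · rw [hx, Submodule.mem_colon_singleton, Submodule.mem_bot]
      exact Ideal.Quotient.eq_zero_iff_mem.2 (P.mul_mem_right a hr)
  obtain ⟨k, hk⟩ : ∃ k : ℕ, ∀ a ∈ J ^ k, ∀ x : _root_.LocCoh.H J 1 D, a • x = 0 := by
    obtain ⟨n, hn⟩ := exists_pow_kills_H hω D (s := 1) (K := J) (L := J) fun p q hp hq hpq => by
      by_cases hpP : p.asIdeal = P
      · refine cond_two hω hpq ?_
        obtain ⟨q₀, hq₀, hq₀q⟩ := (Ideal.IsPrime.prod_le q.2).1 hq
        have hq₀S := hSfin.mem_toFinset.1 hq₀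
        haveI := hSprime q₀ hq₀S
        let Q₀ : PrimeSpectrum A := ⟨q₀, inferInstance⟩
        have h1 : ringKrullDim (A ⧸ Q₀.asIdeal) ≤ 1 := hq₀S.2
        rw [dim_quotient hω Q₀] at h1
        have h1' : (deg hω m - deg hω Q₀).toNat ≤ 1 := by exact_mod_cast h1
        have h2 := deg_le_of_le hω (htop Q₀)
        have h3 := deg_le_of_le hω (show Q₀ ≤ q from hq₀q)
        rw [show p = P' from PrimeSpectrum.ext hpP]
        omega
      · exact cond_notMem hω hpq (fun e => hp (e ▸ hq)) fun h => hpP (hassD _ h)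
    exact ⟨n, fun a ha x => hn a ha 1 le_rfl x⟩
  exact ⟨J, hJP, fun q hq h1 => Ideal.prod_le_inf.trans (Finset.inf_le (hSfin.mem_toFinset.2 ⟨hq, h1⟩)), k, hk⟩

omit hω

/-- The fraction field of the component. -/
abbrev K₀ (P : Ideal A) : Type u := FractionRing (A ⧸ P)

omit [IsNoetherianRing A] [IsLocalRing A] in
theorem algebraMap_ne_zero {P : Ideal A} [P.IsPrime] {r : A} (hr : r ∉ P) : algebraMap A (K₀ P) r ≠ 0 := by
  rw [IsScalarTower.algebraMap_apply A (A ⧸ P) (K₀ P), map_ne_zero_iff _ (IsFractionRing.injective (A ⧸ P) (K₀ P))]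
  exact fun h => hr (Ideal.Quotient.eq_zero_iff_mem.1 h)

omit [IsLocalRing A] in
/-- Bounded denominators. -/
theorem bdd (P : Ideal A) [P.IsPrime] {J : Ideal A} (hJP : ¬ J ≤ P) {k : ℕ}
    (hk : ∀ a ∈ J ^ k, ∀ x : _root_.LocCoh.H J 1 (A ⧸ P), a • x = 0) :
    ∀ x : T (A ⧸ P) (K₀ P) J, ∀ a ∈ J ^ k, a • (x : K₀ P) ∈ (algebraMap (A ⧸ P) (K₀ P)).range := by
  let D := A ⧸ P
  let K := K₀ P
  rintro ⟨x, n, hx⟩ a ha
  choose d hd using fun r : ↥(J ^ n) => hx r r.2
  have hinj : Function.Injective (algebraMap D K) := IsFractionRing.injective D K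
  let φ : ↥(J ^ n) →ₗ[A] D :=
    { toFun := d
      map_add' := fun r r' => hinj (by rw [map_add, hd, hd, hd, Submodule.coe_add, add_smul])
      map_smul' := fun c r => hinj (by
        rw [RingHom.id_apply, Algebra.smul_def c (d r), map_mul, hd, hd, ← IsScalarTower.algebraMap_apply,
          ← Algebra.smul_def, Submodule.coe_smul, smul_eq_mul, mul_smul]) }
  obtain ⟨e⟩ := LocCoh.nonempty_coker_toDT_equiv J D
  have h0 : a • (Submodule.Quotient.mk (LocCoh.τ n φ) :
      _root_.LocCoh.DT J D ⧸ LinearMap.range (_root_.LocCoh.toDT J D)) = 0 :=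
    e.injective (by rw [map_smul, map_zero]; exact hk a ha _)
  rw [← Submodule.Quotient.mk_smul, Submodule.Quotient.mk_eq_zero] at h0
  obtain ⟨d₀, hd₀⟩ := h0
  let φ₀ : ↥(J ^ n) →ₗ[A] D := (LinearMap.toSpanSingleton A D d₀) ∘ₗ (J ^ n).subtype
  have h1 : LocCoh.τ n (a • φ - φ₀) = 0 := by
    rw [map_sub, map_smul, ← hd₀, sub_eq_zero]
    exact (LocCoh.τ_eq_toDT φ₀ d₀ fun r => rfl).symm
  obtain ⟨n', hn', h2⟩ := (LocCoh.τ_eq_zero_iff _).1 h1
  obtain ⟨r, hr, hrP⟩ := Set.not_subset.1 (fun h => hJP (‹P.IsPrime›.le_of_pow_le (n := n') h))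
  have h3 : a • d ⟨r, Ideal.pow_le_pow_right hn' hr⟩ = r • d₀ := sub_eq_zero.1 (h2 r hr)
  have hr0 : algebraMap A K r ≠ 0 := by
    rw [IsScalarTower.algebraMap_apply A D K, map_ne_zero_iff _ hinj]
    exact fun h => hrP (Ideal.Quotient.eq_zero_iff_mem.1 h)
  refine ⟨d₀, mul_left_cancel₀ hr0 ?_⟩
  have h4 := congrArg (algebraMap D K) h3
  rw [Algebra.smul_def, Algebra.smul_def, map_mul, map_mul, hd, ← IsScalarTower.algebraMap_apply,
    ← IsScalarTower.algebraMap_apply] at h4
  show algebraMap A K r * algebraMap D K d₀ = algebraMap A K r * a • x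
  rw [← h4, Algebra.smul_def, Algebra.smul_def]
  ring

omit [IsLocalRing A] in
theorem finite_T (P : Ideal A) [P.IsPrime] {J : Ideal A} (hJP : ¬ J ≤ P) {k : ℕ}
    (hbdd : ∀ x : T (A ⧸ P) (K₀ P) J, ∀ a ∈ J ^ k, a • (x : K₀ P) ∈ (algebraMap (A ⧸ P) (K₀ P)).range) :
    Module.Finite A (T (A ⧸ P) (K₀ P) J) := by
  let D := A ⧸ P
  let K := K₀ P
  obtain ⟨a₀, ha₀, ha₀P⟩ := Set.not_subset.1 (fun h => hJP (‹P.IsPrime›.le_of_pow_le (n := k) h))
  haveI : Module.Finite A D := Module.Finite.of_surjective P.mkQ (Submodule.mkQ_surjective _)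
  let ι : D →ₗ[A] K := (IsScalarTower.toAlgHom A D K).toLinearMap
  haveI : Module.Finite A (LinearMap.range ι) := Module.Finite.range ι
  let l : T D K J →ₗ[A] LinearMap.range ι :=
    (a₀ • (T D K J).val.toLinearMap).codRestrict (LinearMap.range ι) fun x => hbdd x a₀ ha₀
  refine Module.Finite.of_injective l ((injective_iff_map_eq_zero _).2 fun x hx => Subtype.ext ?_)
  have h : a₀ • (x : K) = 0 := congrArg Subtype.val hx
  rw [Algebra.smul_def] at h
  exact (mul_eq_zero.1 h).resolve_left (algebraMap_ne_zero ha₀P)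

include hω

/-- No small associated primes modulo `f`. -/
theorem assM (f : A) (P : Ideal A) [P.IsPrime] (hfP : f ∉ P) {J : Ideal A} (hJP : ¬ J ≤ P)
    (hJ : ∀ p ∈ associatedPrimes A ((A ⧸ P) ⧸ Ideal.span ({algebraMap A (A ⧸ P) f} : Set (A ⧸ P))),
      ringKrullDim (A ⧸ p) ≤ 1 → J ≤ p) {k : ℕ}
    (hbdd : ∀ x : T (A ⧸ P) (K₀ P) J, ∀ a ∈ J ^ k, a • (x : K₀ P) ∈ (algebraMap (A ⧸ P) (K₀ P)).range)
    (p : PrimeSpectrum A) (hp : p.asIdeal ∈ associatedPrimes A (T (A ⧸ P) (K₀ P) J ⧸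
      Ideal.span ({algebraMap A (T (A ⧸ P) (K₀ P) J) f} : Set (T (A ⧸ P) (K₀ P) J)))) :
    deg hω p + 2 ≤ deg hω (IsLocalRing.closedPoint A) := by
  let m : PrimeSpectrum A := IsLocalRing.closedPoint A
  by_contra hlt
  change ¬ deg hω p + 2 ≤ deg hω m at hlt
  have hdimp : ringKrullDim (A ⧸ p.asIdeal) ≤ 1 := by
    rw [dim_quotient hω p]
    exact (Nat.cast_le.2 (show (deg hω m - deg hω p).toNat ≤ 1 by omega)).trans_eq Nat.cast_one
  obtain ⟨-, z, hz⟩ := (isAssociatedPrime_iff (R := A)).mp hp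
  obtain ⟨y, rfl⟩ := Ideal.Quotient.mk_surjective z
  have hmem : ∀ r, r ∈ p.asIdeal ↔ ∃ t : T (A ⧸ P) (K₀ P) J, algebraMap A (K₀ P) r * (y : (K₀ P)) = algebraMap A (K₀ P) f * (t : (K₀ P)) := fun r => by
    rw [hz, Submodule.mem_colon_singleton, Submodule.mem_bot]
    show r • Ideal.Quotient.mk _ y = 0 ↔ _
    rw [← Ideal.Quotient.mkₐ_eq_mk A, ← map_smul, Ideal.Quotient.mkₐ_eq_mk, Ideal.Quotient.eq_zero_iff_mem,
      Ideal.mem_span_singleton']
    exact ⟨fun ⟨t, ht⟩ => ⟨t, by rw [mul_comm (algebraMap A (K₀ P) f)]; exact ((congrArg Subtype.val ht).trans (Algebra.smul_def r (y : (K₀ P)))).symm⟩,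
      fun ⟨t, ht⟩ => ⟨t, Subtype.ext (by
        show (t : (K₀ P)) * algebraMap A (K₀ P) f = r • (y : (K₀ P))
        rw [Algebra.smul_def, ht, mul_comm])⟩⟩
  by_cases hJp : J ≤ p.asIdeal
  · -- the quotient of `y` by `f` lies in the algebra
    let w : (K₀ P) := (y : (K₀ P)) / algebraMap A (K₀ P) f
    have hw : w ∈ T (A ⧸ P) (K₀ P) J := by
      refine ⟨k + 1, fun r hr => ?_⟩
      rw [pow_succ] at hr
      induction hr using Submodule.mul_induction_on' with
      | mem_mul_mem a ha b hb =>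
        obtain ⟨t, ht⟩ := (hmem b).1 (hJp hb)
        have hbw : b • w = (t : (K₀ P)) := by
          rw [Algebra.smul_def, mul_div_assoc', div_eq_iff (algebraMap_ne_zero hfP), ht, mul_comm]
        rw [mul_smul, hbw]
        exact hbdd t a ha
      | add a _ b _ iha ihb => rw [add_smul]; exact add_mem iha ihb
    refine p.2.ne_top (Ideal.eq_top_iff_one _ |>.2 ((hmem 1).2 ⟨⟨w, hw⟩, ?_⟩))
    rw [map_one, one_mul]
    exact (mul_div_cancel₀ _ (algebraMap_ne_zero hfP)).symm
  · obtain ⟨b, hb, hbp⟩ := Set.not_subset.1 (fun h => hJp (p.2.le_of_pow_le (n := k) h))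
    obtain ⟨d, hd⟩ := hbdd y b hb
    have hinj : Function.Injective (algebraMap (A ⧸ P) (K₀ P)) := IsFractionRing.injective (A ⧸ P) (K₀ P)
    refine hJp (hJ _ ((isAssociatedPrime_iff (R := A)).mpr ⟨p.2, Submodule.Quotient.mk (b • d), ?_⟩) hdimp)
    ext r
    rw [Submodule.mem_colon_singleton, Submodule.mem_bot, ← Submodule.Quotient.mk_smul, Submodule.Quotient.mk_eq_zero,
      Ideal.mem_span_singleton']
    constructor
    · intro hr
      obtain ⟨t, ht⟩ := (hmem r).1 hr
      obtain ⟨s, hs⟩ := hbdd t b hb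
      refine ⟨b • s, hinj ?_⟩
      simp only [Algebra.smul_def, map_mul, ← IsScalarTower.algebraMap_apply, hd, hs]
      linear_combination (-(algebraMap A (K₀ P) b * algebraMap A (K₀ P) b)) * ht
    · rintro ⟨s, hs⟩
      have hsT : algebraMap (A ⧸ P) (K₀ P) s ∈ T (A ⧸ P) (K₀ P) J := ⟨0, fun c _ => ⟨c • s, by
        rw [Algebra.smul_def, map_mul, ← IsScalarTower.algebraMap_apply, ← Algebra.smul_def]⟩⟩
      have h5 := congrArg (algebraMap (A ⧸ P) (K₀ P)) hs
      simp only [Algebra.smul_def, map_mul, ← IsScalarTower.algebraMap_apply, hd] at h5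
      have hmem' : r * (b * b) ∈ p.asIdeal := (hmem _).2 ⟨⟨_, hsT⟩, by
        rw [map_mul, map_mul]
        linear_combination -h5⟩
      exact (p.2.mem_or_mem hmem').resolve_right fun h => (p.2.mem_or_mem h).elim hbp hbp

/-- Finite algebra over the component with reduction modulo `f` having finite first local cohomology. -/
theorem exists_algebra (f : A) (P : Ideal A) [P.IsPrime] (hfP : f ∉ P)
    (hdim : (3 : WithBot ℕ∞) ≤ ringKrullDim (A ⧸ P)) :
    ∃ (R' : Type u) (_ : CommRing R') (_ : Algebra A R'), Module.Finite A R' ∧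
      RingHom.ker (algebraMap A R') = P ∧ (∀ x : R', algebraMap A R' f * x = 0 → x = 0) ∧
      Module.Finite A (_root_.LocCoh.H (IsLocalRing.maximalIdeal A) 1
        (R' ⧸ Ideal.span ({algebraMap A R' f} : Set R'))) := by
  obtain ⟨J, hJP, hJ, k, hk⟩ := exists_J hω f P hfP hdim
  have hbdd := bdd P hJP hk
  haveI hfinT := finite_T P hJP hbdd
  let D := A ⧸ P
  let K := K₀ P
  let m : PrimeSpectrum A := IsLocalRing.closedPoint A
  have htop : ∀ q : PrimeSpectrum A, q ≤ m := fun q => IsLocalRing.le_maximalIdeal q.2.ne_top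
  refine ⟨T D K J, inferInstance, inferInstance, hfinT, ?_, fun x hx => Subtype.ext ?_, ?_⟩
  · refine Ideal.ext fun r => ⟨fun h => by_contra fun hr => algebraMap_ne_zero (P := P) hr (congrArg Subtype.val h), fun h => ?_⟩
    refine Subtype.ext ?_
    show algebraMap A K r = 0
    rw [IsScalarTower.algebraMap_apply A D K, show algebraMap A D r = 0 from Ideal.Quotient.eq_zero_iff_mem.2 h, map_zero]
  · exact (mul_eq_zero.1 (show algebraMap A K f * (x : K) = 0 from congrArg Subtype.val hx)).resolve_left (algebraMap_ne_zero hfP)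
  let M := T D K J ⧸ Ideal.span ({algebraMap A (T D K J) f} : Set (T D K J))
  haveI : Module.Finite A M := Module.Finite.of_surjective
    (Ideal.Quotient.mkₐ A (Ideal.span ({algebraMap A (T D K J) f} : Set (T D K J)))).toLinearMap
    Ideal.Quotient.mk_surjective
  have hassM := assM hω f P hfP hJP hJ hbdd
  obtain ⟨n, hn⟩ := exists_pow_kills_H hω M (s := 1) (K := IsLocalRing.maximalIdeal A)
    (L := IsLocalRing.maximalIdeal A) fun p q hp hq hpq => by
    by_cases hpM : p.asIdeal ∈ associatedPrimes A M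
    · refine cond_two hω hpq ?_
      rw [show q = m from le_antisymm (htop q) hq]
      exact hassM p hpM
    · exact cond_notMem hω hpq (fun e => hp (e ▸ hq)) hpM
  refine (LocCoh.finite_H_iff_annihilated (IsLocalRing.maximalIdeal A) M 1).2
    ⟨IsLocalRing.maximalIdeal A ^ n, ?_, fun i hi a ha x => hn a ha i hi x⟩ 1 le_rfl
  exact fun r hr => ⟨n, Ideal.pow_mem_pow hr n⟩

end Groth.Agent.Lef23.NhdTransform
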