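import Groth.Agent.Lef23.NhdApply
import Groth.Agent.Lef23.NhdTransform
import Groth.Agent.Lef23.NhdDescent
import Groth.Agent.AdicRing.Basic
import Groth.Agent.LocCoh.BaseChange

/-!
# Lifting of clopen subsets near a hypersurface of a punctured spectrum, with a dualizing complex
-/

set_option autoImplicit false
set_option linter.style.haveILetI false
set_option backward.isDefEq.respectTransparency false
set_option linter.unusedSectionVars false
set_option synthInstance.maxHeartbeats 100000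

universe u

attribute [local instance] HasDerivedCategory.standard

open CategoryTheory CategoryTheory.Limits AlgebraicGeometry TopologicalSpace

noncomputable section

namespace Groth.Agent.Lef23.NhdDualizing

/-- Lifting over an open containing the hypersurface of a punctured open. -/
theorem lifts_open {R : CommRingCat.{u}} [IsNoetherianRing R] (f : R) [IsAdicComplete (Ideal.span ({f} : Set R)) R]
    (hnz : ∀ x : R, f * x = 0 → x = 0) (m : Ideal R)
    (h1 : Module.Finite R (_root_.LocCoh.H m 1 (ModuleCat.of R (R ⧸ Ideal.span ({f} : Set R)))))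
    (V : (Spec R).Opens) (hV : ∀ p ∈ V, ¬ m ≤ p.asIdeal)
    (hV' : ∀ p : PrimeSpectrum R, ¬ m ≤ p.asIdeal → f ∈ p.asIdeal → p ∈ V)
    {X₀ : Scheme.{u}} (i : X₀ ⟶ (V : Scheme.{u})) [IsPreimmersion i] (hi : Set.range i = {p | f ∈ (V.ι p).asIdeal}) :
    NhdDescent.Lifts i := by
  obtain ⟨𝔞, rfl⟩ : ∃ 𝔞 : Ideal R, V = LocCoh.puncturedOpen R 𝔞 := ⟨_, NhdApply.eq_puncturedOpen V⟩
  exact NhdApply.clopen_nhd 𝔞 f hnz
    (NhdApply.finite_hypersurface m 𝔞 f (fun p hp => hV p hp) (fun p hp hfp => hV' p hp hfp) h1) i hi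

/-- Lifting with a dualizing complex and components of dimension at least three off `f = 0`. -/
theorem lifts {A : Type u} [CommRing A] [IsNoetherianRing A] [IsLocalRing A] {ω : Dual.D A}
    (hω : Dual.IsDualizing A ω) (f : A) [IsAdicComplete (Ideal.span ({f} : Set A)) A]
    (hc : ∀ p : Ideal A, p ∈ minimalPrimes A → f ∉ p → (3 : WithBot ℕ∞) ≤ ringKrullDim (A ⧸ p))
    (U' : (Spec (CommRingCat.of A)).Opens) (hU : ∀ p ∈ U', ¬ IsLocalRing.maximalIdeal A ≤ p.asIdeal)
    (hU' : ∀ p : PrimeSpectrum A, ¬ IsLocalRing.maximalIdeal A ≤ p.asIdeal → f ∈ p.asIdeal → p ∈ U')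
    {X₀ : Scheme.{u}} (i : X₀ ⟶ (U' : Scheme.{u})) [IsClosedImmersion i]
    (hi : Set.range i = {p | f ∈ (U'.ι p).asIdeal}) : NhdDescent.Lifts i := by
  let ι : Type u := {P : Ideal A // P ∈ minimalPrimes A ∧ f ∉ P}
  haveI : Finite ι := ((minimalPrimes.finite_of_isNoetherianRing A).subset fun P hP => hP.1).to_subtype
  have hR : ∀ P : ι, ∃ (R' : Type u) (_ : CommRing R') (_ : Algebra A R'), Module.Finite A R' ∧
      RingHom.ker (algebraMap A R') = P.1 ∧ (∀ x : R', algebraMap A R' f * x = 0 → x = 0) ∧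
      Module.Finite A (_root_.LocCoh.H (IsLocalRing.maximalIdeal A) 1
        (R' ⧸ Ideal.span ({algebraMap A R' f} : Set R'))) := fun P =>
    haveI : P.1.IsPrime := P.2.1.1.1
    NhdTransform.exists_algebra hω f P.1 P.2.2 (hc P.1 P.2.1 P.2.2)
  choose R' iR iA hfin hker hnz hH using hR
  letI := iR
  letI := iA
  let π₀ : ∀ P, Spec (CommRingCat.of (R' P)) ⟶ Spec (CommRingCat.of A) := fun P =>
    Spec.map (CommRingCat.ofHom (algebraMap A (R' P)))
  have hπ₀ : ∀ P, IsFinite (π₀ P) := fun P => by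
    rw [IsFinite.SpecMap_iff]
    exact (RingHom.finite_algebraMap.2 (hfin P))
  refine NhdDescent.lifts_of_finite i (fun P => π₀ P ∣_ U') (fun P => IsZariskiLocalAtTarget.restrict (hπ₀ P) _)
    (fun x => ?_) (fun P => ?_)
  · by_cases hfx : f ∈ (U'.ι x).asIdeal
    · exact Or.inl (hi.superset hfx)
    obtain ⟨P, hP, hPx⟩ := Ideal.exists_minimalPrimes_le (I := ⊥) (J := (U'.ι x).asIdeal) bot_le
    let P' : ι := ⟨P, hP, fun h => hfx (hPx h)⟩
    haveI := hfin P'
    obtain ⟨Q, -, hQ, hQc⟩ := Ideal.exists_ideal_over_prime_of_isIntegral (U'.ι x).asIdeal (⊥ : Ideal (R' P'))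
      (by rw [← RingHom.ker_eq_comap_bot, hker]; exact hPx)
    let y : Spec (CommRingCat.of (R' P')) := ⟨Q, hQ⟩
    have hy : π₀ P' y = U'.ι x := PrimeSpectrum.ext hQc
    refine Or.inr ⟨P', ⟨y, show π₀ P' y ∈ U' by rw [hy]; exact x.2⟩, U'.ι.injective ?_⟩
    rw [← Scheme.Hom.comp_apply, morphismRestrict_ι, Scheme.Hom.comp_apply]
    exact hy
  haveI := hfin P
  haveI : IsNoetherianRing (R' P) := IsNoetherianRing.of_finite A (R' P)
  let fR : R' P := algebraMap A (R' P) f
  haveI : IsAdicComplete (Ideal.span ({fR} : Set (R' P))) (R' P) := by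
    have h0 : IsAdicComplete (Ideal.span ({f} : Set A)) (R' P) :=
      AdicRing.isAdicComplete_of_finite (I := Ideal.span ({f} : Set A)) (R' P)
    have h := (IsAdicComplete.map_algebraMap_iff (S := R' P) (Ideal.span ({f} : Set A)) (R' P)).2 h0
    rwa [Ideal.map_span, Set.image_singleton] at h
  let m := (IsLocalRing.maximalIdeal A).map (algebraMap A (R' P))
  have h1 : Module.Finite (R' P) (_root_.LocCoh.H m 1 (R' P ⧸ Ideal.span ({fR} : Set (R' P)))) := by
    obtain ⟨φ, hφ⟩ := LocCoh.exists_H_independence (R := A) (R' := R' P) (I := IsLocalRing.maximalIdeal A) 1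
      (R' P ⧸ Ideal.span ({fR} : Set (R' P)))
    haveI := hH P
    obtain ⟨n, s, hs⟩ := Submodule.fg_iff_exists_fin_generating_family.1
      (Module.Finite.fg_top (R := A) (M := _root_.LocCoh.H (IsLocalRing.maximalIdeal A) 1
        (R' P ⧸ Ideal.span ({fR} : Set (R' P)))))
    classical
    refine ⟨⟨Finset.univ.image fun j => φ.symm (s j), eq_top_iff.2 fun z _ => ?_⟩⟩
    obtain ⟨c, hc'⟩ := (Submodule.mem_span_range_iff_exists_fun A).1 (hs.ge (Submodule.mem_top (x := φ z)))
    have hz : z = ∑ j, algebraMap A (R' P) (c j) • φ.symm (s j) := φ.injective (by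
      rw [map_sum, ← hc']
      exact Finset.sum_congr rfl fun j _ => by rw [hφ, φ.apply_symm_apply])
    rw [hz]
    exact Submodule.sum_mem _ fun j _ => Submodule.smul_mem _ _
      (Submodule.subset_span (Finset.mem_coe.2 (Finset.mem_image.2 ⟨j, Finset.mem_univ j, rfl⟩)))
  haveI : IsPreimmersion (pullback.fst (π₀ P ∣_ U') i) :=
    MorphismProperty.pullback_fst _ _ (inferInstance : IsPreimmersion i)
  have hle : ∀ p : PrimeSpectrum (R' P), m ≤ p.asIdeal ↔ IsLocalRing.maximalIdeal A ≤ (π₀ P p).asIdeal := fun p =>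
    Ideal.map_le_iff_le_comap
  refine lifts_open (R := CommRingCat.of (R' P)) fR (hnz P) m h1 (π₀ P ⁻¹ᵁ U')
    (fun p hp h => hU _ hp ((hle p).1 h)) (fun p hp hfp => hU' _ (fun h => hp ((hle p).2 h)) hfp) _ ?_
  rw [Scheme.Pullback.range_fst, hi]
  ext p
  show f ∈ (U'.ι ((π₀ P ∣_ U') p)).asIdeal ↔ _
  rw [← Scheme.Hom.comp_apply, morphismRestrict_ι]
  rfl

end Groth.Agent.Lef23.NhdDualizing
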