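import Groth.Agent.Lef23.NhdSections

/-!
# Finiteness of the functions on the part `f = 0` of a finite étale cover of a punctured spectrum
-/

set_option autoImplicit false
set_option linter.style.haveILetI false
set_option backward.isDefEq.respectTransparency false
set_option linter.unusedSectionVars false
set_option synthInstance.maxHeartbeats 100000

universe u

open CategoryTheory CategoryTheory.Limits AlgebraicGeometry Opposite TopologicalSpace
open Groth.Agent.Formal2Lib Groth.Agent.Coherent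

noncomputable section

namespace Groth.Agent.Lef23.NhdFinite

section gen

variable {R : CommRingCat.{u}} (𝔞 : Ideal R) [IsNoetherianRing R]

local notation "U0" => LocCoh.puncturedOpen R 𝔞

theorem finite_F_pi (Q : ModuleCat.{u} R) (hQ : Module.Finite R (SecU.F U0 Q 0)) : ∀ r : ℕ,
    Module.Finite R (SecU.F U0 (ModuleCat.of R (Fin r → Q)) 0) := by
  intro r
  induction r with
  | zero =>
    haveI : Subsingleton (SecU.F U0 (ModuleCat.of R (Fin 0 → Q)) 0) := subsingleton_of_forall_eq 0 fun x => by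
      rw [← SecU.Fmap_id U0 _ 0 x, show (LinearMap.id : ModuleCat.of R (Fin 0 → Q) →ₗ[R] ModuleCat.of R (Fin 0 → Q)) = 0
        from LinearMap.ext fun y => Subsingleton.elim (α := Fin 0 → Q) _ _, SecU.Fmap_zero]
    infer_instance
  | succ r ih =>
    let B : ModuleCat.{u} R := ModuleCat.of R (Fin (r + 1) → Q)
    let C : ModuleCat.{u} R := ModuleCat.of R (Fin r → Q)
    let i : Q →ₗ[R] B := LinearMap.single R (fun _ : Fin (r + 1) => (Q : Type u)) 0
    let p : B →ₗ[R] C := LinearMap.funLeft R Q Fin.succ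
    have hi : Function.Injective i := Pi.single_injective (M := fun _ : Fin (r + 1) => (Q : Type u)) 0
    have hp : Function.Surjective p := LinearMap.funLeft_surjective_of_injective R Q _ (Fin.succ_injective r)
    have hip : Function.Exact i p := by
      intro v
      refine ⟨fun hv => ⟨v 0, funext fun j => ?_⟩, ?_⟩
      · refine Fin.cases ?_ (fun k => ?_) j
        · exact Pi.single_eq_same (M := fun _ : Fin (r + 1) => (Q : Type u)) 0 (v 0)
        · exact (Pi.single_eq_of_ne (M := fun _ : Fin (r + 1) => (Q : Type u)) (Fin.succ_ne_zero k) (v 0)).trans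
            (congrFun hv k).symm
      · rintro ⟨a, rfl⟩
        exact funext fun k => Pi.single_eq_of_ne (M := fun _ : Fin (r + 1) => (Q : Type u)) (Fin.succ_ne_zero k) a
    haveI := hQ
    haveI := ih
    haveI : IsNoetherian R (SecU.F U0 Q 0) := isNoetherian_of_isNoetherianRing_of_finite R _
    haveI : IsNoetherian R (SecU.F U0 C 0) := isNoetherian_of_isNoetherianRing_of_finite R _
    haveI : IsNoetherian R (SecU.F U0 B 0) := isNoetherian_of_range_eq_ker (SecU.Fmap U0 i 0) (SecU.Fmap U0 p 0)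
      (SecU.exact_map U0 (A := Q) (B := B) (C := C) hi hp hip 0).linearMap_ker_eq.symm
    exact inferInstanceAs (Module.Finite R (SecU.F U0 B 0))

/-- Sections of a module with a map with torsion kernel to copies of `Q`. -/
theorem finite_F_of_map (Q N : ModuleCat.{u} R) (hQ : Module.Finite R (SecU.F U0 Q 0)) {r : ℕ}
    (L : N →ₗ[R] (Fin r → Q)) (hL : ∀ x, L x = 0 → ∃ m : ℕ, ∀ b ∈ 𝔞 ^ m, b • x = 0) :
    Module.Finite R (SecU.F U0 N 0) := by
  let P : ModuleCat.{u} R := ModuleCat.of R (Fin r → Q)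
  let I : ModuleCat.{u} R := ModuleCat.of R (LinearMap.range L)
  let C : ModuleCat.{u} R := ModuleCat.of R ((Fin r → Q) ⧸ LinearMap.range L)
  let q : N →ₗ[R] I := L.rangeRestrict
  let i : I →ₗ[R] P := (LinearMap.range L).subtype
  let p : P →ₗ[R] C := (LinearMap.range L).mkQ
  have hb : Function.Bijective (SecU.Fmap U0 q 0) := (BoundedF.F_map_torsion 𝔞 (M := N) (N := I) q
    (fun x hx => hL x (congrArg Subtype.val hx)) fun y => ⟨0, fun b _ => ⟨_, (L.surjective_rangeRestrict (b • y)).choose_spec⟩⟩).1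
  have hi : Function.Injective (SecU.Fmap U0 i 0) := SecU.Fmap_zero_injective U0 (A := I) (B := P) (C := C)
    (f := i) (g := p) (Submodule.subtype_injective _) (Submodule.mkQ_surjective _) (LinearMap.exact_subtype_mkQ _)
  haveI := finite_F_pi 𝔞 Q hQ r
  exact Module.Finite.of_injective ((SecU.Fmap U0 i 0) ∘ₗ (SecU.Fmap U0 q 0)) (hi.comp hb.1)

end gen

variable {R : CommRingCat.{u}} (𝔞 : Ideal R) [IsNoetherianRing R] {Y : Scheme.{u}} (g : Y ⟶ Punct.US 𝔞)
  [IsFinite g] [Etale g] [Algebra R Γ(Y, ⊤)]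
  (hα : ∀ r : R, algebraMap R Γ(Y, ⊤) r = (g ≫ Punct.jU 𝔞).appTop ((Scheme.ΓSpecIso R).inv r))

local notation "U0" => LocCoh.puncturedOpen R 𝔞

include hα

/-- A nonzerodivisor stays one on global functions. -/
theorem nzd {f : R} (hf : ∀ x : R, f * x = 0 → x = 0) (x : Γ(Y, ⊤)) (hx : f • x = 0) : x = 0 := by
  refine TopCat.Sheaf.eq_of_locally_eq' Y.sheaf (fun a : ↥(𝔞 : Set R) => PuncturedClopen.W (a : R)) ⊤
    (fun a => homOfLE le_top) (PuncturedClopen.top_le_iSup 𝔞 g hα) _ _ fun a => ?_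
  obtain ⟨k, n, b, G, hG⟩ := PuncturedClopen.exists_data 𝔞 g hα a.2
  have hG0 : ∀ i, G i x = 0 := fun i => by
    have h : f • G i x = 0 := by rw [← map_smul, hx, map_zero]
    obtain ⟨⟨c, s⟩, hcs⟩ := IsLocalization.surj (Submonoid.powers (a : R)) (G i x)
    have h2 : algebraMap R Γ(Spec R, Punct.D (a : R)) (f * c) = 0 := by
      rw [map_mul, ← hcs, ← mul_assoc, ← Algebra.smul_def, h, zero_mul]
    obtain ⟨m, hm⟩ := (IsLocalization.map_eq_zero_iff (Submonoid.powers (a : R)) _ _).1 h2
    have hmc : (m : R) * c = 0 := hf _ (by rw [mul_left_comm]; exact hm)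
    refine (IsLocalization.map_units Γ(Spec R, Punct.D (a : R)) s).mul_left_eq_zero.1 (hcs.trans ?_)
    exact (IsLocalization.map_eq_zero_iff (Submonoid.powers (a : R)) _ _).2 ⟨m, hmc⟩
  obtain ⟨Q, hQ⟩ := hG x 0 (fun _ => 0) fun i => by rw [map_zero, hG0, smul_zero]
  simp only [zero_smul, Finset.sum_const_zero, sub_zero, ← mul_smul, ← pow_add] at hQ
  exact (PuncturedClopen.rU_eq_zero_of_pow (a := (a : R)) (U := PuncturedClopen.W (a : R)) le_rfl hQ).trans
    (map_zero _).symm

/-- Sections on `f = 0` form a finite module. -/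
theorem finite_Q (f : R) (hA : Module.Finite R (SecU.F U0 (ModuleCat.of R (R ⧸ Ideal.span ({f} : Set R))) 0)) :
    Module.Finite R (SecU.F U0 (BoundedF.Q f (PuncturedIdem.Bc (R := R) Γ(Y, ⊤)) 0) 0) := by
  classical
  let Bm := PuncturedIdem.Bc (R := R) Γ(Y, ⊤)
  let Qf : ModuleCat.{u} R := ModuleCat.of R (R ⧸ Ideal.span ({f} : Set R))
  obtain ⟨M, hMfg, htor⟩ := PuncturedClopen.exists_fg_torsion 𝔞 g hα
  haveI : Module.Finite R M := Module.Finite.iff_fg.2 hMfg
  let w₀ : M →ₗ[R] BoundedF.Q f Bm 0 := (BoundedF.π f Bm 0).comp M.subtype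
  let N₁ : ModuleCat.{u} R := ModuleCat.of R (LinearMap.range w₀)
  haveI : Module.Finite R N₁ := inferInstanceAs (Module.Finite R (LinearMap.range w₀))
  haveI : Module.FinitePresentation R N₁ := Module.finitePresentation_of_finite R _
  obtain ⟨t, ht⟩ := IsNoetherian.noetherian 𝔞
  have hta : ∀ a : ↥t, (a : R) ∈ 𝔞 := fun a => ht ▸ Submodule.subset_span a.2
  choose k n b G hG using fun a : ↥t => PuncturedClopen.exists_data 𝔞 g hα (hta a)
  have loc : ∀ a : ↥t, ∃ L : N₁ →ₗ[R] (Fin (k a) → Qf), ∀ x, L x = 0 → ∃ e : ℕ, (a : R) ^ e • x = 0 := by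
    intro a
    let S := Submonoid.powers (a : R)
    let T := LocalizedModule S Qf
    let γ : Γ(Spec R, Punct.D (a : R)) →ₗ[R] T := IsLocalizedModule.lift S (Algebra.linearMap R _)
      ((LocalizedModule.mkLinearMap S Qf).comp (Ideal.span ({f} : Set R)).mkQ)
      (IsLocalizedModule.map_units (LocalizedModule.mkLinearMap S Qf))
    have hγ : ∀ r : R, γ (algebraMap R _ r) = LocalizedModule.mkLinearMap S Qf (Submodule.Quotient.mk r) := fun r =>
      IsLocalizedModule.lift_apply S _ _ _ r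
    have hfT : ∀ y : T, f • y = 0 := fun y => by
      induction y using LocalizedModule.induction_on with
      | h q s =>
        obtain ⟨r, rfl⟩ := Submodule.Quotient.mk_surjective _ q
        rw [LocalizedModule.smul'_mk, show f • (Submodule.Quotient.mk r : Qf) = 0 from
          (Submodule.Quotient.mk_eq_zero _).2 (Ideal.mem_span_singleton'.2 ⟨r, mul_comm _ _⟩),
          LocalizedModule.zero_mk]
    let G' : Fin (k a) → (BoundedF.Q f Bm 0 →ₗ[R] T) := fun i => Submodule.liftQ _ (γ.comp (G a i)) (by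
      rintro _ ⟨y, rfl⟩
      show γ (G a i (f ^ (0 + 1) • y)) = 0
      rw [zero_add, pow_one, map_smul, map_smul, hfT])
    choose l s hl using fun i => Module.FinitePresentation.exists_lift_of_isLocalizedModule S
      (LocalizedModule.mkLinearMap S Qf) ((G' i).comp (LinearMap.range w₀).subtype)
    refine ⟨LinearMap.pi l, fun x hx => ?_⟩
    obtain ⟨y, hy⟩ := Submodule.mkQ_surjective _ x.1
    have hp : ∀ i, ∃ (p : ℕ) (d : R), algebraMap R _ (f * d) = (a : R) ^ p • G a i y := fun i => by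
      have h1 := LinearMap.congr_fun (hl i) x
      rw [LinearMap.comp_apply, show l i x = 0 from congrFun hx i, map_zero] at h1
      have h2 : (s i : R) • G' i x.1 = 0 := h1.symm
      obtain ⟨⟨r, s'⟩, hrs⟩ := IsLocalization.surj S (G a i y)
      have h3 : LocalizedModule.mkLinearMap S Qf (Submodule.Quotient.mk ((s i : R) * r)) = 0 := by
        rw [← hγ, map_mul, ← Algebra.smul_def, map_smul, ← hrs, mul_comm (G a i y), ← Algebra.smul_def, map_smul,
          smul_comm]
        have h4 : (s i : R) • γ (G a i y) = 0 := by rw [← hy] at h2; exact h2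
        rw [h4, smul_zero]
      obtain ⟨⟨_, m, rfl⟩, hm⟩ := (IsLocalizedModule.eq_zero_iff S (LocalizedModule.mkLinearMap S Qf)).1 h3
      obtain ⟨d, hd⟩ := Ideal.mem_span_singleton'.1 ((Submodule.Quotient.mk_eq_zero _).1 hm)
      obtain ⟨p, hp⟩ := (s i).2
      obtain ⟨p', hp'⟩ := s'.2
      refine ⟨m + p + p', d, ?_⟩
      rw [mul_comm f d, hd]
      show algebraMap R _ (((a : R) ^ m) * (((s i : R)) * r)) = _
      have hrs' : G a i y * algebraMap R _ (s' : R) = algebraMap R _ r := hrs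
      rw [map_mul, map_mul, ← hrs', show (s i : R) = (a : R) ^ p from hp.symm,
        show (s' : R) = (a : R) ^ p' from hp'.symm, Algebra.smul_def, map_pow, map_pow, map_pow, map_pow,
        pow_add, pow_add]
      ring
    choose p d hd using hp
    obtain ⟨Q, hQ⟩ := hG a y (∑ i, p i) (fun i => f * (((a : R) ^ ((∑ j, p j) - p i)) * d i)) fun i => by
      rw [mul_left_comm f, map_mul, hd, ← Algebra.smul_def, ← mul_smul, ← pow_add,
        Nat.sub_add_cancel (Finset.single_le_sum (fun j _ => Nat.zero_le (p j)) (Finset.mem_univ i))]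
    refine ⟨Q + ((∑ i, p i) + n a), Subtype.ext ?_⟩
    show (a : R) ^ (Q + ((∑ i, p i) + n a)) • x.1 = 0
    rw [← hy, ← map_smul, Submodule.mkQ_apply, Submodule.Quotient.mk_eq_zero]
    rw [smul_sub, ← mul_smul, ← pow_add, sub_eq_zero] at hQ
    refine ⟨(a : R) ^ Q • ∑ i, (((a : R) ^ ((∑ j, p j) - p i)) * d i) • b a i, ?_⟩
    show f ^ (0 + 1) • _ = (a : R) ^ (Q + ((∑ i, p i) + n a)) • (show Γ(Y, ⊤) from y)
    rw [hQ, zero_add, pow_one]
    show f • (a : R) ^ Q • ∑ i, (((a : R) ^ ((∑ j, p j) - p i)) * d i) • b a i = _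
    rw [smul_comm f, Finset.smul_sum (r := f)]
    simp only [mul_smul]
  choose L hL using loc
  let e := (Fintype.equivFin (Σ a : ↥t, Fin (k a))).symm
  let Lall : N₁ →ₗ[R] (Fin (Fintype.card (Σ a : ↥t, Fin (k a))) → Qf) :=
    LinearMap.pi fun j => (LinearMap.proj (e j).2).comp (L (e j).1)
  have hN1 := finite_F_of_map 𝔞 Qf N₁ hA Lall fun x hx => by
    obtain ⟨m, hm⟩ := Punct.torsion_of_gens 𝔞 (t := (t : Set R)) (le_of_eq ht.symm) (⊥ : Submodule R N₁) x
      fun a ha => by
        obtain ⟨e', he'⟩ := hL ⟨a, ha⟩ x (funext fun i => by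
          obtain ⟨j, hj⟩ := e.surjective ⟨⟨a, ha⟩, i⟩
          have := congrFun hx j
          simp only [Lall, LinearMap.pi_apply, LinearMap.comp_apply, LinearMap.proj_apply] at this
          rw [hj] at this
          exact this)
        exact ⟨e', (Submodule.mem_bot R).2 he'⟩
    exact ⟨m, fun c hc => (Submodule.mem_bot R).1 (hm c hc)⟩
  obtain ⟨hb, -, -⟩ := BoundedF.F_map_torsion 𝔞 (M := N₁) (N := BoundedF.Q f Bm 0) (LinearMap.range w₀).subtype
    (fun x hx => ⟨0, fun c _ => by rw [show x = 0 from Subtype.ext hx, smul_zero]⟩)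
    (fun y => by
      obtain ⟨y, rfl⟩ := Submodule.mkQ_surjective _ y
      obtain ⟨m, hm⟩ := htor y
      refine ⟨m, fun c hc => ⟨⟨_, ⟨_, hm c hc⟩, rfl⟩, ?_⟩⟩
      exact (map_smul (BoundedF.π f Bm 0) c y))
  haveI := hN1
  exact Module.Finite.of_surjective _ hb.2

end Groth.Agent.Lef23.NhdFinite
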