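import Groth.Agent.Lef23.PuncturedClopen
import Mathlib.RingTheory.AdicCompletion.Basic
import Mathlib.RingTheory.Nakayama

/-!
# Clopen subsets near the part `f = 0` of a finite étale cover of a punctured spectrum

For `f` a nonzerodivisor of a ring complete for `f`, with finitely many sections over `f = 0`, the compatible sections
of the reductions form a finite module, which agrees with the functions near `f = 0`.
-/

set_option autoImplicit false
set_option linter.style.haveILetI false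
set_option backward.isDefEq.respectTransparency false
set_option linter.unusedSectionVars false

universe u

open CategoryTheory CategoryTheory.Limits AlgebraicGeometry Opposite TopologicalSpace
open Groth.Agent.Formal2Lib Groth.Agent.Coherent

noncomputable section

namespace Groth.Agent.Lef23.NhdSections

section gen

variable {R : CommRingCat.{u}} (𝔞 : Ideal R) [IsNoetherianRing R]

theorem smul_F_eq_zero (V : (Spec R).Opens) (Q : ModuleCat.{u} R) (c : R) (h : ∀ x : Q, c • x = 0) (q : ℕ)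
    (z : SecU.F V Q q) : c • z = 0 := by
  rw [← SecU.Fmap_id V Q q z, ← SecU.Fmap_smul, show c • (LinearMap.id : Q →ₗ[R] Q) = 0 from LinearMap.ext h,
    SecU.Fmap_zero]

theorem smul_sections_eq_zero (V : (Spec R).Opens) (Q : ModuleCat.{u} R) (c : R) (h : ∀ x : Q, c • x = 0)
    (z : Γ(tilde Q, V)) : c • z = 0 := by
  refine (SecU.secV V (tilde Q)).symm.injective ?_
  rw [map_smul, map_zero]
  exact smul_F_eq_zero V Q c h 0 _

/-- Sections on a punctured spectrum are finite when `H¹` is. -/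
theorem finite_punctured (M : ModuleCat.{u} R) [Module.Finite R M] (h1 : Module.Finite R (_root_.LocCoh.H 𝔞 1 M)) :
    Module.Finite R (SecU.F (LocCoh.puncturedOpen R 𝔞) M 0) := by
  obtain ⟨e, -⟩ := SecU.exists_DT_equiv 𝔞 M
  obtain ⟨ee⟩ := LocCoh.nonempty_coker_toDT_equiv 𝔞 M
  haveI := h1
  haveI : Module.Finite R (_root_.LocCoh.DT 𝔞 M ⧸ LinearMap.range (_root_.LocCoh.toDT 𝔞 M)) :=
    Module.Finite.equiv ee.symm
  haveI : Module.Finite R (_root_.LocCoh.DT 𝔞 M) :=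
    Module.Finite.of_submodule_quotient (LinearMap.range (_root_.LocCoh.toDT 𝔞 M))
  exact Module.Finite.equiv e

/-- For a module killed by `f`, shrinking away from `f = 0` keeps finiteness. -/
theorem finite_of_le {f : R} {U₁ U₂ : (Spec R).Opens} (h12 : U₁ ≤ U₂) (h21 : U₂ ≤ U₁ ⊔ PrimeSpectrum.basicOpen f)
    (Q : ModuleCat.{u} R) (hQ : ∀ x : Q, f • x = 0) (h : Module.Finite R (SecU.F U₂ Q 0)) :
    Module.Finite R (SecU.F U₁ Q 0) := by
  haveI := h
  let l : Γ(tilde Q, U₂) →ₗ[R] Γ(tilde Q, U₁) :=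
    { toFun := resM (tilde Q) h12
      map_add' := map_add _
      map_smul' := fun r x => Misc15.Koszul.resM_smul_spec _ h12 r x }
  let L := (SecU.secV U₁ (tilde Q)).symm.toLinearMap ∘ₗ l ∘ₗ (SecU.secV U₂ (tilde Q)).toLinearMap
  suffices hl : Function.Surjective l from Module.Finite.of_surjective L fun y => by
    obtain ⟨w, hw⟩ := hl (SecU.secV U₁ (tilde Q) y)
    refine ⟨(SecU.secV U₂ (tilde Q)).symm w, ?_⟩
    show (SecU.secV U₁ (tilde Q)).symm (l (SecU.secV U₂ (tilde Q) ((SecU.secV U₂ (tilde Q)).symm w))) = y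
    rw [LinearEquiv.apply_symm_apply, hw, LinearEquiv.symm_apply_apply]
  intro z
  let O : Option PUnit.{u + 1} → (Spec R).Opens := fun i => i.elim U₁ fun _ => PrimeSpectrum.basicOpen f ⊓ U₂
  let sf : ∀ i, Γ(tilde Q, O i) := fun i => match i with
    | none => z
    | some _ => 0
  have hz : ∀ (W : (Spec R).Opens), W ≤ PrimeSpectrum.basicOpen f → ∀ x y : Γ(tilde Q, W), x = y := fun W hW x y => by
    refine (Scheme.Modules.isSMulRegular_of_le_basicOpen hW) ?_
    show f • x = f • y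
    rw [smul_sections_eq_zero W Q f hQ, smul_sections_eq_zero W Q f hQ]
  obtain ⟨w, hw, -⟩ := TopCat.Sheaf.existsUnique_gluing' (X := (Spec R).toTopCat) (Coh.toAb (tilde Q)) O U₂
    (fun i => homOfLE (match i with | none => h12 | some _ => inf_le_right))
    (fun x hx => by
      rcases h21 hx with hx' | hx'
      · exact Opens.mem_iSup.2 ⟨none, hx'⟩
      · exact Opens.mem_iSup.2 ⟨some PUnit.unit, ⟨hx', hx⟩⟩)
    sf (fun i j => by
      match i, j with
      | none, none => rfl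
      | some _, _ => exact hz _ (inf_le_left.trans inf_le_left) _ _
      | none, some _ => exact hz _ (inf_le_right.trans inf_le_left) _ _)
  exact ⟨w, hw none⟩

end gen

variable {R : CommRingCat.{u}} (𝔞 : Ideal R) (f : R) [IsNoetherianRing R] (B : Type u) [CommRing B] [Algebra R B]

local notation "U0" => LocCoh.puncturedOpen R 𝔞
local notation "Qm" k => BoundedF.Q f (PuncturedIdem.Bc (R := R) B) k
local notation "πm" k => BoundedF.π f (PuncturedIdem.Bc (R := R) B) k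

/-- Compatible sections of the reductions. -/
def Lim : Submodule R (∀ k, SecU.F U0 (Qm k) 0) :=
  ⨅ k, LinearMap.ker (SecU.Fmap U0 (BoundedF.tr f (PuncturedIdem.Bc B) k) 0 ∘ₗ LinearMap.proj (R := R) (φ := fun j => SecU.F U0 (Qm j) 0) (k + 1) -
    LinearMap.proj (R := R) (φ := fun j => SecU.F U0 (Qm j) 0) k)

theorem mem_Lim {x : ∀ k, SecU.F U0 (Qm k) 0} :
    x ∈ Lim 𝔞 f B ↔ ∀ k, SecU.Fmap U0 (BoundedF.tr f (PuncturedIdem.Bc B) k) 0 (x (k + 1)) = x k := by
  simp [Lim, Submodule.mem_iInf, sub_eq_zero]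

/-- The map from functions. -/
def ρ : B →ₗ[R] Lim 𝔞 f B :=
  (LinearMap.pi fun k => (SecU.unit U0 (Qm k)) ∘ₗ (πm k)).codRestrict _ fun x => by
    rw [mem_Lim]
    intro k
    exact SecU.unit_natural U0 (BoundedF.tr f (PuncturedIdem.Bc B) k) _

variable {f B} (hfB : ∀ x : B, f • x = 0 → x = 0)
include hfB

/-- Elements vanishing modulo `f` are divisible by `f`. -/
theorem exists_div_f (x : Lim 𝔞 f B) (h0 : x.1 0 = 0) : ∃ x' : Lim 𝔞 f B, f • x' = x := by
  let Bm := PuncturedIdem.Bc (R := R) B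
  let i : ∀ k, (Qm k) →ₗ[R] (Qm (k + 1)) := fun k => Submodule.mapQ _ _ (f • LinearMap.id : Bm →ₗ[R] Bm) (by
    rintro _ ⟨y, rfl⟩
    exact ⟨y, show f ^ (k + 1 + 1) • y = f • f ^ (k + 1) • y by rw [← mul_smul, ← pow_succ']⟩)
  let p : ∀ k, (Qm (k + 1)) →ₗ[R] (Qm 0) := fun k => Submodule.factor (BoundedF.range_anti f Bm (show 0 + 1 ≤ k + 1 + 1 by omega))
  have hi : ∀ k, Function.Injective (i k) := fun k => (injective_iff_map_eq_zero _).2 fun q hq => by
    obtain ⟨y, rfl⟩ := Submodule.Quotient.mk_surjective _ q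
    obtain ⟨z, hz⟩ := (Submodule.Quotient.mk_eq_zero _).1 hq
    refine (Submodule.Quotient.mk_eq_zero _).2 ⟨z, sub_eq_zero.1 (hfB _ ?_)⟩
    show f • (f ^ (k + 1) • z - y) = 0
    rw [smul_sub, ← mul_smul, ← pow_succ', sub_eq_zero]
    exact hz
  have hp : ∀ k, Function.Surjective (p k) := fun k => Submodule.factor_surjective _
  have hip : ∀ k, Function.Exact (i k) (p k) := fun k q => by
    obtain ⟨y, rfl⟩ := Submodule.Quotient.mk_surjective _ q
    constructor
    · intro hy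
      obtain ⟨z, hz⟩ := (Submodule.Quotient.mk_eq_zero _).1 hy
      refine ⟨Submodule.Quotient.mk z, congrArg Submodule.Quotient.mk ?_⟩
      show f • z = y
      refine Eq.trans ?_ hz
      show f • z = f ^ (0 + 1) • z
      rw [zero_add, pow_one]
    · rintro ⟨z, hz⟩
      obtain ⟨z, rfl⟩ := Submodule.Quotient.mk_surjective _ z
      rw [← hz]
      exact (Submodule.Quotient.mk_eq_zero _).2 ⟨z, show f ^ (0 + 1) • z = f • z by rw [zero_add, pow_one]⟩
  have hpx : ∀ k, SecU.Fmap U0 (p k) 0 (x.1 (k + 1)) = x.1 0 := fun k => by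
    induction k with
    | zero =>
      rw [show p 0 = BoundedF.tr f Bm 0 from Submodule.linearMap_qext _ (LinearMap.ext fun _ => rfl)]
      exact (mem_Lim 𝔞 f B).1 x.2 0
    | succ k ih =>
      rw [show p (k + 1) = (p k).comp (BoundedF.tr f Bm (k + 1)) from
        Submodule.linearMap_qext _ (LinearMap.ext fun _ => rfl), SecU.Fmap_comp, (mem_Lim 𝔞 f B).1 x.2 (k + 1), ih]
  choose x' hx' using fun k => (SecU.exact_map U0 (B := Qm (k + 1)) (C := Qm 0) (hi k) (hp k) (hip k) 0 (x.1 (k + 1))).1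
    (by rw [hpx, h0])
  have hcomp : ∀ k, SecU.Fmap U0 (BoundedF.tr f Bm k) 0 (x' (k + 1)) = x' k := fun k => by
    refine SecU.Fmap_zero_injective U0 (B := Qm (k + 1)) (C := Qm 0) (hi k) (hp k) (hip k) ?_
    rw [hx', ← SecU.Fmap_comp, show (i k).comp (BoundedF.tr f Bm k) = (BoundedF.tr f Bm (k + 1)).comp (i (k + 1)) from
      Submodule.linearMap_qext _ (LinearMap.ext fun _ => rfl), SecU.Fmap_comp, hx']
    exact (mem_Lim 𝔞 f B).1 x.2 (k + 1)
  refine ⟨⟨x', (mem_Lim 𝔞 f B).2 hcomp⟩, Subtype.ext (funext fun k => ?_)⟩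
  show f • x' k = x.1 k
  rw [← (mem_Lim 𝔞 f B).1 x.2 k, ← hx', ← SecU.Fmap_comp,
    show (BoundedF.tr f Bm k).comp (i k) = f • LinearMap.id from
      Submodule.linearMap_qext _ (LinearMap.ext fun _ => rfl), SecU.Fmap_smul, SecU.Fmap_id]

/-- Compatible sections form a finite module. -/
theorem finite_Lim [IsAdicComplete (Ideal.span ({f} : Set R)) R] (h0 : Module.Finite R (SecU.F U0 (Qm 0) 0)) :
    Module.Finite R (Lim 𝔞 f B) := by
  classical
  haveI := h0
  let ev : Lim 𝔞 f B →ₗ[R] SecU.F U0 (Qm 0) 0 := LinearMap.proj (R := R) (φ := fun j => SecU.F U0 (Qm j) 0) 0 ∘ₗ (Lim 𝔞 f B).subtype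
  obtain ⟨n, g, hg⟩ := Submodule.fg_iff_exists_fin_generating_family.1 (IsNoetherian.noetherian (LinearMap.range ev))
  choose m hm using fun i => (show g i ∈ LinearMap.range ev from hg ▸ Submodule.subset_span ⟨i, rfl⟩)
  have step : ∀ x : Lim 𝔞 f B, ∃ (a : Fin n → R) (x' : Lim 𝔞 f B), x = ∑ i, a i • m i + f • x' := fun x => by
    obtain ⟨a, ha⟩ := (Submodule.mem_span_range_iff_exists_fun R).1
      (show ev x ∈ Submodule.span R (Set.range g) from hg.symm ▸ LinearMap.mem_range_self ev x)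
    obtain ⟨x', hx'⟩ := exists_div_f 𝔞 hfB (x - ∑ i, a i • m i) (by
      show ev (x - ∑ i, a i • m i) = 0
      rw [map_sub, map_sum, sub_eq_zero, ← ha]
      exact Finset.sum_congr rfl fun i _ => by rw [map_smul, hm])
    exact ⟨a, x', by rw [hx', add_sub_cancel]⟩
  choose A X hAX using step
  refine Module.Finite.iff_fg.2 ?_ |> fun h => h
  refine ⟨Finset.univ.image fun i => (m i).1, le_antisymm (Submodule.span_le.2 (by
    simp only [Finset.coe_image, Finset.coe_univ, Set.image_univ, Set.range_subset_iff]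
    exact fun i => (m i).2)) fun x hx => ?_⟩
  let S : ℕ → (Fin n → R) × Lim 𝔞 f B := fun j => Nat.rec (0, ⟨x, hx⟩) (fun j p => (p.1 + f ^ j • A p.2, X p.2)) j
  have hS : ∀ j, (⟨x, hx⟩ : Lim 𝔞 f B) = ∑ i, (S j).1 i • m i + f ^ j • (S j).2 := fun j => by
    induction j with
    | zero => simp [S]
    | succ j ih =>
      show _ = ∑ i, ((S j).1 + f ^ j • A (S j).2) i • m i + f ^ (j + 1) • X (S j).2
      conv_lhs => rw [ih, hAX (S j).2]
      simp only [Pi.add_apply, Pi.smul_apply, smul_eq_mul, add_smul, mul_smul, Finset.sum_add_distrib, smul_add,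
        Finset.smul_sum, pow_succ]
      abel
  have hcauchy : ∀ i a b, a ≤ b →
      (S a).1 i ≡ (S b).1 i [SMOD (Ideal.span ({f} : Set R) ^ a • ⊤ : Submodule R R)] := by
    intro i a b hab
    rw [SModEq.sub_mem, Ideal.span_singleton_pow, smul_eq_mul, Ideal.mul_top]
    induction b, hab using Nat.le_induction with
    | base => rw [sub_self]; exact zero_mem _
    | succ b hb ih =>
      show (S a).1 i - ((S b).1 i + f ^ b * A (S b).2 i) ∈ _
      rw [← sub_sub]
      exact sub_mem ih (Ideal.mul_mem_right _ _ (Ideal.mem_span_singleton.2 (pow_dvd_pow f hb)))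
  choose c hc using fun i => IsPrecomplete.prec (I := Ideal.span ({f} : Set R)) (M := R) inferInstance
    (fun {a b} hab => hcauchy i a b hab)
  have key : x = ∑ i, c i • (m i).1 := funext fun k => by
    have hk : ∀ z : Qm k, f ^ (k + 1) • z = 0 := fun z => by
      obtain ⟨y, rfl⟩ := Submodule.Quotient.mk_surjective _ z
      exact (Submodule.Quotient.mk_eq_zero _).2 ⟨y, rfl⟩
    have hkill := smul_F_eq_zero U0 (Qm k) (f ^ (k + 1)) hk 0
    have h := congrArg (fun z : Lim 𝔞 f B => z.1 k) (hS (k + 1))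
    simp only [Submodule.coe_add, Submodule.coe_sum, Submodule.coe_smul, Pi.add_apply, Pi.smul_apply,
      Finset.sum_apply, hkill, add_zero] at h
    rw [h, Finset.sum_apply]
    refine Finset.sum_congr rfl fun i _ => ?_
    have h2 := hc i (k + 1)
    rw [SModEq.sub_mem, Ideal.span_singleton_pow, smul_eq_mul, Ideal.mul_top, Ideal.mem_span_singleton'] at h2
    obtain ⟨d, hd⟩ := h2
    rw [Pi.smul_apply, ← sub_eq_zero, ← sub_smul, ← hd, mul_smul, hkill, smul_zero]
  rw [key]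
  exact Submodule.sum_mem _ fun i _ => Submodule.smul_mem _ _
    (Submodule.subset_span (Finset.mem_coe.2 (Finset.mem_image.2 ⟨i, Finset.mem_univ i, rfl⟩)))

omit hfB

/-- Sections become functions after multiplying by a power of an element of the ideal. -/
theorem exists_pow_unit (k : ℕ) (z : SecU.F U0 (Qm k) 0) {a : R} (ha : a ∈ 𝔞) :
    ∃ (N : ℕ) (b : B), SecU.unit U0 (Qm k) ((πm k) b) = a ^ N • z := by
  classical
  obtain ⟨t, ht⟩ := IsNoetherian.noetherian 𝔞
  have hta : ∀ d : ↥(t : Set R), (d : R) ∈ 𝔞 := fun d => ht ▸ Submodule.subset_span d.2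
  let Z := SecU.secV U0 (tilde (Qm k)) z
  obtain ⟨n, q, hq⟩ := Misc15.Koszul.exists_rho_eq (Qm k) a (resM (tilde _) (Punct.D_le 𝔞 ha) Z)
  obtain ⟨b, rfl⟩ := Submodule.mkQ_surjective _ q
  let W : Γ(tilde (Qm k), U0) := a ^ n • Z - Misc15.Koszul.rho _ U0 ((πm k) b)
  have key : ∀ d : ↥(t : Set R), ∃ N : ℕ, a ^ N • resM (tilde (Qm k)) (Punct.D_le 𝔞 (hta d)) W = 0 := fun d => by
    obtain ⟨m, q', hq'⟩ := Misc15.Koszul.exists_rho_eq (Qm k) (d : R) (resM (tilde _) (Punct.D_le 𝔞 (hta d)) W)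
    have h1 : specBasicOpen (a * (d : R)) ≤ Punct.D a := by
      rw [specBasicOpen, PrimeSpectrum.basicOpen_mul]; exact inf_le_left
    have h2 : specBasicOpen (a * (d : R)) ≤ Punct.D (d : R) := by
      rw [specBasicOpen, PrimeSpectrum.basicOpen_mul]; exact inf_le_right
    have h0 : resM (tilde (Qm k)) (Punct.D_le 𝔞 ha) W = 0 := by
      show resM (tilde (Qm k)) (Punct.D_le 𝔞 ha) (a ^ n • Z - _) = 0
      rw [map_sub, Misc15.Koszul.resM_smul_spec]
      exact sub_eq_zero.2 (hq.symm.trans (Misc15.Koszul.rho_res _ _ _).symm)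
    obtain ⟨N, hN⟩ := Misc15.Koszul.exists_pow_of_rho_eq_zero (Qm k) (a * (d : R)) q' (by
      rw [← Misc15.Koszul.rho_res _ h2, hq', Misc15.Koszul.resM_smul_spec, resM_resM,
        ← resM_resM (tilde (Qm k)) (Punct.D_le 𝔞 ha) h1, h0, map_zero, smul_zero])
    rw [mul_pow, mul_comm, mul_smul] at hN
    refine ⟨N, (Scheme.Modules.isSMulRegular_of_le_basicOpen (le_refl (Punct.D (d : R)))).pow m ?_⟩
    show (d : R) ^ m • a ^ N • resM (tilde (Qm k)) (Punct.D_le 𝔞 (hta d)) W = (d : R) ^ m • 0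
    rw [smul_comm, ← hq', smul_zero, ← map_smul]
    exact Misc15.Koszul.rho_eq_zero_of_pow (Qm k) (d : R) le_rfl hN
  choose N hN using key
  let M := ∑ d : ↥(t : Set R), N d
  have hW : a ^ M • W = 0 := by
    refine Misc15.Koszul.sections_ext (tilde (Qm k)) (fun d : ↥(t : Set R) => Punct.D (d : R))
      (fun d => Punct.D_le 𝔞 (hta d)) (Punct.le_iSup_D 𝔞 (le_of_eq ht.symm)) _ _ fun d => ?_
    rw [Misc15.Koszul.resM_smul_spec, map_zero, show a ^ M = a ^ ((∑ d : ↥(t : Set R), N d) - N d) * a ^ N d by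
      rw [← pow_add, Nat.sub_add_cancel (Finset.single_le_sum (fun j _ => Nat.zero_le (N j)) (Finset.mem_univ d))],
      mul_smul, hN, smul_zero]
  refine ⟨M + n, a ^ M • b, ?_⟩
  rw [map_smul, map_smul, pow_add a M n, mul_smul]
  refine (SecU.secV U0 (tilde (Qm k))).injective ?_
  simp only [W, smul_sub, sub_eq_zero] at hW
  rw [map_smul, map_smul, map_smul]
  show a ^ M • SecU.secV U0 _ ((SecU.secV U0 _).symm (Misc15.Koszul.rho _ U0 ((πm k) b))) = _
  rw [LinearEquiv.apply_symm_apply]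
  exact hW.symm

include hfB

/-- Near `f = 0`, compatible sections are functions. -/
theorem exists_near [IsAdicComplete (Ideal.span ({f} : Set R)) R] (h0 : Module.Finite R (SecU.F U0 (Qm 0) 0))
    (x : Lim 𝔞 f B) (p : PrimeSpectrum R) (hp : ¬ 𝔞 ≤ p.asIdeal) (hfp : f ∈ p.asIdeal) :
    ∃ (s : R) (c : B), s ∉ p.asIdeal ∧ ρ 𝔞 f B c = s • x := by
  obtain ⟨a, ha, hap⟩ := Set.not_subset.1 hp
  haveI := finite_Lim 𝔞 hfB h0
  let T : ModuleCat.{u} R := ModuleCat.of R (Lim 𝔞 f B ⧸ LinearMap.range (ρ 𝔞 f B))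
  let S := p.asIdeal.primeCompl
  let Rp := Localization.AtPrime p.asIdeal
  let Tp := LocalizedModule S T
  haveI : Module.Finite R T := inferInstanceAs (Module.Finite R (_ ⧸ _))
  haveI : Module.Finite Rp Tp := Module.Finite.of_isLocalizedModule S (LocalizedModule.mkLinearMap S T)
  let I : Ideal Rp := (Ideal.span ({f} : Set R)).map (algebraMap R Rp)
  have hI : I ≤ (⊥ : Ideal Rp).jacobson := by
    refine le_trans ?_ (IsLocalRing.maximalIdeal_le_jacobson _)
    rw [← Localization.AtPrime.map_eq_maximalIdeal]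
    exact Ideal.map_mono ((Ideal.span_singleton_le_iff_mem _).2 hfp)
  have htop : (⊤ : Submodule Rp Tp) ≤ I • ⊤ := by
    intro z _
    induction z using LocalizedModule.induction_on with
    | h q s =>
      obtain ⟨w, rfl⟩ := Submodule.mkQ_surjective (LinearMap.range (ρ 𝔞 f B)) q
      obtain ⟨N, b, hb⟩ := exists_pow_unit 𝔞 0 (w.1 0) ha
      obtain ⟨w', hw'⟩ := exists_div_f 𝔞 hfB (a ^ N • w - ρ 𝔞 f B b) (by
        show a ^ N • w.1 0 - SecU.unit U0 (Qm 0) ((πm 0) b) = 0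
        rw [hb, sub_self])
      have hN : a ^ N ∈ S := fun h => hap (p.isPrime.mem_of_pow_mem N h)
      have h3 : a ^ N • (Submodule.mkQ (LinearMap.range (ρ 𝔞 f B)) w) =
          f • Submodule.mkQ (LinearMap.range (ρ 𝔞 f B)) w' := by
        rw [← map_smul, ← map_smul, hw', Submodule.mkQ_apply, Submodule.mkQ_apply, Submodule.Quotient.eq]
        exact ⟨b, (sub_sub_cancel _ _).symm⟩
      rw [show LocalizedModule.mk (Submodule.mkQ (LinearMap.range (ρ 𝔞 f B)) w) s = algebraMap R Rp f •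
          LocalizedModule.mk (Submodule.mkQ (LinearMap.range (ρ 𝔞 f B)) w') (⟨a ^ N, hN⟩ * s) by
        rw [algebraMap_smul, LocalizedModule.smul'_mk, ← h3]
        exact (LocalizedModule.mk_cancel_common_left ⟨a ^ N, hN⟩ s _).symm]
      exact Submodule.smul_mem_smul (Ideal.mem_map_of_mem _ (Ideal.mem_span_singleton_self f)) Submodule.mem_top
  have hbot := Submodule.eq_bot_of_le_smul_of_le_jacobson_bot I ⊤ Module.Finite.fg_top htop hI
  have hx : LocalizedModule.mk (Submodule.mkQ (LinearMap.range (ρ 𝔞 f B)) x) (1 : S) = (0 : Tp) :=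
    (Submodule.mem_bot Rp).1 (hbot ▸ Submodule.mem_top)
  rw [← LocalizedModule.zero_mk (1 : S), LocalizedModule.mk_eq] at hx
  obtain ⟨u, hu⟩ := hx
  rw [one_smul, one_smul, smul_zero] at hu
  have hu' : (u : R) • Submodule.mkQ (LinearMap.range (ρ 𝔞 f B)) x = 0 := hu
  rw [← map_smul, Submodule.mkQ_apply, Submodule.Quotient.mk_eq_zero] at hu'
  obtain ⟨c, hc⟩ := hu'
  exact ⟨u, c, u.2, hc⟩

omit hfB

/-- A function vanishing on all infinitesimal neighbourhoods vanishes near `f = 0`. -/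
theorem exists_kill (G : Submodule R B) (hG : G.FG) (hGt : ∀ x, ∃ m : ℕ, ∀ c ∈ 𝔞 ^ m, c • x ∈ G) (x : B)
    (hx : ∀ k, ∀ a ∈ 𝔞, PuncturedIdem.φ f B k a x = 0) (p : PrimeSpectrum R) (hp : ¬ 𝔞 ≤ p.asIdeal)
    (hfp : f ∈ p.asIdeal) : ∃ σ : R, σ ∉ p.asIdeal ∧ σ • x = 0 := by
  obtain ⟨a, ha, hap⟩ := Set.not_subset.1 hp
  haveI : Module.Finite R G := Module.Finite.iff_fg.2 hG
  let S := p.asIdeal.primeCompl
  let Rp := Localization.AtPrime p.asIdeal
  haveI : IsNoetherianRing Rp := IsLocalization.isNoetherianRing S Rp inferInstance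
  let Gp := LocalizedModule S G
  haveI : Module.Finite Rp Gp := Module.Finite.of_isLocalizedModule S (LocalizedModule.mkLinearMap S G)
  obtain ⟨q, hq⟩ := hGt x
  let g : G := ⟨a ^ q • x, hq _ (Ideal.pow_mem_pow ha q)⟩
  let I : Ideal Rp := (Ideal.span ({f} : Set R)).map (algebraMap R Rp)
  have hI : I ≤ (⊥ : Ideal Rp).jacobson := by
    refine le_trans ?_ (IsLocalRing.maximalIdeal_le_jacobson _)
    rw [← Localization.AtPrime.map_eq_maximalIdeal]
    exact Ideal.map_mono ((Ideal.span_singleton_le_iff_mem _).2 hfp)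
  have hmem : ∀ k : ℕ, LocalizedModule.mk g (1 : S) ∈ (I ^ k • ⊤ : Submodule Rp Gp) := fun k => by
    obtain ⟨N, hN⟩ := PuncturedIdem.exists_pow_of_φ_eq_zero (hx k a ha)
    obtain ⟨b, hb⟩ := (Submodule.Quotient.mk_eq_zero _).1 hN
    obtain ⟨m, hm⟩ := hGt b
    let b' : G := ⟨a ^ q • a ^ m • (show B from b), G.smul_mem _ (hm _ (Ideal.pow_mem_pow ha m))⟩
    have hN' : a ^ (N + m) ∈ S := fun h => hap (p.isPrime.mem_of_pow_mem _ h)
    have h3 : a ^ (N + m) • g = f ^ (k + 1) • b' := by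
      refine Subtype.ext ?_
      show a ^ (N + m) • a ^ q • x = f ^ (k + 1) • a ^ q • a ^ m • (show B from b)
      have hb' : f ^ (k + 1) • (show B from b) = a ^ N • x := hb
      rw [smul_comm (f ^ (k + 1)) (a ^ q), smul_comm (f ^ (k + 1)) (a ^ m), hb', pow_add, mul_smul,
        smul_comm (a ^ N) (a ^ m) , smul_comm (a ^ q) (a ^ m), smul_comm (a ^ q) (a ^ N)]
    rw [show LocalizedModule.mk g (1 : S) = algebraMap R Rp (f ^ (k + 1)) •
        LocalizedModule.mk b' (⟨a ^ (N + m), hN'⟩ * (1 : S)) by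
      rw [algebraMap_smul, LocalizedModule.smul'_mk, ← h3]
      exact (LocalizedModule.mk_cancel_common_left ⟨a ^ (N + m), hN'⟩ 1 _).symm]
    refine Submodule.smul_mem_smul (Ideal.pow_le_pow_right (Nat.le_succ k) ?_) Submodule.mem_top
    rw [map_pow]
    exact Ideal.pow_mem_pow (Ideal.mem_map_of_mem _ (Ideal.mem_span_singleton_self f)) _
  have hg : LocalizedModule.mk g (1 : S) = (0 : Gp) := by
    rw [← Submodule.mem_bot Rp, ← Ideal.iInf_pow_smul_eq_bot_of_le_jacobson (M := Gp) I hI]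
    exact (Submodule.mem_iInf _).2 hmem
  rw [← LocalizedModule.zero_mk (1 : S), LocalizedModule.mk_eq] at hg
  obtain ⟨u, hu⟩ := hg
  rw [one_smul, one_smul, smul_zero] at hu
  refine ⟨u * a ^ q, fun h => (p.isPrime.mem_or_mem h).elim u.2 fun h' => hap (p.isPrime.mem_of_pow_mem q h'), ?_⟩
  rw [mul_smul]
  exact congrArg Subtype.val (show (u : R) • g = 0 from hu)

include hfB

/-- Clopen subsets of the part `f = 0` extend to a neighbourhood. -/
theorem exists_clopen_nhd [IsAdicComplete (Ideal.span ({f} : Set R)) R] (h0 : Module.Finite R (SecU.F U0 (Qm 0) 0))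
    (G : Submodule R B) (hG : G.FG) (hGt : ∀ x, ∃ m : ℕ, ∀ c ∈ 𝔞 ^ m, c • x ∈ G)
    {V : Set (PuncturedIdem.Zf 𝔞 f B)} (hV : IsClopen V) :
    ∃ (U'' : (Spec R).Opens) (W W' : Set (PrimeSpectrum B)), U'' ≤ U0 ∧
      (∀ p : PrimeSpectrum R, ¬ 𝔞 ≤ p.asIdeal → f ∈ p.asIdeal → p ∈ U'') ∧ IsOpen W ∧ IsOpen W' ∧
      (∀ q, PrimeSpectrum.comap (algebraMap R B) q ∈ U'' → (q ∈ W' ↔ q ∉ W)) ∧
      ∀ q : PuncturedIdem.Zf 𝔞 f B, q.1 ∈ W ↔ q ∈ V := by
  classical
  obtain ⟨y, hy, hyb⟩ := PuncturedIdem.exists_sections 𝔞 (f := f) (B := B) hV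
  let yL : Lim 𝔞 f B := ⟨y, (mem_Lim 𝔞 f B).2 hy⟩
  let P : Set (PrimeSpectrum R) := {p | ¬ 𝔞 ≤ p.asIdeal ∧ f ∈ p.asIdeal}
  choose s c hs hsc using fun p : P => exists_near 𝔞 hfB h0 yL p.1 p.2.1 p.2.2
  obtain ⟨τ, hτ⟩ := (NoetherianSpace.isCompact (α := PrimeSpectrum R) P).elim_finite_subcover
    (fun p : P => (PrimeSpectrum.basicOpen (s p) : Set (PrimeSpectrum R))) (fun p => (PrimeSpectrum.basicOpen _).2)
    fun p hp => Set.mem_iUnion.2 ⟨⟨p, hp⟩, hs ⟨p, hp⟩⟩
  have hφ : ∀ (p : P) k, ∀ a ∈ 𝔞, ∀ ha : a ∈ 𝔞, ∃ e : PuncturedIdem.L f B k a,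
      (IsIdempotentElem e ∧ ∀ q, q ∈ PrimeSpectrum.basicOpen e ↔
        (⟨PrimeSpectrum.comap (PuncturedIdem.φ f B k a) q, PuncturedIdem.φ_mem 𝔞 ha q⟩ :
          PuncturedIdem.Zf 𝔞 f B) ∈ V) ∧
      PuncturedIdem.φ f B k a (c p) = PuncturedIdem.φ f B k a (algebraMap R B (s p)) * e := fun p k a _ ha =>
    hyb k (s p) (c p) (congrFun (congrArg Subtype.val (hsc p)) k) a ha
  let d : ↥τ × ↥τ → B := fun ij =>
    if ij.1 = ij.2 then c ij.1 * c ij.1 - algebraMap R B (s ij.1) * c ij.1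
    else algebraMap R B (s ij.2) * c ij.1 - algebraMap R B (s ij.1) * c ij.2
  have hd : ∀ ij k, ∀ a ∈ 𝔞, PuncturedIdem.φ f B k a (d ij) = 0 := by
    intro ij k a ha
    obtain ⟨e, he, hi⟩ := hφ ij.1 k a ha ha
    obtain ⟨e', he', hj⟩ := hφ ij.2 k a ha ha
    have hee : e' = e := (PuncturedIdem.existsUnique_idem hV (PuncturedIdem.φ f B k a)
      (PuncturedIdem.φ_mem 𝔞 ha)).unique he' he
    show PuncturedIdem.φ f B k a (if ij.1 = ij.2 then _ else _) = 0
    split_ifs with h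
    · rw [map_sub, map_mul, map_mul, hi, mul_mul_mul_comm, he.1.eq]
      ring
    · rw [map_sub, map_mul, map_mul, hi, hj, hee]
      ring
  let J : Ideal R := Finset.univ.inf fun ij : ↥τ × ↥τ => LinearMap.ker (LinearMap.toSpanSingleton R B (d ij))
  let U'' : (Spec R).Opens :=
    U0 ⊓ (⨆ i : ↥τ, PrimeSpectrum.basicOpen (s i)) ⊓ LocCoh.puncturedOpen R J
  let W : Set (PrimeSpectrum B) := ⋃ i : ↥τ,
    (PrimeSpectrum.basicOpen (algebraMap R B (s i)) : Set (PrimeSpectrum B)) ∩ PrimeSpectrum.basicOpen (c i)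
  let W' : Set (PrimeSpectrum B) := ⋃ i : ↥τ,
    (PrimeSpectrum.basicOpen (algebraMap R B (s i)) : Set (PrimeSpectrum B)) ∩
      PrimeSpectrum.basicOpen (algebraMap R B (s i) - c i)
  have hdis : ∀ q : PrimeSpectrum B, PrimeSpectrum.comap (algebraMap R B) q ∈ U'' → ∀ i j : ↥τ,
      algebraMap R B (s i) ∉ q.asIdeal → c i ∉ q.asIdeal → algebraMap R B (s j) ∉ q.asIdeal →
      algebraMap R B (s j) - c j ∈ q.asIdeal := by
    intro q hq i j hsi hci hsj
    have hdq : ∀ ij, d ij ∈ q.asIdeal := fun ij => by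
      obtain ⟨σ, hσ, hσq⟩ := Set.not_subset.1 (show ¬ J ≤ (PrimeSpectrum.comap (algebraMap R B) q).asIdeal from hq.2)
      have : σ • d ij = 0 := (Finset.inf_le (Finset.mem_univ ij) : J ≤ _) hσ
      rw [Algebra.smul_def] at this
      exact (q.isPrime.mem_or_mem (this ▸ q.asIdeal.zero_mem : algebraMap R B σ * d ij ∈ q.asIdeal)).resolve_left hσq
    have h1 : c i - algebraMap R B (s i) ∈ q.asIdeal := by
      have := hdq (i, i)
      simp only [d, ↓reduceIte] at this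
      rw [← sub_mul] at this
      exact (q.isPrime.mem_or_mem this).resolve_right hci
    rcases eq_or_ne i j with rfl | hij
    · rw [← neg_sub]
      exact neg_mem h1
    · have h2 := hdq (i, j)
      simp only [d, hij, ↓reduceIte] at h2
      refine (q.isPrime.mem_or_mem ?_).resolve_left hsi
      have := q.asIdeal.sub_mem h2 (q.asIdeal.mul_mem_left (algebraMap R B (s j)) h1)
      convert this using 1
      ring
  have hpick : ∀ q : PrimeSpectrum B, PrimeSpectrum.comap (algebraMap R B) q ∈ U'' →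
      ∃ i : ↥τ, algebraMap R B (s i) ∉ q.asIdeal := fun q hq => by
    obtain ⟨i, hi⟩ := Opens.mem_iSup.1 hq.1.2
    exact ⟨i, hi⟩
  have hWW : ∀ q, PrimeSpectrum.comap (algebraMap R B) q ∈ U'' → (q ∈ W' ↔ q ∉ W) := fun q hq => by
    constructor
    · rintro h1 h2
      obtain ⟨j, hsj, hcj⟩ := Set.mem_iUnion.1 h1
      obtain ⟨i, hsi, hci⟩ := Set.mem_iUnion.1 h2
      exact hcj (hdis q hq i j hsi hci hsj)
    · intro h
      obtain ⟨i, hi⟩ := hpick q hq
      have hci : c i ∈ q.asIdeal := by_contra fun hc => h (Set.mem_iUnion.2 ⟨i, hi, hc⟩)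
      exact Set.mem_iUnion.2 ⟨i, hi, fun hmem => hi (by simpa using q.asIdeal.add_mem hmem hci)⟩
  have hS : ∀ p : PrimeSpectrum R, ¬ 𝔞 ≤ p.asIdeal → f ∈ p.asIdeal → p ∈ U'' := fun p hp hfp => by
    refine ⟨⟨hp, ?_⟩, fun hJ => ?_⟩
    · obtain ⟨i, hiτ, hi⟩ := Set.mem_iUnion₂.1 (hτ ⟨hp, hfp⟩)
      exact Opens.mem_iSup.2 ⟨⟨i, hiτ⟩, hi⟩
    · obtain ⟨ij, -, hij⟩ := (Ideal.IsPrime.inf_le' p.isPrime).1 hJ
      obtain ⟨σ, hσ, hσd⟩ := exists_kill 𝔞 G hG hGt (d ij) (hd ij) p hp hfp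
      exact hσ (hij (show σ • d ij = 0 from hσd))
  refine ⟨U'', W, W', inf_le_left.trans inf_le_left, hS, ?_, ?_, hWW, fun q => ?_⟩
  · exact isOpen_iUnion fun i => (PrimeSpectrum.basicOpen _).2.inter (PrimeSpectrum.basicOpen _).2
  · exact isOpen_iUnion fun i => (PrimeSpectrum.basicOpen _).2.inter (PrimeSpectrum.basicOpen _).2
  have hqU : PrimeSpectrum.comap (algebraMap R B) q.1 ∈ U'' := hS _ q.2.1 q.2.2
  obtain ⟨i, hi⟩ := hpick q.1 hqU
  obtain ⟨a, ha, haq⟩ := Set.not_subset.1 q.2.1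
  obtain ⟨Pt, hPt⟩ := PuncturedIdem.exists_comap_eq (k := 0) q.1 q.2.2 haq
  obtain ⟨e, ⟨-, heV⟩, hce⟩ := hφ i 0 a ha ha
  have h1 : q ∈ V ↔ c i ∉ q.1.asIdeal := by
    have hq : (⟨PrimeSpectrum.comap (PuncturedIdem.φ f B 0 a) Pt, PuncturedIdem.φ_mem 𝔞 ha Pt⟩ :
        PuncturedIdem.Zf 𝔞 f B) = q := Subtype.ext hPt
    have h := heV Pt
    rw [hq] at h
    rw [← h, PrimeSpectrum.mem_basicOpen, not_iff_not, ← hPt]
    show e ∈ Pt.asIdeal ↔ PuncturedIdem.φ f B 0 a (c i) ∈ Pt.asIdeal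
    rw [hce]
    refine ⟨fun h => Ideal.mul_mem_left _ _ h, fun h => (Pt.isPrime.mem_or_mem h).resolve_left ?_⟩
    intro hh
    rw [← hPt] at hi
    exact hi hh
  rw [h1]
  refine ⟨fun h hc => ?_, fun h => Set.mem_iUnion.2 ⟨i, hi, h⟩⟩
  obtain ⟨j, hsj, hcj⟩ := Set.mem_iUnion.1 h
  exact hi (by simpa using q.1.asIdeal.add_mem (hdis q.1 hqU j i hsj hcj hi) hc)

end Groth.Agent.Lef23.NhdSections
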