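import Groth.Agent.Lef23.SectionsLift

/-!
# Vanishing of `H¹` of negative twists of an invertible module on the divisor
-/

set_option autoImplicit false
set_option linter.style.haveILetI false
set_option backward.isDefEq.respectTransparency.types false

universe u

open CategoryTheory CategoryTheory.Limits AlgebraicGeometry Opposite TopologicalSpace
open Groth.Agent.Coherent Groth.Agent.PicLib Groth.Agent.AmpleLib Groth.Agent.EulerLib Groth.Agent.SerreDual

noncomputable section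

namespace Groth.Agent.Lef23

variable {X : Scheme.{u}}

attribute [local instance] hasFiniteBiproducts

/-- Cohomology of a twist of a finite sum. -/
theorem subsingleton_HH_tensor_biproduct (A : X.Modules) {r : ℕ} (N : Fin r → X.Modules) (q : ℕ)
    (h : ∀ i, Subsingleton (Coh.HH X (CohB1.tensorMod A (N i)) q)) :
    Subsingleton (Coh.HH X (CohB1.tensorMod A (⨁ N)) q) := by
  haveI : (tensE A).Additive := DCoh.additive_tensorBi_obj A
  refine subsingleton_HH_of_total (fun i => CohB1.tensorMod A (N i)) (fun i => tE A (biproduct.π N i))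
    (fun i => tE A (biproduct.ι N i)) ?_ q h
  show ∑ i, (tensE A).map (biproduct.π N i) ≫ (tensE A).map (biproduct.ι N i) = 𝟙 ((tensE A).obj (⨁ N))
  simp only [← Functor.map_comp]
  rw [← Functor.map_sum, biproduct.total, CategoryTheory.Functor.map_id]

theorem subsingleton_HH_zero_of_mono {M N : X.Modules} (f : M ⟶ N) [Mono f]
    (h : Subsingleton (Coh.HH X N 0)) : Subsingleton (Coh.HH X M 0) := by
  let S := ShortComplex.mk f (cokernel.π f) (cokernel.condition f)
  have hS : S.ShortExact :=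
    { exact := ShortComplex.exact_of_g_is_cokernel _ (cokernelIsCokernel f), mono_f := ‹_›, epi_g := inferInstance }
  exact subsingleton_left_zero hS h

variable {Z : Scheme.{u}} (t : Z ⟶ X) [IsClosedImmersion t] (l : Level Z) {Q : X.Modules}

/-- Homomorphisms into the direct image generating it at each point. -/
def Spans (M : Z.Modules) {r : ℕ} (s : Fin r → (Q ⟶ (Scheme.Modules.pushforward t).obj M)) : Prop :=
  ∀ z : Z, ∃ (b : Fin r) (B : X.affineOpens), t z ∈ B.1 ∧ ∃ g : Γ(Q, B.1), IsGen Q B.1 g ∧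
    IsGen M (t ⁻¹ᵁ B.1) (show Γ(M, t ⁻¹ᵁ B.1) from (s b).app B.1 g)

variable {r : ℕ} (s : Fin r → (Q ⟶ (Scheme.Modules.pushforward t).obj l.M))

/-- The products with one of the homomorphisms. -/
def pairWith (i : Fin r) : Bilin Q ((Scheme.Modules.pushforward t).obj l.N)
    ((Scheme.Modules.pushforward t).obj (Coh.structureModule Z)) where
  app U x m := (pushPair t l).app U m ((s i).app U x)
  add_left U x x' m := by rw [map_add]; exact (pushPair t l).add_right U m _ _
  add_right U x m m' := (pushPair t l).add_left U m m' _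
  smul_left U c x m := by rw [Scheme.Modules.Hom.app_smul]; exact (pushPair t l).smul_right U c m _
  smul_right U c x m := (pushPair t l).smul_left U c m _
  res U V h x m := by rw [(pushPair t l).res, app_resM]

/-- The scalar action of the functions on the subscheme. -/
def actZ {M : Z.Modules} (U : X.Opens) (c : Γ((Scheme.Modules.pushforward t).obj (Coh.structureModule Z), U))
    (m : Γ((Scheme.Modules.pushforward t).obj M, U)) : Γ((Scheme.Modules.pushforward t).obj M, U) :=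
  (show Γ(Z, t ⁻¹ᵁ U) from c) • (show Γ(M, t ⁻¹ᵁ U) from m)

theorem actZ_smul_left {M : Z.Modules} (U : X.Opens) (a : Γ(X, U))
    (c : Γ((Scheme.Modules.pushforward t).obj (Coh.structureModule Z), U))
    (m : Γ((Scheme.Modules.pushforward t).obj M, U)) : actZ t U (a • c) m = a • actZ t U c m :=
  mul_smul (t.app U a) (show Γ(Z, t ⁻¹ᵁ U) from c) (show Γ(M, t ⁻¹ᵁ U) from m)

theorem actZ_smul_right {M : Z.Modules} (U : X.Opens) (a : Γ(X, U))
    (c : Γ((Scheme.Modules.pushforward t).obj (Coh.structureModule Z), U))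
    (m : Γ((Scheme.Modules.pushforward t).obj M, U)) : actZ t U c (a • m) = a • actZ t U c m :=
  smul_comm (show Γ(Z, t ⁻¹ᵁ U) from c) (t.app U a) (show Γ(M, t ⁻¹ᵁ U) from m)

theorem actZ_add_left {M : Z.Modules} (U : X.Opens)
    (c c' : Γ((Scheme.Modules.pushforward t).obj (Coh.structureModule Z), U))
    (m : Γ((Scheme.Modules.pushforward t).obj M, U)) : actZ t U (c + c') m = actZ t U c m + actZ t U c' m :=
  add_smul (show Γ(Z, t ⁻¹ᵁ U) from c) (show Γ(Z, t ⁻¹ᵁ U) from c') (show Γ(M, t ⁻¹ᵁ U) from m)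

theorem actZ_add_right {M : Z.Modules} (U : X.Opens)
    (c : Γ((Scheme.Modules.pushforward t).obj (Coh.structureModule Z), U))
    (m m' : Γ((Scheme.Modules.pushforward t).obj M, U)) : actZ t U c (m + m') = actZ t U c m + actZ t U c m' :=
  smul_add (show Γ(Z, t ⁻¹ᵁ U) from c) (show Γ(M, t ⁻¹ᵁ U) from m) (show Γ(M, t ⁻¹ᵁ U) from m')

theorem actZ_res {M : Z.Modules} {U V : X.Opens} (h : V ≤ U)
    (c : Γ((Scheme.Modules.pushforward t).obj (Coh.structureModule Z), U))
    (m : Γ((Scheme.Modules.pushforward t).obj M, U)) :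
    resM _ h (actZ t U c m) = actZ t V (resM _ h c) (resM _ h m) :=
  resM_smul M (t.preimage_mono h) (show Γ(Z, t ⁻¹ᵁ U) from c) (show Γ(M, t ⁻¹ᵁ U) from m)

/-- The products as one map. -/
def pairLift : CohB1.tensorMod Q ((Scheme.Modules.pushforward t).obj l.N) ⟶
    ⨁ fun _ : Fin r => (Scheme.Modules.pushforward t).obj (Coh.structureModule Z) :=
  biproduct.lift fun i => (pairWith t l s i).desc

/-- The projections from the sum of copies of the functions. -/
abbrev prZ (i : Fin r) : (⨁ fun _ : Fin r => (Scheme.Modules.pushforward t).obj (Coh.structureModule Z)) ⟶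
    (Scheme.Modules.pushforward t).obj (Coh.structureModule Z) :=
  biproduct.π (fun _ : Fin r => (Scheme.Modules.pushforward t).obj (Coh.structureModule Z)) i

/-- The relations `v_i s_j - v_j s_i`. -/
def relBilin (i j : Fin r) : Bilin Q (⨁ fun _ : Fin r => (Scheme.Modules.pushforward t).obj (Coh.structureModule Z))
    ((Scheme.Modules.pushforward t).obj l.M) where
  app U x v := actZ t U ((prZ t i).app U v) ((s j).app U x) - actZ t U ((prZ t j).app U v) ((s i).app U x)
  add_left U x x' v := by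
    rw [map_add, map_add, actZ_add_right, actZ_add_right]
    exact add_sub_add_comm _ _ _ _
  add_right U x v v' := by
    rw [map_add, map_add, actZ_add_left, actZ_add_left]
    exact add_sub_add_comm _ _ _ _
  smul_left U c x v := by
    rw [Scheme.Modules.Hom.app_smul, Scheme.Modules.Hom.app_smul, actZ_smul_right, actZ_smul_right, smul_sub]
  smul_right U c x v := by
    rw [Scheme.Modules.Hom.app_smul, Scheme.Modules.Hom.app_smul, actZ_smul_left, actZ_smul_left, smul_sub]
  res U V h x v := by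
    rw [map_sub, actZ_res, actZ_res, app_resM, app_resM, app_resM, app_resM]

variable (hQ : PicF.IsInvertible Q) (hs : Spans t l.M s)
include hQ hs

/-- Small affine opens with generators adapted to the products. -/
theorem exists_pair_nice {U : X.Opens} {y : X} (hy : y ∈ U) :
    ∃ B : X.affineOpens, y ∈ B.1 ∧ B.1 ≤ U ∧ ∃ g : Γ(Q, B.1), IsGen Q B.1 g ∧
      (t ⁻¹ᵁ B.1 = ⊥ ∨ ∃ (b : Fin r) (e : Γ(l.N, t ⁻¹ᵁ B.1)), IsGen l.N (t ⁻¹ᵁ B.1) e ∧
        IsGen l.M (t ⁻¹ᵁ B.1) (show Γ(l.M, t ⁻¹ᵁ B.1) from (s b).app B.1 g)) := by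
  by_cases hr : y ∈ Set.range t
  · obtain ⟨z, rfl⟩ := hr
    obtain ⟨b, B₀, hz, g, hg, hgM⟩ := hs z
    obtain ⟨Q₁, hzQ, e, he⟩ := exists_isGen l.hN z
    obtain ⟨V₀, hV₀, heq⟩ := t.isEmbedding.isInducing.isOpen_iff.1 Q₁.2
    obtain ⟨B, hB, hyB, hle⟩ := exists_isAffineOpen_mem_and_subset (x := t z) (U := U ⊓ B₀.1 ⊓ ⟨V₀, hV₀⟩)
      ⟨⟨hy, hz⟩, by have := heq.ge hzQ; exact this⟩
    have h0 : B ≤ B₀.1 := fun w hw => (hle hw).1.2
    have hQ₁ : t ⁻¹ᵁ B ≤ Q₁ := fun w hw => heq.le (hle hw).2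
    refine ⟨⟨B, hB⟩, hyB, fun w hw => (hle hw).1.1, _, hg.restrict h0, Or.inr ⟨b, _, he.restrict hQ₁, ?_⟩⟩
    rw [app_resM]
    exact hgM.restrict (t.preimage_mono h0)
  · obtain ⟨W, hyW, g, hg⟩ := exists_isGen hQ y
    obtain ⟨B, hB, hyB, hle⟩ := exists_isAffineOpen_mem_and_subset (x := y)
      (U := U ⊓ W ⊓ ⟨(Set.range t)ᶜ, t.isClosedEmbedding.isClosed_range.isOpen_compl⟩) ⟨⟨hy, hyW⟩, hr⟩
    exact ⟨⟨B, hB⟩, hyB, fun w hw => (hle hw).1.1, _, hg.restrict fun w hw => (hle hw).1.2,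
      Or.inl (le_bot_iff.1 fun w hw => (hle hw).2 ⟨w, rfl⟩)⟩

omit hQ hs [IsClosedImmersion t] in
theorem eq_of_preimage_bot {M : Z.Modules} {B : X.Opens} (hB : t ⁻¹ᵁ B = ⊥)
    (a b : Γ((Scheme.Modules.pushforward t).obj M, B)) : a = b :=
  sec_ext M (show Γ(M, t ⁻¹ᵁ B) from a) b fun y hy => by rw [hB] at hy; exact hy.elim

theorem mono_pairLift : Mono (pairLift t l s) := by
  refine ⟨fun {W} u v huv => sub_eq_zero.1 ?_⟩
  have h0 : (u - v) ≫ pairLift t l s = 0 := by rw [Preadditive.sub_comp, huv, sub_self]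
  refine Scheme.Modules.hom_ext _ _ fun U => ConcreteCategory.hom_ext _ _ fun x => ?_
  refine sec_ext _ _ _ fun y hy => ?_
  obtain ⟨B, hyB, hBU, g, hg, hcase⟩ := exists_pair_nice t l s hQ hs hy
  refine ⟨B.1, hBU, hyB, ?_⟩
  show resM _ hBU ((u - v).app U x) = resM _ hBU ((0 : W ⟶ _).app U x)
  rw [show (0 : W ⟶ CohB1.tensorMod Q ((Scheme.Modules.pushforward t).obj l.N)).app U x = 0 from rfl, map_zero,
    ← app_resM]
  obtain ⟨m, hm⟩ := (bijective_tmul_left hg ((Scheme.Modules.pushforward t).obj l.N) le_rfl).2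
    ((u - v).app B.1 (resM W hBU x))
  simp only [PicLib.resM_self] at hm
  rw [← hm]
  suffices m = 0 by rw [this, tmul_zero_right]
  rcases hcase with hbot | ⟨b, e, he, hgM⟩
  · exact eq_of_preimage_bot t hbot m 0
  have h1 : (pairWith t l s b).app B.1 g m = 0 := by
    rw [← Bilin.desc_tmul, hm, ← ConcreteCategory.comp_apply, ← Scheme.Modules.Hom.comp_app,
      ← biproduct.lift_π (fun i => (pairWith t l s i).desc) b, ← Category.assoc]
    show ((u - v) ≫ pairLift t l s ≫ biproduct.π _ b).app B.1 _ = 0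
    rw [← Category.assoc, h0, zero_comp]
    rfl
  obtain ⟨c, hc⟩ := (he (t ⁻¹ᵁ B.1) le_rfl).2 (show Γ(l.N, t ⁻¹ᵁ B.1) from m)
  simp only [PicLib.resM_self] at hc
  have h2 : c • l.pair (t ⁻¹ᵁ B.1) e (show Γ(l.M, t ⁻¹ᵁ B.1) from (s b).app B.1 g) = 0 := by
    refine Eq.trans ?_ h1
    show c • l.ε.hom.app _ (tmul e _) = l.ε.hom.app _ (tmul (show Γ(l.N, t ⁻¹ᵁ B.1) from m) _)
    rw [← hc, tmul_smul_left, Scheme.Modules.Hom.app_smul]
  have h3 := isGen_map_iso l.ε (isGen_tmul he hgM)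
  have hc0 : c = 0 := (h3 (t ⁻¹ᵁ B.1) le_rfl).1 (by
    simp only [PicLib.resM_self]
    exact h2.trans (zero_smul _ _).symm)
  rw [hc0, zero_smul] at hc
  exact hc.symm

/-- The cokernel of the products embeds into a sum of copies of `M`. -/
theorem exists_mono_cokernel : ∃ γ : cokernel (tE Q (pairLift t l s)) ⟶
    ⨁ fun _ : Fin (r * r) => (Scheme.Modules.pushforward t).obj l.M, Mono γ := by
  let β : CohB1.tensorMod Q (⨁ fun _ : Fin r => (Scheme.Modules.pushforward t).obj (Coh.structureModule Z)) ⟶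
      ⨁ fun _ : Fin (r * r) => (Scheme.Modules.pushforward t).obj l.M :=
    biproduct.lift fun p => (relBilin t l s (finProdFinEquiv.symm p).1 (finProdFinEquiv.symm p).2).desc
  let f := tE Q (pairLift t l s)
  -- components of a product
  have hlift : ∀ (B : X.Opens) (g' : Γ(Q, B)) (m : Γ((Scheme.Modules.pushforward t).obj l.N, B)) (i : Fin r),
      (prZ t i).app B ((pairLift t l s).app B (tmul g' m)) = (pairWith t l s i).app B g' m :=
    fun B g' m i => by
    rw [← ConcreteCategory.comp_apply, ← Scheme.Modules.Hom.comp_app, pairLift, biproduct.lift_π, Bilin.desc_tmul]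
  have hw : f ≫ β = 0 := by
    refine biproduct.hom_ext _ _ fun p => ?_
    rw [Category.assoc, biproduct.lift_π, zero_comp]
    refine Scheme.Modules.hom_ext _ _ fun U => ConcreteCategory.hom_ext _ _ fun x => ?_
    refine sec_ext _ _ _ fun y hy => ?_
    obtain ⟨B, hyB, hBU, g, hg, hcase⟩ := exists_pair_nice t l s hQ hs hy
    refine ⟨B.1, hBU, hyB, ?_⟩
    rw [← app_resM, ← app_resM]
    rcases hcase with hbot | ⟨b, e, he, hgM⟩
    · exact eq_of_preimage_bot t hbot _ _
    obtain ⟨z, hz⟩ := (bijective_tmul_left hg _ le_rfl).2 (resM _ hBU x)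
    obtain ⟨m, rfl⟩ := (bijective_tmul_left hg _ le_rfl).2 z
    simp only [PicLib.resM_self] at hz
    rw [← hz, Scheme.Modules.Hom.comp_app, ConcreteCategory.comp_apply]
    show _ = 0
    rw [show f.app B.1 (tmul g (tmul g m)) = tmul g ((pairLift t l s).app B.1 (tmul g m)) from
      tensE_map_tmul Q _ B.1 g (tmul g m), Bilin.desc_tmul]
    show actZ t B.1 _ _ - actZ t B.1 _ _ = 0
    rw [hlift, hlift]
    obtain ⟨ci, hci⟩ := (hgM (t ⁻¹ᵁ B.1) le_rfl).2
      (show Γ(l.M, t ⁻¹ᵁ B.1) from (s (finProdFinEquiv.symm p).1).app B.1 g)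
    obtain ⟨cj, hcj⟩ := (hgM (t ⁻¹ᵁ B.1) le_rfl).2
      (show Γ(l.M, t ⁻¹ᵁ B.1) from (s (finProdFinEquiv.symm p).2).app B.1 g)
    simp only [PicLib.resM_self] at hci hcj
    show (show Γ(Z, t ⁻¹ᵁ B.1) from l.ε.hom.app (t ⁻¹ᵁ B.1) (tmul (show Γ(l.N, t ⁻¹ᵁ B.1) from m)
          (show Γ(l.M, t ⁻¹ᵁ B.1) from (s (finProdFinEquiv.symm p).1).app B.1 g))) •
        (show Γ(l.M, t ⁻¹ᵁ B.1) from (s (finProdFinEquiv.symm p).2).app B.1 g) -
      (show Γ(Z, t ⁻¹ᵁ B.1) from l.ε.hom.app (t ⁻¹ᵁ B.1) (tmul (show Γ(l.N, t ⁻¹ᵁ B.1) from m)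
          (show Γ(l.M, t ⁻¹ᵁ B.1) from (s (finProdFinEquiv.symm p).2).app B.1 g))) •
        (show Γ(l.M, t ⁻¹ᵁ B.1) from (s (finProdFinEquiv.symm p).1).app B.1 g) = 0
    rw [← hci, ← hcj, tmul_smul_right, tmul_smul_right, Scheme.Modules.Hom.app_smul, Scheme.Modules.Hom.app_smul,
      sub_eq_zero, ← mul_smul, ← mul_smul]
    exact congrArg (fun c : Γ(Z, t ⁻¹ᵁ B.1) => c • (show Γ(l.M, t ⁻¹ᵁ B.1) from (s b).app B.1 g))
      (mul_right_comm ci (show Γ(Z, t ⁻¹ᵁ B.1) from l.ε.hom.app (t ⁻¹ᵁ B.1) (tmul (show Γ(l.N, t ⁻¹ᵁ B.1) from m)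
        (show Γ(l.M, t ⁻¹ᵁ B.1) from (s b).app B.1 g))) cj |>.trans ((mul_assoc ci cj _).trans (mul_comm _ _)))
  let S := ShortComplex.mk f β hw
  have hex : S.Exact := by
    rw [ShortComplex.exact_iff_epi_kernel_lift]
    refine epi_of_locally_surjective _ fun U a y hy => ?_
    obtain ⟨B, hyB, hBU, g, hg, hcase⟩ := exists_pair_nice t l s hQ hs hy
    refine ⟨B.1, hBU, hyB, ?_⟩
    let a' := resM _ hBU a
    obtain ⟨v, hv⟩ := (bijective_tmul_left hg _ le_rfl).2 ((kernel.ι β).app B.1 a')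
    simp only [PicLib.resM_self] at hv
    suffices ∃ m, ∀ i, (pairWith t l s i).app B.1 g m = (prZ t i).app B.1 v by
      obtain ⟨m, hm⟩ := this
      refine ⟨tmul g (tmul g m), app_injective_of_mono (kernel.ι β) B.1 ?_⟩
      rw [← ConcreteCategory.comp_apply, ← Scheme.Modules.Hom.comp_app, kernel.lift_ι, ← hv]
      show f.app B.1 (tmul g (tmul g m)) = tmul g v
      rw [show f.app B.1 (tmul g (tmul g m)) = tmul g ((pairLift t l s).app B.1 (tmul g m)) from
        tensE_map_tmul Q _ B.1 g (tmul g m)]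
      refine congrArg _ ?_
      rw [← PicDef15.app_biproduct_total _ B.1 v, ← PicDef15.app_biproduct_total _ B.1 ((pairLift t l s).app B.1 _)]
      exact Finset.sum_congr rfl fun i _ => congrArg _ ((hlift B.1 g m i).trans (hm i))
    rcases hcase with hbot | ⟨b, e, he, hgM⟩
    · exact ⟨0, fun i => eq_of_preimage_bot t hbot _ _⟩
    have h3 := isGen_map_iso l.ε (isGen_tmul he hgM)
    obtain ⟨c, hc⟩ := (h3 (t ⁻¹ᵁ B.1) le_rfl).2
      (show Γ(Coh.structureModule Z, t ⁻¹ᵁ B.1) from (prZ t b).app B.1 v)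
    simp only [PicLib.resM_self] at hc
    refine ⟨(show Γ((Scheme.Modules.pushforward t).obj l.N, B.1) from c • e), fun i => ?_⟩
    -- the relation at the pair `(i, b)`
    have hrel : (relBilin t l s i b).app B.1 g v = 0 := by
      rw [← Bilin.desc_tmul, hv]
      have h := congrArg (fun φ => (biproduct.π (fun _ : Fin (r * r) => (Scheme.Modules.pushforward t).obj l.M) (finProdFinEquiv (i, b))).app B.1 φ) (kernel_ι_app_zero β B.1 a')
      simp only [map_zero] at h
      rw [← ConcreteCategory.comp_apply, ← Scheme.Modules.Hom.comp_app, biproduct.lift_π,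
        Equiv.symm_apply_apply] at h
      exact h
    have hr' : (show Γ(Z, t ⁻¹ᵁ B.1) from (prZ t i).app B.1 v) •
          (show Γ(l.M, t ⁻¹ᵁ B.1) from (s b).app B.1 g) =
        (show Γ(Z, t ⁻¹ᵁ B.1) from (prZ t b).app B.1 v) •
          (show Γ(l.M, t ⁻¹ᵁ B.1) from (s i).app B.1 g) := sub_eq_zero.1 hrel
    obtain ⟨ci, hci⟩ := (hgM (t ⁻¹ᵁ B.1) le_rfl).2 (show Γ(l.M, t ⁻¹ᵁ B.1) from (s i).app B.1 g)
    simp only [PicLib.resM_self] at hci
    rw [← hci, smul_smul] at hr'
    have hv' : (show Γ(Z, t ⁻¹ᵁ B.1) from (prZ t i).app B.1 v) =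
        (show Γ(Z, t ⁻¹ᵁ B.1) from (prZ t b).app B.1 v) * ci := (hgM (t ⁻¹ᵁ B.1) le_rfl).1 (by
      simp only [PicLib.resM_self]
      exact hr')
    show l.ε.hom.app _ (tmul (c • e) (show Γ(l.M, t ⁻¹ᵁ B.1) from (s i).app B.1 g)) = _
    rw [← hci, tmul_smul_left, tmul_smul_right, Scheme.Modules.Hom.app_smul, Scheme.Modules.Hom.app_smul,
      smul_comm, hc]
    refine Eq.trans ?_ hv'.symm
    exact mul_comm ci _
  exact ⟨cokernel.desc f β hw, hex.mono_cokernelDesc⟩

/-- `H⁰` of twists of `Q ⊗ N` vanishes with that of the functions. -/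
theorem subsingleton_zero_pair {A : X.Modules} (hA : FlatMod.IsFinLocFree A)
    (h : Subsingleton (Coh.HH X (CohB1.tensorMod A ((Scheme.Modules.pushforward t).obj (Coh.structureModule Z))) 0)) :
    Subsingleton (Coh.HH X (CohB1.tensorMod A (CohB1.tensorMod Q ((Scheme.Modules.pushforward t).obj l.N))) 0) := by
  haveI := mono_pairLift t l s hQ hs
  haveI := mono_tensE_map hA (pairLift t l s)
  exact subsingleton_HH_zero_of_mono (tE A (pairLift t l s)) (subsingleton_HH_tensor_biproduct A _ 0 fun _ => h)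

/-- `H¹` of twists of `Q ⊗ Q ⊗ N` vanishes with that of the functions and `H⁰` of twists of `M`. -/
theorem subsingleton_one_pair {A : X.Modules} (hA : FlatMod.IsFinLocFree A)
    (h1 : Subsingleton (Coh.HH X (CohB1.tensorMod (CohB1.tensorMod A Q)
      ((Scheme.Modules.pushforward t).obj (Coh.structureModule Z))) 1))
    (h0 : Subsingleton (Coh.HH X (CohB1.tensorMod A ((Scheme.Modules.pushforward t).obj l.M)) 0)) :
    Subsingleton (Coh.HH X (CohB1.tensorMod A (CohB1.tensorMod Q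
      (CohB1.tensorMod Q ((Scheme.Modules.pushforward t).obj l.N)))) 1) := by
  haveI := mono_pairLift t l s hQ hs
  haveI := mono_tensE_map (Coherent.isFinLocFree_of_invertible hQ) (pairLift t l s)
  obtain ⟨γ, hγ⟩ := exists_mono_cokernel t l s hQ hs
  let f := tE Q (pairLift t l s)
  let S := ShortComplex.mk f (cokernel.π f) (cokernel.condition f)
  have hS : S.ShortExact :=
    { exact := ShortComplex.exact_of_g_is_cokernel _ (cokernelIsCokernel f), mono_f := ‹_›, epi_g := inferInstance }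
  haveI := mono_tensE_map hA γ
  refine subsingleton_left_succ (shortExact_tE hA hS) 0
    (subsingleton_HH_zero_of_mono (tE A γ) (subsingleton_HH_tensor_biproduct A _ 0 fun _ => h0)) ?_
  exact subsingleton_HH_iso ((tensECompIso A Q).app _) 1 (subsingleton_HH_tensor_biproduct _ _ 1 fun _ => h1)

end Groth.Agent.Lef23
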