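import Groth.Agent.Lef23.SpanHoms
import Groth.Agent.Lef23.LefCondition
import Groth.Agent.CohCmpLib.Compare
import Groth.Agent.ParaF29.Basic

/-!
# Algebraization of a formal invertible module near an ample divisor

From generating sections `t_a` of the twist of the formal module and `s_b` of the twist of its inverse, the products
give functions `φ_ab` with vanishing `2 × 2` minors. The image of the matrix `(φ_ab)` is the algebraization.
-/

set_option autoImplicit false
set_option linter.style.haveILetI false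
set_option backward.isDefEq.respectTransparency.types false

universe u

open CategoryTheory CategoryTheory.Limits AlgebraicGeometry Opposite TopologicalSpace
open Groth.Agent.Coherent Groth.Agent.PicLib Groth.Agent.AmpleLib Groth.Agent.EulerLib Groth.Agent.SerreDual

noncomputable section

namespace Groth.Agent.Lef23

attribute [local instance] hasFiniteBiproducts

variable {X : Scheme.{u}}

/-! ### Functions out of homomorphisms to `O` -/

/-- The value of a homomorphism to `O` as a function. -/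
def val {P : X.Modules} (f : P ⟶ Coh.structureModule X) {V : X.Opens} (x : Γ(P, V)) : Γ(X, V) := f.app V x

theorem val_smul {P : X.Modules} (f : P ⟶ Coh.structureModule X) {V : X.Opens} (r : Γ(X, V)) (x : Γ(P, V)) :
    val f (r • x) = r * val f x := Scheme.Modules.Hom.app_smul _ _ _

theorem val_res {P : X.Modules} (f : P ⟶ Coh.structureModule X) {U V : X.Opens} (h : V ≤ U) (x : Γ(P, U)) :
    val f (resM P h x) = PicLib.res h (val f x) := app_resM f h x

/-- The value on the square of a section. -/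
def cst {Q : X.Modules} (f : CohB1.tensorMod Q Q ⟶ Coh.structureModule X) {V : X.Opens} (g : Γ(Q, V)) : Γ(X, V) :=
  val f (tmul g g)

theorem cst_res {Q : X.Modules} (f : CohB1.tensorMod Q Q ⟶ Coh.structureModule X) {U V : X.Opens} (h : V ≤ U)
    (g : Γ(Q, U)) : cst f (resM Q h g) = PicLib.res h (cst f g) := by
  rw [cst, cst, ← resM_tmul, val_res]

/-- The product of two homomorphisms to `O`. -/
def prodBilin {A : X.Modules} (f g : A ⟶ Coh.structureModule X) : Bilin A A (Coh.structureModule X) where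
  app U x y := (actBilin f (Coh.structureModule X)).app U x (g.app U y)
  add_left U x x' y := (actBilin f (Coh.structureModule X)).add_left U x x' _
  add_right U x y y' := by rw [map_add]; exact (actBilin f (Coh.structureModule X)).add_right U x _ _
  smul_left U r x y := (actBilin f (Coh.structureModule X)).smul_left U r x _
  smul_right U r x y := by
    rw [Scheme.Modules.Hom.app_smul]; exact (actBilin f (Coh.structureModule X)).smul_right U r x _
  res U V h x y := by rw [(actBilin f (Coh.structureModule X)).res, app_resM]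

/-- A section of a finite sum is determined by its components. -/
theorem ext_biproduct {r : ℕ} (P : Fin r → X.Modules) {V : X.Opens} {x y : Γ(⨁ P, V)}
    (h : ∀ i, (biproduct.π P i).app V x = (biproduct.π P i).app V y) : x = y := by
  rw [← PicDef15.app_biproduct_total P V x, ← PicDef15.app_biproduct_total P V y]
  exact Finset.sum_congr rfl fun i _ => congrArg _ (h i)

/-- The value of a map out of a finite sum. -/
theorem app_desc {r : ℕ} {P : Fin r → X.Modules} {R : X.Modules} (f : ∀ i, P i ⟶ R) {V : X.Opens}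
    (x : Γ(⨁ P, V)) : (biproduct.desc f).app V x = ∑ i, (f i).app V ((biproduct.π P i).app V x) := by
  conv_lhs => rw [← PicDef15.app_biproduct_total P V x, map_sum]
  refine Finset.sum_congr rfl fun i _ => ?_
  rw [← ConcreteCategory.comp_apply, ← Scheme.Modules.Hom.comp_app, biproduct.ι_desc]

/-- Generators on the preimages of small opens. -/
theorem exists_gen_preimage {Z : Scheme.{u}} (t : Z ⟶ X) [IsClosedImmersion t] {N : Z.Modules}
    (hN : PicF.IsInvertible N) (y : X) :
    ∃ V : X.Opens, y ∈ V ∧ ∃ e : Γ(N, t ⁻¹ᵁ V), IsGen N (t ⁻¹ᵁ V) e := by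
  by_cases hy : y ∈ Set.range t
  · obtain ⟨z, rfl⟩ := hy
    obtain ⟨W, hzW, e, he⟩ := exists_isGen hN z
    obtain ⟨V₀, hV₀, heq⟩ := t.isEmbedding.isInducing.isOpen_iff.1 W.2
    exact ⟨⟨V₀, hV₀⟩, (show t z ∈ V₀ by have := heq.ge hzW; exact this), _, he.restrict fun w hw => heq.le hw⟩
  · exact ⟨⟨(Set.range t)ᶜ, t.isClosedEmbedding.isClosed_range.isOpen_compl⟩, hy, 0,
      isGen_of_eq_bot N (le_bot_iff.1 fun w hw => (show t w ∉ Set.range t from hw) ⟨w, rfl⟩) 0⟩

/-- Modules with local generators along an open immersion restrict to invertible modules. -/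
theorem isInvertible_restrict_of_gens {Y : Scheme.{u}} (j : Y ⟶ X) [IsOpenImmersion j] {L : X.Modules}
    (h : ∀ y : Y, ∃ N : X.Opens, j y ∈ N ∧ ∃ s : Γ(L, N), IsGen L N s) : PicF.IsInvertible (L.restrict j) := by
  refine isInvertible_of_gens fun y => ?_
  obtain ⟨N, hy, s, hs⟩ := h y
  refine ⟨j ⁻¹ᵁ N, hy, (L.restrictAppIso j _).inv (resM L (j.image_preimage_le N) s), fun W hW => ?_⟩
  have hb := hs (j ''ᵁ W) ((j.image_mono hW).trans (j.image_preimage_le N))
  have hb3 := ConcreteCategory.bijective_of_isIso (j.appIso W).inv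
  have hb2 := ConcreteCategory.bijective_of_isIso (L.restrictAppIso j W).hom
  refine (Function.Bijective.of_comp_iff' hb2 _).1 ?_
  convert hb.comp hb3 using 1
  funext r
  refine (Scheme.Modules.smul_restrictAppIso_hom_apply j L W r _).trans ?_
  show _ • _ = _ • _
  rw [← resM_resM L (j.image_preimage_le N) (j.image_mono hW) s]
  rfl

/-- The pullback of a generator is a generator once the pullback is invertible. -/
theorem isGen_pullSec_of {T : Scheme.{u}} (σ : T ⟶ X) {L : X.Modules} {U : X.Opens} {g : Γ(L, U)}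
    (hg : IsGen L U g) (hL : PicF.IsInvertible ((Scheme.Modules.pullback σ).obj L)) :
    IsGen ((Scheme.Modules.pullback σ).obj L) (σ ⁻¹ᵁ U) (pullSec σ g) := by
  obtain ⟨W, z, hmem, hz⟩ := exists_cover hL
  refine isGen_of_cover (fun y => (σ ⁻¹ᵁ U) ⊓ W y) (fun y => inf_le_left)
    (fun y hy => Opens.mem_iSup.2 ⟨y, hy, hmem y⟩) fun y => ?_
  have h1 := (hz y).coef_spec inf_le_right (resM _ (inf_le_left : (σ ⁻¹ᵁ U) ⊓ W y ≤ σ ⁻¹ᵁ U) (pullSec σ g))
  obtain ⟨w, hw⟩ := isUnit_of_pullSec_eq_smul σ hg inf_le_left h1.symm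
  rw [← h1, ← hw]
  exact ((hz y).restrict inf_le_right).smul_unit w

/-- A generator of the functions is a unit. -/
theorem isUnit_of_isGen_O {Z : Scheme.{u}} {U : Z.Opens} (c : Γ(Z, U))
    (hc : IsGen (Coh.structureModule Z) U (show Γ(Coh.structureModule Z, U) from c)) : IsUnit c := by
  obtain ⟨r, hr⟩ := (hc U le_rfl).2 (show Γ(Coh.structureModule Z, U) from (1 : Γ(Z, U)))
  simp only [PicLib.resM_self] at hr
  exact IsUnit.of_mul_eq_one r ((mul_comm c r).trans hr)

/-! ### The products of two systems -/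

variable {𝓘 : X.IdealSheafData} [IsLocallyNoetherian X] (T : Tower 𝓘) {Q : X.Modules}

/-- The product of two maps into a level of the two systems. -/
def zBilin (m : ℕ) (u : Q ⟶ T.sysN.P m) (v : Q ⟶ T.sysM.P m) : Bilin Q Q (ClSub.quotMod (𝓘 ^ (m + 1))) where
  app U x y := (T.π m).app U (u.app U x) (v.app U y)
  add_left U x x' y := by rw [map_add]; exact (T.π m).add_left U _ _ _
  add_right U x y y' := by rw [map_add]; exact (T.π m).add_right U _ _ _
  smul_left U r x y := by rw [Scheme.Modules.Hom.app_smul]; exact (T.π m).smul_left U r _ _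
  smul_right U r x y := by rw [Scheme.Modules.Hom.app_smul]; exact (T.π m).smul_right U r _ _
  res U V h x y := by rw [(T.π m).res, app_resM, app_resM]

theorem zBilin_compat (u : ∀ m, Q ⟶ T.sysN.P m) (v : ∀ m, Q ⟶ T.sysM.P m)
    (hu : ∀ m, u (m + 1) ≫ T.sysN.q m = u m) (hv : ∀ m, v (m + 1) ≫ T.sysM.q m = v m) :
    Lef.IsFormalHom 𝓘 (CohB1.tensorMod Q Q) fun m => (zBilin T m (u m) (v m)).desc := fun m => by
  refine AmpleLib.hom_ext fun U x y => ?_
  show (Lef.quotMap (Lef.pow_succ_le 𝓘 m)).app U ((zBilin T (m + 1) (u (m + 1)) (v (m + 1))).desc.app U (tmul x y)) = _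
  rw [Bilin.desc_tmul, Bilin.desc_tmul]
  show (Lef.quotMap (Lef.pow_succ_le 𝓘 m)).app U ((T.π (m + 1)).app U _ _) = (T.π m).app U _ _
  rw [T.π_compat, ← hu m, ← hv m]
  rfl

/-- The products at a level in terms of generators. -/
theorem subscheme_cst (m : ℕ) {B : X.Opens} (g : Γ(Q, B))
    (f : CohB1.tensorMod Q Q ⟶ Coh.structureModule X) (u : Q ⟶ T.sysN.P m) (v : Q ⟶ T.sysM.P m)
    (hf : f ≫ ClSub.toSubscheme (𝓘 ^ (m + 1)) = (zBilin T m u v).desc) :
    (𝓘 ^ (m + 1)).subschemeι.app B (cst f g) = (T.level m).pair ((𝓘 ^ (m + 1)).subschemeι ⁻¹ᵁ B)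
      (show Γ((T.level m).N, (𝓘 ^ (m + 1)).subschemeι ⁻¹ᵁ B) from u.app B g)
      (show Γ((T.level m).M, (𝓘 ^ (m + 1)).subschemeι ⁻¹ᵁ B) from v.app B g) := by
  have h := congrArg (fun h => h.app B (tmul g g)) hf
  simp only [Bilin.desc_tmul] at h
  exact h

theorem Level.pair_smul {Z : Scheme.{u}} (l : Level Z) (U : Z.Opens) (r r' : Γ(Z, U)) (a : Γ(l.N, U))
    (b : Γ(l.M, U)) : l.pair U (r • a) (r' • b) = r * (r' * l.pair U a b) := by
  show l.ε.hom.app U (tmul (r • a) (r' • b)) = _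
  rw [tmul_smul_left, tmul_smul_right, Scheme.Modules.Hom.app_smul, Scheme.Modules.Hom.app_smul]
  rfl

/-! ### Vanishing of the minors -/

variable (k : Type u) [Field k] [X.Over (Spec (CommRingCat.of k))] [IsProper (X ↘ Spec (CommRingCat.of k))]
  {L : X.Modules} (hL : ClSub.IsInverseOf L (ClSub.idealMod 𝓘)) (hamp : CohB1.IsAmple L) (hgood : Good k 𝓘)

include hgood in
theorem fibreDepthTwo_of_good : FibreDepthTwo k X := by
  haveI : Subsingleton ↥(Spec (CommRingCat.of k)) := inferInstanceAs (Subsingleton (PrimeSpectrum k))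
  haveI : Flat (X ↘ Spec (CommRingCat.of k)) := inferInstance
  intro x hx
  rw [depth_fiberStalk_of_field]
  exact hgood.1 x (isClosed_singleton_of_fibre _ x hx)

include hL hamp hgood in
theorem minors (hQ : PicF.IsInvertible Q) {r r' : ℕ} (u : Fin r → ∀ m, Q ⟶ T.sysN.P m)
    (v : Fin r' → ∀ m, Q ⟶ T.sysM.P m) (φ : Fin r → Fin r' → (CohB1.tensorMod Q Q ⟶ Coh.structureModule X))
    (hφ : ∀ a b m, φ a b ≫ ClSub.toSubscheme (𝓘 ^ (m + 1)) = (zBilin T m (u a m) (v b m)).desc)
    (a c : Fin r) (b d : Fin r') {B : X.Opens} (g : Γ(Q, B)) :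
    cst (φ a b) g * cst (φ c d) g = cst (φ a d) g * cst (φ c b) g := by
  have hQ2 := isInvertible_tensorMod hQ hQ
  let Δ := (prodBilin (φ a b) (φ c d)).desc - (prodBilin (φ a d) (φ c b)).desc
  have hΔ : Δ = 0 := by
    refine (bijective_formal (A := k) 𝓘 hL hamp (fibreDepthTwo_of_good k hgood)
      (isInvertible_tensorMod hQ2 hQ2)).1 Δ fun m => ?_
    let ι := (𝓘 ^ (m + 1)).subschemeι
    choose V₁ hV₁ g₁ hg₁ using fun y : X => exists_isGen hQ y
    choose V₂ hV₂ e he using fun y : X => exists_gen_preimage ι (T.level m).hN y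
    choose V₃ hV₃ e' he' using fun y : X => exists_gen_preimage ι (T.level m).hM y
    let W : X → X.Opens := fun y => V₁ y ⊓ V₂ y ⊓ V₃ y
    have h₁ : ∀ y, W y ≤ V₁ y := fun y => inf_le_left.trans inf_le_left
    refine hom_ext_gen W (top_le_iff.1 fun y _ => Opens.mem_iSup.2 ⟨y, ⟨hV₁ y, hV₂ y⟩, hV₃ y⟩) _
      (fun y => isGen_tmul (isGen_tmul ((hg₁ y).restrict (h₁ y)) ((hg₁ y).restrict (h₁ y)))
        (isGen_tmul ((hg₁ y).restrict (h₁ y)) ((hg₁ y).restrict (h₁ y)))) _ _ fun y => ?_
    let g' := resM Q (h₁ y) (g₁ y)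
    have hN := (he y).restrict (ι.preimage_mono (show W y ≤ V₂ y from inf_le_left.trans inf_le_right))
    have hM := (he' y).restrict (ι.preimage_mono (show W y ≤ V₃ y from inf_le_right))
    choose α hα using fun a => (hN (ι ⁻¹ᵁ W y) le_rfl).2
      (show Γ((T.level m).N, ι ⁻¹ᵁ W y) from (u a m).app (W y) g')
    choose β hβ using fun b => (hM (ι ⁻¹ᵁ W y) le_rfl).2
      (show Γ((T.level m).M, ι ⁻¹ᵁ W y) from (v b m).app (W y) g')
    simp only [PicLib.resM_self] at hα hβ
    have key : ∀ a b, ι.app (W y) (cst (φ a b) g') =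
        α a * (β b * (T.level m).pair (ι ⁻¹ᵁ W y) (resM _ (ι.preimage_mono (inf_le_left.trans inf_le_right)) (e y))
          (resM _ (ι.preimage_mono inf_le_right) (e' y))) := fun a b => by
      rw [← Level.pair_smul, hα, hβ]
      exact subscheme_cst T m g' _ _ _ (hφ a b m)
    show ι.app (W y) (val Δ (tmul (tmul g' g') (tmul g' g'))) = (0 : Γ(Zs 𝓘 m, ι ⁻¹ᵁ W y))
    have hval : val Δ (tmul (tmul g' g') (tmul g' g')) =
        cst (φ a b) g' * cst (φ c d) g' - cst (φ a d) g' * cst (φ c b) g' := by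
      show (prodBilin (φ a b) (φ c d)).desc.app _ _ - (prodBilin (φ a d) (φ c b)).desc.app _ _ = _
      rw [Bilin.desc_tmul, Bilin.desc_tmul]
      rfl
    rw [hval, map_sub, map_mul, map_mul, key, key, key, key]
    ring
  have h := congrArg (fun f => val f (tmul (tmul g g) (tmul g g))) hΔ
  refine sub_eq_zero.1 (Eq.trans ?_ h)
  show _ = (prodBilin (φ a b) (φ c d)).desc.app _ _ - (prodBilin (φ a d) (φ c b)).desc.app _ _
  rw [Bilin.desc_tmul, Bilin.desc_tmul]
  rfl

/-! ### The algebraization -/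

include hL hamp hgood in
/-- The twisted sections and their algebraized products. -/
theorem exists_products : ∃ (j r r' : ℕ)
    (t : Fin r → (Qp 𝓘 j ⟶ (Scheme.Modules.pushforward (𝓘 ^ (0 + 1)).subschemeι).obj (T.level 0).N))
    (s : Fin r' → (Qp 𝓘 j ⟶ (Scheme.Modules.pushforward (𝓘 ^ (0 + 1)).subschemeι).obj (T.level 0).M))
    (φ : Fin r → Fin r' → (CohB1.tensorMod (Qp 𝓘 j) (Qp 𝓘 j) ⟶ Coh.structureModule X)),
    Spans (𝓘 ^ (0 + 1)).subschemeι (T.level 0).N t ∧ Spans (𝓘 ^ (0 + 1)).subschemeι (T.level 0).M s ∧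
    (∀ a b {B : X.Opens} (g : Γ(Qp 𝓘 j, B)), (𝓘 ^ (0 + 1)).subschemeι.app B (cst (φ a b) g) =
      (T.level 0).pair ((𝓘 ^ (0 + 1)).subschemeι ⁻¹ᵁ B)
        (show Γ((T.level 0).N, (𝓘 ^ (0 + 1)).subschemeι ⁻¹ᵁ B) from (t a).app B g)
        (show Γ((T.level 0).M, (𝓘 ^ (0 + 1)).subschemeι ⁻¹ᵁ B) from (s b).app B g)) ∧
    ∀ a c b d {B : X.Opens} (g : Γ(Qp 𝓘 j, B)),
      cst (φ a b) g * cst (φ c d) g = cst (φ a d) g * cst (φ c b) g := by
  haveI : CompactSpace X := QuasiCompact.compactSpace_of_compactSpace (X ↘ Spec (CommRingCat.of k))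
  let ι := (𝓘 ^ (0 + 1)).subschemeι
  let l := T.level 0
  have hI : BlowUp.IsEffCartierIdeal 𝓘 := (Groth.Agent.S8914.result 𝓘).1 (isInvertible_inverse hamp.1 hL)
  obtain ⟨N₁, hN₁⟩ := exists_spans hL hamp ι l.hN
  obtain ⟨N₂, hN₂⟩ := exists_spans hL hamp ι l.hM
  obtain ⟨J, hJ⟩ := exists_lift_homs hL hamp k hgood hI T.sysN (exists_vanish_one hL hamp k hgood l)
  let l' : Level (Zs 𝓘 0) := ⟨l.M, l.N, l.hM, l.hN, AmpleLib.tensorComm _ _ ≪≫ l.ε⟩
  obtain ⟨J', hJ'⟩ := exists_lift_homs hL hamp k hgood hI T.sysM (exists_vanish_one hL hamp k hgood l')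
  let j := N₁ + N₂ + J + J'
  obtain ⟨r, t, ht⟩ := hN₁ j (by omega)
  obtain ⟨r', s, hs⟩ := hN₂ j (by omega)
  choose u hu0 hu using fun a => hJ j (by omega) (t a)
  choose v hv0 hv using fun b => hJ' j (by omega) (s b)
  have hQ := isInvertible_Qp hL hamp j
  choose φ hφ using fun a b => (bijective_formal (A := k) 𝓘 hL hamp (fibreDepthTwo_of_good k hgood)
    (isInvertible_tensorMod hQ hQ)).2 _ (zBilin_compat T (u a) (v b) (hu a) (hv b))
  refine ⟨j, r, r', t, s, φ, ht, hs, fun a b B g => ?_, fun a c b d B g => minors T k hL hamp hgood hQ u v φ hφ a c b d g⟩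
  rw [← hu0 a, ← hv0 b]
  exact subscheme_cst T 0 g _ _ _ (hφ a b 0)

end Groth.Agent.Lef23
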