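import Groth.Agent.Lef23.PicAlgebraize

/-!
# The image of a matrix of rank one

`coimage` of `(φ_ab)` with vanishing minors is invertible where some entry is invertible, and restricts to the
given module on the divisor.
-/

set_option autoImplicit false
set_option linter.style.haveILetI false
set_option backward.isDefEq.respectTransparency.types false

universe u

open CategoryTheory CategoryTheory.Limits AlgebraicGeometry Opposite TopologicalSpace
open Groth.Agent.Coherent Groth.Agent.PicLib Groth.Agent.AmpleLib Groth.Agent.EulerLib Groth.Agent.SerreDual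

noncomputable section

namespace Groth.Agent.Lef23

attribute [local instance] hasFiniteBiproducts

variable {X : Scheme.{u}} {Q : X.Modules} {r r' : ℕ}

/-- The homomorphism of sums with the given entries. -/
def mat (φ : Fin r → Fin r' → (CohB1.tensorMod Q Q ⟶ Coh.structureModule X)) :
    (⨁ fun _ : Fin r => CohB1.tensorMod Q Q) ⟶ ⨁ fun _ : Fin r' => Coh.structureModule X :=
  biproduct.desc fun a => biproduct.lift fun b => φ a b

/-- The projections from the sum of copies of `O`. -/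
abbrev prO (d : Fin r') : (⨁ fun _ : Fin r' => Coh.structureModule X) ⟶ Coh.structureModule X :=
  biproduct.π (fun _ : Fin r' => Coh.structureModule X) d

/-- The inclusions of the summands. -/
abbrev inQ (a : Fin r) : CohB1.tensorMod Q Q ⟶ ⨁ fun _ : Fin r => CohB1.tensorMod Q Q :=
  biproduct.ι (fun _ : Fin r => CohB1.tensorMod Q Q) a

variable (φ : Fin r → Fin r' → (CohB1.tensorMod Q Q ⟶ Coh.structureModule X))

theorem mat_pr (d : Fin r') : mat φ ≫ prO d = biproduct.desc fun a => φ a d :=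
  biproduct.hom_ext' _ _ fun a => by
    rw [mat, biproduct.ι_desc_assoc, biproduct.lift_π, biproduct.ι_desc]

/-- The components on the image. -/
def cmp (d : Fin r') : Abelian.coimage (mat φ) ⟶ Coh.structureModule X := Abelian.factorThruCoimage (mat φ) ≫ prO d

theorem π_cmp (d : Fin r') : Abelian.coimage.π (mat φ) ≫ cmp φ d = biproduct.desc fun a => φ a d := by
  rw [cmp, ← Category.assoc, Abelian.coimage.fac, mat_pr]

/-- The opens where some entry is invertible. -/
def unitLocus : X.Opens :=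
  ⨆ (a : Fin r) (b : Fin r') (B : X.Opens) (g : Γ(Q, B)) (_ : IsGen Q B g), X.basicOpen (cst (φ a b) g)

theorem mem_unitLocus {y : X} :
    y ∈ unitLocus φ ↔ ∃ a b, ∃ (B : X.Opens) (g : Γ(Q, B)), IsGen Q B g ∧ y ∈ X.basicOpen (cst (φ a b) g) := by
  simp only [unitLocus, Opens.mem_iSup, exists_prop]

/-- The section of the image given by a product. -/
def genC (a : Fin r) (b : Fin r') {B : X.Opens} (g : Γ(Q, B)) :
    Γ(Abelian.coimage (mat φ), X.basicOpen (cst (φ a b) g)) :=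
  resM (Abelian.coimage (mat φ)) (X.basicOpen_le _) ((inQ a ≫ Abelian.coimage.π (mat φ)).app B (tmul g g))

theorem isUnit_cst_res (a : Fin r) (b : Fin r') {B V : X.Opens} (g : Γ(Q, B)) (hV : V ≤ X.basicOpen (cst (φ a b) g)) :
    IsUnit (cst (φ a b) (resM Q (hV.trans (X.basicOpen_le _)) g)) := by
  rw [cst_res, show PicLib.res (hV.trans (X.basicOpen_le _)) (cst (φ a b) g) =
    PicLib.res hV (PicLib.res (X.basicOpen_le (cst (φ a b) g)) (cst (φ a b) g)) from (PicLib.res_res _ _ _).symm]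
  exact (RingedSpace.isUnit_res_basicOpen _ (cst (φ a b) g)).map (X.presheaf.map (homOfLE hV).op).hom

theorem val_cmp_genC (a : Fin r) (b d : Fin r') {B V : X.Opens} (g : Γ(Q, B)) (hV : V ≤ X.basicOpen (cst (φ a b) g)) :
    val (cmp φ d) (resM _ hV (genC φ a b g)) = cst (φ a d) (resM Q (hV.trans (X.basicOpen_le _)) g) := by
  rw [genC, cst_res, resM_resM, val_res]
  refine congrArg _ ?_
  show ((inQ a ≫ Abelian.coimage.π (mat φ)) ≫ cmp φ d).app B (tmul g g) = _
  rw [Category.assoc, π_cmp, biproduct.ι_desc]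
  rfl

variable (hmin : ∀ a c b d {B : X.Opens} (g : Γ(Q, B)),
  cst (φ a b) g * cst (φ c d) g = cst (φ a d) g * cst (φ c b) g)

include hmin in
/-- Proportionality of the components. -/
theorem cst_mul_cmp (a : Fin r) (b d : Fin r') {B V : X.Opens} {g : Γ(Q, B)} (hg : IsGen Q B g) (hV : V ≤ B)
    (z : Γ(Abelian.coimage (mat φ), V)) :
    cst (φ a b) (resM Q hV g) * val (cmp φ d) z = cst (φ a d) (resM Q hV g) * val (cmp φ b) z := by
  refine sec_ext (Coh.structureModule X) (show Γ(Coh.structureModule X, V) from _) _ fun y hy => ?_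
  let S := ShortComplex.mk (Abelian.coimage.π (mat φ)) (0 : Abelian.coimage (mat φ) ⟶ Abelian.coimage (mat φ)) comp_zero
  have hS : S.Exact := (S.exact_iff_epi rfl).2 (inferInstanceAs (Epi (Abelian.coimage.π (mat φ))))
  obtain ⟨W, hWV, hyW, x, hx⟩ := CohCmpLib.exists_local_preimage_of_exact S hS V z rfl y hy
  refine ⟨W, hWV, hyW, ?_⟩
  show PicLib.res hWV (_ * _) = PicLib.res hWV (_ * _)
  have hgW := hg.restrict (hWV.trans hV)
  choose c hc' using fun e => (isGen_tmul hgW hgW W le_rfl).2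
    ((biproduct.π (fun _ : Fin r => CohB1.tensorMod Q Q) e).app W x)
  simp only [PicLib.resM_self] at hc'
  have hz : ∀ d, PicLib.res hWV (val (cmp φ d) z) = ∑ e, c e * cst (φ e d) (resM Q (hWV.trans hV) g) := fun d => by
    rw [← val_res, ← hx]
    show (Abelian.coimage.π (mat φ) ≫ cmp φ d).app W x = _
    rw [π_cmp, app_desc]
    refine Finset.sum_congr rfl fun e _ => ?_
    show val (φ e d) _ = _
    rw [← hc' e, val_smul]
    rfl
  rw [map_mul, map_mul, hz, hz, ← cst_res, ← cst_res, resM_resM, Finset.mul_sum, Finset.mul_sum]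
  refine Finset.sum_congr rfl fun e _ => ?_
  rw [mul_left_comm, hmin a e b d, mul_left_comm]

include hmin in
theorem isGen_genC (a : Fin r) (b : Fin r') {B : X.Opens} {g : Γ(Q, B)} (hg : IsGen Q B g) :
    IsGen (Abelian.coimage (mat φ)) (X.basicOpen (cst (φ a b) g)) (genC φ a b g) := fun V hV => by
  have hVB : V ≤ B := hV.trans (X.basicOpen_le _)
  have he0 := fun d => val_cmp_genC φ a b d g hV
  have hc : IsUnit (cst (φ a b) (resM Q hVB g)) := isUnit_cst_res φ a b g hV
  refine ⟨fun x x' hxx => hc.mul_left_injective ?_, fun z => ?_⟩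
  · have h := congrArg (val (cmp φ b)) hxx
    rw [val_smul, val_smul, he0] at h
    exact h
  obtain ⟨w, hw⟩ := hc
  refine ⟨(↑w⁻¹ : Γ(X, V)) * val (cmp φ b) z,
    app_injective_of_mono (Abelian.factorThruCoimage (mat φ)) V (ext_biproduct _ fun d => ?_)⟩
  show val (cmp φ d) _ = val (cmp φ d) z
  refine (val_smul _ _ _).trans ?_
  rw [he0]
  calc (↑w⁻¹ : Γ(X, V)) * val (cmp φ b) z * cst (φ a d) (resM Q hVB g)
      = ↑w⁻¹ * (cst (φ a d) (resM Q hVB g) * val (cmp φ b) z) := by ring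
    _ = ↑w⁻¹ * (↑w * val (cmp φ d) z) := by rw [← cst_mul_cmp φ hmin a b d hg hVB z, hw]
    _ = val (cmp φ d) z := by rw [← mul_assoc, Units.inv_mul, one_mul]

include hmin in
theorem isInvertible_unitLocus : PicF.IsInvertible ((Abelian.coimage (mat φ)).restrict (unitLocus φ).ι) := by
  refine isInvertible_restrict_of_gens (unitLocus φ).ι fun y => ?_
  obtain ⟨a, b, B, g, hg, hy⟩ := (mem_unitLocus φ).1 y.2
  exact ⟨_, hy, _, isGen_genC φ hmin a b hg⟩

/-! ### Restriction to the divisor -/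

variable {Z : Scheme.{u}} (ι : Z ⟶ X) (l : Level Z) (t : Fin r → (Q ⟶ (Scheme.Modules.pushforward ι).obj l.N))
  (s : Fin r' → (Q ⟶ (Scheme.Modules.pushforward ι).obj l.M))

theorem pullSec_add' {U : X.Opens} (x y : Γ(Q, U)) : pullSec ι (x + y) = pullSec ι x + pullSec ι y :=
  map_add (Scheme.Modules.Hom.app ((Scheme.Modules.pullbackPushforwardAdjunction ι).unit.app Q) U).hom x y

/-- The twisted sections as products. -/
def colBilin (a : Fin r) : Bilin Q Q
    ((Scheme.Modules.pushforward ι).obj (CohB1.tensorMod ((Scheme.Modules.pullback ι).obj Q) l.N)) where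
  app V x y := (show Γ(CohB1.tensorMod ((Scheme.Modules.pullback ι).obj Q) l.N, ι ⁻¹ᵁ V) from
    tmul (pullSec ι y) (show Γ(l.N, ι ⁻¹ᵁ V) from (t a).app V x))
  add_left V x x' y := by rw [map_add]; exact tmul_add_right _ _ _
  add_right V x y y' := by rw [pullSec_add']; exact tmul_add_left _ _ _
  smul_left V c x y := by
    rw [Scheme.Modules.Hom.app_smul]
    exact tmul_smul_right (ι.app V c) (pullSec ι y) (show Γ(l.N, ι ⁻¹ᵁ V) from (t a).app V x)
  smul_right V c x y := by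
    rw [pullSec_smul]
    exact tmul_smul_left (ι.app V c) (pullSec ι y) (show Γ(l.N, ι ⁻¹ᵁ V) from (t a).app V x)
  res W V h x y := by
    show resM (CohB1.tensorMod ((Scheme.Modules.pullback ι).obj Q) l.N) (ι.preimage_mono h) _ = _
    rw [resM_tmul, ← resM_pullSec, app_resM]
    rfl

/-- The map to the direct image. -/
def toDiv : (⨁ fun _ : Fin r => CohB1.tensorMod Q Q) ⟶
    (Scheme.Modules.pushforward ι).obj (CohB1.tensorMod ((Scheme.Modules.pullback ι).obj Q) l.N) :=
  biproduct.desc fun a => (colBilin ι l t a).desc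

variable [IsClosedImmersion ι] (hQ : PicF.IsInvertible Q) (hs : Spans ι l.M s)
  (h0 : ∀ a b {B : X.Opens} (g : Γ(Q, B)), ι.app B (cst (φ a b) g) =
    l.pair (ι ⁻¹ᵁ B) (show Γ(l.N, ι ⁻¹ᵁ B) from (t a).app B g) (show Γ(l.M, ι ⁻¹ᵁ B) from (s b).app B g))

include hQ hs h0 in
theorem kernel_toDiv : kernel.ι (mat φ) ≫ toDiv ι l t = 0 := by
  refine Scheme.Modules.hom_ext _ _ fun V => ConcreteCategory.hom_ext _ _ fun x => ?_
  refine sec_ext _ _ _ fun y hy => ?_
  obtain ⟨B, hyB, hBV, g, hg, hcase⟩ := exists_pair_nice ι l s hQ hs hy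
  refine ⟨B.1, hBV, hyB, ?_⟩
  rw [← app_resM, ← app_resM]
  rcases hcase with hbot | ⟨b, e, he, hgM⟩
  · exact eq_of_preimage_bot ι hbot _ _
  let x' := (kernel.ι (mat φ)).app B.1 (resM _ hBV x)
  choose c hc using fun a => (isGen_tmul hg hg B.1 le_rfl).2
    ((biproduct.π (fun _ : Fin r => CohB1.tensorMod Q Q) a).app B.1 x')
  choose α hα using fun a => (he (ι ⁻¹ᵁ B.1) le_rfl).2 (show Γ(l.N, ι ⁻¹ᵁ B.1) from (t a).app B.1 g)
  simp only [PicLib.resM_self] at hc hα
  have h1 : ∑ a, c a * cst (φ a b) g = 0 := by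
    have h2 : (mat φ ≫ prO b).app B.1 x' = 0 := by
      show (prO b).app B.1 ((mat φ).app B.1 ((kernel.ι (mat φ)).app B.1 _)) = 0
      rw [kernel_ι_app_zero, map_zero]
    rw [mat_pr, app_desc] at h2
    refine Eq.trans (Finset.sum_congr rfl fun a _ => ?_) h2
    show _ = val (φ a b) _
    rw [← hc a, val_smul]
    rfl
  have hp : IsUnit (l.pair (ι ⁻¹ᵁ B.1) e (show Γ(l.M, ι ⁻¹ᵁ B.1) from (s b).app B.1 g)) :=
    isUnit_of_isGen_O _ (isGen_map_iso l.ε (isGen_tmul he hgM))
  have h3 : ∑ a, ι.app B.1 (c a) * α a = 0 := by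
    refine hp.mul_left_eq_zero.1 ?_
    have h4 := congrArg (ι.app B.1) h1
    rw [map_sum, map_zero] at h4
    refine Eq.trans ?_ h4
    rw [Finset.sum_mul]
    refine Finset.sum_congr rfl fun a _ => ?_
    rw [map_mul, h0, ← hα a]
    have h5 := Level.pair_smul l (ι ⁻¹ᵁ B.1) (α a) 1 e (show Γ(l.M, ι ⁻¹ᵁ B.1) from (s b).app B.1 g)
    rw [one_smul, one_mul] at h5
    rw [h5, mul_assoc]
  show (toDiv ι l t).app B.1 x' = 0
  rw [toDiv, app_desc]
  have h6 : ∀ a, (colBilin ι l t a).desc.app B.1 ((biproduct.π (fun _ : Fin r => CohB1.tensorMod Q Q) a).app B.1 x') =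
      (show Γ(CohB1.tensorMod ((Scheme.Modules.pullback ι).obj Q) l.N, ι ⁻¹ᵁ B.1) from
        (ι.app B.1 (c a) * α a) • tmul (pullSec ι g) e) := fun a => by
    rw [← hc a, Scheme.Modules.Hom.app_smul, Bilin.desc_tmul]
    show ι.app B.1 (c a) • tmul (pullSec ι g) (show Γ(l.N, ι ⁻¹ᵁ B.1) from (t a).app B.1 g) = _
    rw [← hα a, tmul_smul_right, smul_smul]
  rw [Finset.sum_congr rfl fun a _ => h6 a]
  show ∑ a, (ι.app B.1 (c a) * α a) • tmul (pullSec ι g) e =
    (0 : Γ(CohB1.tensorMod ((Scheme.Modules.pullback ι).obj Q) l.N, ι ⁻¹ᵁ B.1))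
  rw [← Finset.sum_smul, h3, zero_smul]

include hQ hs h0 hmin in
theorem nonempty_pullback_coimage (ht : Spans ι l.N t) :
    Set.range ι ⊆ (unitLocus φ : Set X) ∧
      Nonempty ((Scheme.Modules.pullback ι).obj (Abelian.coimage (mat φ)) ≅
        CohB1.tensorMod ((Scheme.Modules.pullback ι).obj Q) l.N) := by
  have hpt : ∀ z : Z, ∃ (a : Fin r) (b : Fin r') (B : X.Opens) (g : Γ(Q, B)),
      z ∈ ι ⁻¹ᵁ X.basicOpen (cst (φ a b) g) ∧ IsGen Q B g ∧
      IsGen l.N (ι ⁻¹ᵁ B) (show Γ(l.N, ι ⁻¹ᵁ B) from (t a).app B g) := fun z => by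
    obtain ⟨a, B₁, hz₁, g₁, hg₁, hgN⟩ := ht z
    obtain ⟨b, B₂, hz₂, g₂, hg₂, hgM⟩ := hs z
    let B := B₁.1 ⊓ B₂.1
    have h₁ : B ≤ B₁.1 := inf_le_left
    have h₂ : B ≤ B₂.1 := inf_le_right
    have hgB := hg₁.restrict h₁
    have hN : IsGen l.N (ι ⁻¹ᵁ B) (show Γ(l.N, ι ⁻¹ᵁ B) from (t a).app B (resM Q h₁ g₁)) := by
      rw [app_resM]
      exact hgN.restrict (ι.preimage_mono h₁)
    obtain ⟨w, hw⟩ := (hg₂.restrict h₂).isUnit_coef hgB
    have hgeq : resM Q h₁ g₁ = (w : Γ(X, B)) • resM Q h₂ g₂ := by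
      rw [hw]
      have := (hg₂.restrict h₂).coef_spec le_rfl (resM Q h₁ g₁)
      simp only [PicLib.resM_self] at this
      exact this.symm
    have hM : IsGen l.M (ι ⁻¹ᵁ B) (show Γ(l.M, ι ⁻¹ᵁ B) from (s b).app B (resM Q h₁ g₁)) := by
      rw [hgeq, Scheme.Modules.Hom.app_smul, app_resM]
      exact (hgM.restrict (ι.preimage_mono h₂)).smul_unit (Units.map (ι.app B).hom.toMonoidHom w)
    refine ⟨a, b, B, resM Q h₁ g₁, ?_, hgB, hN⟩
    rw [Scheme.preimage_basicOpen, Scheme.basicOpen_of_isUnit]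
    · exact ⟨hz₁, hz₂⟩
    · rw [h0]
      exact isUnit_of_isGen_O _ (isGen_map_iso l.ε (isGen_tmul hN hM))
  choose a b B g hz hg hN using hpt
  have hU : Set.range ι ⊆ (unitLocus φ : Set X) := by
    rintro _ ⟨z, rfl⟩
    exact (mem_unitLocus φ).2 ⟨_, _, _, _, hg z, hz z⟩
  refine ⟨hU, ?_⟩
  let R := (Scheme.Modules.pushforward ι).obj (CohB1.tensorMod ((Scheme.Modules.pullback ι).obj Q) l.N)
  let τ' : Abelian.coimage (mat φ) ⟶ R := cokernel.desc (kernel.ι (mat φ)) (toDiv ι l t) (kernel_toDiv φ ι l t s hQ hs h0)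
  have hπτ : Abelian.coimage.π (mat φ) ≫ τ' = toDiv ι l t := cokernel.π_desc _ _ _
  let χ := ((Scheme.Modules.pullbackPushforwardAdjunction ι).homEquiv _ _).symm τ'
  let j₀ : Z ⟶ unitLocus φ := IsOpenImmersion.lift (unitLocus φ).ι ι (by rwa [Scheme.Opens.range_ι])
  have hj₀ : j₀ ≫ (unitLocus φ).ι = ι := IsOpenImmersion.lift_fac _ _ _
  have hM0 : PicF.IsInvertible ((Scheme.Modules.pullback ι).obj (Abelian.coimage (mat φ))) :=
    ParaF29.isInvertible_of_iso
      ((Scheme.Modules.pullback j₀).mapIso ((Scheme.Modules.restrictFunctorIsoPullback (unitLocus φ).ι).app _) ≪≫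
        (Scheme.Modules.pullbackComp j₀ (unitLocus φ).ι).app _ ≪≫ (Scheme.Modules.pullbackCongr hj₀).app _)
      (PicLoc.isInvertible_pullback j₀ (isInvertible_unitLocus φ hmin))
  haveI : IsIso χ := by
    refine PicLib.isIso_of_gens χ (fun z => ι ⁻¹ᵁ X.basicOpen (cst (φ (a z) (b z)) (g z)))
      (top_le_iff.1 fun z _ => Opens.mem_iSup.2 ⟨z, hz z⟩)
      (fun z => pullSec ι (genC φ (a z) (b z) (g z)))
      (fun z => isGen_pullSec_of ι (isGen_genC φ hmin _ _ (hg z)) hM0) fun z => ?_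
    rw [homEquiv_symm_app_pullSec, genC, app_resM]
    have hval : τ'.app (B z) ((inQ (a z) ≫ Abelian.coimage.π (mat φ)).app (B z)
        (tmul (g z) (g z))) = (colBilin ι l t (a z)).app (B z) (g z) (g z) := by
      rw [← ConcreteCategory.comp_apply, ← Scheme.Modules.Hom.comp_app, Category.assoc, hπτ, toDiv,
        biproduct.ι_desc, Bilin.desc_tmul]
    rw [hval]
    exact (isGen_tmul (isGen_pullSec ι (hg z) hQ) (hN z)).restrict (ι.preimage_mono (X.basicOpen_le _))
  exact ⟨asIso χ⟩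

end Groth.Agent.Lef23
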