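import Groth.Agent.Lef23.PicExtend
import Groth.Agent.Lef23.PicLift
import Groth.Agent.PicH127.Seq
import Groth.Agent.S2821
import Groth.Agent.S2834
import Groth.Agent.S3353
import Groth.Agent.S7188
import Groth.Prelude.Def_LefX
import Groth.Prelude.Def_Formal2
import Groth.Prelude.Def_SGA2

/-!
# Picard groups under the effective Lefschetz condition
-/

set_option autoImplicit false
set_option linter.style.haveILetI false
set_option backward.isDefEq.respectTransparency.types false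

universe u

open CategoryTheory CategoryTheory.Limits AlgebraicGeometry Opposite TopologicalSpace
open Groth.Agent.Coherent Groth.Agent.PicLib Groth.Agent.AmpleLib Groth.Agent.EulerLib Groth.Agent.SerreDual

noncomputable section

namespace Groth.Agent.Lef23

variable {X : Scheme.{u}}

/-- Invertible modules lift along square-zero thickenings with vanishing obstruction. -/
theorem exists_lift_square_zero {Z Z' : Scheme.{u}} (h : Z ⟶ Z') [IsClosedImmersion h] (hsq : h.ker ^ 2 = ⊥)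
    (h2 : Subsingleton (Coh.HH Z' (ClSub.idealMod h.ker) 2)) {N : Z.Modules} (hN : PicF.IsInvertible N) :
    ∃ N' : Z'.Modules, PicF.IsInvertible N' ∧ Nonempty ((Scheme.Modules.pullback h).obj N' ≅ N) := by
  haveI := (PicH127.nonempty_law Z').some
  haveI := (PicH127.nonempty_law h.ker.subscheme).some
  have hi := PicH127.pullMul h.ker.subschemeι
  obtain ⟨ε, δ₀, α, δ₁, -, -, -, -, -, hδ⟩ := PicH127.exists_maps (X := Z') (I := h.ker) (by rw [← pow_two]; exact hsq) hi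
  have hN' := PicLoc.isInvertible_pullback (inv h.toImage) hN
  have hker : PicGrp.cls _ hN' ∈ δ₁.ker := MonoidHom.mem_ker.2 (Subsingleton.elim _ _)
  rw [hδ] at hker
  obtain ⟨c, hc⟩ := hker
  obtain ⟨L, hL, rfl⟩ := PicGrp.exists_eq_cls c
  obtain ⟨e⟩ := (PicGrp.cl_eq_cl_iff _ _).1 (congrArg Subtype.val hc)
  exact ⟨L, hL, ⟨(Scheme.Modules.pullbackCongr h.toImage_imageι.symm).app L ≪≫
      ((Scheme.Modules.pullbackComp h.toImage h.ker.subschemeι).app L).symm ≪≫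
      (Scheme.Modules.pullback h.toImage).mapIso e ≪≫
      (Scheme.Modules.pullbackComp h.toImage (inv h.toImage)).app N ≪≫
      (Scheme.Modules.pullbackCongr (IsIso.hom_inv_id h.toImage)).app N ≪≫
      (Scheme.Modules.pullbackId _).app N⟩⟩

/-- Two pullbacks along equal composites. -/
def pullbackSquareIso {A B C D : Scheme.{u}} (f : A ⟶ B) (g : B ⟶ D) (f' : A ⟶ C) (g' : C ⟶ D)
    (e : f ≫ g = f' ≫ g') (P : D.Modules) :
    (Scheme.Modules.pullback f).obj ((Scheme.Modules.pullback g).obj P) ≅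
      (Scheme.Modules.pullback f').obj ((Scheme.Modules.pullback g').obj P) :=
  (Scheme.Modules.pullbackComp f g).app P ≪≫ (Scheme.Modules.pullbackCongr e).app P ≪≫
    ((Scheme.Modules.pullbackComp f' g').app P).symm

/-- A finite locally free module with invertible pullback is invertible near the image. -/
theorem exists_isGen_of_pullback {U Z : Scheme.{u}} {E : U.Modules} (hE : FlatMod.IsFinLocFree E) (j : Z ⟶ U)
    (h : PicF.IsInvertible ((Scheme.Modules.pullback j).obj E)) (z : Z) :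
    ∃ W : U.Opens, j z ∈ W ∧ ∃ s : Γ(E, W), IsGen E W s := by
  obtain ⟨W, n, hz, ⟨t⟩⟩ := hE (j z)
  haveI : Nonempty (j ⁻¹ᵁ W).toScheme := ⟨⟨z, hz⟩⟩
  obtain ⟨e₁⟩ := Groth.Agent.FlatMor12.FlatFun.nonempty_pullback_freeMod (j ∣_ W) n
  let e : (Scheme.Modules.pullback (j ⁻¹ᵁ W).ι).obj ((Scheme.Modules.pullback j).obj E) ≅
      FlatMod.freeMod (j ⁻¹ᵁ W).toScheme n :=
    pullbackSquareIso (j ⁻¹ᵁ W).ι j (j ∣_ W) W.ι (morphismRestrict_ι j W).symm E ≪≫
      (Scheme.Modules.pullback (j ∣_ W)).mapIso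
        (((Scheme.Modules.restrictFunctorIsoPullback W.ι).app E).symm ≪≫ t) ≪≫ e₁
  obtain rfl := Groth.Agent.S7188.rank_eq_one (PicLoc.isInvertible_pullback _ h) e
  exact ⟨W, hz, exists_isGen_of_iso (t ≪≫ freeModOneIso _)⟩

/-- Regular local rings of dimension two and complete intersections of dimension four are parafactorial. -/
theorem good_of_regular_or_ci [IsLocallyNoetherian X] (x : X)
    (h : (IsRegularLocalRing (X.presheaf.stalk x) ∧ (2 : WithBot ℕ∞) ≤ ringKrullDim (X.presheaf.stalk x)) ∨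
      (SGA2.IsAbsCompleteIntersection (X.presheaf.stalk x) ∧ (4 : WithBot ℕ∞) ≤ ringKrullDim (X.presheaf.stalk x))) :
    CAlgH.ParaStalk.Good (X.presheaf.stalk x) := by
  refine (CAlgH.ParaStalk.good_iff _).1 ?_
  rcases h with ⟨hr, hd⟩ | ⟨hc, hd⟩
  · haveI := hr
    obtain ⟨hdom, hufd⟩ := Groth.Agent.S2821.result (X.presheaf.stalk x)
    haveI := hdom
    exact Groth.Agent.S2834.result _ hufd hd
  · exact Groth.Agent.S3353.result _ hc hd

theorem invRestrictEquiv_of_good [IsLocallyNoetherian X] {U : X.Opens}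
    (hU : ∀ y : X, y ∉ U → CAlgH.ParaStalk.Good (X.presheaf.stalk y)) : ParaF.InvRestrictEquiv U.ι := by
  let Y : Closeds X := ⟨(U : Set X)ᶜ, U.2.isClosed_compl⟩
  have hY : Y.compl = U := Opens.ext (compl_compl _)
  obtain ⟨hb, hlt⟩ := (ParaF29.isParafactorialPair_iff Y).1
    ((CAlgH.ParaStalk.isParafactorialPair_iff_stalks Y).2 fun y hy => (CAlgH.ParaStalk.good_iff _).2 (hU y hy))
  rw [hY] at hb hlt
  exact ParaF29.invRestrictEquiv_of_locTriv U.ι (by rw [Scheme.Opens.opensRange_ι]; exact hb)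
    (ParaF29.locTriv_of_LT hlt (𝟙 X) U.ι (by rw [Scheme.Opens.opensRange_ι]; rfl))

/-- Restriction to an open with parafactorial complement is bijective on Picard groups. -/
theorem pic_restrict_open [IsLocallyNoetherian X] {U : X.Opens}
    (hU : ∀ y : X, y ∉ U → CAlgH.ParaStalk.Good (X.presheaf.stalk y)) :
    Formal2.PicPullbackInjective U.ι ∧ Formal2.PicPullbackSurjective U.ι := by
  have hj := invRestrictEquiv_of_good hU
  refine ⟨fun L hL ⟨e⟩ => ?_, fun M hM => ?_⟩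
  · obtain ⟨e₀⟩ := exists_pullStructureIso U.ι
    let d : L.restrict U.ι ≅ (Coh.structureModule X).restrict U.ι :=
      (Scheme.Modules.restrictFunctorIsoPullback U.ι).app L ≪≫ e ≪≫ e₀.symm ≪≫
        ((Scheme.Modules.restrictFunctorIsoPullback U.ι).app _).symm
    have hO : PicF.IsInvertible (Coh.structureModule X) := isInvertible_structureModule
    obtain ⟨φ, hφ⟩ := (hj.1 L (Coh.structureModule X) hL hO).2 d.hom
    obtain ⟨ψ, hψ⟩ := (hj.1 (Coh.structureModule X) L hO hL).2 d.inv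
    have hφ' : (Scheme.Modules.restrictFunctor U.ι).map φ = d.hom := hφ
    have hψ' : (Scheme.Modules.restrictFunctor U.ι).map ψ = d.inv := hψ
    refine ⟨⟨φ, ψ, (hj.1 L L hL hL).1 ?_, (hj.1 _ _ hO hO).1 ?_⟩⟩
    · show (Scheme.Modules.restrictFunctor U.ι).map (φ ≫ ψ) = (Scheme.Modules.restrictFunctor U.ι).map (𝟙 L)
      rw [Functor.map_comp, hφ', hψ', CategoryTheory.Functor.map_id]
      exact d.hom_inv_id
    · show (Scheme.Modules.restrictFunctor U.ι).map (ψ ≫ φ) = (Scheme.Modules.restrictFunctor U.ι).map (𝟙 _)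
      rw [Functor.map_comp, hφ', hψ', CategoryTheory.Functor.map_id]
      exact d.inv_hom_id
  · obtain ⟨E, hE, ⟨e⟩⟩ := hj.2 M hM
    exact ⟨E, hE, ⟨((Scheme.Modules.restrictFunctorIsoPullback U.ι).app E).symm ≪≫ e⟩⟩

variable (𝓘 : X.IdealSheafData)

theorem pow_le_thick (n p : ℕ) : 𝓘 ^ (p + n + 1) ≤ 𝓘 ^ (n + 1) :=
  pow_le_pow_of_le_one bot_le le_top (by omega)

omit 𝓘 in
theorem inclusion_square {A B C D : X.IdealSheafData} (h₁ : B ≤ A) (h₂ : D ≤ B) (h₃ : C ≤ A) (h₄ : D ≤ C) :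
    Scheme.IdealSheafData.inclusion h₁ ≫ Scheme.IdealSheafData.inclusion h₂ =
      Scheme.IdealSheafData.inclusion h₃ ≫ Scheme.IdealSheafData.inclusion h₄ := by
  rw [Scheme.IdealSheafData.inclusion_comp, Scheme.IdealSheafData.inclusion_comp]

omit 𝓘 in
theorem nonempty_pullback_step {A B C : Scheme.{u}} (b : A ⟶ B) (i : B ⟶ C) {P : C.Modules} {Q : B.Modules}
    {N : A.Modules} (e : Nonempty ((Scheme.Modules.pullback i).obj P ≅ Q))
    (f : Nonempty ((Scheme.Modules.pullback b).obj Q ≅ N)) :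
    Nonempty ((Scheme.Modules.pullback (b ≫ i)).obj P ≅ N) :=
  ⟨((Scheme.Modules.pullbackComp b i).app P).symm ≪≫ (Scheme.Modules.pullback b).mapIso e.some ≪≫ f.some⟩

omit 𝓘 in
theorem comp_fac {A B C D : Scheme.{u}} {b : A ⟶ B} {i : B ⟶ C} {j : C ⟶ D} {k : B ⟶ D} {l : A ⟶ D}
    (h : i ≫ j = k) (h' : b ≫ k = l) : (b ≫ i) ≫ j = l := by rw [Category.assoc, h, h']

/-- A system of invertible modules through a given one on a thickening. -/
theorem exists_modSys (p : ℕ)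
    (hH : ∀ q, p ≤ q → Subsingleton (Coh.HH X (kernel (Lef.quotMap (Lef.pow_succ_le 𝓘 q))) 2))
    {N : (Zs 𝓘 p).Modules} (hN : PicF.IsInvertible N) :
    ∃ 𝔐 : FSch.ModSys (FSch.completionAlong X 𝓘), LefX.LevelwiseFinLocFree 𝔐 ∧ Nonempty (𝔐.F p ≅ N) := by
  have hstep : ∀ d (G : (Zs 𝓘 (p + d)).Modules), PicF.IsInvertible G → ∃ G' : (Zs 𝓘 (p + (d + 1))).Modules,
      PicF.IsInvertible G' ∧ Nonempty ((Scheme.Modules.pullback (incl 𝓘 (p + d))).obj G' ≅ G) := fun d G hG => by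
    haveI := isClosedImmersion_incl 𝓘 (p + d)
    exact exists_lift_square_zero (incl 𝓘 (p + d)) (sq_ker_incl 𝓘 (p + d))
      (subsingleton_ker_incl 𝓘 (p + d) 2 (hH (p + d) (Nat.le_add_right _ _))) hG
  choose next hnext hiso using hstep
  let G : ∀ d, { G : (Zs 𝓘 (p + d)).Modules // PicF.IsInvertible G } := fun d =>
    Nat.rec (motive := fun d => { G : (Zs 𝓘 (p + d)).Modules // PicF.IsInvertible G }) ⟨N, hN⟩
      (fun d G => ⟨next d G.1 G.2, hnext d G.1 G.2⟩) d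
  have hG : ∀ d, Nonempty ((Scheme.Modules.pullback (incl 𝓘 (p + d))).obj (G (d + 1)).1 ≅ (G d).1) := fun d =>
    hiso d (G d).1 (G d).2
  let jj : ∀ n, Zs 𝓘 n ⟶ Zs 𝓘 (p + n) := fun n => Scheme.IdealSheafData.inclusion (pow_le_thick 𝓘 n p)
  have hjj : ∀ n, (FSch.completionAlong X 𝓘).ι n ≫ jj (n + 1) = jj n ≫ incl 𝓘 (p + n) := fun n =>
    inclusion_square (FSch.pow_succ_le X 𝓘 n) (pow_le_thick 𝓘 (n + 1) p) (pow_le_thick 𝓘 n p) (Lef.pow_succ_le 𝓘 (p + n))
  let 𝔐 : FSch.ModSys (FSch.completionAlong X 𝓘) :=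
    { F := fun n => (Scheme.Modules.pullback (jj n)).obj (G n).1
      e := fun n => pullbackSquareIso ((FSch.completionAlong X 𝓘).ι n) (jj (n + 1)) (jj n) (incl 𝓘 (p + n))
          (hjj n) (G (n + 1)).1 ≪≫ (Scheme.Modules.pullback (jj n)).mapIso (hG n).some }
  refine ⟨𝔐, fun n => Coherent.isFinLocFree_of_invertible (PicLoc.isInvertible_pullback _ (G n).2), ?_⟩
  -- all levels restrict to the given module
  let b : ∀ n, Zs 𝓘 p ⟶ Zs 𝓘 (p + n) := fun n =>
    Nat.rec (motive := fun n => Zs 𝓘 p ⟶ Zs 𝓘 (p + n)) (𝟙 (Zs 𝓘 p)) (fun n g => g ≫ incl 𝓘 (p + n)) n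
  have hb : ∀ n, Nonempty ((Scheme.Modules.pullback (b n)).obj (G n).1 ≅ N) ∧
      b n ≫ (𝓘 ^ (p + n + 1)).subschemeι = (𝓘 ^ (p + 1)).subschemeι := fun n => by
    induction n with
    | zero => exact ⟨⟨(Scheme.Modules.pullbackId (Zs 𝓘 p)).app N⟩, Category.id_comp _⟩
    | succ n ih =>
      exact ⟨nonempty_pullback_step (b n) (incl 𝓘 (p + n)) (hG n) ih.1,
        comp_fac (Scheme.IdealSheafData.inclusion_subschemeι (Lef.pow_succ_le 𝓘 (p + n))) ih.2⟩
  have hbj : b p = jj p := by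
    rw [← cancel_mono (𝓘 ^ (p + p + 1)).subschemeι, (hb p).2]
    exact (Scheme.IdealSheafData.inclusion_subschemeι (pow_le_thick 𝓘 p p)).symm
  exact ⟨(Scheme.Modules.pullbackCongr hbj.symm).app _ ≪≫ (hb p).1.some⟩

variable [IsLocallyNoetherian X] (n : ℕ) (h1 : LefX.LeffCond X 𝓘)
  (h2 : ∀ q : ℕ, n ≤ q → ∀ i : ℕ, (i = 1 ∨ i = 2) →
    Subsingleton (Coh.HH X (kernel (Lef.quotMap (Lef.pow_succ_le 𝓘 q))) i))
  (h3 : ∀ U : X.Opens, (𝓘.support : Set X) ⊆ (U : Set X) → ∀ x : X, x ∉ U →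
    CAlgH.ParaStalk.Good (X.presheaf.stalk x))

include h1 h2 h3 in
/-- **`Pic X → Pic U → Pic Y_p`** are bijective. -/
theorem pic_of_leff (U : X.Opens) (hU : (𝓘.support : Set X) ⊆ (U : Set X)) (p : ℕ) (hp : n ≤ p) :
    (Formal2.PicPullbackInjective U.ι ∧ Formal2.PicPullbackSurjective U.ι) ∧
      (Formal2.PicPullbackInjective ((𝓘.comap U.ι) ^ (p + 1)).subschemeι ∧
        Formal2.PicPullbackSurjective ((𝓘.comap U.ι) ^ (p + 1)).subschemeι) := by
  refine ⟨pic_restrict_open (h3 U hU), fun L hL ⟨e⟩ => ?_, fun N hN => ?_⟩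
  · obtain ⟨e₀⟩ := exists_pullStructureIso ((𝓘.comap U.ι) ^ (p + 1)).subschemeι
    exact nonempty_iso_of_thick U 𝓘 h1.1 hU p (fun m hm => h2 m (hp.trans hm) 1 (Or.inl rfl)) hL
      isInvertible_structureModule (e ≪≫ e₀.symm)
  let K := 𝓘.comap U.ι
  let ι := (𝓘 ^ (p + 1)).subschemeι
  have hr : Set.range ι = (𝓘.support : Set X) := by
    rw [(𝓘 ^ (p + 1)).range_subschemeι, Scheme.IdealSheafData.support_pow_succ]
  have hK : (𝓘 ^ (p + 1)).comap U.ι = K ^ (p + 1) := FSchLib.comap_pow U.ι 𝓘 (p + 1)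
  let b₀ : Zs 𝓘 p ⟶ U := IsOpenImmersion.lift U.ι ι (by rw [Scheme.Opens.range_ι, hr]; exact hU)
  have hb₀ : b₀ ≫ U.ι = ι := IsOpenImmersion.lift_fac _ _ _
  let a : (K ^ (p + 1)).subscheme ⟶ Zs 𝓘 p := IsClosedImmersion.lift ι ((K ^ (p + 1)).subschemeι ≫ U.ι) (by
    rw [Scheme.IdealSheafData.ker_subschemeι, ← Scheme.IdealSheafData.map_ker, Scheme.IdealSheafData.ker_subschemeι,
      Scheme.IdealSheafData.le_map_iff_comap_le, hK])
  have ha : a ≫ ι = (K ^ (p + 1)).subschemeι ≫ U.ι := IsClosedImmersion.lift_fac _ _ _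
  let b : Zs 𝓘 p ⟶ (K ^ (p + 1)).subscheme := IsClosedImmersion.lift (K ^ (p + 1)).subschemeι b₀ (by
    rw [Scheme.IdealSheafData.ker_subschemeι, ← hK, ← Scheme.IdealSheafData.le_map_iff_comap_le,
      Scheme.IdealSheafData.map_ker, hb₀, Scheme.IdealSheafData.ker_subschemeι])
  have hb : b ≫ (K ^ (p + 1)).subschemeι = b₀ := IsClosedImmersion.lift_fac _ _ _
  have hab : a ≫ b = 𝟙 _ := by
    rw [← cancel_mono ((K ^ (p + 1)).subschemeι ≫ U.ι), Category.assoc, reassoc_of% hb, hb₀, Category.id_comp]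
    exact ha
  obtain ⟨𝔐, h𝔐, ⟨eN⟩⟩ := exists_modSys 𝓘 p (fun q hq => h2 q (hp.trans hq) 2 (Or.inr rfl))
    (PicLoc.isInvertible_pullback b hN)
  obtain ⟨U', E, hU', hE, ⟨φ⟩⟩ := h1.2 𝔐 h𝔐
  let E' := (Scheme.Modules.pushforward U'.ι).obj E
  let φp : (Scheme.Modules.pullback ι).obj E' ≅ 𝔐.F p :=
    ⟨φ.hom.app p, φ.inv.app p, congrArg (fun f : FSch.ModSys.Hom _ _ => f.app p) φ.hom_inv_id,
      congrArg (fun f : FSch.ModSys.Hom _ _ => f.app p) φ.inv_hom_id⟩
  -- the module is invertible near the divisor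
  let U'' : X.Opens := ⨆ (W : X.Opens) (_ : ∃ s : Γ(E', W), IsGen E' W s), W
  have hmem : ∀ x, x ∈ U'' ↔ ∃ W : X.Opens, x ∈ W ∧ ∃ s : Γ(E', W), IsGen E' W s := fun x => by
    simp only [U'', Opens.mem_iSup, exists_prop]
    exact exists_congr fun _ => and_comm
  let j₁ : Zs 𝓘 p ⟶ U' := IsOpenImmersion.lift U'.ι ι (by rw [Scheme.Opens.range_ι, hr]; exact hU')
  have hj₁ : j₁ ≫ U'.ι = ι := IsOpenImmersion.lift_fac _ _ _
  let c : E'.restrict U'.ι ≅ E := (asIso (Scheme.Modules.restrictAdjunction U'.ι).counit).app E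
  have hinv : PicF.IsInvertible ((Scheme.Modules.pullback j₁).obj E) :=
    ParaF29.isInvertible_of_iso (eN.symm ≪≫ φp.symm ≪≫ (pullbackRestrictIso j₁ ι hj₁ E').symm ≪≫
      (Scheme.Modules.pullback j₁).mapIso c) (PicLoc.isInvertible_pullback b hN)
  have hU'' : Set.range ι ⊆ (U'' : Set X) := by
    rintro _ ⟨z, rfl⟩
    obtain ⟨W, hz, s, hs⟩ := exists_isGen_of_pullback hE j₁ hinv z
    refine (hmem _).2 ⟨U'.ι ''ᵁ W, ⟨j₁ z, hz, show (j₁ ≫ U'.ι) z = ι z by rw [hj₁]⟩, _,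
      ParaF29.isGen_of_restrict U'.ι (CAlgH.ParaStalk.isGen_of_iso c.symm hs)⟩
  obtain ⟨E₁, hE₁, ⟨eE₁⟩⟩ := exists_extension (fun y hy => h3 U'' (hr ▸ hU'') y hy) ι hU''
    (isInvertible_restrict_of_gens U''.ι fun y => (hmem _).1 y.2)
  refine ⟨(Scheme.Modules.pullback U.ι).obj E₁, PicLoc.isInvertible_pullback _ hE₁,
    ⟨pullbackSquareIso (K ^ (p + 1)).subschemeι U.ι a ι ha.symm E₁ ≪≫
      (Scheme.Modules.pullback a).mapIso (eE₁ ≪≫ φp ≪≫ eN) ≪≫ (Scheme.Modules.pullbackComp a b).app N ≪≫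
      (Scheme.Modules.pullbackCongr hab).app N ≪≫ (Scheme.Modules.pullbackId _).app N⟩⟩

end Groth.Agent.Lef23
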