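import Groth.Agent.Lef23.ProZeroMain

/-!
# Cohomology of the thickenings of the zeros of a section from pro-vanishing
-/

set_option autoImplicit false
set_option linter.style.haveILetI false
set_option backward.isDefEq.respectTransparency.types false

universe u

open CategoryTheory CategoryTheory.Limits AlgebraicGeometry Opposite TopologicalSpace
open Groth.Agent.Coherent Groth.Agent.PicLib Groth.Agent.AmpleLib Groth.Agent.EulerLib

namespace Groth.Agent.Lef23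

variable {X : Scheme.{u}}

/-- The sequence of an ideal. -/
theorem shortExact_ideal (I : X.IdealSheafData) :
    (ShortComplex.mk (ClSub.idealModι I) (ClSub.toSubscheme I) (kernel.condition _)).ShortExact :=
  haveI := CurveRR24.epi_toSubscheme I
  haveI := AmpleLib.mono_idealModι I
  { exact := ShortComplex.exact_of_f_is_kernel _ (kernelIsKernel (ClSub.toSubscheme I)) }

/-- Injectivity of `H^i(O) → H^i(O/I^(Q+1))` when `H^i(I^(Q+1)) → H^i(I)` is zero. -/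
theorem injective_toSubscheme (𝓘 : X.IdealSheafData) {i Q : ℕ} (h : 𝓘 ^ (Q + 1) ≤ 𝓘 ^ (0 + 1))
    (hz : ∀ x : Coh.HH X (ClSub.idealMod (𝓘 ^ (Q + 1))) i, hm (idealIncl h) i x = 0)
    (x : Coh.HH X (Coh.structureModule X) i) (hx : hm (ClSub.toSubscheme (𝓘 ^ (Q + 1))) i x = 0) : x = 0 := by
  let φ := RingHom.id Γ(X, ⊤)
  let S := ShortComplex.mk (ClSub.idealModι (𝓘 ^ (Q + 1))) (ClSub.toSubscheme (𝓘 ^ (Q + 1))) (kernel.condition _)
  obtain ⟨y, hy⟩ := (exact_postA φ (shortExact_ideal (𝓘 ^ (Q + 1))) ⊤ i (HHTopEquiv (Coh.structureModule X) i x)).1 (by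
    show postA φ (ClSub.toSubscheme (𝓘 ^ (Q + 1))) ⊤ i _ = 0
    rw [← hm_top, hx, map_zero]
    rfl)
  obtain ⟨y', hy'⟩ : ∃ y', HHTopEquiv (ClSub.idealMod (𝓘 ^ (Q + 1))) i y' = y := ⟨_, AddEquiv.apply_symm_apply _ _⟩
  have h1 : hm (ClSub.idealModι (𝓘 ^ (Q + 1))) i y' = x := (HHTopEquiv _ i).injective (by
    rw [hm_top, hy']; exact hy)
  rw [← h1, ← idealIncl_ι h, hm_comp, hz]
  exact hm_zero _ _

/-- Two classes agreeing modulo `I^(Q+1)` after a class lifting agree. -/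
theorem exists_lift_of_delta (𝓘 : X.IdealSheafData) {i m Q : ℕ} (h : 𝓘 ^ (Q + 1) ≤ 𝓘 ^ (m + 1))
    (hz : ∀ x : Coh.HH X (ClSub.idealMod (𝓘 ^ (Q + 1))) (i + 1), hm (idealIncl h) (i + 1) x = 0)
    (z : Coh.HH X (ClSub.quotMod (𝓘 ^ (Q + 1))) i) :
    ∃ x : Coh.HH X (Coh.structureModule X) i,
      hm (ClSub.toSubscheme (𝓘 ^ (m + 1))) i x = hm (Lef.quotMap h) i z := by
  let φ := RingHom.id Γ(X, ⊤)
  let S := ShortComplex.mk (ClSub.idealModι (𝓘 ^ (Q + 1))) (ClSub.toSubscheme (𝓘 ^ (Q + 1))) (kernel.condition _)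
  let S' := ShortComplex.mk (ClSub.idealModι (𝓘 ^ (m + 1))) (ClSub.toSubscheme (𝓘 ^ (m + 1))) (kernel.condition _)
  let τ : S ⟶ S' := ⟨idealIncl h, 𝟙 _, Lef.quotMap h, by
    show idealIncl h ≫ ClSub.idealModι _ = ClSub.idealModι _ ≫ 𝟙 _
    rw [idealIncl_ι, Category.comp_id], by
    show 𝟙 _ ≫ ClSub.toSubscheme _ = ClSub.toSubscheme _ ≫ Lef.quotMap h
    rw [Category.id_comp, toSubscheme_quotMap]⟩
  let z' : HA φ S.X₃ (⊤ : X.Opens) i := HHTopEquiv _ i z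
  have h0 : deltaA φ (shortExact_ideal (𝓘 ^ (m + 1))) ⊤ i (postA φ τ.τ₃ ⊤ i z') = 0 := by
    refine (deltaA_natural φ (shortExact_ideal (𝓘 ^ (Q + 1))) (shortExact_ideal (𝓘 ^ (m + 1))) τ i z').symm.trans ?_
    obtain ⟨d, hd⟩ : ∃ d, HHTopEquiv (ClSub.idealMod (𝓘 ^ (Q + 1))) (i + 1) d =
        deltaA φ (shortExact_ideal (𝓘 ^ (Q + 1))) ⊤ i z' := ⟨_, AddEquiv.apply_symm_apply _ _⟩
    have h1 := congrArg (HHTopEquiv _ (i + 1)) (hz d)
    rw [hm_top, map_zero, hd] at h1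
    exact h1
  obtain ⟨y, hy⟩ := (exact_postA_deltaA φ (shortExact_ideal (𝓘 ^ (m + 1))) ⊤ i _).1 h0
  obtain ⟨x, hx⟩ : ∃ x, HHTopEquiv (Coh.structureModule X) i x = y := ⟨_, AddEquiv.apply_symm_apply _ _⟩
  refine ⟨x, (HHTopEquiv _ i).injective ?_⟩
  rw [hm_top, hm_top, hx]
  exact hy

/-- The bijection with compatible families. -/
theorem bijective_limit (𝓘 : X.IdealSheafData) (n i : ℕ) (hi : i < n)
    (hpro : ∀ j ≤ n, ∀ m : ℕ, ∃ (Q : ℕ) (h : 𝓘 ^ (Q + 1) ≤ 𝓘 ^ (m + 1)),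
      ∀ x : Coh.HH X (ClSub.idealMod (𝓘 ^ (Q + 1))) j, hm (idealIncl h) j x = 0) :
    (∀ x : Coh.HH X (Coh.structureModule X) i,
      (∀ m : ℕ, hm (ClSub.toSubscheme (𝓘 ^ (m + 1))) i x = 0) → x = 0) ∧
    ∀ y : (∀ m : ℕ, Coh.HH X (ClSub.quotMod (𝓘 ^ (m + 1))) i),
      (∀ m : ℕ, hm (Lef.quotMap (Lef.pow_succ_le 𝓘 m)) i (y (m + 1)) = y m) →
      ∃ x : Coh.HH X (Coh.structureModule X) i, ∀ m : ℕ, hm (ClSub.toSubscheme (𝓘 ^ (m + 1))) i x = y m := by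
  obtain ⟨Q₀, h₀, hz₀⟩ := hpro i hi.le 0
  refine ⟨fun x hx => injective_toSubscheme 𝓘 h₀ hz₀ x (hx Q₀), fun y hy => ?_⟩
  have hdown : ∀ (d m : ℕ) (h : 𝓘 ^ (m + d + 1) ≤ 𝓘 ^ (m + 1)), hm (Lef.quotMap h) i (y (m + d)) = y m := by
    intro d
    induction d with
    | zero =>
      intro m h
      have : Lef.quotMap h = 𝟙 _ := by
        haveI := CurveRR24.epi_toSubscheme (𝓘 ^ (m + 1))
        rw [← cancel_epi (ClSub.toSubscheme (𝓘 ^ (m + 1))), toSubscheme_quotMap, Category.comp_id]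
      show hm (Lef.quotMap h) i (y m) = y m
      rw [this]
      refine (HHTopEquiv _ i).injective ?_
      rw [hm_top]
      exact postA_id (RingHom.id _) i _
    | succ d ih =>
      intro m h
      have h' : 𝓘 ^ (m + d + 1) ≤ 𝓘 ^ (m + 1) := pow_le_pow_right_of_le_one' le_top (by omega)
      have hc : Lef.quotMap (Lef.pow_succ_le 𝓘 (m + d)) ≫ Lef.quotMap h' = Lef.quotMap h := by
        haveI := CurveRR24.epi_toSubscheme (𝓘 ^ (m + d + 1 + 1))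
        rw [← cancel_epi (ClSub.toSubscheme (𝓘 ^ (m + d + 1 + 1))), ← Category.assoc, toSubscheme_quotMap,
          toSubscheme_quotMap]
        exact (toSubscheme_quotMap h).symm
      show hm (Lef.quotMap h) i (y (m + d + 1)) = y m
      rw [← hc, hm_comp, hy (m + d)]
      exact ih m h'
  have hlift : ∀ m, ∃ x, hm (ClSub.toSubscheme (𝓘 ^ (m + 1))) i x = y m := by
    intro m
    obtain ⟨Q, h, hz⟩ := hpro (i + 1) hi (m + Q₀)
    have hmQ : 𝓘 ^ (m + Q₀ + Q + 1) ≤ 𝓘 ^ (Q + 1) := pow_le_pow_right_of_le_one' le_top (by omega)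
    obtain ⟨x, hx⟩ := exists_lift_of_delta 𝓘 h hz (hm (Lef.quotMap hmQ) i (y (m + Q₀ + Q)))
    refine ⟨x, ?_⟩
    have hm' : 𝓘 ^ (m + Q₀ + 1) ≤ 𝓘 ^ (m + 1) := pow_le_pow_right_of_le_one' le_top (by omega)
    have hQ : 𝓘 ^ (m + Q₀ + Q + 1) ≤ 𝓘 ^ (m + Q₀ + 1) := hmQ.trans h
    have e1 : hm (Lef.quotMap h) i (hm (Lef.quotMap hmQ) i (y (m + Q₀ + Q))) = y (m + Q₀) := by
      rw [← hm_comp]
      have : Lef.quotMap hmQ ≫ Lef.quotMap h = Lef.quotMap hQ := by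
        haveI := CurveRR24.epi_toSubscheme (𝓘 ^ (m + Q₀ + Q + 1))
        rw [← cancel_epi (ClSub.toSubscheme (𝓘 ^ (m + Q₀ + Q + 1))), ← Category.assoc, toSubscheme_quotMap,
          toSubscheme_quotMap, toSubscheme_quotMap]
      rw [this]
      exact hdown Q (m + Q₀) hQ
    rw [← toSubscheme_quotMap hm', hm_comp, hx, e1]
    exact hdown Q₀ m hm'
  choose x hx using hlift
  refine ⟨x Q₀, fun m => ?_⟩
  have hle : 𝓘 ^ (m + Q₀ + 1) ≤ 𝓘 ^ (Q₀ + 1) := pow_le_pow_right_of_le_one' le_top (by omega)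
  have hle' : 𝓘 ^ (m + Q₀ + 1) ≤ 𝓘 ^ (m + 1) := pow_le_pow_right_of_le_one' le_top (by omega)
  have e1 : hm (ClSub.toSubscheme (𝓘 ^ (Q₀ + 1))) i (x (m + Q₀)) = y Q₀ := by
    rw [← toSubscheme_quotMap hle, hm_comp, hx]
    have := hdown m Q₀ (by rw [add_comm Q₀ m]; exact hle)
    revert this
    generalize_proofs hp
    revert hp
    rw [add_comm Q₀ m]
    exact fun _ this => this
  have e2 : x (m + Q₀) = x Q₀ := by
    refine sub_eq_zero.1 (injective_toSubscheme 𝓘 h₀ hz₀ _ ?_)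
    show Sheaf.H.map _ i (x (m + Q₀) - x Q₀) = 0
    rw [map_sub]
    exact sub_eq_zero.2 (e1.trans (hx Q₀).symm)
  rw [← e2, ← toSubscheme_quotMap hle', hm_comp, hx]
  exact hdown Q₀ m hle'

end Groth.Agent.Lef23
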