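import Groth.Agent.Lef23.KillPn
import Groth.Agent.Lef23.Neg
import Groth.Agent.SerreDual.ProjRegular
import Groth.Agent.SerreDual.PushEquiv
import Groth.Agent.SerreDual.Projective
import Groth.Agent.CycLib28.MultLocal
import Groth.Agent.CurveLib.ProjLine
import Groth.Agent.MorProj.QuasiAff
import Groth.Agent.HodgeQ27.Restrict

/-!
# Powers of a section kill the cohomology of large negative twists when `depth + dim` is large off its zeros
-/

set_option autoImplicit false
set_option linter.style.haveILetI false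
set_option backward.isDefEq.respectTransparency.types false

universe u

open CategoryTheory CategoryTheory.Limits AlgebraicGeometry Opposite TopologicalSpace IsLocalRing
open Groth.Agent.Coherent Groth.Agent.PicLib Groth.Agent.AmpleLib Groth.Agent.SerreDual Groth.Agent.EulerLib
open Groth.Agent.Coherent.Serre

namespace Groth.Agent.Lef23

variable {k : Type u} [Field k] {N : ℕ} {X : Scheme.{u}} (ι : X ⟶ CohB1.ProjSpace N k) [IsClosedImmersion ι]

/-- `depth + dim closure > n` gives `pd ≤ N - n - 1`, or vanishing when `n ≥ N`. -/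
theorem pd_push_of_depth_add_dim (F : X.Modules) (hF : Coh.IsCoh F) (n : ℕ) (x : X)
    (h : (n : WithBot ℕ∞) < (LocCoh.depth (X.presheaf.stalk x) (F.presheaf.stalk x) : WithBot ℕ∞) +
      topologicalKrullDim ↥(closure ({x} : Set X))) :
    (N ≤ n → Subsingleton (((Scheme.Modules.pushforward ι).obj F).presheaf.stalk (ι.base x))) ∧
    CAlgH3.PD ((CohB1.ProjSpace N k).presheaf.stalk (ι.base x)) (N - n - 1 + 1)
      (((Scheme.Modules.pushforward ι).obj F).presheaf.stalk (ι.base x)) := by
  let G := (Scheme.Modules.pushforward ι).obj F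
  let T := (CohB1.ProjSpace N k).presheaf.stalk (ι.base x)
  haveI := isProper_projSpace_toSpec N k
  haveI := isLocallyNoetherian_projSpace (n := N) (R := k)
  haveI := CurveLib.isIntegral_projSpace k N
  haveI : IsRegularLocalRing T := isRegularLocalRing_stalk_projSpace N k _
  have hG : Coh.IsCoh ((Coh.push ι).obj F) := isCoh_push_finite ι hF
  haveI : Coh.IsQCoh G := hG.1
  haveI : Module.Finite T (G.presheaf.stalk (ι.base x)) := Props12.finite_stalk_of_isFT G hG.2 _
  rcases subsingleton_or_nontrivial (G.presheaf.stalk (ι.base x)) with hs | hs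
  · exact ⟨fun _ => hs, CAlgH3.pd_mono (Nat.zero_le _) (CAlgH3.pd_zero_iff.2 hs)⟩
  obtain ⟨e, he⟩ := exists_push_stalk ι F x
  have hdep : LocCoh.depth T (G.presheaf.stalk (ι.base x)) =
      LocCoh.depth (X.presheaf.stalk x) (F.presheaf.stalk x) := by
    letI : Algebra T (X.presheaf.stalk x) := (ι.stalkMap x).hom.toAlgebra
    letI : Module T (F.presheaf.stalk x) := Module.compHom (F.presheaf.stalk x) (ι.stalkMap x).hom
    haveI : IsScalarTower T (X.presheaf.stalk x) (F.presheaf.stalk x) :=
      IsScalarTower.of_algebraMap_smul fun _ _ => rfl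
    let e' : G.presheaf.stalk (ι.base x) ≃ₗ[T] F.presheaf.stalk x := { e with map_smul' := he }
    rw [CAlgH3.depth_congr e', ← CAlgH3.depth_of_surjective (R := T) (S := X.presheaf.stalk x)
      (ι.stalkMap_surjective x)]
  have hdim : topologicalKrullDim ↥(closure ({x} : Set X)) =
      topologicalKrullDim ↥(closure ({ι.base x} : Set (CohB1.ProjSpace N k))) := by
    refine (EGA43.DimFormula.topologicalKrullDim_eq_of_range (fun t : closure ({x} : Set X) => ι.base t.1)
      (ι.isClosedEmbedding.isEmbedding.comp Topology.IsEmbedding.subtypeVal) _ ?_).symm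
    have e1 : Set.range (fun t : closure ({x} : Set X) => ι.base t.1) = ι.base '' closure ({x} : Set X) := by
      rw [Set.image_eq_range]
    rw [e1, ← ι.isClosedEmbedding.closure_image_eq, Set.image_singleton]
  have hsum := CycLib28.dim_stalk_add_closure (CohB1.ProjSpace.toSpec N k) (ι.base x)
  rw [DimLib.PN.topologicalKrullDim_projSpace] at hsum
  rw [hdim] at h
  obtain ⟨a, ha⟩ := CAlgH3.exists_depth_eq_natCast (R := T) (M := G.presheaf.stalk (ι.base x))
  have hle : (LocCoh.depth T (G.presheaf.stalk (ι.base x)) : WithBot ℕ∞) ≤ ringKrullDim T :=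
    CAlgH3.depth_le_supportDim.trans (Module.supportDim_le_ringKrullDim _ _)
  rw [← hdep, ha] at h
  rw [ha] at hle
  obtain ⟨d, hd⟩ : ∃ d : ℕ, ((maximalIdeal T).spanFinrank : WithBot ℕ∞) = d := ⟨_, rfl⟩
  have hd' : ringKrullDim T = d := by rw [← hd, IsRegularLocalRing.spanFinrank_maximalIdeal]
  rw [hd'] at hsum hle
  generalize topologicalKrullDim ↥(closure ({ι.base x} : Set (CohB1.ProjSpace N k))) = c at h hsum
  have hc : ∃ c' : ℕ, c = (c' : WithBot ℕ∞) := by
    induction c using WithBot.recBotCoe with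
    | bot => simp at hsum
    | coe c =>
      induction c using ENat.recTopCoe with
      | top =>
        rw [show (((⊤ : ℕ∞)) : WithBot ℕ∞) + (d : WithBot ℕ∞) = ((⊤ + (d : ℕ∞) : ℕ∞) : WithBot ℕ∞) from rfl,
          top_add] at hsum
        exact absurd (WithBot.coe_inj.1 hsum) (ENat.natCast_ne_top N)
      | coe c => exact ⟨c, rfl⟩
  obtain ⟨c', rfl⟩ := hc
  have h1 : N = c' + d := by exact_mod_cast hsum
  have h2 : n < a + c' := by exact_mod_cast h
  have h3 : a ≤ d := by exact_mod_cast hle
  refine ⟨fun hn => absurd hn (by omega), CAlgH3.pd_of_depth _ _ ?_⟩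
  rw [ha]
  have hd2 : (maximalIdeal T).spanFinrank = d := by exact_mod_cast hd
  rw [hd2]
  have : d ≤ a + (N - n - 1) := by omega
  exact_mod_cast this

/-- The projection formula with the module on the left. -/
noncomputable def pushTwist (F : X.Modules) (Q : (CohB1.ProjSpace N k).Modules) :
    CohB1.tensorMod ((Scheme.Modules.pushforward ι).obj F) Q ⟶
      (Scheme.Modules.pushforward ι).obj (CohB1.tensorMod F (pullE ι Q)) :=
  (AmpleLib.tensorComm _ _).hom ≫ projHom ι Q F ≫ (Scheme.Modules.pushforward ι).map (AmpleLib.tensorComm _ _).hom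

theorem pushTwist_tmul (F : X.Modules) (Q : (CohB1.ProjSpace N k).Modules) (U : (CohB1.ProjSpace N k).Opens)
    (a : Γ((Scheme.Modules.pushforward ι).obj F, U)) (b : Γ(Q, U)) :
    (pushTwist ι F Q).app U (tmul a b) =
      (show Γ((Scheme.Modules.pushforward ι).obj (CohB1.tensorMod F (pullE ι Q)), U) from
        tmul (show Γ(F, ι ⁻¹ᵁ U) from a) (pullSec ι b)) := by
  show ((Scheme.Modules.pushforward ι).map (AmpleLib.tensorComm _ _).hom).app U
    ((projHom ι Q F).app U ((AmpleLib.tensorSwap _ _).app U (tmul a b))) = _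
  rw [show (AmpleLib.tensorSwap ((Scheme.Modules.pushforward ι).obj F) Q).app U (tmul a b) = tmul b a from
    Bilin.desc_tmul _ U a b, projHom_tmul]
  exact Bilin.desc_tmul _ (ι ⁻¹ᵁ U) (pullSec ι b) (show Γ(F, ι ⁻¹ᵁ U) from a)

theorem isIso_pushTwist (F : X.Modules) {Q : (CohB1.ProjSpace N k).Modules} (hQ : PicF.IsInvertible Q) :
    IsIso (pushTwist ι F Q) := by
  haveI := isIso_projHom (f := ι) (isFinLocFree_of_invertible hQ) F
  unfold pushTwist
  infer_instance

variable {L : (CohB1.ProjSpace N k).Modules}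

/-- **Transfer to the closed subscheme**: multiplication by a power of the restricted section kills `H^i` of large
negative twists, for `i ≤ n`, if `depth + dim > n` off its zeros. -/
theorem exists_kill_pullback (hL : PicF.IsInvertible L) (s : Γ(L, ⊤)) (hU : IsAffineOpen (glocus L s))
    (F : X.Modules) (hF : Coh.IsCoh F) (n : ℕ)
    (hd : ∀ x : X, ι.base x ∈ glocus L s →
      (n : WithBot ℕ∞) < (LocCoh.depth (X.presheaf.stalk x) (F.presheaf.stalk x) : WithBot ℕ∞) +
        topologicalKrullDim ↥(closure ({x} : Set X)))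
    (i : ℕ) (hi : i ≤ n) :
    ∃ q m₀ : ℕ, ∀ m : ℕ, m₀ ≤ m →
      ∀ x : Coh.HH X (CohB1.tensorMod F (pullE ι (Twist.twistProjSpace N k (-(m : ℤ))))) i,
      hm (tensorMap (rightMul F (pullSec ι (powSec s q)))
        (𝟙 (pullE ι (Twist.twistProjSpace N k (-(m : ℤ)))))) i x = 0 := by
  haveI := isProper_projSpace_toSpec N k
  haveI := isLocallyNoetherian_projSpace (n := N) (R := k)
  let G := (Scheme.Modules.pushforward ι).obj F
  have hG : Coh.IsCoh G := isCoh_push_finite ι hF
  have hzero : ∀ y ∈ glocus L s, (N ≤ n ∨ y ∉ Set.range ι.base) → Subsingleton (G.presheaf.stalk y) := by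
    intro y hy h
    by_cases hyr : y ∈ Set.range ι.base
    · obtain ⟨x, rfl⟩ := hyr
      exact (pd_push_of_depth_add_dim ι F hF n x (hd x hy)).1 (h.resolve_right (fun h' => h' ⟨x, rfl⟩))
    · exact DCat.ClosedPush.subsingleton_stalk_push ι F y hyr
  obtain ⟨q, m₀, hk⟩ : Kills G s i := by
    rcases le_or_gt N n with hn | hn
    · exact kills_of_zero hL s hG (fun y hy => hzero y hy (Or.inl hn)) i
    · refine kills_of_pd hL s hU (N - n - 1) G hG (fun y hy => ?_) i (by omega)
      by_cases hyr : y ∈ Set.range ι.base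
      · obtain ⟨x, rfl⟩ := hyr
        exact (pd_push_of_depth_add_dim ι F hF n x (hd x hy)).2
      · haveI := hzero y hy (Or.inr hyr)
        exact CAlgH3.pd_mono (Nat.zero_le _) (CAlgH3.pd_zero_iff.2 inferInstance)
  refine ⟨q, m₀, fun m hm x => ?_⟩
  let Q := Twist.twistProjSpace N k (-(m : ℤ))
  let B := pullE ι (CohB1.tensorPow L q)
  let φ := tensorMap (rightMul F (pullSec ι (powSec s q))) (𝟙 (pullE ι Q))
  have hB : PicF.IsInvertible (CohB1.tensorPow L q) := isInvertible_tensorPow hL q
  have hQ : PicF.IsInvertible Q := isInvertible_O _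
  haveI := isIso_pushTwist ι F hQ
  haveI := isIso_pushTwist ι (CohB1.tensorMod F B) hQ
  let ν : CohB1.tensorMod G Q ⟶ CohB1.tensorMod (CohB1.tensorMod G (CohB1.tensorPow L q)) Q :=
    tensorMap (rightMul G (powSec s q)) (𝟙 Q)
  have hsq : ν ≫ tensorMap (pushTwist ι F (CohB1.tensorPow L q)) (𝟙 Q) ≫
      pushTwist ι (CohB1.tensorMod F B) Q = pushTwist ι F Q ≫ (Scheme.Modules.pushforward ι).map φ := by
    refine AmpleLib.hom_ext fun U a b => ?_
    show (pushTwist ι (CohB1.tensorMod F B) Q).app U ((tensorMap (pushTwist ι F (CohB1.tensorPow L q)) (𝟙 Q)).app U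
        ((tensorMap (rightMul G (powSec s q)) (𝟙 Q)).app U (tmul a b))) =
      φ.app (ι ⁻¹ᵁ U) ((pushTwist ι F Q).app U (tmul a b))
    rw [pushTwist_tmul, tensorMap_tmul, tensorMap_tmul]
    show (pushTwist ι (CohB1.tensorMod F B) Q).app U (tmul ((pushTwist ι F (CohB1.tensorPow L q)).app U
      (tmul a (resM _ le_top (powSec s q)))) b) = _
    rw [pushTwist_tmul, pushTwist_tmul]
    show tmul (tmul (show Γ(F, ι ⁻¹ᵁ U) from a) (pullSec ι (resM _ le_top (powSec s q)))) (pullSec ι b) =
      φ.app (ι ⁻¹ᵁ U) (tmul (show Γ(F, ι ⁻¹ᵁ U) from a) (pullSec ι b))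
    rw [← resM_pullSec]
    exact (tensorMap_tmul (rightMul F (pullSec ι (powSec s q))) (𝟙 _) _ _).symm
  haveI := hF.1
  haveI := isQCoh_tensor_invertible F (PicLoc.isInvertible_pullback ι hQ)
  haveI := isQCoh_tensor_invertible F (PicLoc.isInvertible_pullback ι hB)
  haveI : Coh.IsQCoh (CohB1.tensorMod (CohB1.tensorMod F B) (pullE ι Q)) :=
    isQCoh_tensor_invertible _ (PicLoc.isInvertible_pullback ι hQ)
  refine (HHAffinePushEquiv ι _ i).injective ?_
  rw [map_zero]
  refine (hhAffinePush_natural ι _ ((toAbFunctor _).map ((Scheme.Modules.pushforward ι).map φ)) rfl i x).trans ?_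
  show Lef23.hm ((Scheme.Modules.pushforward ι).map φ) i _ = 0
  rw [show (Scheme.Modules.pushforward ι).map φ = inv (pushTwist ι F Q) ≫ ν ≫
      tensorMap (pushTwist ι F (CohB1.tensorPow L q)) (𝟙 Q) ≫ pushTwist ι (CohB1.tensorMod F B) Q by
    rw [hsq, IsIso.inv_hom_id_assoc]]
  show Sheaf.H.map ((toAbFunctor _).map _) i _ = 0
  rw [Functor.map_comp, Sheaf.H.map_comp_apply, Functor.map_comp, Sheaf.H.map_comp_apply]
  exact (congrArg _ (hk m hm _)).trans (map_zero _)

end Groth.Agent.Lef23
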