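import Groth.Agent.Lef23.ProZeroX
import Groth.Agent.EGA43.FibDepth.Unit

/-!
# The powers of the ideal of zeros of an ample section form a pro-acyclic system below `depth + dim`
-/

set_option autoImplicit false
set_option linter.style.haveILetI false
set_option linter.unusedSectionVars false
set_option backward.isDefEq.respectTransparency.types false

universe u

open CategoryTheory CategoryTheory.Limits AlgebraicGeometry Opposite TopologicalSpace
open Groth.Agent.Coherent Groth.Agent.PicLib Groth.Agent.AmpleLib Groth.Agent.EulerLib Groth.Agent.SerreDual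
open Groth.Agent.Coherent.Serre

namespace Groth.Agent.Lef23

/-- `H^i(I^(Q+1)) → H^i(I^(m+1))` is zero for `Q` large, `i ≤ n`, when `depth + dim > n` off the zeros. -/
theorem exists_pro_zero (k : Type u) [Field k] (X : Scheme.{u}) (f : X ⟶ Spec (CommRingCat.of k)) [IsProper f]
    (L : X.Modules) (hL : CohB1.IsAmple L) (s : Coh.structureModule X ⟶ L) (n : ℕ)
    (hd : ∀ p : X, p ∉ ((PicF2.zeroScheme L s).support : Set X) →
      (n : WithBot ℕ∞) < (LocCoh.depth (X.presheaf.stalk p) (X.presheaf.stalk p) : WithBot ℕ∞) +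
        topologicalKrullDim ↥(closure ({p} : Set X))) (i : ℕ) (hi : i ≤ n) (m : ℕ) :
    ∃ (Q : ℕ) (h : (PicF2.zeroScheme L s) ^ (Q + 1) ≤ (PicF2.zeroScheme L s) ^ (m + 1)),
      ∀ x : Coh.HH X (ClSub.idealMod ((PicF2.zeroScheme L s) ^ (Q + 1))) i, hm (idealIncl h) i x = 0 := by
  classical
  haveI : IsLocallyNoetherian X := LocallyOfFiniteType.isLocallyNoetherian f
  haveI : CompactSpace X := QuasiCompact.compactSpace_of_compactSpace f
  haveI : X.IsSeparated := isSeparated_of_isProper f
  haveI : IsNoetherian X := ⟨⟩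
  let z₀ : Γ(L, ⊤) := unitVal s ⊤
  obtain ⟨N, e, ι, j, τ, he, hι, hιf, hτ⟩ := exists_embedding_sec f hL z₀
  haveI := hι
  haveI := isProper_projSpace_toSpec N k
  let O1 := Twist.twistProjSpace N k 1
  have hO1 : PicF.IsInvertible O1 := isInvertible_O 1
  let h : Γ(O1, ⊤) := ProjUP.coord N k j
  let B := pullE ι O1
  have hB : PicF.IsInvertible B := PicLoc.isInvertible_pullback ι hO1
  let w : Γ(B, ⊤) := PicLib.pullSec ι h
  have hloc : ∀ x : X, ι.base x ∈ glocus O1 h ↔ x ∉ ((PicF2.zeroScheme L s).support : Set X) := by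
    intro x
    have h1 : glocus B w = glocus L z₀ := by
      obtain ⟨e', rfl⟩ := Nat.exists_eq_add_one.2 he
      rw [← glocus_map_iso τ w, show τ.hom.app ⊤ w = powSec z₀ (e' + 1) from hτ, glocus_powSec hL.1 z₀ e']
    have h2 : glocus B w = ι ⁻¹ᵁ glocus O1 h := glocus_pullSec ι hO1 h
    rw [SetLike.mem_coe, HodgeQ27.mem_support_zeroScheme_iff hL.1 s x, not_not]
    show x ∈ ι ⁻¹ᵁ glocus O1 h ↔ _
    rw [← h2, h1]
  have hU : IsAffineOpen (glocus O1 h) :=
    MorProj.isAffineOpen_glocus_of_universallyClosed (CohB1.ProjSpace.toSpec N k) (isAmple_projSpace_one N k) h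
  obtain ⟨q, m₀, hk⟩ := exists_kill_pullback ι hO1 h hU (Coh.structureModule X)
    (CohBC.isCoh_of_isFinLocFree (CohBC.isFinLocFree_structureModule X)) n (fun x hx => by
      refine lt_of_lt_of_eq (hd x ((hloc x).1 hx)) ?_
      rw [CAlgH3.depth_congr (EGA43.FibDepth.unitStalkEquiv x)]) i hi
  -- the inverse
  obtain ⟨M, ⟨eBM⟩⟩ := VarietyLib.exists_isInverseOf hB
  have hM : PicF.IsInvertible M := isInvertible_inverse hB ⟨eBM⟩
  let eM : CohB1.tensorMod M B ≅ Coh.structureModule X := AmpleLib.tensorComm _ _ ≪≫ eBM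
  choose D hD using exists_secChart hB hM w eM
  have hcov : (⨆ y : X, (D y).W) = ⊤ := top_le_iff.1 fun y _ => Opens.mem_iSup.2 ⟨y, hD y⟩
  let J := PicF2.zeroScheme B (unitDesc B w)
  have hkill : ∀ m' : ℕ, m₀ ≤ m' → ∀ x : Coh.HH X (CohB1.tensorPow M (m' + q)) i,
      hm (theta (secForm w eM) m' q) i x = 0 := by
    intro m' hm' x
    have hp : PicF.IsInvertible (CohB1.tensorPow M (m' + q)) := isInvertible_tensorPow hM _
    let A := pullE ι (Twist.twistProjSpace N k (-((m' + q : ℕ) : ℤ)))
    have hcd : InvCl.mk B hB * InvCl.mk M hM = 1 := InvCl.mk_eq _ _ eBM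
    obtain ⟨a⟩ : Nonempty (A ≅ CohB1.tensorPow M (m' + q)) := by
      have h1 := mk_pull_twist ι (c := InvCl.mk B hB) (d := InvCl.mk M hM) rfl hcd (m' + q)
      rw [← InvCl.mk_tensorPow hM] at h1
      exact Quotient.exact h1
    obtain ⟨b, hb⟩ := exists_pullPowIso ι hO1 q
    have hbq : b.hom.app ⊤ (PicLib.pullSec ι (powSec h q)) = powSec w q := hb ⊤ h
    -- contraction of the powers
    have hBq : PicF.IsInvertible (CohB1.tensorPow B q) := isInvertible_tensorPow hB q
    obtain ⟨ν, hν⟩ := exists_iso_of_gens (L := CohB1.tensorMod (CohB1.tensorMod (Coh.structureModule X)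
        (CohB1.tensorPow B q)) (CohB1.tensorPow M (m' + q))) (M := CohB1.tensorPow M m')
      (fun y : X => (D y).W) hcov
      (fun y => tmul (tmul (oneSec _) (powSec (D y).g q)) (powSec (D y).g' (m' + q)))
      (fun y => isGen_tmul (isGen_tmul (isGen_oneSec _) (isGen_powSec (D y).hg q))
        (isGen_powSec (D y).hg' (m' + q)))
      (fun y => powSec (D y).g' m') (fun y => isGen_powSec (D y).hg' m') (by
        intro y z V hy hz c hc
        obtain ⟨d, hdd⟩ := ((D z).hg V hz).2 (resM B hy (D y).g)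
        obtain ⟨d', hd'⟩ := ((D z).hg' V hz).2 (resM M hy (D y).g')
        dsimp only at hdd hd'
        have hp1 : ∀ (y : X) (hy : V ≤ (D y).W),
            (show Γ(X, V) from eM.hom.app V (tmul (resM M hy (D y).g') (resM B hy (D y).g))) = 1 := by
          intro y hy
          rw [← resM_tmul, app_resM]
          show PicLib.res hy (show Γ(X, (D y).W) from eM.hom.app (D y).W (tmul (D y).g' (D y).g)) = 1
          rw [(D y).hpair, map_one]
        have hdd' : d' * d = 1 := by
          have := hp1 y hy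
          rw [← hdd, ← hd', tmul_smul_left, tmul_smul_right, Scheme.Modules.Hom.app_smul,
            Scheme.Modules.Hom.app_smul] at this
          change d' * (d * (show Γ(X, V) from eM.hom.app V (tmul (resM M hz (D z).g') (resM B hz (D z).g)))) = 1 at this
          rwa [hp1 z hz, mul_one] at this
        simp only [resM_tmul, resM_powSec, resM_oneSec] at hc ⊢
        rw [← hdd, ← hd', powSec_smul, powSec_smul] at hc
        simp only [tmul_smul_right, tmul_smul_left, smul_smul] at hc
        have hgz := isGen_tmul (isGen_tmul (isGen_oneSec V) (isGen_powSec ((D z).hg.restrict hz) q))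
          (isGen_powSec ((D z).hg'.restrict hz) (m' + q))
        have hc' : d' ^ (m' + q) * d ^ q = c := by
          refine (hgz V le_rfl).1 ?_
          simp only [resM_self]
          exact hc
        rw [← hd', powSec_smul, ← hc']
        congr 1
        rw [pow_add, mul_assoc, ← mul_pow, hdd', one_pow, mul_one])
    let u := unitTensorIso (CohB1.tensorPow M (m' + q))
    let mid : CohB1.tensorMod (Coh.structureModule X) A ⟶
        CohB1.tensorMod (CohB1.tensorMod (Coh.structureModule X) (pullE ι (CohB1.tensorPow O1 q))) A :=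
      tensorMap (rightMul (Coh.structureModule X) (PicLib.pullSec ι (powSec h q))) (𝟙 A)
    let α : CohB1.tensorPow M (m' + q) ≅ CohB1.tensorMod (Coh.structureModule X) A :=
      u.symm ≪≫ AmpleLib.tensorIso (Iso.refl _) a.symm
    let β : CohB1.tensorMod (CohB1.tensorMod (Coh.structureModule X) (pullE ι (CohB1.tensorPow O1 q))) A ≅
        CohB1.tensorPow M m' := AmpleLib.tensorIso (AmpleLib.tensorIso (Iso.refl _) b) a ≪≫ ν
    have hθ : theta (secForm w eM) m' q = α.hom ≫ mid ≫ β.hom := by
      refine hom_ext_gen (fun y : X => (D y).W) hcov (fun y => powSec (D y).g' (m' + q))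
        (fun y => isGen_powSec (D y).hg' _) _ _ fun y => ?_
      rw [theta_val (D y).secForm_val]
      let W := (D y).W
      have h1 : u.inv.app W (powSec (D y).g' (m' + q)) = tmul (oneSec W) (powSec (D y).g' (m' + q)) := by
        refine (ConcreteCategory.bijective_of_isIso (u.hom.app W)).1 ?_
        show (u.inv ≫ u.hom).app W _ = u.hom.app W (tmul (oneSec W) _)
        rw [Iso.inv_hom_id]
        refine Eq.trans ?_ (Bilin.desc_tmul (unitBilin _) W (oneSec W) _).symm
        exact (one_smul Γ(X, W) _).symm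
      show _ = ν.hom.app W ((tensorMap (AmpleLib.tensorIso (Iso.refl _) b).hom a.hom).app W
        ((tensorMap (rightMul _ (PicLib.pullSec ι (powSec h q))) (𝟙 A)).app W
          ((tensorMap (𝟙 _) a.inv).app W (u.inv.app W (powSec (D y).g' (m' + q))))))
      rw [h1, tensorMap_tmul, tensorMap_tmul, tensorMap_tmul]
      show _ = ν.hom.app W (tmul ((tensorMap (𝟙 _) b.hom).app W (tmul (oneSec W)
        (resM _ le_top (PicLib.pullSec ι (powSec h q))))) ((a.inv ≫ a.hom).app W (powSec (D y).g' (m' + q))))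
      rw [Iso.inv_hom_id, tensorMap_tmul, app_resM, hbq]
      show _ = ν.hom.app W (tmul (tmul (oneSec W) (resM _ le_top (powSec w q))) (powSec (D y).g' (m' + q)))
      rw [resM_powSec, ← (D y).hc, powSec_smul, tmul_smul_right, tmul_smul_left, Scheme.Modules.Hom.app_smul, hν y]
    rw [hθ, hm_comp, hm_comp]
    erw [hk (m' + q) (le_add_right hm') (hm α.hom i x)]
    exact hm_zero _ _
  -- comparison of the two ideals
  have hsupp : (J.support : Set X) = ((PicF2.zeroScheme L s).support : Set X) := by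
    ext x
    rw [SetLike.mem_coe, HodgeQ27.mem_support_zeroScheme_iff hB, unitVal_unitDesc, resM_self,
      glocus_pullSec ι hO1 h]
    show ι.base x ∉ glocus O1 h ↔ _
    rw [hloc x, not_not]
  obtain ⟨a, ha⟩ := Groth.Agent.S3852.result X (PicF2.zeroScheme L s) J hsupp.le
  obtain ⟨b, hb⟩ := Groth.Agent.S3852.result X J (PicF2.zeroScheme L s) hsupp.ge
  let I := PicF2.zeroScheme L s
  obtain ⟨Q₀, hQ₀, hzero⟩ := exists_incl_zero hB hM eM w J rfl i q m₀ hkill ((b + 1) * (m + 1))
  have e₁ : J ^ ((b + 1) * (m + 1) + 1) ≤ I ^ (m + 1) := by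
    refine (pow_le_pow_right_of_le_one' le_top (Nat.le_succ _)).trans ?_
    rw [pow_mul]
    exact pow_le_pow_left' hb _
  obtain ⟨Q, hQ, hQm⟩ : ∃ Q, (a + 1) * (Q₀ + 1) ≤ Q + 1 ∧ m + 1 ≤ Q + 1 :=
    ⟨(a + 1) * (Q₀ + 1) + m, by omega, by omega⟩
  have e₀ : I ^ (Q + 1) ≤ J ^ (Q₀ + 1) := by
    refine (pow_le_pow_right_of_le_one' le_top hQ).trans ?_
    rw [pow_mul]
    exact pow_le_pow_left' ha _
  refine ⟨Q, pow_le_pow_right_of_le_one' le_top hQm, fun x => ?_⟩
  rw [show idealIncl (pow_le_pow_right_of_le_one' le_top hQm : I ^ (Q + 1) ≤ I ^ (m + 1)) =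
    idealIncl e₀ ≫ idealIncl hQ₀ ≫ idealIncl e₁ by rw [idealIncl_comp, idealIncl_comp]]
  rw [hm_comp, hm_comp, hzero, hm_zero]

end Groth.Agent.Lef23
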