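import Groth.Agent.Lef23.PuncturedClopen

/-!
# Full faithfulness of restriction to a hypersurface of the punctured spectrum of a local ring
-/

set_option autoImplicit false
set_option backward.isDefEq.respectTransparency false

universe u

open CategoryTheory CategoryTheory.Limits AlgebraicGeometry

namespace Groth.Agent.Lef23.PuncturedClopen

/-- The statement for the punctured spectrum of a local ring. -/
theorem restrict_fullyFaithful_local (A : Type u) [CommRing A] [IsNoetherianRing A] [IsLocalRing A] (f : A)
    [HenselianRing A (Ideal.span {f})]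
    (h1 : ∃ n : ℕ, ∀ x : _root_.LocCoh.H (IsLocalRing.maximalIdeal A) 1 A, (f ^ n) • x = 0)
    (h2 : ∃ n : ℕ, ∀ x : _root_.LocCoh.H (IsLocalRing.maximalIdeal A) 2 A, (f ^ n) • x = 0) :
    (FEt.restrict (pullback.fst (FEt.puncturedSpec A).ι
      (Spec.map (CommRingCat.ofHom (Ideal.Quotient.mk (Ideal.span {f})))))).Full ∧
    (FEt.restrict (pullback.fst (FEt.puncturedSpec A).ι
      (Spec.map (CommRingCat.ofHom (Ideal.Quotient.mk (Ideal.span {f})))))).Faithful := by
  haveI : IsClosedImmersion (Spec.map (CommRingCat.ofHom (Ideal.Quotient.mk (Ideal.span ({f} : Set A))))) :=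
    IsClosedImmersion.spec_of_surjective _ Ideal.Quotient.mk_surjective
  refine restrict_fullyFaithful (R := CommRingCat.of A) (IsLocalRing.maximalIdeal A) f h1 h2 _ ?_ _ ?_
  · refine TopologicalSpace.Opens.ext (Set.ext fun p => not_congr ⟨fun h => ?_, fun h => ?_⟩)
    · rw [Set.mem_singleton_iff.1 h]
      exact le_refl (IsLocalRing.maximalIdeal A)
    · exact PrimeSpectrum.ext (IsLocalRing.eq_maximalIdeal
        ((IsLocalRing.maximalIdeal.isMaximal A).eq_of_le p.2.ne_top h ▸ IsLocalRing.maximalIdeal.isMaximal A))
  · refine (range_comap_of_surjective _ _ Ideal.Quotient.mk_surjective).trans ?_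
    rw [Ideal.mk_ker, PrimeSpectrum.zeroLocus_span]
    exact Set.ext fun p => Set.singleton_subset_iff

end Groth.Agent.Lef23.PuncturedClopen
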