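import Groth.Agent.Et18.Descent
import Groth.Agent.Formal2Lib.PuncturedMod
import Mathlib.RingTheory.Flat.FaithfullyFlat.Algebra
import Mathlib.RingTheory.Finiteness.Descent
import Mathlib.RingTheory.Etale.Descent

/-!
# Extensions over the closed point descend along maps which do not change the closed point's neighbourhoods

If `A → A'` is faithfully flat with `A → A' / 𝔪ⁿA'` surjective for all `n`, a finite scheme over the punctured
spectrum of `A` extends to a finite scheme over `A` as soon as it does so over `A'`.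
-/

set_option autoImplicit false
set_option linter.style.haveILetI false
set_option backward.isDefEq.respectTransparency false
set_option linter.unusedSectionVars false

universe u

open CategoryTheory CategoryTheory.Limits AlgebraicGeometry TopologicalSpace TensorProduct

noncomputable section

namespace Groth.Agent.Lef23.Descend

section alg

variable {A A' : Type u} [CommRing A] [CommRing A'] [Algebra A A'] [IsNoetherianRing A] (𝔪 : Ideal A)
  (hdense : ∀ (n : ℕ) (b : A'), ∃ a : A, b - algebraMap A A' a ∈ (𝔪 ^ n).map (algebraMap A A'))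
  {C : Type u} [CommRing C] [Algebra A C] {B : Type u} [CommRing B] [Algebra A' B] [Algebra A B] [IsScalarTower A A' B]
  (φ : B →ₐ[A'] A' ⊗[A] C)

/-- The gluing. -/
def glue : Subalgebra A B :=
  (Algebra.TensorProduct.includeRight (R := A) (A := A') (B := C)).range.comap (φ.restrictScalars A)

/-- The comparison map. -/
def ψ : A' ⊗[A] glue φ →ₐ[A'] B :=
  Algebra.TensorProduct.lift (Algebra.ofId A' B) (glue φ).val fun _ _ => Commute.all _ _

variable [Module.FaithfullyFlat A A'] (hker : ∀ a ∈ 𝔪, ∀ b, φ b = 0 → ∃ N : ℕ, a ^ N • b = 0)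
  (hcoker : ∀ a ∈ 𝔪, ∀ c, ∃ (N : ℕ) (b : B), φ b = a ^ N • c)

theorem includeRight_inj :
    Function.Injective (Algebra.TensorProduct.includeRight (R := A) (A := A') (B := C)) :=
  Module.FaithfullyFlat.tensorProduct_mk_injective (A := A) (B := A') C

/-- The map from the gluing. -/
def χ : glue φ →ₐ[A] C :=
  ((AlgEquiv.ofInjective _ (includeRight_inj (A := A) (A' := A') (C := C))).symm.toAlgHom).comp
    (((φ.restrictScalars A).comp (glue φ).val).codRestrict _ fun x => x.2)

theorem one_tmul_χ (x : glue φ) : (1 : A') ⊗ₜ[A] χ φ x = φ x :=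
  congrArg Subtype.val ((AlgEquiv.ofInjective _ (includeRight_inj (A := A) (A' := A') (C := C))).apply_symm_apply
    ⟨φ x, x.2⟩)

theorem φ_ψ (z : A' ⊗[A] glue φ) : φ (ψ φ z) = (χ φ).toLinearMap.lTensor A' z := by
  induction z with
  | zero => simp
  | add a b ha hb => rw [map_add, map_add, ha, hb, map_add]
  | tmul a x =>
    rw [LinearMap.lTensor_tmul]
    show φ (algebraMap A' B a * x.1) = a ⊗ₜ[A] χ φ x
    rw [map_mul, AlgHom.commutes, ← one_tmul_χ, Algebra.TensorProduct.algebraMap_apply,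
      Algebra.TensorProduct.tmul_mul_tmul]
    simp

omit [Module.FaithfullyFlat A A'] in
theorem exists_pow_mem (M : Type u) [AddCommGroup M] [Module A M] (S : Submodule A M) (x : M)
    (h : ∀ a ∈ 𝔪, ∃ N : ℕ, a ^ N • x ∈ S) : ∃ n : ℕ, ∀ b ∈ 𝔪 ^ n, b • x ∈ S :=
  Formal2Lib.Punct.torsion_of_gens (R := CommRingCat.of A) 𝔪 (t := (𝔪 : Set A)) (Ideal.span_eq 𝔪).ge S x h

include hdense hker hcoker in
theorem ψ_bijective : Function.Bijective (ψ φ) := by
  refine ⟨(injective_iff_map_eq_zero _).2 fun z hz => ?_, fun b => ?_⟩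
  · have hex : Function.Exact (LinearMap.ker (χ φ).toLinearMap).subtype (χ φ).toLinearMap :=
      LinearMap.exact_subtype_ker_map _
    obtain ⟨w, rfl⟩ := (Module.Flat.lTensor_exact A' hex z).1 (by rw [← φ_ψ, hz, map_zero])
    suffices ∃ k, w = (1 : A') ⊗ₜ[A] k by
      obtain ⟨k, rfl⟩ := this
      rw [LinearMap.lTensor_tmul] at hz ⊢
      have : (algebraMap A' B 1 : B) * (k.1 : glue φ).1 = 0 := hz
      rw [map_one, one_mul] at this
      rw [show (LinearMap.ker (χ φ).toLinearMap).subtype k = 0 from Subtype.ext this, TensorProduct.tmul_zero]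
    clear hz
    induction w with
    | zero => exact ⟨0, by rw [TensorProduct.tmul_zero]⟩
    | add a b ha hb =>
      obtain ⟨ka, rfl⟩ := ha
      obtain ⟨kb, rfl⟩ := hb
      exact ⟨ka + kb, by rw [TensorProduct.tmul_add]⟩
    | tmul a k =>
      obtain ⟨n, hn⟩ := exists_pow_mem 𝔪 _ (⊥ : Submodule A (LinearMap.ker (χ φ).toLinearMap)) k fun c hc => by
        obtain ⟨N, hN⟩ := hker c hc k.1.1 (by
          rw [← one_tmul_χ, show χ φ k.1 = 0 from k.2, TensorProduct.tmul_zero])
        exact ⟨N, (Submodule.mem_bot A).2 (Subtype.ext (Subtype.ext hN))⟩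
      obtain ⟨a₀, ha₀⟩ := hdense n a
      refine ⟨a₀ • k, ?_⟩
      rw [TensorProduct.tmul_smul, TensorProduct.smul_tmul', ← sub_eq_zero, ← TensorProduct.sub_tmul,
        ← Algebra.algebraMap_eq_smul_one]
      generalize a - algebraMap A A' a₀ = d at ha₀ ⊢
      induction ha₀ using Submodule.span_induction with
      | mem d hd =>
        obtain ⟨c, hc, rfl⟩ := hd
        rw [Algebra.algebraMap_eq_smul_one, TensorProduct.smul_tmul, (Submodule.mem_bot A).1 (hn c hc),
          TensorProduct.tmul_zero]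
      | zero => exact TensorProduct.zero_tmul _ _
      | add a b _ _ ha hb => rw [TensorProduct.add_tmul, ha, hb, add_zero]
      | smul a d _ hd =>
        rw [show a • d = a * d from rfl, show (a * d) ⊗ₜ[A] k = a • (d ⊗ₜ[A] k) from rfl, hd, smul_zero]
  · suffices key : ∀ y : A' ⊗[A] C, ∃ (z : A' ⊗[A] glue φ) (c : C), φ (ψ φ z) + (1 : A') ⊗ₜ[A] c = y by
      obtain ⟨z, c, hzc⟩ := key (φ b)
      have hmem : b - ψ φ z ∈ glue φ := by
        refine ⟨c, ?_⟩
        show (1 : A') ⊗ₜ[A] c = φ (b - ψ φ z)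
        rw [map_sub, ← hzc, add_sub_cancel_left]
      refine ⟨z + (1 : A') ⊗ₜ[A] ⟨b - ψ φ z, hmem⟩, ?_⟩
      rw [map_add, show ψ φ ((1 : A') ⊗ₜ[A] (⟨b - ψ φ z, hmem⟩ : glue φ)) = algebraMap A' B 1 * (b - ψ φ z) from rfl,
        map_one, one_mul, add_sub_cancel]
    intro y
    induction y with
    | zero => exact ⟨0, 0, by simp⟩
    | add a b ha hb =>
      obtain ⟨za, ca, rfl⟩ := ha
      obtain ⟨zb, cb, rfl⟩ := hb
      exact ⟨za + zb, ca + cb, by rw [map_add, map_add, TensorProduct.tmul_add]; abel⟩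
    | tmul a c =>
      obtain ⟨n, hn⟩ := exists_pow_mem 𝔪 _ (LinearMap.range (χ φ).toLinearMap) c fun r hr => by
        obtain ⟨N, b, hb⟩ := hcoker r hr ((1 : A') ⊗ₜ c)
        rw [← TensorProduct.tmul_smul] at hb
        refine ⟨N, ⟨b, r ^ N • c, hb.symm⟩, includeRight_inj (A := A) (A' := A') ?_⟩
        show (1 : A') ⊗ₜ[A] χ φ _ = (1 : A') ⊗ₜ[A] (r ^ N • c)
        exact (one_tmul_χ φ _).trans hb
      obtain ⟨a₀, ha₀⟩ := hdense n a
      suffices hd : ∃ z : A' ⊗[A] glue φ, φ (ψ φ z) = (a - algebraMap A A' a₀) ⊗ₜ[A] c by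
        obtain ⟨z, hz⟩ := hd
        refine ⟨z, a₀ • c, ?_⟩
        rw [hz, TensorProduct.tmul_smul, TensorProduct.smul_tmul', ← Algebra.algebraMap_eq_smul_one,
          ← TensorProduct.add_tmul, sub_add_cancel]
      generalize a - algebraMap A A' a₀ = d at ha₀ ⊢
      induction ha₀ using Submodule.span_induction with
      | mem d hd =>
        obtain ⟨r, hr, rfl⟩ := hd
        obtain ⟨m, hm⟩ := hn r hr
        refine ⟨(1 : A') ⊗ₜ[A] m, ?_⟩
        rw [φ_ψ, LinearMap.lTensor_tmul, hm, Algebra.algebraMap_eq_smul_one, TensorProduct.smul_tmul]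
      | zero => exact ⟨0, by simp⟩
      | add p q _ _ hp hq =>
        obtain ⟨zp, hzp⟩ := hp
        obtain ⟨zq, hzq⟩ := hq
        exact ⟨zp + zq, by rw [map_add, map_add, hzp, hzq, TensorProduct.add_tmul]⟩
      | smul p d _ hd =>
        obtain ⟨zd, hzd⟩ := hd
        exact ⟨p • zd, by rw [map_smul, map_smul, hzd]; rfl⟩

include hker in
theorem χ_ker (a : A) (ha : a ∈ 𝔪) (x : glue φ) (hx : χ φ x = 0) : ∃ N : ℕ, a ^ N • x = 0 := by
  obtain ⟨N, hN⟩ := hker a ha x.1 (by rw [← one_tmul_χ, hx, TensorProduct.tmul_zero])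
  exact ⟨N, Subtype.ext hN⟩

include hcoker in
theorem χ_coker (a : A) (ha : a ∈ 𝔪) (c : C) : ∃ (N : ℕ) (x : glue φ), χ φ x = a ^ N • c := by
  obtain ⟨N, b, hb⟩ := hcoker a ha ((1 : A') ⊗ₜ c)
  rw [← TensorProduct.tmul_smul] at hb
  refine ⟨N, ⟨b, a ^ N • c, hb.symm⟩, includeRight_inj (A := A) (A' := A') ?_⟩
  show (1 : A') ⊗ₜ[A] χ φ _ = (1 : A') ⊗ₜ[A] (a ^ N • c)
  exact (one_tmul_χ φ _).trans hb

end alg

section loc

variable {X Y : Scheme.{u}} [CompactSpace X] [QuasiSeparatedSpace X] [CompactSpace Y] [QuasiSeparatedSpace Y]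
  (g : X ⟶ Y) (r : Γ(Y, ⊤))

theorem app_bijective_iff : Function.Bijective (g.app (Y.basicOpen r)) ↔
    (∀ y, g.appTop y = 0 → ∃ N : ℕ, r ^ N * y = 0) ∧
      ∀ x, ∃ (N : ℕ) (y : Γ(Y, ⊤)), g.appTop y = g.appTop r ^ N * x := by
  have hpre : g ⁻¹ᵁ Y.basicOpen r = X.basicOpen (g.appTop r) := Scheme.preimage_basicOpen_top g r
  let L := g.appLE (Y.basicOpen r) (X.basicOpen (g.appTop r)) hpre.ge
  have hL : Function.Bijective (g.app (Y.basicOpen r)) ↔ Function.Bijective L := by
    have key : ∀ (V : X.Opens) (h : V = g ⁻¹ᵁ Y.basicOpen r),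
        Function.Bijective (g.app (Y.basicOpen r)) ↔ Function.Bijective (g.appLE (Y.basicOpen r) V h.le) := by
      rintro V rfl
      rw [← Scheme.Hom.app_eq_appLE]
    exact key _ hpre.symm
  haveI hY := isLocalization_basicOpen_of_qcqs (X := Y) isCompact_univ isQuasiSeparated_univ r
  haveI hX := isLocalization_basicOpen_of_qcqs (X := X) isCompact_univ isQuasiSeparated_univ (g.appTop r)
  have hsq : ∀ y, L (algebraMap Γ(Y, ⊤) Γ(Y, Y.basicOpen r) y) =
      algebraMap Γ(X, ⊤) Γ(X, X.basicOpen (g.appTop r)) (g.appTop y) := fun y => by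
    have h1 := g.map_appLE hpre.ge (homOfLE (le_top : Y.basicOpen r ≤ ⊤)).op
    exact ConcreteCategory.congr_hom h1 y
  have huY := IsLocalization.Away.algebraMap_isUnit (S := Γ(Y, Y.basicOpen r)) r
  rw [hL]
  constructor
  · intro hb
    refine ⟨fun y hy => ?_, fun x => ?_⟩
    · have h1 : algebraMap Γ(Y, ⊤) Γ(Y, Y.basicOpen r) y = 0 := hb.1 (by rw [hsq, hy, map_zero, map_zero])
      obtain ⟨⟨_, N, rfl⟩, hN⟩ := (IsLocalization.map_eq_zero_iff (Submonoid.powers r) _ y).1 h1
      exact ⟨N, hN⟩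
    · obtain ⟨z, hz⟩ := hb.2 (algebraMap Γ(X, ⊤) Γ(X, X.basicOpen (g.appTop r)) x)
      obtain ⟨⟨y, _, n, rfl⟩, hy⟩ := IsLocalization.surj (Submonoid.powers r) z
      have h2 : algebraMap Γ(X, ⊤) Γ(X, X.basicOpen (g.appTop r)) (g.appTop y - g.appTop r ^ n * x) = 0 := by
        have h3 := congrArg L hy
        rw [map_mul, hsq, hsq, hz, map_pow] at h3
        rw [map_sub, map_mul, ← h3, mul_comm, sub_self]
      obtain ⟨⟨_, N, rfl⟩, hN⟩ := (IsLocalization.map_eq_zero_iff (Submonoid.powers (g.appTop r)) _ _).1 h2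
      refine ⟨N + n, r ^ N * y, ?_⟩
      rw [mul_sub, sub_eq_zero] at hN
      rw [map_mul, map_pow, pow_add, mul_assoc]
      exact hN
  · rintro ⟨hk, hc⟩
    refine ⟨(injective_iff_map_eq_zero _).2 fun z hz => ?_, fun w => ?_⟩
    · obtain ⟨⟨y, _, n, rfl⟩, hy⟩ := IsLocalization.surj (Submonoid.powers r) z
      have h3 := congrArg L hy
      rw [map_mul, hz, zero_mul, hsq] at h3
      obtain ⟨⟨_, N, rfl⟩, hN⟩ := (IsLocalization.map_eq_zero_iff (Submonoid.powers (g.appTop r)) _ _).1 h3.symm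
      obtain ⟨M, hM⟩ := hk (r ^ N * y) (by rw [map_mul, map_pow]; exact hN)
      have h4 : algebraMap Γ(Y, ⊤) Γ(Y, Y.basicOpen r) y = 0 := by
        rw [IsLocalization.map_eq_zero_iff (Submonoid.powers r)]
        exact ⟨⟨_, M + N, rfl⟩, by show r ^ (M + N) * y = 0; rw [← hM, pow_add, mul_assoc]⟩
      rw [h4, map_pow] at hy
      exact (huY.pow n).mul_left_eq_zero.1 hy
    · obtain ⟨⟨x, _, n, rfl⟩, hx⟩ := IsLocalization.surj (Submonoid.powers (g.appTop r)) w
      obtain ⟨N, y, hy⟩ := hc x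
      obtain ⟨q, hq⟩ := (huY.pow (N + n)).dvd (a := algebraMap Γ(Y, ⊤) Γ(Y, Y.basicOpen r) y)
      refine ⟨q, ?_⟩
      have h3 := congrArg L hq
      rw [hsq, hy, map_mul, map_mul, map_pow, map_pow, hsq, ← hx, map_pow, pow_add, mul_comm w, ← mul_assoc] at h3
      exact (((IsLocalization.Away.algebraMap_isUnit (S := Γ(X, X.basicOpen (g.appTop r))) (g.appTop r)).pow N).mul
        ((IsLocalization.Away.algebraMap_isUnit (S := Γ(X, X.basicOpen (g.appTop r))) (g.appTop r)).pow n)).mul_left_cancel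
        h3.symm

end loc

end Groth.Agent.Lef23.Descend
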