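import Groth.Agent.Lef23.PuncturedDescend
import Groth.Prelude.Def_FEt
import Mathlib.AlgebraicGeometry.Morphisms.Finite
import Mathlib.AlgebraicGeometry.Morphisms.Etale

/-!
# Finite schemes over the punctured spectrum which extend after a dense faithfully flat base change
-/

set_option autoImplicit false
set_option linter.style.haveILetI false
set_option backward.isDefEq.respectTransparency false

universe u

open CategoryTheory CategoryTheory.Limits AlgebraicGeometry TopologicalSpace TensorProduct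

noncomputable section

namespace Groth.Agent.Lef23.Descend

theorem toSpecΓ_comp_map {X : Scheme.{u}} {R : CommRingCat.{u}} (h : X ⟶ Spec R) :
    X.toSpecΓ ≫ Spec.map ((Scheme.ΓSpecIso R).inv ≫ h.appTop) = h := by
  rw [Spec.map_comp, ← Scheme.toSpecΓ_naturality_assoc, ← SpecMap_ΓSpecIso_hom, ← Spec.map_comp,
    Iso.inv_hom_id, Spec.map_id, Category.comp_id]

variable (A : Type u) [CommRing A] [IsNoetherianRing A] [IsLocalRing A] (A' : Type u) [CommRing A'] [Algebra A A']
  [IsNoetherianRing A'] [Module.FaithfullyFlat A A']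
  (hdense : ∀ (n : ℕ) (b : A'), ∃ a : A,
    b - algebraMap A A' a ∈ ((IsLocalRing.maximalIdeal A) ^ n).map (algebraMap A A'))

/-- The base change. -/
abbrev gq : Spec (CommRingCat.of A') ⟶ Spec (CommRingCat.of A) := Spec.map (CommRingCat.ofHom (algebraMap A A'))

omit [IsNoetherianRing A] [IsNoetherianRing A'] [Module.FaithfullyFlat A A'] in
theorem mem_puncturedSpec {a : A} (ha : a ∈ IsLocalRing.maximalIdeal A) {p : Spec (CommRingCat.of A)}
    (hp : a ∉ p.asIdeal) : p ∈ FEt.puncturedSpec A :=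
  fun h => hp ((Set.mem_singleton_iff.1 h) ▸ ha)

omit [IsNoetherianRing A] [IsNoetherianRing A'] [Module.FaithfullyFlat A A'] in
theorem exists_notMem {p : Spec (CommRingCat.of A)} (hp : p ∈ FEt.puncturedSpec A) :
    ∃ a ∈ IsLocalRing.maximalIdeal A, a ∉ p.asIdeal := by
  refine Set.not_subset.1 fun h => hp (Set.mem_singleton_iff.2 (PrimeSpectrum.ext ?_))
  exact le_antisymm (IsLocalRing.le_maximalIdeal p.2.ne_top) h

omit [IsNoetherianRing A] [IsNoetherianRing A'] [Module.FaithfullyFlat A A'] in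
/-- A scheme finite over the punctured spectrum is the restriction of an affine scheme with the same functions up to
torsion. -/
theorem isPullback_of_torsion {M : Type u} [CommRing M] [Algebra A M] {V : Scheme.{u}}
    (h : V ⟶ (FEt.puncturedSpec A : Scheme.{u})) [IsFinite h] [CompactSpace V] [QuasiSeparatedSpace V]
    (mV : V ⟶ Spec (CommRingCat.of M))
    (hmV : mV ≫ Spec.map (CommRingCat.ofHom (algebraMap A M)) = h ≫ (FEt.puncturedSpec A).ι)
    (hkc : ∀ a ∈ IsLocalRing.maximalIdeal A,
      let r := (Scheme.ΓSpecIso (CommRingCat.of M)).inv (algebraMap A M a)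
      (∀ z, mV.appTop z = 0 → ∃ N : ℕ, r ^ N * z = 0) ∧
        ∀ x, ∃ (N : ℕ) (z : Γ(Spec (CommRingCat.of M), ⊤)), mV.appTop z = mV.appTop r ^ N * x) :
    IsPullback mV h (Spec.map (CommRingCat.ofHom (algebraMap A M))) (FEt.puncturedSpec A).ι := by
  let U := FEt.puncturedSpec A
  let y := Spec.map (CommRingCat.ofHom (algebraMap A M))
  let sV : V ⟶ Spec (CommRingCat.of A) := h ≫ U.ι
  let W := y ⁻¹ᵁ U
  have hW : mV ⁻¹ᵁ W = ⊤ := top_le_iff.1 fun v _ => by
    show y (mV v) ∈ U
    rw [← Scheme.Hom.comp_apply, hmV]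
    exact (h v).2
  haveI hiso : IsIso (mV ∣_ W) := by
    let T : ↥(IsLocalRing.maximalIdeal A : Set A) → (Spec (CommRingCat.of M)).Opens :=
      fun a => y ⁻¹ᵁ PrimeSpectrum.basicOpen (a : A)
    have hTW : ∀ a, T a ≤ W := fun a z hz => mem_puncturedSpec A a.2 hz
    refine IsZariskiLocalAtTarget.of_iSup_eq_top (P := MorphismProperty.isomorphisms Scheme)
      (fun a => W.ι ⁻¹ᵁ T a) ?_ fun a => ?_
    · refine top_le_iff.1 fun z _ => ?_
      obtain ⟨a, ha, haz⟩ := exists_notMem A z.2
      exact Opens.mem_iSup.2 ⟨⟨a, ha⟩, haz⟩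
    rw [(MorphismProperty.isomorphisms Scheme.{u}).arrow_mk_iso_iff (morphismRestrictRestrict mV W _ ≪≫ morphismRestrictEq mV
      (show W.ι ''ᵁ W.ι ⁻¹ᵁ T a = T a by
        rw [Scheme.Hom.image_preimage_eq_opensRange_inf, Scheme.Opens.opensRange_ι]
        exact inf_eq_right.2 (hTW a)))]
    show IsIso _
    have hD : IsAffineOpen (X := Spec (CommRingCat.of A)) (PrimeSpectrum.basicOpen (a : A)) :=
      IsAffineOpen.Spec_basicOpen (R := CommRingCat.of A) (a : A)
    haveI hTa : IsAffine (T a : Scheme.{u}) := hD.preimage y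
    have hle : PrimeSpectrum.basicOpen (a : A) ≤ (FEt.puncturedSpec A).ι.opensRange := by
      rw [Scheme.Opens.opensRange_ι]; exact fun z hz => mem_puncturedSpec A a.2 hz
    have h2 : IsAffineOpen (mV ⁻¹ᵁ T a) := by
      have h1 : mV ⁻¹ᵁ T a = h ⁻¹ᵁ ((FEt.puncturedSpec A).ι ⁻¹ᵁ PrimeSpectrum.basicOpen (a : A)) := by
        rw [show T a = y ⁻¹ᵁ PrimeSpectrum.basicOpen (a : A) from rfl, ← Scheme.Hom.comp_preimage, hmV,
          Scheme.Hom.comp_preimage]
      rw [h1]
      exact (hD.preimage_of_isOpenImmersion _ hle).preimage h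
    haveI : IsAffine (mV ⁻¹ᵁ T a : Scheme.{u}) := h2
    let r : Γ(Spec (CommRingCat.of M), ⊤) := (Scheme.ΓSpecIso (CommRingCat.of M)).inv (algebraMap A M (a : A))
    have hr : (Spec (CommRingCat.of M)).basicOpen r = T a :=
      (basicOpen_eq_of_affine (R := CommRingCat.of M) (algebraMap A M (a : A))).trans rfl
    have hbij : Function.Bijective (mV.app ((Spec (CommRingCat.of M)).basicOpen r)) :=
      (app_bijective_iff mV r).2 (hkc (a : A) a.2)
    haveI : IsIso (mV ∣_ T a).appTop := by
      have key : ∀ O : (Spec (CommRingCat.of M)).Opens, O = (Spec (CommRingCat.of M)).basicOpen r →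
          IsIso (mV.app O) := by rintro _ rfl; exact (ConcreteCategory.isIso_iff_bijective _).2 hbij
      show IsIso ((mV ∣_ T a).app ⊤)
      rw [morphismRestrict_app]
      exact (key _ ((Scheme.Opens.ι_image_top (T a)).trans hr.symm)).comp_isIso' inferInstance
    exact Et18.isIso_of_isIso_appTop _
  let e₀ : V ≅ (mV ⁻¹ᵁ W : Scheme.{u}) := V.topIso.symm ≪≫ V.isoOfEq hW.symm
  have he₀ : mV = (e₀.hom ≫ (mV ∣_ W)) ≫ W.ι := by
    rw [Category.assoc, morphismRestrict_ι]
    simp [e₀]
  haveI : IsOpenImmersion mV := by rw [he₀]; infer_instance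
  have hrange : y ⁻¹ᵁ U.ι.opensRange = mV.opensRange := by
    refine TopologicalSpace.Opens.ext ?_
    rw [Scheme.Opens.opensRange_ι, Scheme.Hom.coe_opensRange, he₀, Scheme.Hom.comp_base, TopCat.coe_comp,
      Set.range_comp, Set.range_eq_univ.2 (e₀.hom ≫ (mV ∣_ W)).surjective, Set.image_univ, Scheme.Opens.range_ι]
  exact (IsOpenImmersion.isPullback h mV U.ι y hmV hrange).flip

include hdense

/-- Descent of extensions over the closed point. -/
theorem exists_extension {V : Scheme.{u}} (h : V ⟶ (FEt.puncturedSpec A : Scheme.{u})) [IsFinite h] {Y' : Scheme.{u}}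
    (y' : Y' ⟶ Spec (CommRingCat.of A')) [IsFinite y']
    (e : pullback h (pullback.fst (FEt.puncturedSpec A).ι (gq A A')) ≅
      pullback y' (pullback.snd (FEt.puncturedSpec A).ι (gq A A')))
    (he : e.hom ≫ pullback.snd _ _ = pullback.snd _ _) :
    ∃ (Y : Scheme.{u}) (y : Y ⟶ Spec (CommRingCat.of A)) (_ : IsFinite y), (Etale y' → Etale y) ∧
      (∃ i : pullback y (FEt.puncturedSpec A).ι ≅ V, i.hom ≫ h = pullback.snd _ _) ∧
      ∃ j : pullback y (gq A A') ≅ Y', j.hom ≫ y' = pullback.snd _ _ := by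
  let U := FEt.puncturedSpec A
  let g := gq A A'
  let k := pullback.fst U.ι g
  let ι' := pullback.snd U.ι g
  haveI : Flat g := (HasRingHomProperty.Spec_iff (P := @Flat)).2 (RingHom.flat_algebraMap_iff.2 inferInstance)
  haveI : IsLocallyNoetherian (U : Scheme.{u}) := isLocallyNoetherian_of_isOpenImmersion U.ι
  haveI : CompactSpace (U : Scheme.{u}) :=
    isCompact_iff_compactSpace.1 (NoetherianSpace.isCompact (α := PrimeSpectrum A) U.1)
  haveI : CompactSpace V := QuasiCompact.compactSpace_of_compactSpace h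
  haveI : IsLocallyNoetherian V := LocallyOfFiniteType.isLocallyNoetherian h
  haveI : IsAffine Y' := isAffine_of_isAffineHom y'
  let P := pullback h k
  let sV : V ⟶ Spec (CommRingCat.of A) := h ≫ U.ι
  let sP : P ⟶ Spec (CommRingCat.of A') := pullback.snd h k ≫ ι'
  let mP : P ⟶ Y' := e.hom ≫ pullback.fst y' ι'
  have HP : IsPullback (pullback.fst h k) sP sV g :=
    (IsPullback.of_hasPullback h k).paste_vert (IsPullback.of_hasPullback U.ι g)
  have hmP : mP ≫ y' = sP := by
    simp only [mP, sP, Category.assoc, pullback.condition]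
    rw [← Category.assoc, he]
  haveI : CompactSpace (pullback U.ι g : Scheme.{u}) := QuasiCompact.compactSpace_of_compactSpace (pullback.fst U.ι g)
  haveI : CompactSpace P := QuasiCompact.compactSpace_of_compactSpace (pullback.fst h k)
  haveI : IsLocallyNoetherian (pullback U.ι g : Scheme.{u}) :=
    isLocallyNoetherian_of_isOpenImmersion (pullback.snd U.ι g)
  haveI : IsFinite (pullback.snd h k) := MorphismProperty.pullback_snd _ _ ‹IsFinite h›
  haveI : IsLocallyNoetherian P := LocallyOfFiniteType.isLocallyNoetherian (pullback.snd h k)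
  -- the rings
  let C := Γ(V, ⊤)
  let B := Γ(Y', ⊤)
  let D := Γ(P, ⊤)
  let αC : CommRingCat.of A ⟶ C := (Scheme.ΓSpecIso (CommRingCat.of A)).inv ≫ sV.appTop
  let αB : CommRingCat.of A' ⟶ B := (Scheme.ΓSpecIso (CommRingCat.of A')).inv ≫ y'.appTop
  let αD : CommRingCat.of A' ⟶ D := (Scheme.ΓSpecIso (CommRingCat.of A')).inv ≫ sP.appTop
  letI : Algebra A C := αC.hom.toAlgebra
  letI : Algebra A' B := αB.hom.toAlgebra
  letI : Algebra A' D := αD.hom.toAlgebra
  letI : Algebra A B := (αB.hom.comp (algebraMap A A')).toAlgebra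
  letI : Algebra A D := (αD.hom.comp (algebraMap A A')).toAlgebra
  haveI : IsScalarTower A A' B := .of_algebraMap_eq' rfl
  haveI : IsScalarTower A A' D := .of_algebraMap_eq' rfl
  letI : Algebra C D := (pullback.fst h k).appTop.hom.toAlgebra
  have hsq : CommRingCat.ofHom (algebraMap A A') ≫ αD = αC ≫ (pullback.fst h k).appTop := by
    show CommRingCat.ofHom _ ≫ (_ ≫ sP.appTop) = (_ ≫ sV.appTop) ≫ (pullback.fst h k).appTop
    rw [← Category.assoc, Scheme.ΓSpecIso_inv_naturality, Category.assoc, Category.assoc,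
      ← Scheme.Hom.comp_appTop, ← Scheme.Hom.comp_appTop, HP.w]
  haveI : IsScalarTower A C D := .of_algebraMap_eq' (congrArg CommRingCat.Hom.hom hsq)
  have hpush : Algebra.IsPushout A A' C D := by
    rw [← CommRingCat.isPushout_iff_isPushout]
    exact (Et18.isPushout_appTop_of_flat HP).flip.of_iso (Scheme.ΓSpecIso (CommRingCat.of A))
      (Scheme.ΓSpecIso (CommRingCat.of A')) (Iso.refl _) (Iso.refl _)
      ((congrArg (fun k => k) (Scheme.ΓSpecIso_naturality (CommRingCat.ofHom (algebraMap A A')))))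
      (by
        show sV.appTop ≫ 𝟙 _ = (Scheme.ΓSpecIso (CommRingCat.of A)).hom ≫ αC
        simp [αC])
      (by
        show sP.appTop ≫ 𝟙 _ = (Scheme.ΓSpecIso (CommRingCat.of A')).hom ≫ αD
        simp [αD])
      (by show _ ≫ 𝟙 _ = 𝟙 _ ≫ (pullback.fst h k).appTop; simp)
  let E : A' ⊗[A] C ≃ₐ[A'] D := Algebra.IsPushout.equiv A A' C D
  let mPalg : B →ₐ[A'] D :=
    { mP.appTop.hom with
      commutes' := fun a => by
        show mP.appTop (y'.appTop ((Scheme.ΓSpecIso (CommRingCat.of A')).inv a)) = sP.appTop _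
        rw [← CommRingCat.comp_apply, ← Scheme.Hom.comp_appTop, hmP]
        rfl }
  let φ : B →ₐ[A'] A' ⊗[A] C := E.symm.toAlgHom.comp mPalg
  -- torsion of the kernel and cokernel
  haveI : IsOpenImmersion mP := by dsimp [mP]; infer_instance
  have hloc : ∀ a ∈ IsLocalRing.maximalIdeal A,
      Function.Bijective (mP.app (Y'.basicOpen (algebraMap A B a))) := by
    intro a ha
    haveI : IsIso (mP.app (Y'.basicOpen (algebraMap A B a))) := mP.isIso_app _ fun z hz => by
      have hz' : z ∈ y' ⁻¹ᵁ PrimeSpectrum.basicOpen (algebraMap A A' a) := by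
        rw [← basicOpen_eq_of_affine (R := CommRingCat.of A'), Scheme.preimage_basicOpen_top]
        exact hz
      have hι : y' z ∈ Set.range ι' := by
        rw [show Set.range ι' = g ⁻¹' Set.range U.ι from Scheme.Pullback.range_snd _ _, Set.mem_preimage,
          Scheme.Opens.range_ι]
        exact mem_puncturedSpec A ha (show algebraMap A A' a ∉ (y' z).asIdeal from hz')
      obtain ⟨w, hw⟩ := (show z ∈ Set.range (pullback.fst y' ι') by
        rw [Scheme.Pullback.range_fst]; exact hι)
      exact ⟨e.inv w, by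
        show (e.inv ≫ e.hom ≫ pullback.fst y' ι') w = z
        rw [Iso.inv_hom_id_assoc]; exact hw⟩
    exact ConcreteCategory.bijective_of_isIso _
  have hmPα : ∀ a : A, mP.appTop (algebraMap A B a) = algebraMap A D a := fun a => mPalg.commutes (algebraMap A A' a)
  have hker : ∀ a ∈ IsLocalRing.maximalIdeal A, ∀ b, φ b = 0 → ∃ N : ℕ, a ^ N • b = 0 := by
    intro a ha b hb
    obtain ⟨N, hN⟩ := ((app_bijective_iff mP (algebraMap A B a)).1 (hloc a ha)).1 b (E.symm.injective (hb.trans (map_zero _).symm))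
    exact ⟨N, by rw [Algebra.smul_def, map_pow]; exact hN⟩
  have hcoker : ∀ a ∈ IsLocalRing.maximalIdeal A, ∀ c, ∃ (N : ℕ) (b : B), φ b = a ^ N • c := by
    intro a ha c
    obtain ⟨N, b, hb⟩ := ((app_bijective_iff mP (algebraMap A B a)).1 (hloc a ha)).2 (E c)
    refine ⟨N, b, ?_⟩
    show E.symm (mP.appTop b) = _
    rw [AlgEquiv.symm_apply_eq, hb, hmPα, ← map_pow, ← Algebra.smul_def]
    exact ((E.toLinearEquiv.toLinearMap.restrictScalars A).map_smul (a ^ N) c).symm
  let M := glue φ
  let eψ : A' ⊗[A] M ≃ₐ[A'] B := AlgEquiv.ofBijective (ψ φ) (ψ_bijective _ hdense φ hker hcoker)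
  let eA' := (Scheme.ΓSpecIso (CommRingCat.of A')).symm.commRingCatIsoToRingEquiv
  haveI : Module.Finite A' B := (RingHom.finite_respectsIso.2 _ eA' (IsFinite.finite_app y' ⊤ (isAffineOpen_top _)))
  haveI : Module.Finite A' (A' ⊗[A] M) := Module.Finite.equiv eψ.symm.toLinearEquiv
  haveI : Module.Finite A M := Module.Finite.of_finite_tensorProduct_of_faithfullyFlat A'
  let y : Spec (CommRingCat.of M) ⟶ Spec (CommRingCat.of A) := Spec.map (CommRingCat.ofHom (algebraMap A M))
  haveI : IsFinite y := (IsFinite.SpecMap_iff _).2 (RingHom.finite_algebraMap.2 inferInstance)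
  refine ⟨_, y, inferInstance, fun _ => ?_, ?_, ?_⟩
  · have h2 : αB.hom.Etale := RingHom.Etale.respectsIso.2 _ eA' (by
      have := y'.etale_appLE (isAffineOpen_top _) ((isAffineOpen_top _).preimage y') le_rfl
      rwa [← Scheme.Hom.app_eq_appLE] at this)
    haveI : Algebra.Etale A' B := RingHom.etale_algebraMap.1 h2
    haveI : Algebra.Etale A' (A' ⊗[A] M) := Algebra.Etale.of_equiv eψ.symm
    haveI : Algebra.Etale A M := Algebra.Etale.of_etale_tensorProduct_of_faithfullyFlat A'
    exact (HasRingHomProperty.Spec_iff (P := @Etale)).2 (RingHom.etale_algebraMap.2 inferInstance)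
  · -- the restriction to the punctured spectrum
    let mV : V ⟶ Spec (CommRingCat.of M) := V.toSpecΓ ≫ Spec.map (CommRingCat.ofHom (χ φ).toRingHom)
    have hmV : mV ≫ y = sV := by
      simp only [mV, y, Category.assoc, ← Spec.map_comp]
      rw [show CommRingCat.ofHom (algebraMap A M) ≫ CommRingCat.ofHom (χ φ).toRingHom = αC from
        CommRingCat.hom_ext (χ φ).comp_algebraMap]
      exact toSpecΓ_comp_map sV
    have hmVχ : ∀ x : M, mV.appTop ((Scheme.ΓSpecIso (CommRingCat.of M)).inv x) = χ φ x := fun x => by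
      have h1 : (Scheme.ΓSpecIso (CommRingCat.of M)).inv ≫ mV.appTop = CommRingCat.ofHom (χ φ).toRingHom := by
        simp only [mV, Scheme.Hom.comp_appTop, ← Category.assoc, ← Scheme.ΓSpecIso_inv_naturality,
          Scheme.toSpecΓ_appTop]
        simp
      exact ConcreteCategory.congr_hom h1 x
    have HV := isPullback_of_torsion A h mV hmV fun a ha => by
      have hrχ : mV.appTop ((Scheme.ΓSpecIso (CommRingCat.of M)).inv (algebraMap A M a)) = algebraMap A C a :=
        (hmVχ _).trans ((χ φ).commutes _)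
      refine ⟨fun z hz => ?_, fun c => ?_⟩
      · obtain ⟨x, rfl⟩ := (ConcreteCategory.bijective_of_isIso (Scheme.ΓSpecIso (CommRingCat.of M)).inv).2 z
        obtain ⟨N, hN⟩ := χ_ker _ φ hker a ha x ((hmVχ x).symm.trans hz)
        refine ⟨N, ?_⟩
        rw [← map_pow, ← map_mul, ← map_pow, ← Algebra.smul_def, hN, map_zero]
      · obtain ⟨N, x, hx⟩ := χ_coker _ φ hcoker a ha c
        exact ⟨N, _, (hmVχ x).trans (by rw [hx, hrχ, Algebra.smul_def, map_pow])⟩
    exact ⟨HV.isoPullback.symm, HV.isoPullback_inv_snd⟩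
  · -- the base change
    have H0 := (isPullback_SpecMap_of_isPushout _ _ _ _ (CommRingCat.isPushout_tensorProduct A A' M)).flip
    let eT : Spec B ≅ Spec (CommRingCat.of (A' ⊗[A] M)) :=
      Scheme.Spec.mapIso eψ.toRingEquiv.toCommRingCatIso.op
    let mY : Y' ⟶ Spec (CommRingCat.of M) :=
      Y'.isoSpec.hom ≫ eT.hom ≫ Spec.map (CommRingCat.ofHom Algebra.TensorProduct.includeRight.toRingHom)
    have HY : IsPullback mY y' y g := by
      refine H0.of_iso (Y'.isoSpec ≪≫ eT).symm (Iso.refl _) (Iso.refl _) (Iso.refl _) ?_ ?_ (by simp [y]) (by simp [g, gq])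
      · simp [mY]
      · rw [Iso.refl_hom, Category.comp_id, Iso.symm_hom, Iso.eq_inv_comp, Iso.trans_hom, Category.assoc]
        simp only [eT, Functor.mapIso_hom, Iso.op_hom, Scheme.Spec_map, Quiver.Hom.unop_op]
        rw [← Spec.map_comp, Scheme.isoSpec_hom]
        conv_rhs => rw [← toSpecΓ_comp_map y']
        congr 2
        exact CommRingCat.hom_ext eψ.toAlgHom.comp_algebraMap
    exact ⟨HY.isoPullback.symm, HY.isoPullback_inv_snd⟩

end Groth.Agent.Lef23.Descend
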