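import Groth.Agent.CAlgH3.DT.Stab
import Groth.Agent.CAlgH3.CMRing
import Groth.Agent.CAlgH3.Depth
import Groth.Agent.LocCoh.DepthLocal
import Groth.Prelude.Def_CAlg

/-!
# Powers of `f` killing local cohomology in low degrees, from a dualizing complex
-/

set_option autoImplicit false
set_option backward.isDefEq.respectTransparency false
set_option linter.style.haveILetI false

universe u

attribute [local instance] HasDerivedCategory.standard

namespace Groth.Agent.Lef23.DualKill

open Groth.Agent.DualLib Groth.Agent.CAlgH3.DT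

variable {A : Type u} [CommRing A] [IsNoetherianRing A] [IsLocalRing A] (f : A)

omit [IsLocalRing A] in
theorem s2_at (h : LocCoh.HasSk 2 (Localization.Away f) (Localization.Away f)) (p : Ideal A) [p.IsPrime]
    (hfp : f ∉ p) :
    min (2 : WithBot ℕ∞) (ringKrullDim (Localization.AtPrime p)) ≤
      ((_root_.LocCoh.depth (Localization.AtPrime p) (Localization.AtPrime p) : ℕ∞) : WithBot ℕ∞) := by
  obtain ⟨P, hP⟩ : (⟨p, inferInstance⟩ : PrimeSpectrum A) ∈
      Set.range (PrimeSpectrum.comap (algebraMap A (Localization.Away f))) := by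
    rw [PrimeSpectrum.localization_away_comap_range (Localization.Away f) f]
    exact hfp
  have hP' : P.asIdeal.comap (algebraMap A (Localization.Away f)) = p := congrArg PrimeSpectrum.asIdeal hP
  subst hP'
  let e := (IsLocalization.localizationLocalizationAtPrimeIsoLocalization (Submonoid.powers f) P.asIdeal).toRingEquiv
  rw [ringKrullDim_eq_of_ringEquiv e, CAlgH3.depth_ringEquiv e]
  have h2 := h P.asIdeal
  rw [Module.supportDim_eq_of_equiv (CAlgH3.localizedModuleSelf P.asIdeal), Module.supportDim_self_eq_ringKrullDim,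
    Groth.Agent.LocCoh.depth_localization_self] at h2
  exact h2

variable (hd : ∃ ω : Dual.D A, Dual.IsDualizing A ω)
include hd

/-- A power of `f` kills local cohomology up to degree two. -/
theorem exists_pow_kills (hf : f ∈ IsLocalRing.maximalIdeal A)
    (hc : ((LocCoh.HasSk 2 (Localization.Away f) (Localization.Away f) ∧
        ∀ p : Ideal A, p ∈ minimalPrimes A → f ∉ p → (3 : WithBot ℕ∞) ≤ ringKrullDim (A ⧸ p)) ∨
      (∀ p : Ideal A, ∀ _ : p.IsPrime, f ∉ p →
        (2 : WithBot ℕ∞) < (LocCoh.depth (Localization.AtPrime p) (Localization.AtPrime p) : WithBot ℕ∞) + ringKrullDim (A ⧸ p)))) :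
    ∃ n : ℕ, ∀ i ≤ 2, ∀ x : _root_.LocCoh.H (IsLocalRing.maximalIdeal A) i A, f ^ n • x = 0 := by
  obtain ⟨ω, hω⟩ := hd
  let m : PrimeSpectrum A := IsLocalRing.closedPoint A
  have htop : ∀ p : PrimeSpectrum A, p ≤ m := fun p => IsLocalRing.le_maximalIdeal p.2.ne_top
  have hdim : ∀ p : PrimeSpectrum A,
      ringKrullDim (A ⧸ p.asIdeal) = (((deg hω m - deg hω p).toNat : ℕ) : WithBot ℕ∞) := fun p => by
    rw [← krullDim_Icc hω (htop p), ringKrullDim_quotient]
    exact Order.krullDim_eq_of_orderIso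
      (OrderIso.setCongr _ _ (Set.ext fun q => ⟨fun h => ⟨h, htop q⟩, fun h => h.1⟩))
  suffices hcond : ∀ p q : PrimeSpectrum A, ¬ Ideal.span ({f} : Set A) ≤ p.asIdeal →
      IsLocalRing.maximalIdeal A ≤ q.asIdeal → p ≤ q →
      ((2 : ℕ) : WithBot ℕ∞) < ((depthAt A p : ℕ∞) : WithBot ℕ∞) + Order.krullDim (Set.Icc p q) by
    obtain ⟨n, hn⟩ := exists_pow_kills_H hω A hcond
    exact ⟨n, fun i hi => hn (f ^ n) (Ideal.pow_mem_pow (Ideal.mem_span_singleton_self f) n) i hi⟩
  intro p q hfp hq hpq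
  rw [Ideal.span_singleton_le_iff_mem] at hfp
  have hqm : q = m := le_antisymm (htop q) hq
  subst hqm
  rw [krullDim_Icc hω hpq]
  show _ < ((_root_.LocCoh.depth (Localization.AtPrime p.asIdeal) (LocalizedModule p.asIdeal.primeCompl A) : ℕ∞) :
    WithBot ℕ∞) + _
  rw [Groth.Agent.LocCoh.depth_localization_self]
  generalize hD : _root_.LocCoh.depth (Localization.AtPrime p.asIdeal) (Localization.AtPrime p.asIdeal) = D
  rcases hc with ⟨hS, hmin⟩ | hc
  · have hne : deg hω p < deg hω m := deg_lt hω (lt_of_le_of_ne hpq fun e => hfp (e ▸ hf))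
    rcases le_or_gt (2 : ℕ∞) D with h2 | h2
    · have h3 : (2 : WithBot ℕ∞) + ((1 : ℕ) : WithBot ℕ∞) ≤ (D : WithBot ℕ∞) + (((deg hω m - deg hω p).toNat : ℕ) : WithBot ℕ∞) :=
        add_le_add (WithBot.coe_le_coe.2 h2) (Nat.cast_le.2 (by omega))
      exact lt_of_lt_of_le (by norm_num) h3
    · obtain ⟨d, rfl⟩ := ENat.ne_top_iff_exists.1 (ne_top_of_lt h2)
      have hd2 : d < 2 := by exact_mod_cast h2
      obtain ⟨p₀, hp₀, hp₀p⟩ := Ideal.exists_minimalPrimes_le (I := ⊥) (J := p.asIdeal) bot_le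
      let q₀ : PrimeSpectrum A := ⟨p₀, hp₀.1.1⟩
      have h3 := hmin p₀ hp₀ fun h => hfp (hp₀p h)
      rw [show ringKrullDim (A ⧸ p₀) = _ from hdim q₀] at h3
      have h3' : 3 ≤ (deg hω m - deg hω q₀).toNat := by exact_mod_cast h3
      have h4 : (((deg hω p - deg hω q₀).toNat : ℕ) : WithBot ℕ∞) ≤ ringKrullDim (Localization.AtPrime p.asIdeal) := by
        rw [← krullDim_Icc hω (show q₀ ≤ p from hp₀p)]
        exact Order.krullDim_le_of_strictMono
          (fun r : Set.Icc q₀ p => (IsLocalization.AtPrime.primeSpectrumOrderIso (Localization.AtPrime p.asIdeal) p.asIdeal).symm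
            ⟨r.1, r.2.2⟩)
          (fun a b hab => (OrderIso.strictMono _) hab)
      have h5 := s2_at f hS p.asIdeal hfp
      rw [hD] at h5
      have h6 : (deg hω p - deg hω q₀).toNat ≤ d := by
        rcases min_le_iff.1 ((min_le_min_left (2 : WithBot ℕ∞) h4).trans h5) with h6 | h6
        · exact absurd (show 2 ≤ d from Nat.cast_le.1 (h6 : ((2 : ℕ) : WithBot ℕ∞) ≤ ((d : ℕ) : WithBot ℕ∞))) (by omega)
        · exact Nat.cast_le.1 (h6 : _ ≤ ((d : ℕ) : WithBot ℕ∞))
      have hq0p := deg_mono hω (show q₀ ≤ p from hp₀p)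
      have h7 : ((2 : ℕ) : WithBot ℕ∞) < ((d + (deg hω m - deg hω p).toNat : ℕ) : WithBot ℕ∞) :=
        Nat.cast_lt.2 (by omega)
      rw [Nat.cast_add] at h7
      exact h7
  · have h := hc p.asIdeal p.2 hfp
    rw [hdim p, hD] at h
    exact_mod_cast h

end Groth.Agent.Lef23.DualKill
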