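import Groth.Agent.Lef23.BoundedF
import Groth.Agent.Misc15.KoszulTilde
import Groth.Agent.HenselLib.Perm
import Mathlib.RingTheory.Spectrum.Prime.Topology

/-!
# Idempotents over the punctured spectrum for a henselian pair

For an algebra which equals its sections over the punctured spectrum, with `H⁰` and `H¹` finite up to powers of `f`,
clopen subsets of the part `f = 0` over the punctured spectrum come from unique idempotents.
-/

set_option autoImplicit false
set_option linter.style.haveILetI false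
set_option backward.isDefEq.respectTransparency false
set_option linter.unusedSectionVars false

universe u

open CategoryTheory CategoryTheory.Limits AlgebraicGeometry Opposite TopologicalSpace Polynomial
open Groth.Agent.Formal2Lib Groth.Agent.Coherent

noncomputable section

namespace Groth.Agent.Lef23.PuncturedIdem

section tilde

variable {R : CommRingCat.{u}} (𝔞 : Ideal R) [IsNoetherianRing R]

local notation "U0" => LocCoh.puncturedOpen R 𝔞

/-- A map on sections over an open. -/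
def tl {M N : ModuleCat.{u} R} (g : M →ₗ[R] N) (U : (Spec R).Opens) :
    Γ(tilde M, U) →ₗ[R] Γ(tilde N, U) :=
  ((modulesSpecToSheaf.map (tilde.map (R := R) (ModuleCat.ofHom g))).hom.app (op U)).hom

theorem tl_rho {M N : ModuleCat.{u} R} (g : M →ₗ[R] N) (U : (Spec R).Opens) (x : M) :
    tl g U (Misc15.Koszul.rho M U x) = Misc15.Koszul.rho N U (g x) :=
  ConcreteCategory.congr_hom (tilde.toOpen_map_app (ModuleCat.ofHom g) U) x

theorem tl_resM {M N : ModuleCat.{u} R} (g : M →ₗ[R] N) {U V : (Spec R).Opens} (h : V ≤ U) (x : Γ(tilde M, U)) :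
    tl g V (resM (tilde M) h x) = resM (tilde N) h (tl g U x) :=
  app_resM (tilde.map (R := R) (ModuleCat.ofHom g)) h x

theorem exists_pow_smul_eq (M : (Spec R).Modules) {U : (Spec R).Opens} {a : R}
    (h : U ≤ PrimeSpectrum.basicOpen a) (n : ℕ) (x : Γ(M, U)) : ∃ z : Γ(M, U), a ^ n • z = x := by
  induction n generalizing x with
  | zero => exact ⟨x, by rw [pow_zero, one_smul]⟩
  | succ n ih =>
    obtain ⟨y, hy⟩ := ih x
    obtain ⟨z, hz⟩ := ((Module.End.isUnit_iff _).1 (M.isUnit_algebraMap_end_of_le_basicOpen _ h)).2 y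
    exact ⟨z, by rw [pow_succ, mul_smul, show a • z = y from hz, hy]⟩

theorem unit_eq_zero_of_torsion (Q : ModuleCat.{u} R) (q : Q) (h : ∀ a ∈ 𝔞, ∃ N : ℕ, a ^ N • q = 0) :
    SecU.unit U0 Q q = 0 := by
  have h0 : Misc15.Koszul.rho Q U0 q = 0 :=
    Misc15.Koszul.sections_ext (tilde Q) (fun a : ↥(𝔞 : Set R) => Punct.D (a : R))
      (fun a => Punct.D_le 𝔞 a.2) (Punct.le_iSup_D 𝔞 (t := (𝔞 : Set R)) (Ideal.span_eq 𝔞).ge) _ _ fun a => by
        obtain ⟨N, hN⟩ := h a a.2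
        rw [Misc15.Koszul.rho_res, Misc15.Koszul.rho_eq_zero_of_pow Q (a : R) le_rfl hN, map_zero]
  show (SecU.secV U0 (tilde Q)).symm (Misc15.Koszul.rho Q U0 q) = 0
  rw [h0, map_zero]

end tilde

theorem existsUnique_idem {B Q : Type u} [CommRing B] [CommRing Q] {Z : Set (PrimeSpectrum B)} {V : Set Z}
    (hV : IsClopen V) (φ : B →+* Q) (hφ : ∀ q, PrimeSpectrum.comap φ q ∈ Z) :
    ∃! e : Q, IsIdempotentElem e ∧
      ∀ q, q ∈ PrimeSpectrum.basicOpen e ↔ (⟨PrimeSpectrum.comap φ q, hφ q⟩ : Z) ∈ V := by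
  obtain ⟨e, ⟨he, heq⟩, hu⟩ := PrimeSpectrum.existsUnique_idempotent_basicOpen_eq_of_isClopen
    (hV.preimage ((PrimeSpectrum.continuous_comap φ).subtype_mk hφ))
  exact ⟨e, ⟨he, fun q => (Set.ext_iff.1 heq q).symm⟩,
    fun e' he' => hu e' ⟨he'.1, Set.ext fun q => (he'.2 q).symm⟩⟩

variable {R : CommRingCat.{u}} (𝔞 : Ideal R) (f : R) (B : Type u) [CommRing B] [Algebra R B] [IsNoetherianRing R]

local notation "U0" => LocCoh.puncturedOpen R 𝔞

/-- The algebra as a module. -/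
abbrev Bc : ModuleCat.{u} R := ModuleCat.of R B

/-- The part `f = 0` over the punctured spectrum. -/
def Zf : Set (PrimeSpectrum B) :=
  {q | ¬ 𝔞 ≤ q.asIdeal.comap (algebraMap R B) ∧ algebraMap R B f ∈ q.asIdeal}

/-- The ideal of a reduction. -/
def J (k : ℕ) : Ideal B := Ideal.span ({algebraMap R B (f ^ (k + 1))} : Set B)

/-- The reduction. -/
abbrev K (k : ℕ) : Type u := B ⧸ J f B k

/-- An element of the base in a reduction. -/
def mc (k : ℕ) (c : R) : K f B k := Ideal.Quotient.mk (J f B k) (algebraMap R B c)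

/-- The localised reduction. -/
abbrev L (k : ℕ) (c : R) : Type u := Localization.Away (mc f B k c)

/-- The map to the localised reduction. -/
abbrev φ (k : ℕ) (c : R) : B →+* L f B k c :=
  (algebraMap (K f B k) (L f B k c)).comp (Ideal.Quotient.mk _)

variable {f B}

theorem φ_f (k : ℕ) (c : R) : φ f B k c (algebraMap R B f) ^ (k + 1) = 0 := by
  rw [← map_pow, ← map_pow, RingHom.comp_apply,
    Ideal.Quotient.eq_zero_iff_mem.2 (show algebraMap R B (f ^ (k + 1)) ∈ J f B k from Ideal.subset_span rfl), map_zero]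

theorem isUnit_φ (k : ℕ) (c : R) : IsUnit (φ f B k c (algebraMap R B c)) :=
  IsLocalization.Away.algebraMap_isUnit (mc f B k c)

theorem φ_mem {k : ℕ} {c : R} (hc : c ∈ 𝔞) (q : PrimeSpectrum (L f B k c)) :
    PrimeSpectrum.comap (φ f B k c) q ∈ Zf 𝔞 f B :=
  ⟨fun h => q.isPrime.ne_top (Ideal.eq_top_of_isUnit_mem _ (show _ ∈ q.asIdeal from h hc) (isUnit_φ k c)),
    q.isPrime.mem_of_pow_mem (k + 1) (by rw [φ_f]; exact zero_mem _)⟩

theorem exists_comap_eq {k : ℕ} {c : R} (q : PrimeSpectrum B) (hf : algebraMap R B f ∈ q.asIdeal)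
    (hc : algebraMap R B c ∉ q.asIdeal) : ∃ P, PrimeSpectrum.comap (φ f B k c) P = q := by
  obtain ⟨p, hp⟩ : q ∈ Set.range
      (PrimeSpectrum.comap (Ideal.Quotient.mk (J f B k))) := by
    rw [range_comap_of_surjective _ _ Ideal.Quotient.mk_surjective, Ideal.mk_ker,
      PrimeSpectrum.mem_zeroLocus, SetLike.coe_subset_coe, J, Ideal.span_singleton_le_iff_mem, map_pow]
    exact Ideal.pow_mem_of_mem _ hf _ k.succ_pos
  obtain ⟨P, hP⟩ : p ∈ Set.range (PrimeSpectrum.comap (algebraMap (K f B k) (L f B k c))) := by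
    rw [PrimeSpectrum.localization_away_comap_range (L f B k c)
      (mc f B k c)]
    intro h
    exact hc (by rw [← hp]; exact h)
  exact ⟨P, by rw [← hp, ← hP]; rfl⟩

variable (f) in
theorem π_eq_zero_iff (k : ℕ) (x : B) :
    BoundedF.π f (Bc B) k x = 0 ↔
      Ideal.Quotient.mk (J f B k) x = 0 := by
  rw [Submodule.mkQ_apply, Submodule.Quotient.mk_eq_zero, Ideal.Quotient.eq_zero_iff_mem, J, Ideal.mem_span_singleton']
  constructor
  · rintro ⟨y, hy⟩
    exact ⟨y, by rw [mul_comm, ← Algebra.smul_def]; exact hy⟩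
  · rintro ⟨y, hy⟩
    exact ⟨y, show f ^ (k + 1) • y = x by rw [Algebra.smul_def, mul_comm]; exact hy⟩

theorem exists_pow_of_φ_eq_zero {k : ℕ} {c : R} {x : B} (h : φ f B k c x = 0) :
    ∃ N : ℕ, BoundedF.π f (Bc B) k (c ^ N • x) = 0 := by
  obtain ⟨⟨_, N, rfl⟩, hN⟩ := (IsLocalization.map_eq_zero_iff
    (Submonoid.powers (mc f B k c))
    (L f B k c) _).1 h
  refine ⟨N, (π_eq_zero_iff f k _).2 ?_⟩
  rw [Algebra.smul_def, map_mul, map_pow, map_pow]
  exact hN

theorem φ_eq_zero_of_pow {k : ℕ} {c : R} {x : B} {N : ℕ} (h : BoundedF.π f (Bc B) k (c ^ N • x) = 0) :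
    φ f B k c x = 0 := by
  have h1 := congrArg (algebraMap (K f B k) (L f B k c)) ((π_eq_zero_iff f k _).1 h)
  rw [map_zero, ← RingHom.comp_apply, Algebra.smul_def, map_mul, map_pow, map_pow] at h1
  exact ((isUnit_φ k c).pow N).mul_right_eq_zero.1 h1

/-- Sections of a reduction which vanish locally come from divisible elements. -/
theorem div_of_local (hu : Function.Bijective (SecU.unit U0 (Bc (R := R) B))) {s : ℕ}
    (hs : ∀ j (x : Bc (R := R) B), f ^ j • x = 0 → f ^ s • x = 0) (j k : ℕ) (hk : k + 1 = j + s) (x : B)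
    (h : ∀ a ∈ 𝔞, φ f B k a x = 0) : ∃ y : B, f ^ j • y = x := by
  have h0 : SecU.Fmap U0 (N := BoundedF.Q f (Bc B) k) (BoundedF.π f (Bc B) k) 0 (SecU.unit U0 (Bc B) x) = 0 := by
    rw [SecU.unit_natural]
    refine unit_eq_zero_of_torsion 𝔞 _ _ fun a ha => ?_
    obtain ⟨N, hN⟩ := exists_pow_of_φ_eq_zero (h a ha)
    exact ⟨N, by rw [← map_smul]; exact hN⟩
  obtain ⟨y, hy⟩ := BoundedF.exists_div f hs U0 j k hk _ h0
  obtain ⟨y', rfl⟩ := hu.2 y
  exact ⟨y', hu.1 (by rw [map_smul]; exact hy)⟩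

/-- Idempotents are determined on the part `f = 0` over the punctured spectrum. -/
theorem eq_of_forall_mem (hf : f ∈ (⊥ : Ideal R).jacobson)
    (hu : Function.Bijective (SecU.unit U0 (Bc (R := R) B))) (hB : BoundedF.Bnd f (Bc (R := R) B))
    {e e' : B} (he : IsIdempotentElem e) (he' : IsIdempotentElem e')
    (h : ∀ q ∈ Zf 𝔞 f B, q ∈ PrimeSpectrum.basicOpen e ↔ q ∈ PrimeSpectrum.basicOpen e') : e = e' := by
  obtain ⟨s, hs⟩ := BoundedF.exists_stable f (Bc B) hB
  obtain ⟨c, S, hS, hc⟩ := hB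
  rw [← sub_eq_zero]
  refine BoundedF.Bnd.eq_zero_of_divisible (X := Bc (R := R) B) hf hS hc fun j => ?_
  obtain ⟨y, hy⟩ := div_of_local 𝔞 hu hs (j + 1) (j + s) (by omega) (e - e') fun a ha => by
    rw [map_sub, sub_eq_zero]
    refine PrimeSpectrum.basicOpen_injOn_isIdempotentElem (he.map _) (he'.map _) ?_
    ext q
    exact h _ (φ_mem 𝔞 ha q)
  exact ⟨f • y, (mul_smul _ _ _).symm.trans (by rw [← pow_succ]; exact hy)⟩

variable {V : Set (Zf 𝔞 f B)}

/-- A fraction representing the idempotent of `V` in a localised reduction. -/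
def Rep (V : Set (Zf 𝔞 f B)) (k : ℕ) (a : R) (ha : a ∈ 𝔞) (n : ℕ) (x : B) : Prop :=
  ∃ e : L f B k a, (IsIdempotentElem e ∧ ∀ q, q ∈ PrimeSpectrum.basicOpen e ↔
    (⟨PrimeSpectrum.comap (φ f B k a) q, φ_mem 𝔞 ha q⟩ : Zf 𝔞 f B) ∈ V) ∧
    φ f B k a x = e * φ f B k a (algebraMap R B (a ^ n))

theorem exists_rep (hV : IsClopen V) (k : ℕ) (a : R) (ha : a ∈ 𝔞) : ∃ n x, Rep 𝔞 V k a ha n x := by
  obtain ⟨e, he, -⟩ := existsUnique_idem hV (φ f B k a) (φ_mem 𝔞 ha)
  obtain ⟨⟨x, _, n, rfl⟩, hx⟩ := IsLocalization.surj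
    (Submonoid.powers (mc f B k a)) e
  obtain ⟨x, rfl⟩ := Ideal.Quotient.mk_surjective x
  exact ⟨n, x, e, he, by rw [map_pow, map_pow]; exact hx.symm.trans (by rw [RingHom.comp_apply, ← map_pow]; rfl)⟩

theorem Rep.map (hV : IsClopen V) {k k' : ℕ} (hk : k ≤ k') {a : R} {ha : a ∈ 𝔞} {n : ℕ} {x : B}
    (h : Rep 𝔞 V k' a ha n x) {c : R} (hc : c ∈ 𝔞) (hu : IsUnit (φ f B k c (algebraMap R B a)))
    {e : L f B k c} (he : IsIdempotentElem e ∧ ∀ q, q ∈ PrimeSpectrum.basicOpen e ↔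
      (⟨PrimeSpectrum.comap (φ f B k c) q, φ_mem 𝔞 hc q⟩ : Zf 𝔞 f B) ∈ V) :
    φ f B k c x = e * φ f B k c (algebraMap R B (a ^ n)) := by
  obtain ⟨e', he', hx⟩ := h
  have hle : J f B k' ≤ J f B k :=
    Ideal.span_singleton_le_span_singleton.2 (map_dvd _ (pow_dvd_pow f (by omega)))
  let g : L f B k' a →+* L f B k c := IsLocalization.Away.lift
    (mc f B k' a)
    (g := (algebraMap (K f B k) (L f B k c)).comp (Ideal.Quotient.factor hle)) hu
  have hg : ∀ y, g (φ f B k' a y) = φ f B k c y := fun y => IsLocalization.Away.lift_eq _ _ _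
  have hge : g e' = e := (existsUnique_idem hV (φ f B k c) (φ_mem 𝔞 hc)).unique ⟨he'.1.map g, fun q => by
    have h1 := he'.2 (PrimeSpectrum.comap g q)
    have h2 : PrimeSpectrum.comap (φ f B k' a) (PrimeSpectrum.comap g q) = PrimeSpectrum.comap (φ f B k c) q :=
      PrimeSpectrum.ext (Ideal.ext fun y => by
        show g (φ f B k' a y) ∈ q.asIdeal ↔ φ f B k c y ∈ q.asIdeal
        rw [hg])
    simp only [h2] at h1
    exact h1⟩ he
  rw [← hg x, hx, map_mul, hg, hge]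

/-- Two fractions of the idempotent agree as sections. -/
theorem eq_of_rep (hV : IsClopen V) {k k' : ℕ} (hk : k ≤ k') {a b : R} {ha : a ∈ 𝔞} {hb : b ∈ 𝔞} {n m : ℕ}
    {x x' : B} (h : Rep 𝔞 V k' a ha n x) (h' : Rep 𝔞 V k b hb m x') {U : (Spec R).Opens}
    (hUa : U ≤ PrimeSpectrum.basicOpen a) (hUb : U ≤ PrimeSpectrum.basicOpen b)
    {w w' : Γ(tilde (BoundedF.Q f (Bc B) k), U)}
    (hw : a ^ n • w = Misc15.Koszul.rho _ U (BoundedF.π f (Bc B) k x))
    (hw' : b ^ m • w' = Misc15.Koszul.rho _ U (BoundedF.π f (Bc B) k x')) : w = w' := by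
  have hc : a * b ∈ 𝔞 := 𝔞.mul_mem_left a hb
  have hab := IsUnit.mul_iff.1 ((((congrArg (φ f B k (a * b)) (map_mul (algebraMap R B) a b)).trans
    (map_mul _ _ _)) : φ f B k (a * b) (algebraMap R B (a * b)) = _) ▸ isUnit_φ (f := f) (B := B) k (a * b))
  obtain ⟨e, he, -⟩ := existsUnique_idem hV (φ f B k (a * b)) (φ_mem 𝔞 hc)
  have h1 := Rep.map 𝔞 hV hk h hc hab.1 he
  have h2 := Rep.map 𝔞 hV le_rfl h' hc hab.2 he
  have h3 : φ f B k (a * b) (b ^ m • x - a ^ n • x') = 0 := by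
    simp only [Algebra.smul_def, map_sub, map_mul, h1, h2]
    ring
  obtain ⟨N, hN⟩ := exists_pow_of_φ_eq_zero h3
  have h4 := Misc15.Koszul.rho_eq_zero_of_pow (BoundedF.Q f (Bc B) k) (a * b) (U := U)
    (fun z hz => by rw [specBasicOpen, PrimeSpectrum.basicOpen_mul]; exact ⟨hUa hz, hUb hz⟩)
    ((map_smul (BoundedF.π f (Bc B) k) _ _).symm.trans hN)
  rw [map_sub, map_smul, map_smul, map_sub, map_smul, map_smul, ← hw, ← hw', sub_eq_zero] at h4
  refine (Scheme.Modules.isSMulRegular_of_le_basicOpen hUa).pow n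
    ((Scheme.Modules.isSMulRegular_of_le_basicOpen hUb).pow m ?_)
  show b ^ m • a ^ n • w = b ^ m • a ^ n • w'
  rw [h4, smul_comm]

/-- The idempotent of `V` in the reductions glues to a compatible system of sections. -/
theorem exists_sections (hV : IsClopen V) : ∃ y : ∀ k, SecU.F U0 (BoundedF.Q f (Bc B) k) 0,
    (∀ k, SecU.Fmap U0 (BoundedF.tr f (Bc B) k) 0 (y (k + 1)) = y k) ∧
    ∀ k (r : R) (b : B), SecU.unit U0 (BoundedF.Q f (Bc B) k) (BoundedF.π f (Bc B) k b) = r • y k →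
      ∀ a, ∀ ha : a ∈ 𝔞, ∃ e : L f B k a, (IsIdempotentElem e ∧ ∀ q, q ∈ PrimeSpectrum.basicOpen e ↔
        (⟨PrimeSpectrum.comap (φ f B k a) q, φ_mem 𝔞 ha q⟩ : Zf 𝔞 f B) ∈ V) ∧
        φ f B k a b = φ f B k a (algebraMap R B r) * e := by
  choose n x hx using fun k (a : ↥(𝔞 : Set R)) => exists_rep 𝔞 hV k (a : R) a.2
  choose z hz using fun k (a : ↥(𝔞 : Set R)) =>
    exists_pow_smul_eq (tilde (BoundedF.Q f (Bc B) k)) (U := Punct.D (a : R)) le_rfl (n k a)
      (Misc15.Koszul.rho _ _ (BoundedF.π f (Bc B) k (x k a)))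
  have hcov : U0 ≤ ⨆ a : ↥(𝔞 : Set R), Punct.D (a : R) :=
    Punct.le_iSup_D 𝔞 (t := (𝔞 : Set R)) (Ideal.span_eq 𝔞).ge
  have hglue : ∀ k, ∃ Y : Γ(tilde (BoundedF.Q f (Bc B) k), U0),
      ∀ a : ↥(𝔞 : Set R), resM (tilde _) (Punct.D_le 𝔞 a.2) Y = z k a := by
    intro k
    obtain ⟨Y, hY, -⟩ := TopCat.Sheaf.existsUnique_gluing' (X := (Spec R).toTopCat)
      (Coh.toAb (tilde (BoundedF.Q f (Bc B) k))) (fun a : ↥(𝔞 : Set R) => Punct.D (a : R)) U0
      (fun a => homOfLE (Punct.D_le 𝔞 a.2)) hcov (z k) (fun a b => by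
        refine eq_of_rep 𝔞 hV le_rfl (hx k a) (hx k b) (U := Punct.D (a : R) ⊓ Punct.D (b : R)) inf_le_left inf_le_right
          (w := resM (tilde _) inf_le_left (z k a)) (w' := resM (tilde _) inf_le_right (z k b)) ?_ ?_
        · rw [← Misc15.Koszul.resM_smul_spec, hz, Misc15.Koszul.rho_res]
        · rw [← Misc15.Koszul.resM_smul_spec, hz, Misc15.Koszul.rho_res])
    exact ⟨Y, hY⟩
  choose Y hY using hglue
  refine ⟨fun k => (SecU.secV U0 (tilde _)).symm (Y k), fun k => ?_, fun k r b hb a ha => ?_⟩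
  · refine (SecU.secV U0 (tilde _)).injective ((SecU.secV_natural U0 _ _).trans ?_)
    rw [LinearEquiv.apply_symm_apply, LinearEquiv.apply_symm_apply]
    refine Misc15.Koszul.sections_ext (tilde _) (fun a : ↥(𝔞 : Set R) => Punct.D (a : R))
      (fun a => Punct.D_le 𝔞 a.2) hcov _ _ fun a => ?_
    show resM _ _ (tl (BoundedF.tr f (Bc B) k) U0 (Y (k + 1))) = _
    rw [← tl_resM, hY, hY]
    refine eq_of_rep 𝔞 hV (Nat.le_succ k) (hx (k + 1) a) (hx k a) le_rfl le_rfl ?_ (hz k a)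
    rw [← map_smul, hz, tl_rho]
    rfl
  · have hb' : Misc15.Koszul.rho _ U0 (BoundedF.π f (Bc B) k b) = r • Y k :=
      (SecU.secV U0 (tilde _)).symm.injective (hb.trans (map_smul (SecU.secV U0 (tilde _)).symm r (Y k)).symm)
    let a' : ↥(𝔞 : Set R) := ⟨a, ha⟩
    have h1 : Misc15.Koszul.rho _ (Punct.D a) (BoundedF.π f (Bc B) k (a ^ n k a' • b - r • x k a')) = 0 := by
      rw [map_sub, map_smul, map_smul, map_sub, map_smul, map_smul, ← Misc15.Koszul.rho_res _ (Punct.D_le 𝔞 ha), hb',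
        Misc15.Koszul.resM_smul_spec, hY k a', smul_comm, show a ^ n k a' • z k a' = _ from hz k a', sub_self]
    obtain ⟨N, hN⟩ := Misc15.Koszul.exists_pow_of_rho_eq_zero _ a _ h1
    have h2 := φ_eq_zero_of_pow ((map_smul (BoundedF.π f (Bc B) k) _ _).trans hN)
    rw [map_sub, sub_eq_zero, Algebra.smul_def, Algebra.smul_def, map_mul, map_mul] at h2
    obtain ⟨e, he, hxe⟩ := hx k a'
    refine ⟨e, he, (show IsUnit (φ f B k a (algebraMap R B (a ^ n k a'))) by
      rw [map_pow, map_pow]; exact (isUnit_φ k a).pow _).mul_left_cancel ?_⟩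
    rw [h2, hxe]
    ring

/-- Clopen subsets of the part `f = 0` over the punctured spectrum come from idempotents. -/
theorem exists_idempotent [HenselianRing R (Ideal.span ({f} : Set R))]
    (hu : Function.Bijective (SecU.unit U0 (Bc (R := R) B))) (hB : BoundedF.Bnd f (Bc (R := R) B))
    (hB1 : BoundedF.Bnd f (SecU.F U0 (Bc (R := R) B) 1)) (hV : IsClopen V) :
    ∃ e : B, IsIdempotentElem e ∧ ∀ q : Zf 𝔞 f B, q.1 ∈ PrimeSpectrum.basicOpen e ↔ q ∈ V := by
  classical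
  have hf : f ∈ (⊥ : Ideal R).jacobson := HenselianRing.jac (I := Ideal.span ({f} : Set R)) (Ideal.mem_span_singleton_self f)
  obtain ⟨s, hs⟩ := BoundedF.exists_stable f (Bc B) hB
  obtain ⟨c, S, hS, hc⟩ := id hB
  obtain ⟨y, hy, hyb⟩ := exists_sections 𝔞 hV
  obtain ⟨x0, hx0⟩ := BoundedF.exists_lift 𝔞 f hf hB hB1 y hy (c + s)
  obtain ⟨b, rfl⟩ := hu.2 x0
  rw [SecU.unit_natural] at hx0
  have hb : ∀ a, ∀ ha : a ∈ 𝔞, IsIdempotentElem (φ f B (c + s) a b) ∧ ∀ q,
      q ∈ PrimeSpectrum.basicOpen (φ f B (c + s) a b) ↔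
        (⟨PrimeSpectrum.comap (φ f B (c + s) a) q, φ_mem 𝔞 ha q⟩ : Zf 𝔞 f B) ∈ V := fun a ha => by
    obtain ⟨e, he, hbe⟩ := hyb (c + s) 1 b (by rw [one_smul]; exact hx0) a ha
    rw [map_one, map_one, one_mul] at hbe
    rw [hbe]
    exact he
  obtain ⟨b', hb'⟩ := div_of_local 𝔞 hu hs (c + 1) (c + s) (by omega) (b * b - b) fun a ha => by
    rw [map_sub, map_mul, sub_eq_zero]
    exact (hb a ha).1.eq
  -- the finite subalgebra
  let T : B →ₗ[R] B := LinearMap.lsmul R B (f ^ c)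
  let M : Submodule R B := Submodule.span R {1} ⊔ LinearMap.range T
  have hT : (LinearMap.range T).FG := by
    haveI : IsNoetherian R S := isNoetherian_of_fg_of_noetherian S hS
    exact isNoetherian_submodule.1 this _ (by rintro _ ⟨w, rfl⟩; exact hc w)
  let C : Subalgebra R B := M.toSubalgebra (Submodule.mem_sup_left (Submodule.mem_span_singleton_self 1))
    (fun p q hp hq => by
      obtain ⟨_, hp1, _, ⟨p2, rfl⟩, rfl⟩ := Submodule.mem_sup.1 hp
      obtain ⟨_, hq1, _, ⟨q2, rfl⟩, rfl⟩ := Submodule.mem_sup.1 hq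
      obtain ⟨r, rfl⟩ := Submodule.mem_span_singleton.1 hp1
      obtain ⟨r', rfl⟩ := Submodule.mem_span_singleton.1 hq1
      refine Submodule.mem_sup.2 ⟨(r * r') • (1 : B), Submodule.smul_mem _ _ (Submodule.mem_span_singleton_self 1),
        T (r • q2 + r' • p2 + f ^ c • (p2 * q2)), LinearMap.mem_range_self _ _, ?_⟩
      simp only [T, LinearMap.lsmul_apply, Algebra.smul_def, map_mul, mul_one]
      ring)
  haveI : Module.Finite R C := Module.Finite.iff_fg.2 (show C.toSubmodule.FG by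
    rw [Submodule.toSubalgebra_toSubmodule]
    exact (Submodule.fg_span_singleton 1).sup hT)
  haveI : Algebra.IsIntegral R C := Algebra.IsIntegral.of_finite R C
  haveI := HenselLib.henselianRing_of_isIntegral (Ideal.span ({f} : Set R)) C
  let I : Ideal C := (Ideal.span ({f} : Set R)).map (algebraMap R C)
  haveI : HenselianRing C I := this
  let dC : C := ⟨f ^ c • b', (Submodule.mem_sup_right ⟨b', rfl⟩ : f ^ c • b' ∈ M)⟩
  have hmem : ∀ w : C, algebraMap R C f * w ∈ I := fun w =>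
    I.mul_mem_right _ (Ideal.mem_map_of_mem _ (Ideal.subset_span rfl))
  obtain ⟨v, hv⟩ : IsUnit (algebraMap R C f * dC * 4 + 1) :=
    Ideal.mem_jacobson_bot.1 (HenselianRing.jac (hmem dC)) 4
  let d₁ : C := algebraMap R C f * dC * (v⁻¹ : Cˣ)
  obtain ⟨r, hr, hrI⟩ := HenselianRing.is_henselian (I := I) (X ^ 2 + X + Polynomial.C d₁) (by monicity!) 0
    (by simpa [d₁] using hmem dC)
    (by simp)
  simp only [IsRoot, eval_add, eval_pow, eval_X, eval_C] at hr
  rw [sub_zero] at hrI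
  refine ⟨b + (2 * b - 1) * (r : B), ?_, fun q => ?_⟩
  · show _ = _
    have h1 : r ^ 2 + r + d₁ = 0 := hr
    have h2 : (algebraMap R C f * dC * 4 + 1) * (r ^ 2 + r) + algebraMap R C f * dC = 0 := by
      have h3 : (↑v : C) * ↑v⁻¹ = 1 := v.mul_inv
      rw [← hv]
      linear_combination (v : C) * h1 - algebraMap R C f * dC * h3
    have h4 := congrArg C.val h2
    simp only [map_add, map_mul, map_pow, map_one, map_zero, map_ofNat, AlgHom.commutes, Subalgebra.coe_val] at h4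
    have h5 : algebraMap R B f * (dC : B) = b * b - b := by
      rw [← hb', pow_succ', mul_smul, ← Algebra.smul_def]
    rw [h5] at h4
    linear_combination h4
  · obtain ⟨w, hw⟩ : algebraMap R B f ∣ (r : B) := by
      have : r ∈ Ideal.span {algebraMap R C f} := by rwa [← Set.image_singleton, ← Ideal.map_span]
      obtain ⟨w, hw⟩ := Ideal.mem_span_singleton'.1 this
      exact ⟨(w : B), by rw [← hw, Subalgebra.coe_mul, mul_comm]; rfl⟩
    obtain ⟨a, ha, haq⟩ := Set.not_subset.1 q.2.1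
    obtain ⟨P, hP⟩ := exists_comap_eq (k := c + s) q.1 q.2.2 haq
    have hq : (⟨PrimeSpectrum.comap (φ f B (c + s) a) P, φ_mem 𝔞 ha P⟩ : Zf 𝔞 f B) = q := Subtype.ext hP
    have h6 := (hb a ha).2 P
    rw [hq] at h6
    rw [← h6, PrimeSpectrum.mem_basicOpen, PrimeSpectrum.mem_basicOpen, not_iff_not]
    have h7 : (2 * b - 1) * (r : B) ∈ q.1.asIdeal := by
      rw [hw, mul_left_comm]; exact Ideal.mul_mem_right _ _ q.2.2
    rw [Ideal.add_mem_iff_left _ h7, ← hP]
    rfl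

end Groth.Agent.Lef23.PuncturedIdem
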