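import Groth.Agent.FEtFF.Hartogs
import Groth.Agent.FSchLib.Systems
import Groth.Agent.TwistLib.G.Map
import Groth.Agent.Lef23.Formal
import Groth.Agent.CurveRR24.Sky

/-!
# Homomorphisms into the structure sheaf and into thickenings, restricted to an open
-/

set_option autoImplicit false
set_option linter.style.haveILetI false
set_option backward.isDefEq.respectTransparency.types false

universe u

open CategoryTheory CategoryTheory.Limits AlgebraicGeometry Opposite TopologicalSpace
open Groth.Agent.Coherent Groth.Agent.PicLib Groth.Agent.AmpleLib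

namespace Groth.Agent.Lef23

variable {X : Scheme.{u}} (U : X.Opens)

/-- Restriction to `U` on homomorphisms. -/
noncomputable abbrev resHom {P M : X.Modules} (β : P ⟶ M) : P.restrict U.ι ⟶ M.restrict U.ι :=
  (Scheme.Modules.restrictFunctor U.ι).map β

/-- If sections of `M` extend uniquely from `U`, so do homomorphisms into `M`. -/
theorem bijective_resHom (P M : X.Modules)
    [IsIso ((Scheme.Modules.restrictAdjunction U.ι).unit.app M)] :
    Function.Bijective (fun β : P ⟶ M => resHom U β) := by
  let adj := Scheme.Modules.restrictAdjunction U.ι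
  have key : ∀ β : P ⟶ M, adj.homEquiv P (M.restrict U.ι) (resHom U β) = β ≫ adj.unit.app M := fun β => by
    rw [Adjunction.homEquiv_unit]
    exact (adj.unit.naturality β).symm
  constructor
  · intro a b hab
    have := congrArg (adj.homEquiv P (M.restrict U.ι)) hab
    rw [key, key] at this
    exact (cancel_mono (adj.unit.app M)).1 this
  · intro α
    refine ⟨adj.homEquiv P (M.restrict U.ι) α ≫ inv (adj.unit.app M), (adj.homEquiv _ _).injective ?_⟩
    exact (key _).trans (by rw [Category.assoc, IsIso.inv_hom_id, Category.comp_id])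

/-- Functions extend uniquely across points of depth at least two. -/
theorem isIso_unit_structure [IsLocallyNoetherian X]
    (h : ∀ x : X, x ∉ U → (2 : ℕ∞) ≤ LocCoh.depth (X.presheaf.stalk x) (X.presheaf.stalk x)) :
    IsIso ((Scheme.Modules.restrictAdjunction U.ι).unit.app (Coh.structureModule X)) := by
  refine TwistLib.G.isIso_of_bijective_on_basis _ (fun B => IsAffineOpen B) (fun V y hy => ?_) fun V hV => ?_
  · obtain ⟨B, hB, hyB, hBV⟩ := exists_isAffineOpen_mem_and_subset (x := y) (U := V) hy
    exact ⟨B, hB, hyB, hBV⟩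
  · rw [Scheme.Modules.restrictAdjunction_unit_app_app]
    refine FEtFF.Hartogs.bijective_restrict U h hV ?_ (U.ι.image_preimage_le V)
    rw [Scheme.Hom.image_preimage_eq_opensRange_inf, Scheme.Opens.opensRange_ι, inf_comm]

/-- Sections on a closed subscheme contained in `U` only depend on `U`. -/
theorem isIso_unit_quot (J : X.IdealSheafData) (hJ : (J.support : Set X) ⊆ (U : Set X)) :
    IsIso ((Scheme.Modules.restrictAdjunction U.ι).unit.app (ClSub.quotMod J)) := by
  refine Scheme.Modules.Hom.isIso_iff_isIso_app.mpr fun V => ?_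
  rw [Scheme.Modules.restrictAdjunction_unit_app_app]
  have he : J.subschemeι ⁻¹ᵁ (U.ι ''ᵁ U.ι ⁻¹ᵁ V) = J.subschemeι ⁻¹ᵁ V := by
    rw [Scheme.Hom.image_preimage_eq_opensRange_inf, Scheme.Opens.opensRange_ι]
    ext z
    exact ⟨fun h => h.2, fun h => ⟨hJ (J.range_subschemeι.subset ⟨z, rfl⟩), h⟩⟩
  have e : (ClSub.quotMod J).presheaf.map (homOfLE (U.ι.image_preimage_le V)).op =
      (Coh.structureModule J.subscheme).presheaf.map (eqToHom he).op := rfl
  rw [e]
  exact Functor.map_isIso _ _

/-- The structure sheaf restricts to the structure sheaf. -/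
noncomputable abbrev unitIso : (Coh.structureModule X).restrict U.ι ≅ Coh.structureModule (U : Scheme.{u}) :=
  Scheme.Modules.restrictUnitIso U.ι

/-- A thickening contained in `U`, seen from `U`. -/
theorem exists_quotIso (J : X.IdealSheafData) (hJ : (J.support : Set X) ⊆ (U : Set X))
    (J' : (U : Scheme.{u}).IdealSheafData) (hJ' : J.comap U.ι = J') :
    ∃ θ : (ClSub.quotMod J).restrict U.ι ≅ ClSub.quotMod J',
      resHom U (ClSub.toSubscheme J) ≫ θ.hom = (unitIso U).hom ≫ ClSub.toSubscheme J' := by
  subst hJ'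
  let g : (J.comap U.ι).subscheme ⟶ J.subscheme := (J.comapIso U.ι).hom ≫ pullback.snd _ _
  have hg : g ≫ J.subschemeι = (J.comap U.ι).subschemeι ≫ U.ι := by
    rw [Category.assoc, ← pullback.condition, Scheme.IdealSheafData.comapIso_hom_fst_assoc]
  haveI : IsIso (pullback.snd U.ι J.subschemeι) := by
    haveI : IsOpenImmersion (pullback.snd U.ι J.subschemeι) := inferInstance
    haveI : Epi (pullback.snd U.ι J.subschemeι).base := by
      rw [TopCat.epi_iff_surjective]
      intro z
      have : z ∈ Set.range (pullback.snd U.ι J.subschemeι).base := by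
        rw [Scheme.Pullback.range_snd, Scheme.Opens.range_ι]
        exact hJ (J.range_subschemeι.subset ⟨z, rfl⟩)
      exact this
    exact IsOpenImmersion.isIso _
  let t : ClSub.quotMod J ⟶ (Scheme.Modules.pushforward U.ι).obj (ClSub.quotMod (J.comap U.ι)) :=
    (Scheme.Modules.pushforward J.subschemeι).map (ClSub.unitToPush g) ≫
      (Scheme.Modules.pushforwardComp g J.subschemeι).hom.app _ ≫
        (Scheme.Modules.pushforwardCongr hg).hom.app _ ≫
          (Scheme.Modules.pushforwardComp (J.comap U.ι).subschemeι U.ι).inv.app _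
  haveI : IsIso (ClSub.unitToPush g) := by
    refine Scheme.Modules.Hom.isIso_iff_isIso_app.mpr fun V => ?_
    exact (ConcreteCategory.isIso_iff_bijective _).2 (ConcreteCategory.bijective_of_isIso (g.app V))
  haveI : IsIso t := inferInstance
  let θ := resHom U t ≫ (Scheme.Modules.restrictAdjunction U.ι).counit.app _
  haveI : IsIso θ := inferInstance
  refine ⟨asIso θ, Scheme.Modules.hom_ext _ _ fun V => ConcreteCategory.hom_ext _ _
    fun (r : Γ(X, U.ι ''ᵁ V)) => ?_⟩
  let Z' := (J.comap U.ι).subscheme
  let ι' := (J.comap U.ι).subschemeι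
  show (Z'.presheaf.map _).hom ((Z'.presheaf.map _).hom
      ((g.app (J.subschemeι ⁻¹ᵁ (U.ι ''ᵁ V))).hom ((J.subschemeι.app (U.ι ''ᵁ V)).hom r))) =
    (ι'.app V).hom ((U.ι.appIso V).hom.hom r)
  rw [← CommRingCat.comp_apply (J.subschemeι.app _), ← Scheme.Hom.comp_app]
  rw [Scheme.Hom.congr_app hg]
  simp only [Scheme.Hom.comp_app]
  simp only [← CommRingCat.comp_apply, Category.assoc, ← Functor.map_comp]
  refine congrArg (fun (k : Γ(X, U.ι ''ᵁ V) ⟶ Γ(Z', ι' ⁻¹ᵁ V)) => k.hom r) ?_
  rw [Scheme.Hom.appIso_hom', Scheme.Hom.appLE]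
  erw [Category.assoc, Category.assoc, ← Functor.map_comp]
  refine Eq.trans ?_ (Category.assoc _ _ _).symm
  refine congrArg (U.ι.app (U.ι ''ᵁ V) ≫ ·) ?_
  erw [ι'.naturality]
  exact congrArg (ι'.app _ ≫ Z'.presheaf.map ·) (Subsingleton.elim _ _)

end Groth.Agent.Lef23
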