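import Groth.Agent.Lef23.FormalOfLim
import Groth.Agent.Lef23.Restrict
import Groth.Agent.Lef23.LefCondition
import Groth.Agent.S3372
import Groth.Agent.CAlgH3.Depth

/-!
# The Lefschetz condition on the punctured spectrum of a complete local ring
-/

set_option autoImplicit false
set_option linter.style.haveILetI false
set_option backward.isDefEq.respectTransparency.types false

universe u

open CategoryTheory CategoryTheory.Limits AlgebraicGeometry Opposite TopologicalSpace IsLocalRing
open Groth.Agent.Coherent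

noncomputable section

namespace Groth.Agent.Lef23

/-- Formal bijectivity of `O` passes to opens containing the closed subscheme with good complement. -/
theorem formalBijective_restrict {X : Scheme.{u}} [IsLocallyNoetherian X] (J : X.IdealSheafData) (U : X.Opens)
    (hU : (J.support : Set X) ⊆ (U : Set X))
    (hout : ∀ x : X, x ∉ U → (2 : ℕ∞) ≤ LocCoh.depth (X.presheaf.stalk x) (X.presheaf.stalk x))
    (h : Lef.HomToFormalBijective J (Coh.structureModule X)) :
    Lef.HomToFormalBijective (J.comap U.ι) (Coh.structureModule (U : Scheme.{u})) := by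
  haveI := isIso_unit_structure U hout
  have hsupp : ∀ n, ((J ^ (n + 1)).support : Set X) ⊆ (U : Set X) := fun n => by
    rw [Scheme.IdealSheafData.support_pow_succ]
    exact hU
  haveI := fun n => isIso_unit_quot U (J ^ (n + 1)) (hsupp n)
  choose θ hθ using fun n => exists_quotIso U (J ^ (n + 1)) (hsupp n) (J.comap U.ι ^ (n + 1))
    (FSchLib.comap_pow U.ι J (n + 1))
  have hq : ∀ n, (θ (n + 1)).hom ≫ Lef.quotMap (Lef.pow_succ_le (J.comap U.ι) n) =
      resHom U (Lef.quotMap (Lef.pow_succ_le J n)) ≫ (θ n).hom := fun n => by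
    haveI := CurveRR24.epi_toSubscheme (J ^ (n + 1 + 1))
    haveI : Epi (resHom U (ClSub.toSubscheme (J ^ (n + 1 + 1)))) :=
      (Scheme.Modules.restrictFunctor U.ι).map_epi _
    rw [← cancel_epi (resHom U (ClSub.toSubscheme (J ^ (n + 1 + 1)))), ← Category.assoc, hθ (n + 1),
      Category.assoc, toSubscheme_quotMap, ← hθ n, ← Category.assoc]
    refine congrArg (· ≫ (θ n).hom) ?_
    rw [← toSubscheme_quotMap (Lef.pow_succ_le J n)]
    exact Functor.map_comp _ _ _
  constructor
  · intro φ ψ hφ
    rw [← cancel_epi (unitIso U).hom]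
    obtain ⟨a, ha⟩ := (bijective_resHom U _ (Coh.structureModule X)).2 ((unitIso U).hom ≫ φ ≫ (unitIso U).inv)
    obtain ⟨b, hb⟩ := (bijective_resHom U _ (Coh.structureModule X)).2 ((unitIso U).hom ≫ ψ ≫ (unitIso U).inv)
    have ha' : resHom U a = (unitIso U).hom ≫ φ ≫ (unitIso U).inv := ha
    have hb' : resHom U b = (unitIso U).hom ≫ ψ ≫ (unitIso U).inv := hb
    have hab : a = b := h.1 a b fun n => (bijective_resHom U _ _).1 ((cancel_mono (θ n).hom).1 (by
      show resHom U (a ≫ _) ≫ _ = resHom U (b ≫ _) ≫ _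
      simp only [resHom_comp, Category.assoc, hθ n, ha', hb', Iso.inv_hom_id_assoc, hφ n]))
    rw [hab, hb'] at ha'
    exact ((cancel_mono (unitIso U).inv).1 (by simpa only [Category.assoc] using ha')).symm
  · intro y hy
    choose z hz using fun n => (bijective_resHom U (Coh.structureModule X) _).2 ((unitIso U).hom ≫ y n ≫ (θ n).inv)
    have hz' : ∀ n, resHom U (z n) = (unitIso U).hom ≫ y n ≫ (θ n).inv := hz
    obtain ⟨β, hβ⟩ := h.2 z fun n => by
      refine (bijective_resHom U _ _).1 ((cancel_mono (θ n).hom).1 ?_)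
      show resHom U (z (n + 1) ≫ _) ≫ _ = resHom U (z n) ≫ _
      rw [resHom_comp, Category.assoc, ← hq n, hz', hz', Category.assoc, Category.assoc, Iso.inv_hom_id_assoc, hy n,
        Category.assoc, Category.assoc, Iso.inv_hom_id, Category.comp_id]
    refine ⟨(unitIso U).inv ≫ resHom U β ≫ (unitIso U).hom, fun n => ?_⟩
    rw [Category.assoc, Category.assoc, ← hθ n, ← Category.assoc (resHom U β),
      show resHom U β ≫ resHom U (ClSub.toSubscheme (J ^ (n + 1))) = resHom U (z n) from
        (Functor.map_comp _ _ _).symm.trans (congrArg (resHom U) (hβ n)),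
      hz', Category.assoc, Category.assoc, Iso.inv_hom_id, Category.comp_id, Iso.inv_hom_id_assoc]

variable (A : Type u) [CommRing A] [IsLocalRing A] [IsNoetherianRing A]

omit [IsNoetherianRing A] in
/-- Closed points of the punctured spectrum have one dimensional closure. -/
theorem dim_quotient_of_isClosed (x : (↑(FEt.puncturedSpec A) : Scheme.{u}))
    (hx : IsClosed ({x} : Set (↑(FEt.puncturedSpec A) : Scheme.{u}))) :
    ringKrullDim (A ⧸ (show PrimeSpectrum A from (FEt.puncturedSpec A).ι x).asIdeal) = 1 := by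
  let p : PrimeSpectrum A := (FEt.puncturedSpec A).ι x
  have hp : p ≠ closedPoint A := x.2
  have hmax : ∀ r : PrimeSpectrum A, p.asIdeal ≤ r.asIdeal → r ≠ closedPoint A → r = p := fun r hr hne => by
    let y : (↑(FEt.puncturedSpec A) : Scheme.{u}) := ⟨r, hne⟩
    have hs : x ⤳ y := by
      refine ((FEt.puncturedSpec A).ι.isOpenEmbedding.isInducing.specializes_iff).1 ?_
      exact (PrimeSpectrum.le_iff_specializes p r).1 hr
    have := hs.mem_closed hx rfl
    exact congrArg Subtype.val this
  refine le_antisymm ?_ ?_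
  · rw [ringKrullDim_quotient, Order.krullDim_le_one_iff]
    rintro ⟨r, hr⟩
    by_cases hrm : r = closedPoint A
    · refine Or.inr fun y _ => ?_
      change y.1.asIdeal ≤ r.asIdeal
      rw [hrm]
      exact IsLocalRing.le_maximalIdeal y.1.2.ne_top
    · refine Or.inl fun y _ => ?_
      change r.asIdeal ≤ y.1.asIdeal
      rw [hmax r hr hrm]
      exact y.2
  · by_contra hlt
    have h0 : ringKrullDim (A ⧸ p.asIdeal) ≤ 0 := Order.le_of_lt_succ (lt_of_not_ge hlt)
    haveI : Ring.KrullDimLE 0 (A ⧸ p.asIdeal) := Ring.krullDimLE_iff.mpr h0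
    have hf : IsField (A ⧸ p.asIdeal) := Ring.KrullDimLE.isField_of_isDomain
    exact hp (PrimeSpectrum.ext
      (IsLocalRing.eq_maximalIdeal ((Ideal.Quotient.maximal_ideal_iff_isField_quotient p.asIdeal).mpr hf)))

omit [IsNoetherianRing A] in
/-- The local rings of the punctured spectrum. -/
theorem depth_stalk_punctured (x : (↑(FEt.puncturedSpec A) : Scheme.{u})) :
    LocCoh.depth ((↑(FEt.puncturedSpec A) : Scheme.{u}).presheaf.stalk x)
        ((↑(FEt.puncturedSpec A) : Scheme.{u}).presheaf.stalk x) =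
      LocCoh.depth (Localization.AtPrime (show PrimeSpectrum A from (FEt.puncturedSpec A).ι x).asIdeal)
        (Localization.AtPrime (show PrimeSpectrum A from (FEt.puncturedSpec A).ι x).asIdeal) :=
  (CAlgH3.depth_ringEquiv
    (((StructureSheaf.stalkIso A (show PrimeSpectrum A from (FEt.puncturedSpec A).ι x)).toRingEquiv :
        Localization.AtPrime (show PrimeSpectrum A from (FEt.puncturedSpec A).ι x).asIdeal ≃+*
          (Spec (CommRingCat.of A)).presheaf.stalk ((FEt.puncturedSpec A).ι x)).trans
      (asIso ((FEt.puncturedSpec A).ι.stalkMap x)).commRingCatIsoToRingEquiv)).symm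

omit [IsNoetherianRing A] in
/-- Multiplication by a regular element is injective on the structure sheaf of the punctured spectrum. -/
theorem mono_smulMod_punctured (t : A) (hreg : IsSMulRegular A t) :
    Mono (Formal.smulMod A (Coh.structureModule (↑(FEt.puncturedSpec A) : Scheme.{u})) t) := by
  refine Preadditive.mono_of_cancel_zero _ fun {G} g hg => ?_
  refine Scheme.Modules.hom_ext _ _ fun W => ?_
  refine ConcreteCategory.hom_ext _ _ fun a => ?_
  let X : Scheme.{u} := (↑(FEt.puncturedSpec A) : Scheme.{u})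
  let s : Γ(X, W) := g.app W a
  show s = 0
  have h0 : (Formal.smulMod A (Coh.structureModule X) t).app W (g.app W a) = 0 := congr(($hg).app W a)
  rw [smulMod_app] at h0
  let T : Γ(X, ⊤) := Coh.toGlobal (X ↘ Spec (CommRingCat.of A)) t
  have h1 : PicLib.res (le_top : W ≤ ⊤) T * s = 0 := h0
  refine TopCat.Presheaf.section_ext X.sheaf W s 0 fun x hx => ?_
  rw [map_zero]
  show X.presheaf.germ W x hx s = 0
  let jx := (FEt.puncturedSpec A).ι x
  let p : PrimeSpectrum A := jx
  have hT : X.presheaf.germ W x hx (PicLib.res (le_top : W ≤ ⊤) T) =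
      (FEt.puncturedSpec A).ι.stalkMap x
        ((Spec (CommRingCat.of A)).presheaf.germ ⊤ jx trivial ((Scheme.ΓSpecIso (CommRingCat.of A)).inv t)) := by
    rw [Scheme.Hom.germ_stalkMap_apply]
    exact (TopCat.Presheaf.germ_res_apply X.presheaf _ x hx T).trans rfl
  have hreg' : IsSMulRegular ((Spec.structureSheaf A).presheaf.stalk p) t := by
    haveI : IsLocalization.AtPrime ((Spec.structureSheaf A).presheaf.stalk p) p.asIdeal := inferInstance
    haveI : Module.Flat A ((Spec.structureSheaf A).presheaf.stalk p) :=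
      IsLocalization.flat _ p.asIdeal.primeCompl
    exact hreg.of_flat
  have h2 := congrArg (X.presheaf.germ W x hx) h1
  rw [map_mul, map_zero, hT] at h2
  obtain ⟨c, hc⟩ := (ConcreteCategory.bijective_of_isIso ((FEt.puncturedSpec A).ι.stalkMap x)).2
    (X.presheaf.germ W x hx s)
  rw [← hc] at h2
  have h3 := ((ConcreteCategory.bijective_of_isIso ((FEt.puncturedSpec A).ι.stalkMap x)).1
    (h2.trans (map_zero _).symm |> fun e => (map_mul _ _ _).trans e))
  have h4 : c = 0 := hreg'.right_eq_zero_of_smul (by rw [Algebra.smul_def]; exact h3)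
  rw [← hc, h4, map_zero]

/-- **Lef on the punctured spectrum.** -/
theorem lefCond_punctured (R : Type u) [CommRing R] [IsRegularRing R] (π : R →+* A) (hπ : Function.Surjective π)
    (t : A) (ht : t ∈ maximalIdeal A) (hreg : IsSMulRegular A t) [IsAdicComplete (Ideal.span {t}) A]
    (hdepth : ∀ p : PrimeSpectrum A, ringKrullDim (A ⧸ p.asIdeal) = 1 →
      (2 : ℕ∞) ≤ LocCoh.depth (Localization.AtPrime p.asIdeal) (Localization.AtPrime p.asIdeal)) :
    Lef.LefCond (↑(FEt.puncturedSpec A) : Scheme.{u})
      ((Spec.map (CommRingCat.ofHom (Ideal.Quotient.mk (Ideal.span {t})))).ker.comap (FEt.puncturedSpec A).ι) := by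
  let X : Scheme.{u} := (↑(FEt.puncturedSpec A) : Scheme.{u})
  let J : X.IdealSheafData :=
    (Spec.map (CommRingCat.ofHom (Ideal.Quotient.mk (Ideal.span {t})))).ker.comap (FEt.puncturedSpec A).ι
  haveI : IsNoetherian (Spec (CommRingCat.of A)) := inferInstance
  haveI : IsLocallyNoetherian X := LocallyOfFiniteType.isLocallyNoetherian (FEt.puncturedSpec A).ι
  have hd : ∀ x : X, IsClosed ({x} : Set X) → (2 : ℕ∞) ≤ LocCoh.depth (X.presheaf.stalk x) (X.presheaf.stalk x) :=
    fun x hx => (hdepth _ (dim_quotient_of_isClosed A x hx)).trans_eq (depth_stalk_punctured A x).symm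
  have hO : Lef.HomToFormalBijective J (Coh.structureModule X) := by
    refine formalBijective_of_toHHlim (Ideal.span {t}) J rfl ?_
    exact ((Groth.Agent.S3372.result R A π hπ t ht (Coh.structureModule X)
      (CohBC.isCoh_of_isFinLocFree (CohBC.isFinLocFree_structureModule X)) (mono_smulMod_punctured A t hreg) 1
      (fun x hx => (hd x hx).trans_eq (CAlgH3.depth_congr (EGA43.FibDepth.unitStalkEquiv x))) 0).1 zero_lt_one)
  intro V hV D hD
  haveI : CompactSpace ((↑(FEt.puncturedSpec A) : Scheme.{u})) :=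
    isCompact_iff_compactSpace.mp (NoetherianSpace.isCompact _)
  haveI : AlgebraicGeometry.IsNoetherian X := ⟨⟩
  haveI : IsLocallyNoetherian (V : Scheme.{u}) := LocallyOfFiniteType.isLocallyNoetherian V.ι
  haveI : CompactSpace (V : Scheme.{u}) := isCompact_iff_compactSpace.mp (NoetherianSpace.isCompact (V : Set X))
  haveI : AlgebraicGeometry.IsNoetherian (V : Scheme.{u}) := ⟨⟩
  haveI : (V : Scheme.{u}).IsQuasiAffine :=
    Scheme.IsQuasiAffine.of_isImmersion (V.ι ≫ (FEt.puncturedSpec A).ι)
  refine formal_of_quasiAffine (J.comap V.ι) (formalBijective_restrict J V hV (fun x hx => hd x ?_) hO) D hD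
  -- points outside `V` are closed
  refine isClosed_of_closure_subset fun y hy => ?_
  have hxy : x ⤳ y := specializes_iff_mem_closure.2 hy
  by_contra hne
  let P : PrimeSpectrum A := (FEt.puncturedSpec A).ι x
  let Q : PrimeSpectrum A := (FEt.puncturedSpec A).ι y
  have hle : P.asIdeal ≤ Q.asIdeal :=
    (PrimeSpectrum.le_iff_specializes P Q).2 (hxy.map (FEt.puncturedSpec A).ι.continuous)
  have hPQ : P.asIdeal < Q.asIdeal := lt_of_le_of_ne hle fun e =>
    hne ((FEt.puncturedSpec A).ι.isOpenEmbedding.injective (PrimeSpectrum.ext e : P = Q).symm)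
  have hQm : Q.asIdeal < maximalIdeal A := lt_of_le_of_ne (le_maximalIdeal Q.2.ne_top) fun e =>
    y.2 (PrimeSpectrum.ext e)
  have hsupp : ∀ z : X, z ∈ (J.support : Set X) ↔ t ∈ (show PrimeSpectrum A from (FEt.puncturedSpec A).ι z).asIdeal := by
    intro z
    rw [Scheme.IdealSheafData.support_comap]
    show (FEt.puncturedSpec A).ι z ∈ ((Spec.map (CommRingCat.ofHom (Ideal.Quotient.mk (Ideal.span {t})))).ker.support : Set _) ↔ _
    haveI : IsClosedImmersion (Spec.map (CommRingCat.ofHom (Ideal.Quotient.mk (Ideal.span {t})))) :=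
      IsClosedImmersion.spec_of_surjective _ Ideal.Quotient.mk_surjective
    rw [Scheme.Hom.support_ker, IsClosed.closure_eq (Scheme.Hom.isClosedMap _).isClosed_range]
    show (show PrimeSpectrum A from (FEt.puncturedSpec A).ι z) ∈
      Set.range (PrimeSpectrum.comap (Ideal.Quotient.mk (Ideal.span {t}))) ↔ _
    rw [range_comap_of_surjective _ _ Ideal.Quotient.mk_surjective, Ideal.mk_ker, PrimeSpectrum.zeroLocus_span,
      PrimeSpectrum.mem_zeroLocus, Set.singleton_subset_iff]
    rfl
  have hV' : ∀ z : X, x ⤳ z → t ∉ (show PrimeSpectrum A from (FEt.puncturedSpec A).ι z).asIdeal := fun z hz htz =>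
    hx (hz.mem_open V.2 (hV ((hsupp z).2 htz)))
  let f := Ideal.Quotient.mk P.asIdeal
  have hf : Function.Surjective f := Ideal.Quotient.mk_surjective
  have hker : RingHom.ker f = P.asIdeal := Ideal.mk_ker
  let Q' := Q.asIdeal.map f
  let M' := (maximalIdeal A).map f
  haveI hQ' : Q'.IsPrime := Ideal.map_isPrime_of_surjective hf (hker.le.trans hle)
  haveI hM' : M'.IsPrime := Ideal.map_isPrime_of_surjective hf (hker.le.trans (le_maximalIdeal P.2.ne_top))
  have hcQ : Q'.comap f = Q.asIdeal := by
    rw [Ideal.comap_map_of_surjective _ hf, ← RingHom.ker_eq_comap_bot, hker, sup_eq_left.2 hle]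
  have hcM : M'.comap f = maximalIdeal A := by
    rw [Ideal.comap_map_of_surjective _ hf, ← RingHom.ker_eq_comap_bot, hker,
      sup_eq_left.2 (le_maximalIdeal P.2.ne_top)]
  have hQM : Q' < M' := lt_of_le_of_ne (Ideal.map_mono hQm.le) fun e => hQm.ne (by rw [← hcQ, ← hcM, e])
  have hbot : (⊥ : Ideal (A ⧸ P.asIdeal)) < Q' := bot_lt_iff_ne_bot.2 fun e => hPQ.ne (by
    rw [← hcQ, e, ← RingHom.ker_eq_comap_bot, hker])
  have hmin : M' ∈ (Ideal.span {f t}).minimalPrimes := by
    refine ⟨⟨hM', (Ideal.span_singleton_le_iff_mem _).2 (Ideal.mem_map_of_mem f ht)⟩, fun N hN hNM => ?_⟩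
    haveI := hN.1
    let Z : PrimeSpectrum A := ⟨N.comap f, inferInstance⟩
    have hPZ : P.asIdeal ≤ Z.asIdeal := hker.ge.trans (Ideal.ker_le_comap f)
    have htZ : t ∈ Z.asIdeal := hN.2 (Ideal.mem_span_singleton_self _)
    have hZ : Z = closedPoint A := by
      by_contra hZne
      let z : X := ⟨Z, hZne⟩
      refine hV' z ?_ htZ
      refine ((FEt.puncturedSpec A).ι.isOpenEmbedding.isInducing.specializes_iff).1 ?_
      exact (PrimeSpectrum.le_iff_specializes P Z).1 hPZ
    rw [show M' = Z.asIdeal.map f by rw [hZ]; rfl]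
    exact Ideal.map_comap_le
  haveI : (Ideal.span {f t}).IsPrincipal := ⟨⟨f t, rfl⟩⟩
  have h1 := Ideal.height_le_one_of_isPrincipal_of_mem_minimalPrimes (Ideal.span {f t}) M' hmin
  have h2 := Ideal.height_strict_mono_of_isPrime hQM
  have h3 := Ideal.height_strict_mono_of_isPrime hbot
  have h4 : Q'.height < 1 := lt_of_lt_of_le h2 h1
  rw [Order.lt_one_iff] at h4
  rw [h4] at h3
  exact not_lt_bot h3

end Groth.Agent.Lef23
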