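import Groth.Agent.Lef23.PuncturedLef
import Groth.Agent.Lef23.FreeOfLevels
import Groth.Agent.Lef23.FrameLeff
import Groth.Agent.S3373
import Groth.Agent.OmegaLib.StalkLocal
import Groth.Agent.CAlgH.RegImmStalk
import Groth.Agent.CAlgH.PicPunctHyp
import Groth.Agent.Props12.FinLocFree
import Groth.Agent.ModStalk.Pullback
import Groth.Agent.EGA43.FibDepth.Unit

/-!
# The effective Lefschetz condition on the punctured spectrum of a complete local ring
-/

set_option autoImplicit false
set_option linter.style.haveILetI false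
set_option backward.isDefEq.respectTransparency.types false

universe u

open CategoryTheory CategoryTheory.Limits AlgebraicGeometry Opposite TopologicalSpace IsLocalRing
open Groth.Agent.Coherent

noncomputable section

namespace Groth.Agent.Lef23

variable (A : Type u) [CommRing A] [IsLocalRing A] [IsNoetherianRing A] (t : A)

set_option quotPrecheck false in
local notation "PU" => ((↑(FEt.puncturedSpec A)) : Scheme)
set_option quotPrecheck false in
local notation "JT" =>
  ((Spec.map (CommRingCat.ofHom (Ideal.Quotient.mk (Ideal.span {t})))).ker.comap (FEt.puncturedSpec A).ι)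

/-- The element of the base ring in a local ring of the punctured spectrum. -/
def tGerm (x : PU) : (PU).presheaf.stalk x :=
  (PU).presheaf.germ ⊤ x trivial (Coh.toGlobal (PU ↘ Spec (CommRingCat.of A)) t)

omit [IsNoetherianRing A] in
theorem isSMulRegular_tGerm (hreg : IsSMulRegular A t) (x : PU) : IsSMulRegular ((PU).presheaf.stalk x) (tGerm A t x) := by
  let jx := (FEt.puncturedSpec A).ι x
  let p : PrimeSpectrum A := jx
  have hT : tGerm A t x = (FEt.puncturedSpec A).ι.stalkMap x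
      ((Spec (CommRingCat.of A)).presheaf.germ ⊤ jx trivial ((Scheme.ΓSpecIso (CommRingCat.of A)).inv t)) := by
    rw [Scheme.Hom.germ_stalkMap_apply]
    rfl
  have hreg' : IsSMulRegular ((Spec.structureSheaf A).presheaf.stalk p) t := by
    haveI : IsLocalization.AtPrime ((Spec.structureSheaf A).presheaf.stalk p) p.asIdeal := inferInstance
    haveI : Module.Flat A ((Spec.structureSheaf A).presheaf.stalk p) :=
      IsLocalization.flat _ p.asIdeal.primeCompl
    exact hreg.of_flat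
  refine isSMulRegular_iff_right_eq_zero_of_smul.2 fun z hz => ?_
  obtain ⟨c, rfl⟩ := (ConcreteCategory.bijective_of_isIso ((FEt.puncturedSpec A).ι.stalkMap x)).2 z
  rw [smul_eq_mul, hT] at hz
  have h3 := (ConcreteCategory.bijective_of_isIso ((FEt.puncturedSpec A).ι.stalkMap x)).1
    (((map_mul _ _ _).trans hz).trans (map_zero _).symm)
  rw [show c = 0 from hreg'.right_eq_zero_of_smul (by rw [Algebra.smul_def]; exact h3), map_zero]

/-- The kernel of a thickening on stalks. -/
theorem ker_thick (n : ℕ) (y : ↥((JT) ^ (n + 1)).subscheme) :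
    RingHom.ker (((JT) ^ (n + 1)).subschemeι.stalkMap y).hom =
      Ideal.span {tGerm A t (((JT) ^ (n + 1)).subschemeι y) ^ (n + 1)} := by
  obtain ⟨V, hV, hyV, -⟩ := exists_isAffineOpen_mem_and_subset
    (x := ((JT) ^ (n + 1)).subschemeι y) (U := (⊤ : (PU).Opens)) trivial
  have hI : ((JT) ^ (n + 1)).ideal ⟨V, hV⟩ = _ :=
    (congrArg (fun K : (PU).IdealSheafData => K.ideal ⟨V, hV⟩)
      (Formal2Lib.ModSysAlgz.pow_eq_comap (Ideal.span {t}) (JT) rfl (n + 1))).trans
      (Formal2Lib.ModSysAlgz.ideal_comap_idealSpec _ _ _)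
  rw [CAlgH.RegImmStalk.ker_stalkMap_eq ((JT) ^ (n + 1)).subschemeι y hV hyV,
    Scheme.IdealSheafData.ker_subschemeι_app ((JT) ^ (n + 1)) ⟨V, hV⟩, hI,
    Ideal.span_singleton_pow, Ideal.map_span, Set.image_singleton,
    Ideal.map_span, Set.image_singleton]
  congr 1
  rw [map_pow, map_pow]
  congr 2
  exact TopCat.Presheaf.germ_res_apply (PU).presheaf _ _ hyV _

/-- Stalks of levels. -/
theorem free_stalk_level (𝔐 : FSch.ModSys (FSch.completionAlong PU JT)) (h𝔐 : LefX.LevelwiseFinLocFree 𝔐) (n : ℕ)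
    (y : ↥((JT) ^ (n + 1)).subscheme) :
    Module.Free (((JT) ^ (n + 1)).subscheme.presheaf.stalk y)
      ((DerSch.stalkFunctor ((JT) ^ (n + 1)).subscheme y).obj (𝔐.F n)) := by
  haveI : Coh.IsQCoh (X := ((JT) ^ (n + 1)).subscheme) (𝔐.F n) := by
    haveI : IsLocallyNoetherian PU := LocallyOfFiniteType.isLocallyNoetherian (FEt.puncturedSpec A).ι
    haveI : IsLocallyNoetherian ((JT) ^ (n + 1)).subscheme :=
      LocallyOfFiniteType.isLocallyNoetherian ((JT) ^ (n + 1)).subschemeι
    exact (CohBC.isCoh_of_isFinLocFree (h𝔐 n)).1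
  exact Props12.free_stalk_of_isFinLocFree (X := ((JT) ^ (n + 1)).subscheme) (𝔐.F n) (h𝔐 n) y

theorem isCoh_levels (𝔐 : FSch.ModSys (FSch.completionAlong PU JT)) (h𝔐 : LefX.LevelwiseFinLocFree 𝔐) : 𝔐.IsCoh :=
  fun n => by
    haveI : IsLocallyNoetherian PU := LocallyOfFiniteType.isLocallyNoetherian (FEt.puncturedSpec A).ι
    haveI : IsLocallyNoetherian ((JT) ^ (n + 1)).subscheme :=
      LocallyOfFiniteType.isLocallyNoetherian ((JT) ^ (n + 1)).subschemeι
    exact CohBC.isCoh_of_isFinLocFree (X := ((JT) ^ (n + 1)).subscheme) (h𝔐 n)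

omit [IsLocalRing A] [IsNoetherianRing A] in
/-- Multiplication on stalks. -/
theorem map_smulModΓ {Z : Scheme.{u}} (M : Z.Modules) (r : Γ(Z, ⊤)) (y : Z) (m : (DerSch.stalkFunctor Z y).obj M) :
    (DerSch.stalkFunctor Z y).map (Formal.smulModΓ M r) m = Z.presheaf.germ ⊤ y trivial r • m := by
  obtain ⟨V, hV, s, rfl⟩ := OmegaLib.exists_gm M m
  rw [OmegaLib.map_gm, smulModΓ_app, OmegaLib.gm_smul]
  exact congrArg (· • _) (TopCat.Presheaf.germ_res_apply Z.presheaf _ y hV r)

/-- Exactness of multiplication by the powers on a free module. -/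
theorem exact_pow_free {O S : Type u} [CommRing O] [CommRing S] (φ : O →+* S) (hφ : Function.Surjective φ)
    {τ : O} (hτ : IsSMulRegular O τ) (N : ℕ) (hker : RingHom.ker φ = Ideal.span {τ ^ (N + 1)})
    (M : Type u) [AddCommGroup M] [Module S M] [Module.Free S M] (z : M) :
    φ τ ^ N • z = 0 ↔ ∃ w : M, φ τ • w = z := by
  constructor
  · intro hz
    let b := Module.Free.chooseBasis S M
    have h : ∀ i, ∃ d : S, φ τ * d = b.repr z i := fun i => by
      have h0 : φ τ ^ N * b.repr z i = 0 := by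
        have := congrArg (fun w => b.repr w i) hz
        simpa using this
      obtain ⟨c, hc⟩ := hφ (b.repr z i)
      rw [← hc, ← map_pow, ← map_mul, ← RingHom.mem_ker, hker, Ideal.mem_span_singleton'] at h0
      obtain ⟨d, hd⟩ := h0
      refine ⟨φ d, ?_⟩
      rw [← hc, ← map_mul]
      congr 1
      refine (hτ.pow N) ?_
      show τ ^ N * (τ * d) = τ ^ N * c
      rw [← hd, pow_succ]
      ring
    choose d hd using h
    refine ⟨∑ i ∈ (b.repr z).support, d i • b i, ?_⟩
    rw [Finset.smul_sum]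
    conv_rhs => rw [← b.linearCombination_repr z]
    rw [Finsupp.linearCombination_apply, Finsupp.sum]
    exact Finset.sum_congr rfl fun i _ => by rw [smul_smul, hd i]
  · rintro ⟨w, rfl⟩
    rw [smul_smul, ← pow_succ, ← map_pow,
      (RingHom.mem_ker (f := φ)).1 (hker.ge (Ideal.mem_span_singleton_self _)), zero_smul]

omit [IsLocalRing A] [IsNoetherianRing A] in
/-- Exactness of multiplication by powers, from stalks. -/
theorem kernel_smul_eq_image {Z : Scheme.{u}} (M : Z.Modules) (r : Γ(Z, ⊤)) (N : ℕ)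
    (h : ∀ (y : Z) (z : (DerSch.stalkFunctor Z y).obj M), Z.presheaf.germ ⊤ y trivial r ^ N • z = 0 ↔
      ∃ w : (DerSch.stalkFunctor Z y).obj M, Z.presheaf.germ ⊤ y trivial r • w = z) :
    kernelSubobject (Formal.smulModΓ M (r ^ N)) = imageSubobject (Formal.smulModΓ M r) :=
  (OmegaLib.image_eq_kernel_of_stalks _ _ fun y z => by
    rw [map_smulModΓ, map_pow]
    refine (h y z).trans ⟨fun ⟨w, hw⟩ => ⟨w, ?_⟩, fun ⟨w, hw⟩ => ⟨w, ?_⟩⟩
    · rw [map_smulModΓ]; exact hw
    · rw [map_smulModΓ] at hw; exact hw).symm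

/-- The regularity of the system. -/
theorem regular_levels (hreg : IsSMulRegular A t) (𝔐 : FSch.ModSys (FSch.completionAlong PU JT))
    (h𝔐 : LefX.LevelwiseFinLocFree 𝔐) (N : ℕ) :
    kernelSubobject (Formal.smulModΓ (𝔐.F N) ((((FSch.completionToX PU JT N) ≫ (FEt.puncturedSpec A).ι).appTop.hom
        ((Scheme.ΓSpecIso (CommRingCat.of A)).inv t)) ^ N)) =
      imageSubobject (Formal.smulModΓ (𝔐.F N) (((FSch.completionToX PU JT N) ≫ (FEt.puncturedSpec A).ι).appTop.hom
        ((Scheme.ΓSpecIso (CommRingCat.of A)).inv t))) := by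
  let Z := ((JT) ^ (N + 1)).subscheme
  let ι : Z ⟶ PU := ((JT) ^ (N + 1)).subschemeι
  let T : Γ(PU, ⊤) := Coh.toGlobal (PU ↘ Spec (CommRingCat.of A)) t
  show kernelSubobject (Formal.smulModΓ (X := Z) (𝔐.F N) ((ι.appTop.hom T) ^ N)) =
    imageSubobject (Formal.smulModΓ (X := Z) (𝔐.F N) (ι.appTop.hom T))
  refine kernel_smul_eq_image (Z := Z) (𝔐.F N) (ι.appTop.hom T) N fun y z => ?_
  haveI := free_stalk_level A t 𝔐 h𝔐 N y
  have hgerm : Z.presheaf.germ ⊤ y trivial (ι.appTop.hom T) = ι.stalkMap y (tGerm A t (ι y)) := by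
    rw [tGerm, Scheme.Hom.germ_stalkMap_apply]
    rfl
  rw [hgerm]
  exact exact_pow_free (ι.stalkMap y).hom (ι.stalkMap_surjective y) (isSMulRegular_tGerm A t hreg (ι y)) N
    (ker_thick A t N y) ((DerSch.stalkFunctor Z y).obj (𝔐.F N)) z

omit [IsNoetherianRing A] in
/-- The support of the thickenings. -/
theorem mem_zero_iff (x : PU) : x ∈ ((JT).support : Set PU) ↔
    t ∈ (show PrimeSpectrum A from (FEt.puncturedSpec A).ι x).asIdeal := by
  rw [Scheme.IdealSheafData.support_comap]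
  show (FEt.puncturedSpec A).ι x ∈ ((Spec.map (CommRingCat.ofHom (Ideal.Quotient.mk (Ideal.span {t})))).ker.support : Set _) ↔ _
  haveI : IsClosedImmersion (Spec.map (CommRingCat.ofHom (Ideal.Quotient.mk (Ideal.span {t})))) :=
    IsClosedImmersion.spec_of_surjective _ Ideal.Quotient.mk_surjective
  rw [Scheme.Hom.support_ker, IsClosed.closure_eq (Scheme.Hom.isClosedMap _).isClosed_range]
  show (show PrimeSpectrum A from (FEt.puncturedSpec A).ι x) ∈
    Set.range (PrimeSpectrum.comap (Ideal.Quotient.mk (Ideal.span {t}))) ↔ _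
  rw [range_comap_of_surjective _ _ Ideal.Quotient.mk_surjective, Ideal.mk_ker, PrimeSpectrum.zeroLocus_span,
    PrimeSpectrum.mem_zeroLocus, Set.singleton_subset_iff]
  rfl

/-- Depth of the bottom level. -/
theorem depth_bottom (hreg : IsSMulRegular A t) (𝔐 : FSch.ModSys (FSch.completionAlong PU JT))
    (h𝔐 : LefX.LevelwiseFinLocFree 𝔐)
    (h3 : ∀ p : Ideal A, ∀ _ : p.IsPrime, t ∈ p → ringKrullDim (A ⧸ p) = 1 →
      (3 : ℕ∞) ≤ LocCoh.depth (Localization.AtPrime p) (Localization.AtPrime p))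
    (y : ↥((JT) ^ (0 + 1)).subscheme) (hy : IsClosed ({y} : Set ↥((JT) ^ (0 + 1)).subscheme)) :
    (2 : ℕ∞) ≤ LocCoh.depth (((JT) ^ (0 + 1)).subscheme.presheaf.stalk y)
      ((DerSch.stalkFunctor ((JT) ^ (0 + 1)).subscheme y).obj (𝔐.F 0)) := by
  let Z := ((JT) ^ (0 + 1)).subscheme
  let ι : Z ⟶ PU := ((JT) ^ (0 + 1)).subschemeι
  let R := (PU).presheaf.stalk (ι y)
  haveI : IsLocallyNoetherian PU := LocallyOfFiniteType.isLocallyNoetherian (FEt.puncturedSpec A).ι
  haveI : IsLocallyNoetherian Z := LocallyOfFiniteType.isLocallyNoetherian ι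
  haveI := free_stalk_level A t 𝔐 h𝔐 0 y
  have hx : IsClosed ({ι y} : Set PU) := by
    rw [← Set.image_singleton]
    exact ι.isClosedEmbedding.isClosedMap _ hy
  have hmem : ι y ∈ ((JT).support : Set PU) := by
    rw [← Scheme.IdealSheafData.support_pow_succ (JT) 0]
    exact ((JT) ^ (0 + 1)).range_subschemeι.subset ⟨y, rfl⟩
  have hd : (3 : ℕ∞) ≤ LocCoh.depth R R :=
    (h3 _ inferInstance ((mem_zero_iff A t _).1 hmem) (dim_quotient_of_isClosed A _ hx)).trans_eq
      (depth_stalk_punctured A _).symm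
  have hker : RingHom.ker (ι.stalkMap y).hom = Ideal.span {tGerm A t (ι y)} := by
    exact (ker_thick A t 0 y).trans (congrArg (fun r => Ideal.span {r}) (pow_one _))
  have hmax : tGerm A t (ι y) ∈ maximalIdeal R := by
    by_contra h
    have : Ideal.span {tGerm A t (ι y)} = ⊤ := Ideal.span_singleton_eq_top.2 (IsLocalRing.notMem_maximalIdeal.1 h)
    exact (RingHom.ker_ne_top _) (hker.trans this)
  let e : R ⧸ Ideal.span {tGerm A t (ι y)} ≃+* Z.presheaf.stalk y :=
    (Ideal.quotEquivOfEq hker.symm).trans (RingHom.quotientKerEquivOfSurjective (ι.stalkMap_surjective y))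
  haveI : IsLocalRing (R ⧸ Ideal.span {tGerm A t (ι y)}) := e.symm.isLocalRing
  have hd2 : (2 : ℕ∞) ≤ LocCoh.depth (Z.presheaf.stalk y) (Z.presheaf.stalk y) := by
    rw [← CAlgH3.depth_ringEquiv e]
    rw [← CAlgH.PicPunct.depth_quotient_span_add_one hmax (isSMulRegular_tGerm A t hreg _),
      show (3 : ℕ∞) = 2 + 1 from rfl] at hd
    exact (ENat.add_le_add_iff_right ENat.one_ne_top).1 hd
  rcases subsingleton_or_nontrivial ((DerSch.stalkFunctor Z y).obj (𝔐.F 0)) with h | h
  · rw [show LocCoh.depth (Z.presheaf.stalk y) ((DerSch.stalkFunctor Z y).obj (𝔐.F 0)) = ⊤ from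
      Groth.Agent.LocCoh.idealDepth_eq_top _ _ (Subsingleton.elim _ _)]
    exact le_top
  · haveI : Module.Finite (Z.presheaf.stalk y) ((DerSch.stalkFunctor Z y).obj (𝔐.F 0)) :=
      haveI : Coh.IsQCoh (X := Z) (𝔐.F 0) := (isCoh_levels A t 𝔐 h𝔐 0).1
      Props12.finite_stalk_of_isFT (X := Z) (𝔐.F 0) (isCoh_levels A t 𝔐 h𝔐 0).2 y
    rwa [CAlgH3.depth_free]

/-- An algebraization of a levelwise locally free system is free along the zero set. -/
theorem free_stalk_of_completion (𝔐 : FSch.ModSys (FSch.completionAlong PU JT)) (h𝔐 : LefX.LevelwiseFinLocFree 𝔐)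
    (F : (PU).Modules) (hF : Coh.IsCoh F) (e : FSch.completionMod (JT) F ≅ 𝔐) (x : PU) (hx : x ∈ (JT).support) :
    Module.Free ((PU).presheaf.stalk x) (F.presheaf.stalk x) := by
  haveI : IsLocallyNoetherian PU := LocallyOfFiniteType.isLocallyNoetherian (FEt.puncturedSpec A).ι
  haveI := hF.1
  let R := (PU).presheaf.stalk x
  have hy : ∀ n, ∃ y : ↥((JT) ^ (n + 1)).subscheme, ((JT) ^ (n + 1)).subschemeι y = x := fun n => by
    have : x ∈ (((JT) ^ (n + 1)).support : Set PU) := by
      rw [Scheme.IdealSheafData.support_pow_succ]; exact hx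
    exact ((JT) ^ (n + 1)).range_subschemeι.ge this
  choose y hy using hy
  haveI : Module.Finite R (F.presheaf.stalk x) := Props12.finite_stalk_of_isFT F hF.2 x
  have htm : Ideal.span {tGerm A t x} ≠ ⊤ := by
    have h0 : ∀ x', ((JT) ^ (0 + 1)).subschemeι (y 0) = x' → Ideal.span {tGerm A t x'} ≠ ⊤ := by
      rintro _ rfl htop
      have h2 := ker_thick A t 0 (y 0)
      have h3 : RingHom.ker (((JT) ^ (0 + 1)).subschemeι.stalkMap (y 0)).hom =
          Ideal.span {tGerm A t (((JT) ^ (0 + 1)).subschemeι (y 0))} :=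
        h2.trans (congrArg (fun r => Ideal.span {r}) (pow_one _))
      replace h2 := h3.trans htop
      exact RingHom.ker_ne_top _ h2
    exact h0 x (hy 0)
  have key : ∀ n, ∀ x', ∀ h : ((JT) ^ (n + 1)).subschemeι (y n) = x', ∃ (S : Type u) (_ : CommRing S)
      (_ : Algebra ((PU).presheaf.stalk x') S), Function.Surjective (algebraMap ((PU).presheaf.stalk x') S) ∧
        RingHom.ker (algebraMap ((PU).presheaf.stalk x') S) = Ideal.span {tGerm A t x'} ^ (n + 1) ∧
        Module.Free S (TensorProduct ((PU).presheaf.stalk x') S (F.presheaf.stalk x')) := by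
    rintro n _ rfl
    letI : Algebra ((PU).presheaf.stalk (((JT) ^ (n + 1)).subschemeι (y n))) (((JT) ^ (n + 1)).subscheme.presheaf.stalk (y n)) :=
      (((JT) ^ (n + 1)).subschemeι.stalkMap (y n)).hom.toAlgebra
    refine ⟨((JT) ^ (n + 1)).subscheme.presheaf.stalk (y n), inferInstance, inferInstance,
      ((JT) ^ (n + 1)).subschemeι.stalkMap_surjective (y n), ?_, ?_⟩
    · rw [Ideal.span_singleton_pow]
      exact ker_thick A t n (y n)
    · haveI := free_stalk_level A t 𝔐 h𝔐 n (y n)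
      let en : (Scheme.Modules.pullback ((JT) ^ (n + 1)).subschemeι).obj F ≅ 𝔐.F n :=
        { hom := (e.hom : FSch.ModSys.Hom _ _).app n
          inv := (e.inv : FSch.ModSys.Hom _ _).app n
          hom_inv_id := congrArg (fun k : FSch.ModSys.Hom _ _ => k.app n) e.hom_inv_id
          inv_hom_id := congrArg (fun k : FSch.ModSys.Hom _ _ => k.app n) e.inv_hom_id }
      let e₁ := ((DerSch.stalkFunctor ((JT) ^ (n + 1)).subscheme (y n)).mapIso en).toLinearEquiv
      let e₂ := ((ModStalk.pullbackStalkIso ((JT) ^ (n + 1)).subschemeι (y n)).app F).toLinearEquiv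
      exact Module.Free.of_equiv (e₁.symm.trans e₂)
  choose S' hS1 hS2 hS3 hS4 hS5 using fun n => key n x (hy n)
  letI := hS1
  letI := hS2
  exact free_of_levels (Ideal.span {tGerm A t x}) htm S' hS3 hS4 hS5

/-- **Leff on the punctured spectrum.** -/
theorem leffCond_punctured (R : Type u) [CommRing R] [IsRegularRing R] (π : R →+* A) (hπ : Function.Surjective π)
    (ht : t ∈ maximalIdeal A) (hreg : IsSMulRegular A t) [IsAdicComplete (Ideal.span {t}) A]
    (h2 : ∀ p : PrimeSpectrum A, ringKrullDim (A ⧸ p.asIdeal) = 1 →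
      (2 : ℕ∞) ≤ LocCoh.depth (Localization.AtPrime p.asIdeal) (Localization.AtPrime p.asIdeal))
    (h3 : ∀ p : Ideal A, ∀ _ : p.IsPrime, t ∈ p → ringKrullDim (A ⧸ p) = 1 →
      (3 : ℕ∞) ≤ LocCoh.depth (Localization.AtPrime p) (Localization.AtPrime p)) :
    LefX.LeffCond PU JT := by
  refine ⟨lefCond_punctured A R π hπ t ht hreg h2, fun 𝔐 h𝔐 => ?_⟩
  haveI : IsLocallyNoetherian PU := LocallyOfFiniteType.isLocallyNoetherian (FEt.puncturedSpec A).ι
  obtain ⟨F, hF, ⟨e⟩⟩ := Groth.Agent.S3373.result R A π hπ t ht 𝔐 (isCoh_levels A t 𝔐 h𝔐)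
    (fun N _ => regular_levels A t hreg 𝔐 h𝔐 N) fun y hy => depth_bottom A t hreg 𝔐 h𝔐 h3 y hy
  haveI := hF.1
  let U : (PU).Opens := ⨆ (W : (PU).Opens) (_ : ∃ n, Nonempty (F.restrict W.ι ≅ FlatMod.freeMod W.toScheme n)), W
  have hmem : ∀ x, x ∈ U → ∃ (W : (PU).Opens) (n : ℕ), x ∈ W ∧
      Nonempty (F.restrict W.ι ≅ FlatMod.freeMod W.toScheme n) := fun x hx => by
    simp only [U, Opens.mem_iSup, exists_prop] at hx
    obtain ⟨W, ⟨n, hn⟩, hxW⟩ := hx
    exact ⟨W, n, hxW, hn⟩
  have hU : ((JT).support : Set PU) ⊆ (U : Set PU) := fun y hy => by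
    obtain ⟨W, n, hyW, hW⟩ := Props12.exists_nhd_free F ((isCoh_iff_isFP _).1 hF) y
      (free_stalk_of_completion A t 𝔐 h𝔐 F hF e y hy)
    simp only [U, SetLike.mem_coe, Opens.mem_iSup, exists_prop]
    exact ⟨W, ⟨n, hW⟩, hyW⟩
  obtain ⟨e₂⟩ : Nonempty (FSch.completionMod (JT) F ≅
      FSch.completionMod (JT) ((Scheme.Modules.pushforward U.ι).obj (F.restrict U.ι))) :=
    nonempty_pullSys_restrict (fun n => FSch.completionToX PU JT n)
      (fun n => Scheme.IdealSheafData.inclusion_subschemeι (FSch.pow_succ_le PU JT n)) F U fun n => by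
        show Set.range ((JT) ^ (n + 1)).subschemeι ⊆ (U : Set PU)
        rw [((JT) ^ (n + 1)).range_subschemeι, Scheme.IdealSheafData.support_pow_succ]
        exact hU
  exact ⟨U, F.restrict U.ι, hU, CohBC.isFinLocFree_restrict _ U hmem, ⟨e₂.symm ≪≫ e⟩⟩

end Groth.Agent.Lef23
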