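import Groth.Agent.Lef23.Algebraize
import Groth.Agent.Lef23.FEtFF
import Groth.Agent.FEtFF.PurityGlobal
import Groth.Agent.FEtFF.PurityCI
import Groth.Agent.FEtFF.BiratPurity
import Groth.Agent.CAlgH.CIPresentation
import Groth.Prelude.Def_SGA2

/-!
# Lefschetz theorem for the fundamental group with purity
-/

set_option autoImplicit false
set_option linter.style.haveILetI false
set_option backward.isDefEq.respectTransparency.types false

universe u

open CategoryTheory CategoryTheory.Limits AlgebraicGeometry Opposite TopologicalSpace IsLocalRing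
open Groth.Agent.FEtFF

noncomputable section

namespace Groth.Agent.Lef23

/-- Absolute complete intersections of dimension at least three have depth at least two and satisfy purity. -/
theorem depth_purity_of_absCI (A : Type u) [CommRing A] [IsNoetherianRing A] [IsLocalRing A]
    (hA : SGA2.IsAbsCompleteIntersection A) (hd : (3 : WithBot ℕ∞) ≤ ringKrullDim A) :
    (2 : ℕ∞) ≤ _root_.LocCoh.depth A A ∧ FEt.PurityHolds A := by
  obtain ⟨B, _, _, rs, hm, hreg, ⟨e⟩⟩ := hA
  let π : B →+* A := e.symm.toRingHom.comp (Ideal.Quotient.mk _)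
  have hk : RingHom.ker π = Ideal.ofList rs := by
    ext x
    show e.symm (Ideal.Quotient.mk _ x) = 0 ↔ _
    rw [map_eq_zero_iff _ e.symm.injective, Ideal.Quotient.eq_zero_iff_mem]
  have hCI : Pi1.IsCompleteIntersection A :=
    (CAlgH.CIPresentation.isCompleteIntersection_iff π (e.symm.surjective.comp Ideal.Quotient.mk_surjective)).2
      ⟨rs, hreg, hk.symm⟩
  refine ⟨?_, PurityCI.purityHolds_of_completeIntersection A hCI hd⟩
  have hset : Ideal.ofList rs.reverse = Ideal.span {r | r ∈ rs} := by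
    simp [Ideal.ofList]
  let e' : B ⧸ Ideal.ofList rs.reverse ≃+* A := (Ideal.quotEquivOfEq hset).trans e.symm
  haveI : Nontrivial (B ⧸ Ideal.ofList rs.reverse) := e'.symm.injective.nontrivial
  haveI : IsLocalRing (B ⧸ Ideal.ofList rs.reverse) := .of_surjective' _ Ideal.Quotient.mk_surjective
  have hrev := PurityCI.revRegular_of_isWeaklyRegular rs hreg.toIsWeaklyRegular
  have hmem : ∀ x ∈ rs.reverse, x ∈ maximalIdeal B := fun x hx => hm x (List.mem_reverse.1 hx)
  have hdim : (3 : WithBot ℕ∞) + rs.length ≤ ((maximalIdeal B).spanFinrank : WithBot ℕ∞) := by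
    rw [IsRegularLocalRing.spanFinrank_maximalIdeal]
    calc (3 : WithBot ℕ∞) + rs.length ≤ ringKrullDim A + rs.length := add_le_add hd le_rfl
      _ = ringKrullDim (B ⧸ Ideal.ofList rs) + rs.length := by
          rw [ringKrullDim_eq_of_ringEquiv (e.trans (Ideal.quotEquivOfEq rfl))]
      _ = ringKrullDim B := ringKrullDim_add_length_eq_ringKrullDim_of_isRegular rs hreg
  have hd3 : rs.reverse.length + 3 ≤ (maximalIdeal B).spanFinrank := by
    rw [List.length_reverse]
    have h1 : ((3 + rs.length : ℕ) : WithBot ℕ∞) ≤ ((maximalIdeal B).spanFinrank : WithBot ℕ∞) := by exact_mod_cast hdim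
    have : 3 + rs.length ≤ (maximalIdeal B).spanFinrank := by exact_mod_cast h1
    omega
  rw [← CAlgH3.depth_ringEquiv e']
  exact le_trans (by norm_num) (PurityCI.three_le_depth rs.reverse hmem hrev hd3)

theorem depth_purity_of_regular (A : Type u) [CommRing A] [IsRegularLocalRing A]
    (hd : (2 : WithBot ℕ∞) ≤ ringKrullDim A) :
    (2 : ℕ∞) ≤ _root_.LocCoh.depth A A ∧ FEt.PurityHolds A := by
  refine ⟨?_, BiratPurity.purityHolds_of_regular A hd⟩
  rw [← CAlgH3.depth_eq_ringKrullDim] at hd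
  exact WithBot.coe_le_coe.1 hd

/-- Restriction along equal morphisms composed. -/
def restrictCompIso {A B C : Scheme.{u}} (i : A ⟶ B) (j : B ⟶ C) (k : A ⟶ C) (h : k = i ≫ j) :
    FEt.restrict k ≅ FEt.restrict j ⋙ FEt.restrict i :=
  MorphismProperty.Over.pullbackComp (P := FEt.prop) (Q := ⊤) i j k h

variable {X : Scheme.{u}}

theorem restrict_full_faithful_of_lefCond (𝓘 : X.IdealSheafData) (h : Lef.LefCond X 𝓘) :
    (FEt.restrict 𝓘.subschemeι).Full ∧ (FEt.restrict 𝓘.subschemeι).Faithful := by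
  obtain ⟨hfull, hfaith⟩ := restrict_full_faithful_of_formal (𝓘.comap (⊤ : X.Opens).ι) (h ⊤ (fun _ _ => trivial))
  haveI : IsIso (⊤ : X.Opens).ι := X.topIso.isIso_hom
  let w := (𝓘.comapIso (⊤ : X.Opens).ι).hom ≫ pullback.snd (⊤ : X.Opens).ι 𝓘.subschemeι
  have hw : w ≫ 𝓘.subschemeι = (𝓘.comap (⊤ : X.Opens).ι).subschemeι ≫ (⊤ : X.Opens).ι := by
    rw [Category.assoc, ← pullback.condition, ← reassoc_of% (𝓘.comapIso_hom_fst (⊤ : X.Opens).ι)]
  haveI : IsIso (pullback.snd (⊤ : X.Opens).ι 𝓘.subschemeι) := inferInstance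
  haveI := BiratPurity.restrict_isEquivalence_of_isIso w
  haveI := BiratPurity.restrict_isEquivalence_of_isIso (⊤ : X.Opens).ι
  let e : FEt.restrict 𝓘.subschemeι ⋙ FEt.restrict w ≅
      FEt.restrict (⊤ : X.Opens).ι ⋙ FEt.restrict (𝓘.comap (⊤ : X.Opens).ι).subschemeι :=
    (restrictCompIso w 𝓘.subschemeι _ hw.symm).symm ≪≫
      restrictCompIso (𝓘.comap (⊤ : X.Opens).ι).subschemeι (⊤ : X.Opens).ι _ rfl
  haveI : (FEt.restrict 𝓘.subschemeι ⋙ FEt.restrict w).Full := Functor.Full.of_iso e.symm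
  haveI : (FEt.restrict 𝓘.subschemeι ⋙ FEt.restrict w).Faithful := Functor.Faithful.of_iso e.symm
  exact ⟨Functor.Full.of_comp_faithful (FEt.restrict 𝓘.subschemeι) (FEt.restrict w),
    Functor.Faithful.of_comp (FEt.restrict 𝓘.subschemeι) (FEt.restrict w)⟩

/-- **Leff, with depth two and purity off the neighbourhoods, gives equivalence of finite étale covers.** -/
theorem restrict_isEquivalence_of_leff_good [IsLocallyNoetherian X] (𝓘 : X.IdealSheafData)
    (h : LefX.LeffCond X 𝓘)
    (hgood : ∀ U : X.Opens, (𝓘.support : Set X) ⊆ (U : Set X) → ∀ x : X, x ∉ U →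
      (2 : ℕ∞) ≤ _root_.LocCoh.depth (X.presheaf.stalk x) (X.presheaf.stalk x) ∧
        FEt.PurityHolds (X.presheaf.stalk x)) :
    (FEt.restrict 𝓘.subschemeι).IsEquivalence := by
  obtain ⟨hfull, hfaith⟩ := restrict_full_faithful_of_lefCond 𝓘 h.1
  haveI : (FEt.restrict 𝓘.subschemeι).EssSurj := ⟨fun R => by
    obtain ⟨U, R', hU, hR'⟩ := exists_nhd_extension 𝓘 h R
    haveI := PurityGlobal.essSurj_of_purityHolds U (fun x hx => (hgood U hU x hx).1) (fun x hx => (hgood U hU x hx).2)
    let i : 𝓘.subscheme ⟶ U := IsOpenImmersion.lift U.ι 𝓘.subschemeι (by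
      rw [Scheme.Opens.range_ι, 𝓘.range_subschemeι]; exact hU)
    have hi : i ≫ U.ι = 𝓘.subschemeι := IsOpenImmersion.lift_fac _ _ _
    obtain ⟨e⟩ := hR' i hi
    exact ⟨(FEt.restrict U.ι).objPreimage R', ⟨(restrictCompIso i U.ι _ hi.symm).app _ ≪≫
      (FEt.restrict i).mapIso ((FEt.restrict U.ι).objObjPreimageIso R') ≪≫ e⟩⟩⟩
  exact { }

/-- **Leff and purity off the neighbourhoods give equivalence of finite étale covers.** -/
theorem restrict_isEquivalence_of_leff_pure [IsLocallyNoetherian X] (𝓘 : X.IdealSheafData)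
    (h : LefX.LeffCond X 𝓘)
    (hpur : ∀ U : X.Opens, (𝓘.support : Set X) ⊆ (U : Set X) → ∀ x : X, x ∉ U →
      (IsRegularLocalRing (X.presheaf.stalk x) ∧ (2 : WithBot ℕ∞) ≤ ringKrullDim (X.presheaf.stalk x)) ∨
      (SGA2.IsAbsCompleteIntersection (X.presheaf.stalk x) ∧ (3 : WithBot ℕ∞) ≤ ringKrullDim (X.presheaf.stalk x))) :
    (FEt.restrict 𝓘.subschemeι).IsEquivalence :=
  restrict_isEquivalence_of_leff_good 𝓘 h fun U hU x hx => by
    rcases hpur U hU x hx with ⟨hr, hd⟩ | ⟨hc, hd⟩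
    · haveI := hr
      exact depth_purity_of_regular _ hd
    · exact depth_purity_of_absCI _ hc hd

end Groth.Agent.Lef23
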